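import Mathlib

set_option autoImplicit false

namespace Cfsg.Agent.Helper36

open Module

universe u v w

section basic

variable {F : Type u} [Field F] {σ : F →+* F} {V : Type v} [AddCommGroup V] [Module F V]

/-- `B` is hermitian with respect to `σ` (symmetric when `σ = id`). -/
def IsHerm (B : V →ₗ[F] V →ₛₗ[σ] F) : Prop := ∀ u v, B v u = σ (B u v)

/-- A family with Gram matrix the permutation matrix of `τ`. -/
def IsStd {ι : Type w} [DecidableEq ι] (B : V →ₗ[F] V →ₛₗ[σ] F) (τ : ι → ι) (x : ι → V) : Prop :=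
  ∀ i j, B (x i) (x j) = if j = τ i then 1 else 0

/-- The vectors left-orthogonal to all members of a family. -/
def orthFam {ι : Type w} (B : V →ₗ[F] V →ₛₗ[σ] F) (x : ι → V) : Submodule F V :=
  ⨅ i, LinearMap.ker (B.flip (x i))

theorem mem_orthFam {ι : Type w} (B : V →ₗ[F] V →ₛₗ[σ] F) (x : ι → V) (z : V) :
    z ∈ orthFam B x ↔ ∀ i, B z (x i) = 0 := by
  simp [orthFam, Submodule.mem_iInf, LinearMap.mem_ker, LinearMap.flip_apply]

variable {ι : Type w} [Fintype ι] [DecidableEq ι]

theorem IsStd.sum_left {B : V →ₗ[F] V →ₛₗ[σ] F} {τ : ι → ι} {x : ι → V} (hx : IsStd B τ x)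
    (hτ : ∀ i, τ (τ i) = i) (c : ι → F) (b : ι) :
    B (∑ a, c a • x a) (x b) = c (τ b) := by
  rw [map_sum, LinearMap.sum_apply]
  simp only [map_smul, LinearMap.smul_apply, smul_eq_mul, hx _ _]
  rw [Finset.sum_eq_single (τ b)]
  · simp [hτ]
  · intro a _ ha
    have : ¬ (b = τ a) := by
      intro h
      apply ha
      rw [h, hτ]
    simp [this]
  · simp

theorem IsStd.linearIndependent {B : V →ₗ[F] V →ₛₗ[σ] F} {τ : ι → ι} {x : ι → V} (hx : IsStd B τ x)
    (hτ : ∀ i, τ (τ i) = i) : LinearIndependent F x := by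
  rw [Fintype.linearIndependent_iff]
  intro c hc b
  have h := hx.sum_left hτ c (τ b)
  rw [hc, hτ] at h
  simpa using h.symm

theorem IsStd.sub_mem_orthFam {B : V →ₗ[F] V →ₛₗ[σ] F} {τ : ι → ι} {x : ι → V} (hx : IsStd B τ x)
    (hτ : ∀ i, τ (τ i) = i) (z : V) :
    z - ∑ a, B z (x (τ a)) • x a ∈ orthFam B x := by
  rw [mem_orthFam]
  intro b
  rw [map_sub, LinearMap.sub_apply, hx.sum_left hτ, hτ, sub_self]

theorem IsStd.disjoint {B : V →ₗ[F] V →ₛₗ[σ] F} {τ : ι → ι} {x : ι → V} (hx : IsStd B τ x)
    (hτ : ∀ i, τ (τ i) = i) : Disjoint (Submodule.span F (Set.range x)) (orthFam B x) := by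
  rw [disjoint_iff]
  apply le_bot_iff.mp
  rintro z ⟨hz1, hz2⟩
  rw [SetLike.mem_coe, Submodule.mem_span_range_iff_exists_fun] at hz1
  obtain ⟨c, rfl⟩ := hz1
  rw [SetLike.mem_coe, mem_orthFam] at hz2
  have hc : ∀ b, c b = 0 := by
    intro b
    have := hz2 (τ b)
    rwa [hx.sum_left hτ, hτ] at this
  simp [hc]

theorem IsStd.isCompl {B : V →ₗ[F] V →ₛₗ[σ] F} {τ : ι → ι} {x : ι → V} (hx : IsStd B τ x)
    (hτ : ∀ i, τ (τ i) = i) : IsCompl (Submodule.span F (Set.range x)) (orthFam B x) := by
  refine ⟨hx.disjoint hτ, ?_⟩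
  rw [codisjoint_iff]
  apply top_le_iff.mp
  intro z _
  have h1 : ∑ a, B z (x (τ a)) • x a ∈ Submodule.span F (Set.range x) :=
    Submodule.sum_mem _ fun a _ => Submodule.smul_mem _ _ (Submodule.subset_span ⟨a, rfl⟩)
  have h2 := hx.sub_mem_orthFam hτ z
  have : z = ∑ a, B z (x (τ a)) • x a + (z - ∑ a, B z (x (τ a)) • x a) := by abel
  rw [this]
  exact Submodule.add_mem_sup h1 h2

theorem IsStd.finrank_orthFam [FiniteDimensional F V] {B : V →ₗ[F] V →ₛₗ[σ] F} {τ : ι → ι} {x : ι → V}
    (hx : IsStd B τ x) (hτ : ∀ i, τ (τ i) = i) :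
    Fintype.card ι + finrank F (orthFam B x) = finrank F V := by
  have h := Submodule.finrank_add_eq_of_isCompl (hx.isCompl hτ)
  rw [finrank_span_eq_card (hx.linearIndependent hτ)] at h
  exact h

/-- The radical of the restriction to the orthogonal complement of a standard family. -/
theorem IsStd.ker_restrict {B : V →ₗ[F] V →ₛₗ[σ] F} {τ : ι → ι} {x : ι → V}
    (hx : IsStd B τ x) (hτ : ∀ i, τ (τ i) = i) :
    (LinearMap.ker (B.domRestrict₁₂ (orthFam B x) (orthFam B x))).map (orthFam B x).subtype =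
      LinearMap.ker B := by
  ext z
  simp only [Submodule.mem_map, LinearMap.mem_ker, Submodule.subtype_apply]
  constructor
  · rintro ⟨⟨z', hz'⟩, hz'k, rfl⟩
    apply LinearMap.ext
    intro u
    have hu := hx.sub_mem_orthFam hτ u
    have h1 : B z' (u - ∑ a, B u (x (τ a)) • x a) = 0 := by
      have := LinearMap.congr_fun hz'k ⟨_, hu⟩
      simpa only [LinearMap.domRestrict₁₂_apply, LinearMap.zero_apply] using this
    have h2 : B z' (∑ a, B u (x (τ a)) • x a) = 0 := by
      rw [map_sum]
      apply Finset.sum_eq_zero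
      intro a _
      rw [LinearMap.map_smulₛₗ, (mem_orthFam B x z').mp hz' a, smul_zero]
    have : u = (u - ∑ a, B u (x (τ a)) • x a) + ∑ a, B u (x (τ a)) • x a := by abel
    rw [this, map_add, h1, h2, add_zero, LinearMap.zero_apply]
  · intro hz
    have hzW : z ∈ orthFam B x := by
      rw [mem_orthFam]
      intro i
      rw [hz, LinearMap.zero_apply]
    refine ⟨⟨z, hzW⟩, ?_, rfl⟩
    apply LinearMap.ext
    intro y
    simp only [LinearMap.domRestrict₁₂_apply, hz, LinearMap.zero_apply]

theorem IsStd.finrank_ker_restrict [FiniteDimensional F V] {B : V →ₗ[F] V →ₛₗ[σ] F}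
    {τ : ι → ι} {x : ι → V} (hx : IsStd B τ x) (hτ : ∀ i, τ (τ i) = i) :
    finrank F (LinearMap.ker (B.domRestrict₁₂ (orthFam B x) (orthFam B x))) =
      finrank F (LinearMap.ker B) := by
  rw [← hx.ker_restrict hτ, Submodule.finrank_map_subtype_eq]

theorem IsHerm.restrict {B : V →ₗ[F] V →ₛₗ[σ] F} (hB : IsHerm B) (W : Submodule F V) :
    IsHerm (B.domRestrict₁₂ W W) := fun u v => hB u v


/-- a single unit vector as a standard family -/
theorem isStd_single {B : V →ₗ[F] V →ₛₗ[σ] F} {v₁ : V} (h1 : B v₁ v₁ = 1) :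
    IsStd B id (fun _ : Fin 1 => v₁) := by
  intro i j
  rw [if_pos (Subsingleton.elim _ _), h1]

/-- adjoin a unit vector to an orthonormal family of its orthogonal complement -/
theorem orthonormal_cons [FiniteDimensional F V] {B : V →ₗ[F] V →ₛₗ[σ] F} (hB : IsHerm B) {v₁ : V}
    (h1 : B v₁ v₁ = 1) {ℓ' : ℕ} (x' : Fin ℓ' → orthFam B (fun _ : Fin 1 => v₁))
    (hx' : IsStd (B.domRestrict₁₂ (orthFam B (fun _ : Fin 1 => v₁)) (orthFam B (fun _ : Fin 1 => v₁))) id x')
    (hdim : ℓ' + finrank F (LinearMap.ker (B.domRestrict₁₂ (orthFam B (fun _ : Fin 1 => v₁))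
      (orthFam B (fun _ : Fin 1 => v₁)))) = finrank F (orthFam B (fun _ : Fin 1 => v₁))) :
    ∃ (ℓ : ℕ) (x : Fin ℓ → V), IsStd B id x ∧ ℓ + finrank F (LinearMap.ker B) = finrank F V := by
  have hstd := isStd_single (B := B) h1
  have hτ : ∀ i : Fin 1, id (id i) = i := fun _ => rfl
  have hW : ∀ i, B (x' i : V) v₁ = 0 := fun i => (mem_orthFam B _ _).mp (x' i).2 0
  have hW' : ∀ i, B v₁ (x' i : V) = 0 := fun i => by rw [hB, hW, map_zero]
  refine ⟨ℓ' + 1, Fin.cons v₁ (fun i => (x' i : V)), ?_, ?_⟩
  · intro i j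
    refine Fin.cases ?_ (fun i' => ?_) i <;> refine Fin.cases ?_ (fun j' => ?_) j
    · simp [h1]
    · simp only [Fin.cons_zero, Fin.cons_succ, id, hW']
      rw [if_neg (Fin.succ_ne_zero j')]
    · simp only [Fin.cons_zero, Fin.cons_succ, id, hW]
      rw [if_neg (Fin.succ_ne_zero i').symm]
    · have := hx' i' j'
      simp only [LinearMap.domRestrict₁₂_apply, id] at this
      simp only [Fin.cons_succ, id, this, Fin.succ_inj]
  · have h2 := hstd.finrank_orthFam hτ
    have h3 := hstd.finrank_ker_restrict hτ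
    rw [Fintype.card_fin] at h2
    omega

/-- a hermitian form (for a nontrivial involution) that is not zero has a non-isotropic vector -/
theorem exists_nonisotropic (hne : ∃ c, σ c ≠ c) {B : V →ₗ[F] V →ₛₗ[σ] F} (hB : IsHerm B)
    (hB0 : B ≠ 0) : ∃ v, B v v ≠ 0 := by
  by_contra h
  push Not at h
  apply hB0
  obtain ⟨c, hc⟩ := hne
  have hskew : ∀ u v, B v u = - B u v := by
    intro u v
    have := h (u + v)
    rw [map_add, map_add, LinearMap.add_apply, LinearMap.add_apply, h u, h v, zero_add, add_zero] at this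
    exact eq_neg_of_add_eq_zero_left this
  apply LinearMap.ext; intro u; apply LinearMap.ext; intro v
  have e1 : σ (B u v) = - B u v := by rw [← hB, hskew]
  have e2 : σ (B (c • u) v) = - B (c • u) v := by rw [← hB, hskew]
  rw [LinearMap.map_smul₂, smul_eq_mul, map_mul, e1] at e2
  have : (c - σ c) * B u v = 0 := by
    have : σ c * -(B u) v = -(c * (B u) v) := e2
    linear_combination this
  rcases mul_eq_zero.mp this with h' | h'
  · exact absurd (sub_eq_zero.mp h').symm hc
  · simpa using h'

/-- Orthonormal families for hermitian forms: `σ` a nontrivial involution with surjective norm. -/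
theorem exists_orthonormal_of_herm (hne : ∃ c, σ c ≠ c)
    (hnorm : ∀ a, σ a = a → a ≠ 0 → ∃ l, l * σ l = a) :
    ∀ (d : ℕ) (V : Type v) [AddCommGroup V] [Module F V] [FiniteDimensional F V], finrank F V = d →
      ∀ (B : V →ₗ[F] V →ₛₗ[σ] F), IsHerm B →
        ∃ (ℓ : ℕ) (x : Fin ℓ → V), IsStd B id x ∧ ℓ + finrank F (LinearMap.ker B) = finrank F V := by
  intro d
  induction d using Nat.strong_induction_on with
  | _ d ih =>
    intro V _ _ _ hd B hB
    by_cases hB0 : B = 0
    · refine ⟨0, Fin.elim0, fun i => i.elim0, ?_⟩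
      rw [hB0, LinearMap.ker_zero, finrank_top, zero_add]
    · obtain ⟨v, hv⟩ := exists_nonisotropic hne hB hB0
      have ha : σ (B v v) = B v v := (hB v v).symm
      have ha' : σ (B v v)⁻¹ = (B v v)⁻¹ := by rw [map_inv₀, ha]
      obtain ⟨l, hl⟩ := hnorm _ ha' (inv_ne_zero hv)
      have h1 : B (l • v) (l • v) = 1 := by
        rw [LinearMap.map_smul₂, LinearMap.map_smulₛₗ, smul_eq_mul, smul_eq_mul, ← mul_assoc, hl,
          inv_mul_cancel₀ hv]
      have hstd := isStd_single (B := B) h1
      have hτ : ∀ i : Fin 1, id (id i) = i := fun _ => rfl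
      have h2 := hstd.finrank_orthFam hτ
      rw [Fintype.card_fin] at h2
      obtain ⟨ℓ', x', hx', hdim⟩ := ih (finrank F (orthFam B (fun _ : Fin 1 => l • v))) (by omega)
        (orthFam B (fun _ : Fin 1 => l • v)) rfl _ (hB.restrict _)
      exact orthonormal_cons hB h1 x' hx' hdim


end basic

section bilinear

variable {F : Type u} [Field F] {V : Type v} [AddCommGroup V] [Module F V]

/-- symmetric bilinear forms are the hermitian forms for the identity -/
theorem isHerm_id_iff (B : V →ₗ[F] V →ₗ[F] F) :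
    IsHerm (σ := RingHom.id F) B ↔ ∀ u v, B v u = B u v := Iff.rfl

/-- a hyperbolic pair as a standard family -/
theorem isStd_pair {B : V →ₗ[F] V →ₗ[F] F} (hB : IsHerm (σ := RingHom.id F) B) {e f : V}
    (hee : B e e = 0) (hff : B f f = 0) (hef : B e f = 1) :
    IsStd (σ := RingHom.id F) B Sum.swap (Sum.elim (fun _ : Fin 1 => e) (fun _ : Fin 1 => f)) := by
  have hfe : B f e = 1 := by rw [hB e f, hef]; rfl
  rintro (i | i) (j | j)
  · simp [hee]
  · simp [hef, Subsingleton.elim j i]
  · simp [hfe, Subsingleton.elim j i]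
  · simp [hff]

/-- Symplectic families for alternating symmetric forms. -/
theorem exists_symplectic_of_alt :
    ∀ (d : ℕ) (V : Type v) [AddCommGroup V] [Module F V] [FiniteDimensional F V], finrank F V = d →
      ∀ (B : V →ₗ[F] V →ₗ[F] F), IsHerm (σ := RingHom.id F) B → (∀ v, B v v = 0) →
        ∃ (r : ℕ) (e f : Fin r → V), (∀ i j, B (e i) (f j) = if i = j then 1 else 0) ∧
          (∀ i j, B (e i) (e j) = 0) ∧ (∀ i j, B (f i) (f j) = 0) ∧
          (r + r) + finrank F (LinearMap.ker B) = finrank F V := by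
  intro d
  induction d using Nat.strong_induction_on with
  | _ d ih =>
    intro V _ _ _ hd B hB halt
    by_cases hB0 : B = 0
    · refine ⟨0, Fin.elim0, Fin.elim0, fun i => i.elim0, fun i => i.elim0, fun i => i.elim0, ?_⟩
      rw [hB0, LinearMap.ker_zero, finrank_top, zero_add, zero_add]
    · obtain ⟨u, v, huv⟩ : ∃ u v, B u v ≠ 0 := by
        by_contra h
        push Not at h
        apply hB0
        apply LinearMap.ext; intro x; apply LinearMap.ext; intro y
        exact h x y
      set e₀ := u with he₀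
      set f₀ := (B u v)⁻¹ • v with hf₀
      have hef : B e₀ f₀ = 1 := by
        rw [hf₀, map_smul, smul_eq_mul, inv_mul_cancel₀ huv]
      have hff : B f₀ f₀ = 0 := halt _
      have hee : B e₀ e₀ = 0 := halt _
      have hstd := isStd_pair hB hee hff hef
      have hτ : ∀ i : Fin 1 ⊕ Fin 1, Sum.swap (Sum.swap i) = i := Sum.swap_swap
      have h2 := hstd.finrank_orthFam hτ
      have h3 := hstd.finrank_ker_restrict hτ
      rw [Fintype.card_sum, Fintype.card_fin] at h2
      set W := orthFam (σ := RingHom.id F) B (Sum.elim (fun _ : Fin 1 => e₀) (fun _ : Fin 1 => f₀)) with hW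
      obtain ⟨r', e', f', h1', h2', h3', hdim'⟩ := ih (finrank F W) (by omega) W rfl
        (B.domRestrict₁₂ W W) (hB.restrict W) (fun w => halt w)
      have hWe : ∀ w : W, B (w : V) e₀ = 0 := fun w => (mem_orthFam _ _ _).mp w.2 (Sum.inl 0)
      have hWf : ∀ w : W, B (w : V) f₀ = 0 := fun w => (mem_orthFam _ _ _).mp w.2 (Sum.inr 0)
      have hWe' : ∀ w : W, B e₀ (w : V) = 0 := fun w => by rw [hB]; exact hWe w
      have hWf' : ∀ w : W, B f₀ (w : V) = 0 := fun w => by rw [hB]; exact hWf w
      refine ⟨r' + 1, Fin.cons e₀ (fun i => (e' i : V)), Fin.cons f₀ (fun i => (f' i : V)), ?_, ?_, ?_, ?_⟩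
      · intro i j
        refine Fin.cases ?_ (fun i' => ?_) i <;> refine Fin.cases ?_ (fun j' => ?_) j
        · simp [hef]
        · simp only [Fin.cons_zero, Fin.cons_succ, hWe']
          rw [if_neg (Fin.succ_ne_zero j').symm]
        · simp only [Fin.cons_zero, Fin.cons_succ, hWf]
          rw [if_neg (Fin.succ_ne_zero i')]
        · have := h1' i' j'
          simp only [LinearMap.domRestrict₁₂_apply] at this
          simp only [Fin.cons_succ, this, Fin.succ_inj]
      · intro i j
        refine Fin.cases ?_ (fun i' => ?_) i <;> refine Fin.cases ?_ (fun j' => ?_) j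
        · simp [hee]
        · simp only [Fin.cons_zero, Fin.cons_succ, hWe']
        · simp only [Fin.cons_zero, Fin.cons_succ, hWe]
        · have := h2' i' j'
          simpa only [LinearMap.domRestrict₁₂_apply, Fin.cons_succ] using this
      · intro i j
        refine Fin.cases ?_ (fun i' => ?_) i <;> refine Fin.cases ?_ (fun j' => ?_) j
        · simp [hff]
        · simp only [Fin.cons_zero, Fin.cons_succ, hWf']
        · simp only [Fin.cons_zero, Fin.cons_succ, hWf]
        · have := h3' i' j'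
          simpa only [LinearMap.domRestrict₁₂_apply, Fin.cons_succ] using this
      · omega

/-- Orthonormal families for non-alternating symmetric forms in characteristic two over a perfect field. -/
theorem exists_orthonormal_of_symm [CharP F 2] (hperf : ∀ a : F, ∃ s, s * s = a) :
    ∀ (d : ℕ) (V : Type v) [AddCommGroup V] [Module F V] [FiniteDimensional F V], finrank F V = d →
      ∀ (B : V →ₗ[F] V →ₗ[F] F), IsHerm (σ := RingHom.id F) B → (∃ v, B v v ≠ 0) →
        ∃ (ℓ : ℕ) (x : Fin ℓ → V), IsStd (σ := RingHom.id F) B id x ∧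
          ℓ + finrank F (LinearMap.ker B) = finrank F V := by
  have h11 : (1 : F) + 1 = 0 := by
    rw [one_add_one_eq_two]; exact CharP.cast_eq_zero F 2
  intro d
  induction d using Nat.strong_induction_on with
  | _ d ih =>
    intro V _ _ _ hd B hB hna
    -- the inductive step once a good unit vector is found
    have step : ∀ v₁ : V, B v₁ v₁ = 1 →
        (∃ w ∈ orthFam (σ := RingHom.id F) B (fun _ : Fin 1 => v₁), B w w ≠ 0) →
        ∃ (ℓ : ℕ) (x : Fin ℓ → V), IsStd (σ := RingHom.id F) B id x ∧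
          ℓ + finrank F (LinearMap.ker B) = finrank F V := by
      intro v₁ h1 hw
      have hstd := isStd_single (σ := RingHom.id F) (B := B) h1
      have hτ : ∀ i : Fin 1, id (id i) = i := fun _ => rfl
      have h2 := hstd.finrank_orthFam hτ
      rw [Fintype.card_fin] at h2
      obtain ⟨w, hwW, hww⟩ := hw
      obtain ⟨ℓ', x', hx', hdim⟩ := ih (finrank F (orthFam (σ := RingHom.id F) B (fun _ : Fin 1 => v₁)))
        (by omega) (orthFam (σ := RingHom.id F) B (fun _ : Fin 1 => v₁)) rfl _ (hB.restrict _)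
        ⟨⟨w, hwW⟩, hww⟩
      exact orthonormal_cons hB h1 x' hx' hdim
    obtain ⟨v, hv⟩ := hna
    obtain ⟨s, hs⟩ := hperf (B v v)⁻¹
    set v₁ := s • v with hv₁
    have h1 : B v₁ v₁ = 1 := by
      rw [hv₁]
      simp only [map_smul, LinearMap.smul_apply, smul_eq_mul]
      rw [← mul_assoc, hs, inv_mul_cancel₀ hv]
    set W := orthFam (σ := RingHom.id F) B (fun _ : Fin 1 => v₁) with hW
    by_cases hcase : ∃ w ∈ W, B w w ≠ 0
    · exact step v₁ h1 hcase
    · push Not at hcase
      have hstd := isStd_single (σ := RingHom.id F) (B := B) h1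
      have hτ : ∀ i : Fin 1, id (id i) = i := fun _ => rfl
      have h2 := hstd.finrank_orthFam hτ
      have h3 := hstd.finrank_ker_restrict hτ
      rw [Fintype.card_fin] at h2
      by_cases hB' : B.domRestrict₁₂ W W = 0
      · -- the complement is the radical
        refine ⟨1, fun _ => v₁, hstd, ?_⟩
        rw [hB', LinearMap.ker_zero, finrank_top] at h3
        omega
      · obtain ⟨e, f, hef⟩ : ∃ e f : W, B (e : V) (f : V) ≠ 0 := by
          by_contra h
          push Not at h
          apply hB'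
          apply LinearMap.ext; intro x; apply LinearMap.ext; intro y
          exact h x y
        have hWv : ∀ w : W, B (w : V) v₁ = 0 := fun w => (mem_orthFam _ _ _).mp w.2 0
        have hWv' : ∀ w : W, B v₁ (w : V) = 0 := fun w => by rw [hB]; exact hWv w
        set f' : V := (B (e : V) (f : V))⁻¹ • (f : V) with hf'
        have hf'W : f' ∈ W := W.smul_mem _ f.2
        have hef' : B (e : V) f' = 1 := by
          rw [hf', map_smul, smul_eq_mul, inv_mul_cancel₀ hef]
        have hf'e : B f' (e : V) = 1 := by rw [hB]; exact hef'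
        have hee : B (e : V) (e : V) = 0 := hcase _ e.2
        have hff : B f' f' = 0 := hcase _ hf'W
        have hf'v : B f' v₁ = 0 := hWv ⟨f', hf'W⟩
        have hvf' : B v₁ f' = 0 := hWv' ⟨f', hf'W⟩
        set v₂ : V := v₁ + (e : V) with hv₂
        have h1' : B v₂ v₂ = 1 := by
          rw [hv₂]
          simp only [map_add, LinearMap.add_apply, h1, hWv' e, hWv e, hee]
          ring
        apply step v₂ h1'
        refine ⟨v₁ + f', ?_, ?_⟩
        · rw [mem_orthFam]
          intro _
          show B (v₁ + f') v₂ = 0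
          rw [hv₂]
          simp only [map_add, LinearMap.add_apply, h1, hWv' e, hf'v, hf'e]
          linear_combination h11
        · simp only [map_add, LinearMap.add_apply, h1, hvf', hf'v, hff]
          simp

end bilinear

end Cfsg.Agent.Helper36
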