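import Mathlib
import Cfsg.Agent.Lib.Helper18.ConjAll
import Cfsg.Agent.Lib.Helper18.BNData
import Cfsg.Agent.Lib.Helper18.ChevBN

/-!
# Chevalley groups are generated by the fundamental root elements

Helper library (helper36), on top of helper18's `ChevBN`.
-/

set_option autoImplicit false

namespace Cfsg.Agent.Helper36.ChevGen

open Cfsg.Lie Cfsg.Agent.S1043 Cfsg.Agent.Helper18

section

variable {F : Type*} [Field F] (D : ChevalleyDatum) (hD : Good D)

theorem nGL_mem_of_simple (K : Subgroup (GL D.Idx F))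
    (hK : ∀ i < D.rank, ∀ t : F, xU D hD (D.simple i) t ∈ K ∧ xU D hD (D.neg (D.simple i)) t ∈ K)
    (i : ℕ) (hi : i < D.rank) : nGL D hD i ∈ K := by
  unfold nGL
  exact mul_mem (mul_mem (hK i hi 1).1 (hK i hi (-1)).2) (hK i hi 1).1

theorem nWordGL_mem_of_simple (K : Subgroup (GL D.Idx F))
    (hK : ∀ i < D.rank, ∀ t : F, xU D hD (D.simple i) t ∈ K ∧ xU D hD (D.neg (D.simple i)) t ∈ K)
    (l : List ℕ) (hl : ∀ i ∈ l, i < D.rank) : nWordGL D hD l ∈ K := by
  induction l with
  | nil => exact one_mem _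
  | cons i l ih =>
    rw [nWordGL_cons]
    exact mul_mem (nGL_mem_of_simple D hD K hK i (hl i List.mem_cons_self))
      (ih fun k hk => hl k (List.mem_cons_of_mem _ hk))

/-- root elements along a Weyl group orbit -/
theorem xU_permW_mem_of (K : Subgroup (GL D.Idx F)) (s : ℕ) (hs : s < D.nroots)
    (hK : ∀ t : F, xU D hD s t ∈ K) (l : List ℕ) (hl : ∀ i ∈ l, i < D.rank)
    (hW : nWordGL D hD l ∈ K) (t : F) : xU D hD (permW D l s) t ∈ K := by
  have hB := bnFacts_all D hD
  obtain ⟨-, η, hη, hc⟩ := nWordGL_conj (F := F) D hD hB.hrefl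
    (fun i hi s hs => conjGoal_all D hD i s hi hs) l hl s hs
  have hηη : (η : F) * ((η : F) * t) = t := by
    rcases hη with rfl | rfl <;> simp
  have h1 : xU D hD (permW D l s) t =
      nWordGL D hD l * xU D hD s ((η : F) * t) * (nWordGL D hD l)⁻¹ := by
    rw [eq_mul_inv_iff_mul_eq]
    apply Units.ext
    rw [Units.val_mul, Units.val_mul, xU_val, xU_val, hc ((η : F) * t), hηη]
  rw [h1]
  exact mul_mem (mul_mem hW (hK _)) (inv_mem hW)

/-- root elements along a Weyl group orbit, for a subgroup containing `N` -/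
theorem xU_permW_mem (K : Subgroup (GL D.Idx F)) (hN : D.monomialSubgroup F ≤ K) (s : ℕ)
    (hs : s < D.nroots) (hK : ∀ t : F, xU D hD s t ∈ K) (l : List ℕ) (hl : ∀ i ∈ l, i < D.rank)
    (t : F) : xU D hD (permW D l s) t ∈ K := by
  have hB := bnFacts_all D hD
  exact xU_permW_mem_of D hD K s hs hK l hl
    (hN (nWordGL_mem D hD l (fun i hi => hB.hsimp i (hl i hi)))) t

/-- a subgroup containing the fundamental root elements and their negatives contains all root
elements -/
theorem xU_mem_of_simple (K : Subgroup (GL D.Idx F))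
    (hK : ∀ i < D.rank, ∀ t : F, xU D hD (D.simple i) t ∈ K ∧ xU D hD (D.neg (D.simple i)) t ∈ K)
    (r : ℕ) (hr : r < D.nroots) (t : F) : xU D hD r t ∈ K := by
  have hB := bnFacts_all D hD
  obtain ⟨j, hj, l, hl, rfl⟩ := hB.horb r hr
  exact xU_permW_mem_of D hD K _ (hB.hsimp j hj) (fun t => (hK j hj t).1) l hl
    (nWordGL_mem_of_simple D hD K hK l hl) t

/-- the group is generated by the fundamental root elements and their negatives -/
theorem group_le_of_simple (K : Subgroup (GL D.Idx F))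
    (hK : ∀ i < D.rank, ∀ t : F, xU D hD (D.simple i) t ∈ K ∧ xU D hD (D.neg (D.simple i)) t ∈ K) :
    D.group F ≤ K := by
  unfold ChevalleyDatum.group
  rw [Subgroup.closure_le]
  rintro g ⟨r, t, hg⟩
  have h1 : g = xU D hD r.val t := by
    apply Units.ext
    rw [hg, xU_val, ChevalleyDatum.x, dif_pos r.2]
  rw [h1]
  exact xU_mem_of_simple D hD K hK r.val r.2 t

theorem reflectRoot_simple (i : ℕ) : D.reflectRoot i (D.simple i) = D.neg (D.simple i) := by
  unfold ChevalleyDatum.reflectRoot
  simp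

/-- a subgroup containing `N` and the root subgroups of a set of fundamental roots meeting every
orbit of fundamental roots contains the group -/
theorem group_le_of_orbit (K : Subgroup (GL D.Idx F)) (hN : D.monomialSubgroup F ≤ K)
    (hK : ∀ k < D.rank, ∃ j < D.rank, (∀ t : F, xU D hD (D.simple j) t ∈ K) ∧
      ∃ l : List ℕ, (∀ i ∈ l, i < D.rank) ∧ permW D l (D.simple j) = D.simple k) :
    D.group F ≤ K := by
  have hB := bnFacts_all D hD
  apply group_le_of_simple D hD K
  intro k hk t
  obtain ⟨j, hj, hKj, l, hl, hlk⟩ := hK k hk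
  constructor
  · rw [← hlk]
    exact xU_permW_mem D hD K hN _ (hB.hsimp j hj) hKj l hl t
  · have h1 : D.neg (D.simple k) = permW D (k :: l) (D.simple j) := by
      show _ = D.reflectRoot k (permW D l (D.simple j))
      rw [hlk, reflectRoot_simple]
    rw [h1]
    refine xU_permW_mem D hD K hN _ (hB.hsimp j hj) hKj (k :: l) ?_ t
    intro i hi
    rcases List.mem_cons.mp hi with rfl | h
    · exact hk
    · exact hl i h

/-- two endomorphisms of the group agreeing on the fundamental root elements and their negatives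
are equal -/
theorem hom_ext_simple {M : Type*} [Monoid M] (φ₁ φ₂ : ↥(D.group F) →* M)
    (h : ∀ i < D.rank, ∀ t : F,
      φ₁ ⟨xU D hD (D.simple i) t, xU_mem_group D hD _ t⟩ =
        φ₂ ⟨xU D hD (D.simple i) t, xU_mem_group D hD _ t⟩ ∧
      φ₁ ⟨xU D hD (D.neg (D.simple i)) t, xU_mem_group D hD _ t⟩ =
        φ₂ ⟨xU D hD (D.neg (D.simple i)) t, xU_mem_group D hD _ t⟩)
    (y : ↥(D.group F)) : φ₁ y = φ₂ y := by
  have hle := group_le_of_simple D hD ((MonoidHom.eqLocus φ₁ φ₂).map (D.group F).subtype) (by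
    intro i hi t
    exact ⟨⟨⟨_, xU_mem_group D hD _ t⟩, (h i hi t).1, rfl⟩,
      ⟨⟨_, xU_mem_group D hD _ t⟩, (h i hi t).2, rfl⟩⟩)
  obtain ⟨y', hy', e⟩ := hle y.2
  have : y' = y := Subtype.ext e
  rw [← this]
  exact hy'

end

end Cfsg.Agent.Helper36.ChevGen
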