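import Mathlib

/-!
# Abstract group theory used for `N_G(U) = B` and `U` Sylow (helper36)
-/

set_option autoImplicit false

namespace Cfsg.Agent.Helper36.SylowNorm

/-- a product decomposition for the join of a subgroup and a subgroup normalising it -/
theorem mem_sup_of_le_normalizer {G : Type*} [Group G] (U H : Subgroup G)
    (hH : H ≤ Subgroup.normalizer (U : Set G)) (g : G) (hg : g ∈ U ⊔ H) :
    ∃ u ∈ U, ∃ h ∈ H, g = u * h := by
  have hconj : ∀ h ∈ H, ∀ u ∈ U, h * u * h⁻¹ ∈ U := by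
    intro h hh u hu
    exact ((Subgroup.mem_normalizer_iff.mp (hH hh)) u).mp hu
  rw [← Subgroup.closure_eq U, ← Subgroup.closure_eq H, ← Subgroup.closure_union] at hg
  induction hg using Subgroup.closure_induction with
  | mem x hx =>
    rcases hx with hx | hx
    · exact ⟨x, hx, 1, one_mem _, (mul_one x).symm⟩
    · exact ⟨1, one_mem _, x, hx, (one_mul x).symm⟩
  | one => exact ⟨1, one_mem _, 1, one_mem _, (mul_one 1).symm⟩
  | mul x y _ _ hx hy =>
    obtain ⟨u₁, hu₁, h₁, hh₁, rfl⟩ := hx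
    obtain ⟨u₂, hu₂, h₂, hh₂, rfl⟩ := hy
    refine ⟨u₁ * (h₁ * u₂ * h₁⁻¹), mul_mem hu₁ (hconj h₁ hh₁ u₂ hu₂), h₁ * h₂, mul_mem hh₁ hh₂, ?_⟩
    group
  | inv x _ hx =>
    obtain ⟨u, hu, h, hh, rfl⟩ := hx
    refine ⟨h⁻¹ * u⁻¹ * h⁻¹⁻¹, hconj h⁻¹ (inv_mem hh) u⁻¹ (inv_mem hu), h⁻¹, inv_mem hh, ?_⟩
    group

/-- conjugation by `a` maps `closure S` into itself as soon as it maps `S` into it -/
theorem conj_mem_closure {G : Type*} [Group G] (S : Set G) (a : G)
    (ha : ∀ x ∈ S, a * x * a⁻¹ ∈ Subgroup.closure S) :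
    ∀ y ∈ Subgroup.closure S, a * y * a⁻¹ ∈ Subgroup.closure S := by
  intro y hy
  induction hy using Subgroup.closure_induction with
  | mem x hx => exact ha x hx
  | one => simp
  | mul x y _ _ hx hy =>
    have e : a * (x * y) * a⁻¹ = (a * x * a⁻¹) * (a * y * a⁻¹) := by group
    rw [e]
    exact mul_mem hx hy
  | inv x _ hx =>
    have e : a * x⁻¹ * a⁻¹ = (a * x * a⁻¹)⁻¹ := by group
    rw [e]
    exact inv_mem hx

/-- membership in the normaliser of a subgroup given by generators -/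
theorem mem_normalizer_closure {G : Type*} [Group G] (S : Set G) (g : G)
    (h1 : ∀ x ∈ S, g * x * g⁻¹ ∈ Subgroup.closure S)
    (h2 : ∀ x ∈ S, g⁻¹ * x * g ∈ Subgroup.closure S) :
    g ∈ Subgroup.normalizer (Subgroup.closure S : Set G) := by
  rw [Subgroup.mem_normalizer_iff]
  intro y
  constructor
  · exact conj_mem_closure S g h1 y
  · intro hy
    have h3 : ∀ x ∈ S, g⁻¹ * x * g⁻¹⁻¹ ∈ Subgroup.closure S := by
      intro x hx
      rw [inv_inv]
      exact h2 x hx
    have h4 := conj_mem_closure S g⁻¹ h3 _ hy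
    have e : g⁻¹ * (g * y * g⁻¹) * g⁻¹⁻¹ = y := by group
    rwa [e] at h4

/-- powers of `u h` with `h` normalising `U ∋ u` -/
theorem exists_pow_eq {G : Type*} [Group G] (U : Subgroup G) (u h : G) (hu : u ∈ U)
    (hh : h ∈ Subgroup.normalizer (U : Set G)) (n : ℕ) :
    ∃ u' ∈ U, (u * h) ^ n = u' * h ^ n := by
  induction n with
  | zero => exact ⟨1, one_mem _, by simp⟩
  | succ n ih =>
    obtain ⟨u', hu', e⟩ := ih
    have hn : h ^ n ∈ Subgroup.normalizer (U : Set G) := pow_mem hh n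
    have h1 : h ^ n * u * (h ^ n)⁻¹ ∈ U := ((Subgroup.mem_normalizer_iff.mp hn) u).mp hu
    refine ⟨u' * (h ^ n * u * (h ^ n)⁻¹), mul_mem hu' h1, ?_⟩
    rw [pow_succ, e, pow_succ]
    group

/-- A `p`-subgroup `U` of a finite group such that every `p`-element normalising `U` lies in `U`
is a Sylow `p`-subgroup. -/
theorem exists_sylow_eq {G : Type*} [Group G] [Finite G] (p : ℕ) [Fact p.Prime] (U : Subgroup G)
    (hU : IsPGroup p U)
    (hN : ∀ x ∈ Subgroup.normalizer (U : Set G), (∃ k : ℕ, x ^ p ^ k = 1) → x ∈ U) :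
    ∃ P : Sylow p G, (P : Subgroup G) = U := by
  refine ⟨⟨U, hU, ?_⟩, rfl⟩
  intro Q hQ hUQ
  by_contra hne
  have hlt : U.subgroupOf Q < ⊤ := by
    rw [lt_top_iff_ne_top]
    intro h
    rw [Subgroup.subgroupOf_eq_top] at h
    exact hne (le_antisymm h hUQ)
  have hnil : Group.IsNilpotent Q := hQ.isNilpotent
  have hcond := Group.normalizerCondition_of_isNilpotent (G := Q) (U.subgroupOf Q) hlt
  obtain ⟨y, hyN, hyK⟩ := SetLike.exists_of_lt hcond
  apply hyK
  rw [Subgroup.mem_subgroupOf]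
  apply hN
  · rw [Subgroup.mem_normalizer_iff] at hyN ⊢
    intro z
    constructor
    · intro hz
      have h1 := (hyN ⟨z, hUQ hz⟩).mp (by rw [Subgroup.mem_subgroupOf]; exact hz)
      rw [Subgroup.mem_subgroupOf] at h1
      simpa using h1
    · intro hz
      have hzQ : z ∈ Q := by
        have h2 : (y : G) * z * (y : G)⁻¹ ∈ Q := hUQ hz
        have h3 : (y : G)⁻¹ * ((y : G) * z * (y : G)⁻¹) * (y : G) ∈ Q :=
          mul_mem (mul_mem (inv_mem y.2) h2) y.2
        have e : (y : G)⁻¹ * ((y : G) * z * (y : G)⁻¹) * (y : G) = z := by group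
        rwa [e] at h3
      have h1 := (hyN ⟨z, hzQ⟩).mpr (by rw [Subgroup.mem_subgroupOf]; simpa using hz)
      rw [Subgroup.mem_subgroupOf] at h1
      exact h1
  · obtain ⟨k, hk⟩ := hQ y
    exact ⟨k, by simpa using congrArg Subtype.val hk⟩

end Cfsg.Agent.Helper36.SylowNorm
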