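import Mathlib
import Cfsg.Agent.S0311
import Cfsg.Agent.S1036
import Cfsg.Agent.S1037
import Cfsg.Agent.Lib.Helper36.ChevGen
import Cfsg.Agent.Lib.Helper36.SylowNorm

/-!
# The normaliser of `U` in a Chevalley group is `B`

Helper library (helper36), from the (B,N)-pair of the Chevalley group (helper18's S1042) and the
description of the subgroups containing `B` (helper6's S0311).
-/

set_option autoImplicit false

namespace Cfsg.Agent.Helper36.ChevNormU

open Cfsg.Lie Cfsg.Agent.S1043 Cfsg.Agent.Helper18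

section

variable {F : Type*} [Field F] (D : ChevalleyDatum) (hD : Good D)

include hD in
/-- elements of `B` are products `u h` -/
theorem mem_borel (g : GL D.Idx F) (hg : g ∈ D.borelSubgroup F) :
    ∃ u ∈ D.posUnipotent F, ∃ h ∈ D.diagonalSubgroup F, g = u * h :=
  SylowNorm.mem_sup_of_le_normalizer _ _ (Cfsg.Agent.S1036.result D hD).1 g hg

include hD in
/-- the root `-p_i` is negative -/
theorem isNegRoot_neg_simple (i : ℕ) (hi : i < D.rank) : D.IsNegRoot (D.neg (D.simple i)) := by
  have hB := bnFacts_all D hD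
  rcases hB.hpn _ (hB.hnv _ (hB.hsimp i hi)) with h | h
  · exact absurd h (hB.hnegpos _ (hB.hsimpPos i hi))
  · exact h

/-- the elements `n_i` do not normalise `U` -/
theorem nGL_not_mem_normalizer (i : ℕ) (hi : i < D.rank) :
    nGL D hD i ∉ Subgroup.normalizer (D.posUnipotent F : Set (GL D.Idx F)) := by
  intro hn
  have hB := bnFacts_all D hD
  have hl : ∀ k ∈ [i], k < D.rank := by
    intro k hk
    rw [List.mem_singleton] at hk
    rw [hk]
    exact hi
  obtain ⟨-, η, hη, hc⟩ := nWordGL_conj (F := F) D hD hB.hrefl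
    (fun i hi s hs => conjGoal_all D hD i s hi hs) [i] hl (D.simple i) (hB.hsimp i hi)
  have h1 : nWordGL (F := F) D hD [i] = nGL D hD i := by
    rw [nWordGL_cons, nWordGL_nil, mul_one]
  have h2 : permW D [i] (D.simple i) = D.neg (D.simple i) := by
    show D.reflectRoot i (D.simple i) = _
    exact ChevGen.reflectRoot_simple D i
  rw [h1, h2] at hc
  have h3 : nGL D hD i * xU D hD (D.simple i) 1 * (nGL D hD i)⁻¹ =
      xU D hD (D.neg (D.simple i)) ((η : F) * 1) := by
    rw [mul_inv_eq_iff_eq_mul]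
    apply Units.ext
    rw [Units.val_mul, Units.val_mul, xU_val, xU_val, hc 1]
  have h4 : xU D hD (D.simple i) (1 : F) ∈ D.posUnipotent F :=
    Subgroup.subset_closure ⟨D.simple i, 1, hB.hsimpPos i hi, rfl⟩
  have h5 := ((Subgroup.mem_normalizer_iff.mp hn) _).mp h4
  rw [h3] at h5
  have h6 : xU D hD (D.neg (D.simple i)) ((η : F) * 1) ∈ D.negUnipotent F :=
    Subgroup.subset_closure ⟨D.neg (D.simple i), (η : F) * 1, isNegRoot_neg_simple D hD i hi, rfl⟩
  have h7 : xU D hD (D.neg (D.simple i)) ((η : F) * 1) ∈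
      D.borelSubgroup F ⊓ D.negUnipotent F :=
    ⟨Subgroup.mem_sup_left h5, h6⟩
  rw [(Cfsg.Agent.S1037.result D hD).1, Subgroup.mem_bot] at h7
  have h8 := xU_eq_one D hD hB _ (hB.hnv _ (hB.hsimp i hi)) _ h7
  rcases hη with rfl | rfl <;> simp at h8

include hD in
/-- `N_G(U) = B`, given the (B,N)-pair of the group (helper18's S1042) -/
theorem normalizer_posUnipotent_of
    (hBN : ∃ P : Cfsg.BNPair ↥(D.group F),
      P.B = (D.borelSubgroup F).subgroupOf (D.group F) ∧
      P.N = (D.monomialSubgroup F).subgroupOf (D.group F) ∧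
      P.S = {n : ↥(D.group F) | ∃ i < D.rank,
        ((n : GL D.Idx F) : Matrix D.Idx D.Idx F) = D.nMat F (D.simple i) 1}) :
    Subgroup.normalizer (D.posUnipotent F : Set (GL D.Idx F)) ⊓ D.group F = D.borelSubgroup F := by
  apply le_antisymm
  · rintro g ⟨hgN, hgG⟩
    obtain ⟨P, hPB, -, hPS⟩ := hBN
    have hBM : P.B ≤ (Subgroup.normalizer (D.posUnipotent F : Set (GL D.Idx F))).subgroupOf
        (D.group F) := by
      rw [hPB]
      intro x hx
      rw [Subgroup.mem_subgroupOf] at hx ⊢
      exact sup_le Subgroup.le_normalizer (Cfsg.Agent.S1036.result D hD).1 hx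
    obtain ⟨J, hJ, hM⟩ := Cfsg.Agent.S0311.result P _ hBM
    have hJe : J = ∅ := by
      by_contra hne
      obtain ⟨s, hs⟩ := Set.nonempty_iff_ne_empty.mpr hne
      have hsS := hJ hs
      rw [hPS] at hsS
      obtain ⟨i, hi, hsi⟩ := hsS
      have h1 : s ∈ P.parabolic J := Subgroup.mem_sup_right (Subgroup.subset_closure hs)
      rw [← hM, Subgroup.mem_subgroupOf] at h1
      have h2 : (s : GL D.Idx F) = nGL D hD i := by
        apply Units.ext
        rw [hsi, nGL_val]
      rw [h2] at h1
      exact nGL_not_mem_normalizer D hD i hi h1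
    have h3 : (⟨g, hgG⟩ : ↥(D.group F)) ∈ P.parabolic J := by
      rw [← hM, Subgroup.mem_subgroupOf]
      exact hgN
    rw [hJe] at h3
    unfold Cfsg.BNPair.parabolic at h3
    rw [Subgroup.closure_empty, sup_bot_eq, hPB, Subgroup.mem_subgroupOf] at h3
    exact h3
  · exact le_inf (sup_le Subgroup.le_normalizer (Cfsg.Agent.S1036.result D hD).1)
      (Cfsg.Agent.S1043.result D hD).1

end

end Cfsg.Agent.Helper36.ChevNormU
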