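import Mathlib
import Cfsg.Agent.S2157
import Cfsg.Agent.S1028
import Cfsg.Agent.Lib.Helper36.ChevNormU

/-!
# Consequences of `N_G(U) = B` (helper36): `G ∩ Ĥ ⊆ H` and `U` is a Sylow subgroup

Everything here takes the (B,N)-pair of the Chevalley group (helper18's S1042) as a hypothesis `hBN`.
-/

set_option autoImplicit false

namespace Cfsg.Agent.Helper36.ChevDiagChar

open Cfsg.Lie Cfsg.Agent.S1043 Cfsg.Agent.Helper18

/-- the shape of the statement of S1042 -/
abbrev HasBN (F : Type*) [Field F] (D : ChevalleyDatum) : Prop :=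
  ∃ P : Cfsg.BNPair ↥(D.group F),
    P.B = (D.borelSubgroup F).subgroupOf (D.group F) ∧
    P.N = (D.monomialSubgroup F).subgroupOf (D.group F) ∧
    P.S = {n : ↥(D.group F) | ∃ i < D.rank,
      ((n : GL D.Idx F) : Matrix D.Idx D.Idx F) = D.nMat F (D.simple i) 1}

section

variable {F : Type*} [Field F] (D : ChevalleyDatum)

theorem isRootCharacter_inv (χ : ℕ → Fˣ) (hχ : D.IsRootCharacter χ) :
    D.IsRootCharacter (fun s => (χ s)⁻¹) := by
  refine ⟨fun r hr => ?_, fun r s k hr hs hk => ?_⟩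
  · show (χ (D.neg r))⁻¹ = ((χ r)⁻¹)⁻¹
    rw [hχ.1 r hr]
  · show (χ k)⁻¹ = (χ r)⁻¹ * (χ s)⁻¹
    rw [hχ.2 r s k hr hs hk, mul_inv]

theorem charDiag_mul_inv (χ : ℕ → Fˣ) :
    D.charDiag F χ * D.charDiag F (fun s => (χ s)⁻¹) = 1 := by
  unfold ChevalleyDatum.charDiag
  rw [Matrix.diagonal_mul_diagonal, ← Matrix.diagonal_one]
  congr 1
  funext i
  rcases i with i | s
  · simp
  · simp

variable (hD : Good D)

include hD in
/-- a group element whose matrix is `ĥ(χ)` normalises `U` -/
theorem mem_normalizer_of_charDiag (χ : ℕ → Fˣ) (hχ : D.IsRootCharacter χ) (g : GL D.Idx F)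
    (hgχ : (g : Matrix D.Idx D.Idx F) = D.charDiag F χ) :
    g ∈ Subgroup.normalizer (D.posUnipotent F : Set (GL D.Idx F)) := by
  have hinv : ((g⁻¹ : GL D.Idx F) : Matrix D.Idx D.Idx F) = D.charDiag F (fun s => (χ s)⁻¹) := by
    apply Units.inv_eq_of_mul_eq_one_right
    rw [hgχ]
    exact charDiag_mul_inv D χ
  unfold ChevalleyDatum.posUnipotent
  apply SylowNorm.mem_normalizer_closure
  · rintro x ⟨r, t, hr, hx⟩
    apply Subgroup.subset_closure
    refine ⟨r, (χ r : F) * t, hr, ?_⟩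
    rw [Units.val_mul, Units.val_mul, hx, hgχ, hinv]
    exact Cfsg.Agent.S2157.result D hD χ hχ r hr.1 t
  · rintro x ⟨r, t, hr, hx⟩
    apply Subgroup.subset_closure
    refine ⟨r, (((χ r)⁻¹ : Fˣ) : F) * t, hr, ?_⟩
    rw [Units.val_mul, Units.val_mul, hx, hgχ, hinv]
    have h := Cfsg.Agent.S2157.result D hD (fun s => (χ s)⁻¹) (isRootCharacter_inv D χ hχ) r hr.1 t
    simp only [inv_inv] at h
    exact h

include hD in
/-- an element of `U` with a diagonal matrix is trivial -/
theorem eq_one_of_diagonal (u : GL D.Idx F) (hu : u ∈ D.posUnipotent F) (d : D.Idx → F)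
    (hd : (u : Matrix D.Idx D.Idx F) = Matrix.diagonal d) : u = 1 := by
  have hdep : Cfsg.Agent.Helper17.Dep D 1 ((u : Matrix D.Idx D.Idx F) - 1) :=
    Cfsg.Agent.Helper17.posUnipotent_le_depSubgroup (Cfsg.Agent.Helper17.triOK_of_mem D hD) hu
  apply Units.ext
  ext i j
  by_cases hij : i = j
  · subst hij
    have := hdep i i (by omega)
    rw [Matrix.sub_apply, sub_eq_zero] at this
    rw [this]
    rfl
  · rw [hd, Matrix.diagonal_apply_ne _ hij]
    exact (Matrix.one_apply_ne hij).symm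

include hD in
/-- `G ∩ Ĥ ⊆ H` -/
theorem mem_diagonalSubgroup_of_charDiag (hBN : HasBN F D) (χ : ℕ → Fˣ) (hχ : D.IsRootCharacter χ)
    (g : GL D.Idx F) (hg : g ∈ D.group F) (hgχ : (g : Matrix D.Idx D.Idx F) = D.charDiag F χ) :
    g ∈ D.diagonalSubgroup F := by
  have hgN := mem_normalizer_of_charDiag D hD χ hχ g hgχ
  have hgB : g ∈ D.borelSubgroup F := by
    rw [← ChevNormU.normalizer_posUnipotent_of D hD hBN]
    exact ⟨hgN, hg⟩
  obtain ⟨u, hu, h, hh, rfl⟩ := ChevNormU.mem_borel D hD g hgB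
  obtain ⟨tbl, hT⟩ := torusData_all D hD
  obtain ⟨c, -, hhc⟩ := mem_diag_eq_torMat D hT h⁻¹ (inv_mem hh)
  have hu_val : (u : Matrix D.Idx D.Idx F) = D.charDiag F χ * torMat D c := by
    have e : u = (u * h) * h⁻¹ := by group
    calc (u : Matrix D.Idx D.Idx F) = ((u * h * h⁻¹ : GL D.Idx F) : Matrix D.Idx D.Idx F) := by
          rw [← e]
      _ = D.charDiag F χ * torMat D c := by rw [Units.val_mul, hgχ, hhc]
  have hu1 : u = 1 := by
    rw [ChevalleyDatum.charDiag, torMat, Matrix.diagonal_mul_diagonal] at hu_val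
    exact eq_one_of_diagonal D hD u hu _ hu_val
  rw [hu1, one_mul]
  exact hh

end

/-! ### `U` is a Sylow `p`-subgroup -/

section

variable {F : Type*} [Field F] (D : ChevalleyDatum) (hD : Good D)

include hD in
theorem nonempty_idx : Nonempty D.Idx := by
  have hB := bnFacts_all D hD
  have h0 : 0 < D.nroots := by
    have h1 : D.simple 0 < D.nroots ∨ D.rank = 0 := by
      rcases Nat.eq_zero_or_pos D.rank with h | h
      · exact Or.inr h
      · exact Or.inl (hB.hsimp 0 h)
    rcases h1 with h1 | h1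
    · omega
    · exfalso
      simp only [Good, List.mem_cons, List.not_mem_nil, or_false] at hD
      rcases hD with rfl | rfl | rfl | rfl | rfl | rfl | rfl <;> exact absurd h1 (by decide)
  exact ⟨Sum.inr ⟨0, h0⟩⟩

theorem torMat_pow (c : ℕ → F) (n : ℕ) : torMat D c ^ n = torMat D (fun i => c i ^ n) := by
  induction n with
  | zero =>
    rw [pow_zero]
    have : (fun i => c i ^ 0) = fun _ => (1 : F) := by
      funext i
      exact pow_zero _
    rw [this, torMat_one]
  | succ n ih =>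
    rw [pow_succ, ih, torMat_mul]
    congr 1
    funext i
    rw [pow_succ]

variable (p : ℕ) [Fact p.Prime] [CharP F p]

include hD in
/-- elements of `U` are `p`-elements -/
theorem pow_eq_one_of_mem_posUnipotent (u : GL D.Idx F) (hu : u ∈ D.posUnipotent F) :
    u ^ p ^ (D.rank + D.nroots) = 1 := by
  have : Nonempty D.Idx := nonempty_idx D hD
  have h1 := Cfsg.Agent.S1028.result D hD u hu
  have hp : 1 < p := (Fact.out : p.Prime).one_lt
  have hle : D.rank + D.nroots ≤ p ^ (D.rank + D.nroots) := (Nat.lt_pow_self hp).le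
  have h2 : ((u : Matrix D.Idx D.Idx F) - 1) ^ p ^ (D.rank + D.nroots) = 0 :=
    pow_eq_zero_of_le hle h1
  have h3 := sub_pow_char_pow_of_commute (R := Matrix D.Idx D.Idx F) (p := p)
    (n := D.rank + D.nroots) (x := (u : Matrix D.Idx D.Idx F)) (y := 1) (Commute.one_right _)
  rw [h2, one_pow] at h3
  apply Units.ext
  rw [Units.val_pow_eq_pow_val, Units.val_one]
  exact (sub_eq_zero.mp h3.symm)

include hD in
theorem isPGroup_posUnipotent : IsPGroup p (D.posUnipotent F) := by
  intro g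
  refine ⟨D.rank + D.nroots, ?_⟩
  apply Subtype.ext
  rw [Subgroup.coe_pow, Subgroup.coe_one]
  exact pow_eq_one_of_mem_posUnipotent D hD p g.1 g.2

variable [Fintype F]

include hD in
/-- `H` has exponent dividing `q - 1` -/
theorem pow_card_sub_one_of_mem_diagonal (h : GL D.Idx F) (hh : h ∈ D.diagonalSubgroup F) :
    h ^ (Fintype.card F - 1) = 1 := by
  obtain ⟨tbl, hT⟩ := torusData_all D hD
  obtain ⟨c, hc, hhc⟩ := mem_diag_eq_torMat D hT h hh
  apply Units.ext
  rw [Units.val_pow_eq_pow_val, Units.val_one, hhc, torMat_pow]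
  have : (fun i => c i ^ (Fintype.card F - 1)) = fun _ => (1 : F) := by
    funext i
    exact FiniteField.pow_card_sub_one_eq_one (c i) (hc i)
  rw [this, torMat_one]

include hD in
theorem not_dvd_card_sub_one : ¬ p ∣ Fintype.card F - 1 := by
  intro hdvd
  have h0 : ((Fintype.card F : ℕ) : F) = 0 := FiniteField.cast_card_eq_zero F
  have h1 : 1 ≤ Fintype.card F := Fintype.card_pos
  have h2 : ((Fintype.card F - 1 : ℕ) : F) = -1 := by
    rw [Nat.cast_sub h1, h0]
    simp
  have h3 := (CharP.cast_eq_zero_iff F p (Fintype.card F - 1)).mpr hdvd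
  rw [h2] at h3
  exact one_ne_zero (neg_eq_zero.mp h3)

include hD in
/-- a `p`-element of `G` normalising `U` lies in `U` -/
theorem mem_posUnipotent_of_normalizer (hBN : HasBN F D) (x : GL D.Idx F) (hxG : x ∈ D.group F)
    (hxN : x ∈ Subgroup.normalizer (D.posUnipotent F : Set (GL D.Idx F))) (k : ℕ)
    (hxk : x ^ p ^ k = 1) : x ∈ D.posUnipotent F := by
  have hxB : x ∈ D.borelSubgroup F := by
    rw [← ChevNormU.normalizer_posUnipotent_of D hD hBN]
    exact ⟨hxN, hxG⟩
  obtain ⟨u, hu, h, hh, rfl⟩ := ChevNormU.mem_borel D hD x hxB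
  have hhN := (Cfsg.Agent.S1036.result (F := F) D hD).1 hh
  obtain ⟨u', hu', e⟩ := SylowNorm.exists_pow_eq (D.posUnipotent F) u h hu hhN (p ^ k)
  rw [hxk] at e
  have h1 : h ^ p ^ k = u'⁻¹ := eq_inv_of_mul_eq_one_right e.symm
  have h2a : h ^ p ^ k ∈ D.posUnipotent F := by
    rw [h1]
    exact inv_mem hu'
  have h2 : h ^ p ^ k ∈ D.posUnipotent F ⊓ D.diagonalSubgroup F :=
    Subgroup.mem_inf.mpr ⟨h2a, pow_mem hh _⟩
  rw [(Cfsg.Agent.S1036.result (F := F) D hD).2, Subgroup.mem_bot] at h2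
  have h3 := pow_card_sub_one_of_mem_diagonal D hD h hh
  have hcop : Nat.Coprime (p ^ k) (Fintype.card F - 1) :=
    Nat.Coprime.pow_left k
      (((Fact.out : p.Prime).coprime_iff_not_dvd).mpr (not_dvd_card_sub_one (F := F) D hD p))
  have h4 : orderOf h ∣ 1 := by
    rw [← Nat.Coprime.gcd_eq_one hcop]
    exact Nat.dvd_gcd (orderOf_dvd_of_pow_eq_one h2) (orderOf_dvd_of_pow_eq_one h3)
  have h5 : h = 1 := orderOf_eq_one_iff.mp (Nat.dvd_one.mp h4)
  rw [h5, mul_one]
  exact hu

include hD in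
/-- `U` is a Sylow `p`-subgroup of the Chevalley group -/
theorem exists_sylow_posUnipotent (hBN : HasBN F D) :
    ∃ P : Sylow p ↥(D.group F),
      (P : Subgroup ↥(D.group F)) = (D.posUnipotent F).subgroupOf (D.group F) := by
  have hUG : D.posUnipotent F ≤ D.group F :=
    le_trans le_sup_left (Cfsg.Agent.S1043.result (F := F) D hD).1
  apply SylowNorm.exists_sylow_eq p
  · exact (isPGroup_posUnipotent D hD p).comap_subtype
  · intro x hxN hxk
    obtain ⟨k, hk⟩ := hxk
    rw [Subgroup.mem_subgroupOf]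
    apply mem_posUnipotent_of_normalizer D hD p hBN x.1 x.2 _ k
    · have := congrArg Subtype.val hk
      simpa using this
    · rw [Subgroup.mem_normalizer_iff] at hxN ⊢
      intro z
      constructor
      · intro hz
        have h1 := (hxN ⟨z, hUG hz⟩).mp (by rw [Subgroup.mem_subgroupOf]; exact hz)
        rw [Subgroup.mem_subgroupOf] at h1
        simpa using h1
      · intro hz
        have hzG : z ∈ D.group F := by
          have h2 : (x : GL D.Idx F) * z * (x : GL D.Idx F)⁻¹ ∈ D.group F := hUG hz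
          have h3 : (x : GL D.Idx F)⁻¹ * ((x : GL D.Idx F) * z * (x : GL D.Idx F)⁻¹) *
              (x : GL D.Idx F) ∈ D.group F := mul_mem (mul_mem (inv_mem x.2) h2) x.2
          have e : (x : GL D.Idx F)⁻¹ * ((x : GL D.Idx F) * z * (x : GL D.Idx F)⁻¹) *
              (x : GL D.Idx F) = z := by group
          rwa [e] at h3
        have h1 := (hxN ⟨z, hzG⟩).mpr (by rw [Subgroup.mem_subgroupOf]; simpa using hz)
        rw [Subgroup.mem_subgroupOf] at h1
        exact h1

end

end Cfsg.Agent.Helper36.ChevDiagChar
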