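import Mathlib
import Cfsg.Prelude.Def_ChevStructure
import Cfsg.Prelude.Def_LieTypes
import Cfsg.Prelude.Def_ChevB2

/-!
# The `J`-grading of the Chevalley basis (helper36)

For a set `J` of fundamental roots, grade `h_i` by `0` and `e_s` by the sum of the coefficients of `s`
on the fundamental roots outside `J`.  Root elements `x_r(t)` with `r ∈ Φ_J` are block diagonal, root
elements with `r` positive outside `Φ_J` are block unitriangular.
-/

set_option autoImplicit false

namespace Cfsg.Agent.Helper36.ChevGrade

open Cfsg.Lie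

/-- `m r i` are the coefficients of the root `r` on the fundamental roots: table check -/
def GradeOK (D : ChevalleyDatum) (m : ℕ → ℕ → ℤ) : Prop :=
  (∀ r < D.nroots, (D.coroot.getD r #[]).size = D.rank) ∧
  (∀ r < D.nroots, ∀ e ∈ (D.chain.getD r #[]).toList, ∀ q ∈ e.2.toList.zipIdx, ∀ i < D.rank,
      m q.1.1 i = m e.1 i + ((q.2 : ℤ) + 1) * m r i) ∧
  (∀ r < D.nroots, ∀ i < D.rank, m (D.neg r) i = - m r i) ∧
  (∀ r < D.nroots, ∀ i < D.rank, (m r i = 0 ↔ (D.coroot.getD r #[]).getD i 0 = 0)) ∧
  (∀ r < D.nroots, ∀ i < D.rank, (0 < m r i ↔ 0 < (D.coroot.getD r #[]).getD i 0)) ∧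
  (∀ i < D.rank, (D.coroot.getD (D.simple i) #[]).getD i 0 ≠ 0)

instance (D : ChevalleyDatum) (m : ℕ → ℕ → ℤ) : Decidable (GradeOK D m) := by
  unfold GradeOK; infer_instance

/-- coefficients read off the coroot table (simply laced types) -/
def mCoroot (D : ChevalleyDatum) (r i : ℕ) : ℤ := (D.coroot.getD r #[]).getD i 0

/-- coefficients read off an explicit table -/
def mTbl (tbl : List (List ℤ)) (r i : ℕ) : ℤ := (tbl.getD r []).getD i 0

section

variable (D : ChevalleyDatum) (J : Set ℕ) (m : ℕ → ℕ → ℤ)

open Classical in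
/-- the `J`-grade of a root: the sum of its coefficients on the fundamental roots outside `J` -/
noncomputable def gr (s : ℕ) : ℤ := ∑ i ∈ (Finset.range D.rank).filter (fun i => i ∉ J), m s i

/-- the grade of a basis vector -/
noncomputable def γ : D.Idx → ℤ
  | Sum.inl _ => 0
  | Sum.inr s => gr D J m s.val

variable {D J m}

theorem gr_neg (h : GradeOK D m) (r : ℕ) (hr : r < D.nroots) :
    gr D J m (D.neg r) = - gr D J m r := by
  classical
  unfold gr
  rw [← Finset.sum_neg_distrib]
  apply Finset.sum_congr rfl
  intro i hi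
  rw [Finset.mem_filter, Finset.mem_range] at hi
  exact h.2.2.1 r hr i hi.1

theorem gr_chain (h : GradeOK D m) (r s u : ℕ) (hr : r < D.nroots)
    (hne : D.chainCoeff r s u ≠ []) :
    ∃ k : ℕ, 1 ≤ k ∧ gr D J m u = gr D J m s + (k : ℤ) * gr D J m r := by
  obtain ⟨km, hkm⟩ := List.exists_mem_of_ne_nil _ hne
  unfold ChevalleyDatum.chainCoeff at hkm
  simp only [List.mem_flatMap, List.mem_filter, List.mem_map, decide_eq_true_eq] at hkm
  obtain ⟨e, ⟨he, hes⟩, q, ⟨hq, hqu⟩, -⟩ := hkm
  refine ⟨q.2 + 1, by omega, ?_⟩
  classical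
  unfold gr
  rw [Finset.mul_sum, ← Finset.sum_add_distrib]
  apply Finset.sum_congr rfl
  intro i hi
  rw [Finset.mem_filter, Finset.mem_range] at hi
  have := h.2.1 r hr e he q hq i hi.1
  rw [hqu, hes] at this
  rw [this]
  push_cast
  ring

theorem getD_mem_or (a : Array ℤ) (i : ℕ) : a.getD i 0 = 0 ∨ a.getD i 0 ∈ a.toList := by
  by_cases hi : i < a.size
  · right
    have : a.getD i 0 = a[i] := by simp [Array.getD, hi]
    rw [this]
    exact Array.getElem_mem_toList hi
  · left
    simp [Array.getD, hi]

theorem gr_eq_zero (h : GradeOK D m) (r : ℕ) (hr : D.InRootSub J r) : gr D J m r = 0 := by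
  classical
  unfold gr
  apply Finset.sum_eq_zero
  intro i hi
  rw [Finset.mem_filter, Finset.mem_range] at hi
  exact (h.2.2.2.1 r hr.1 i hi.1).mpr (hr.2 i hi.1 hi.2)

theorem m_nonneg (h : GradeOK D m) (r : ℕ) (hr : D.IsPosRoot r) (i : ℕ) (hi : i < D.rank) :
    0 ≤ m r i := by
  rcases getD_mem_or (D.coroot.getD r #[]) i with h0 | hmem
  · exact ((h.2.2.2.1 r hr.1 i hi).mpr h0).ge
  · have h1 := hr.2 _ hmem
    rcases h1.lt_or_eq with h2 | h2
    · exact ((h.2.2.2.2.1 r hr.1 i hi).mpr h2).le
    · exact ((h.2.2.2.1 r hr.1 i hi).mpr h2.symm).ge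

/-- a fundamental root outside `J` is not in `Φ_J` -/
theorem not_inRootSub_simple (h : GradeOK D m) (i : ℕ) (hi : i < D.rank) (hiJ : i ∉ J) :
    ¬ D.InRootSub J (D.simple i) := fun hc => h.2.2.2.2.2 i hi (hc.2 i hi hiJ)

theorem one_le_gr (h : GradeOK D m) (r : ℕ) (hr : D.IsPosRoot r) (hJ : ¬ D.InRootSub J r) :
    1 ≤ gr D J m r := by
  classical
  unfold ChevalleyDatum.InRootSub at hJ
  push Not at hJ
  obtain ⟨i, hi, hiJ, hne⟩ := hJ hr.1
  have hpos : 0 < m r i := by
    rcases (m_nonneg h r hr i hi).lt_or_eq with h1 | h1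
    · exact h1
    · exact absurd ((h.2.2.2.1 r hr.1 i hi).mp h1.symm) hne
  have hmem : i ∈ (Finset.range D.rank).filter (fun i => i ∉ J) := by
    rw [Finset.mem_filter, Finset.mem_range]
    exact ⟨hi, hiJ⟩
  have hle : m r i ≤ gr D J m r := by
    unfold gr
    apply Finset.single_le_sum (f := fun i => m r i) _ hmem
    intro j hj
    rw [Finset.mem_filter, Finset.mem_range] at hj
    exact m_nonneg h r hr j hj.1
  omega

end

/-! ### Block shapes of matrices -/

section

variable {F : Type*} [Field F] (D : ChevalleyDatum) (J : Set ℕ) (m : ℕ → ℕ → ℤ)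

/-- block diagonal matrices -/
def BD (M : Matrix D.Idx D.Idx F) : Prop :=
  ∀ row col, γ D J m row ≠ γ D J m col → M row col = 0

/-- strictly block triangular matrices -/
def GD (M : Matrix D.Idx D.Idx F) : Prop :=
  ∀ row col, γ D J m row ≤ γ D J m col → M row col = 0

variable {D J m}

theorem bd_mul {A B : Matrix D.Idx D.Idx F} (hA : BD D J m A) (hB : BD D J m B) :
    BD D J m (A * B) := by
  intro row col hne
  rw [Matrix.mul_apply]
  apply Finset.sum_eq_zero
  intro k _
  by_cases h1 : γ D J m row = γ D J m k
  · rw [hB k col (by rw [← h1]; exact hne), mul_zero]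
  · rw [hA row k h1, zero_mul]

theorem bd_diagonal (d : D.Idx → F) : BD D J m (Matrix.diagonal d) := by
  intro row col hne
  apply Matrix.diagonal_apply_ne
  rintro rfl
  exact hne rfl

theorem gd_add {A B : Matrix D.Idx D.Idx F} (hA : GD D J m A) (hB : GD D J m B) :
    GD D J m (A + B) := by
  intro row col hle
  rw [Matrix.add_apply, hA row col hle, hB row col hle, add_zero]

theorem gd_mul {A B : Matrix D.Idx D.Idx F} (hA : GD D J m A) (hB : GD D J m B) :
    GD D J m (A * B) := by
  intro row col hle
  rw [Matrix.mul_apply]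
  apply Finset.sum_eq_zero
  intro k _
  by_cases h1 : γ D J m row ≤ γ D J m k
  · rw [hA row k h1, zero_mul]
  · rw [hB k col (by omega), mul_zero]

theorem gd_sub_one_mul {A B : Matrix D.Idx D.Idx F} (hA : GD D J m (A - 1)) (hB : GD D J m (B - 1)) :
    GD D J m (A * B - 1) := by
  have e : A * B - 1 = (A - 1) + (B - 1) + (A - 1) * (B - 1) := by noncomm_ring
  rw [e]
  exact gd_add (gd_add hA hB) (gd_mul hA hB)

/-- a matrix that is both block diagonal and block unitriangular is the identity -/
theorem eq_one_of_bd_gd {A : Matrix D.Idx D.Idx F} (h1 : BD D J m A) (h2 : GD D J m (A - 1)) :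
    A = 1 := by
  ext row col
  by_cases h : γ D J m row = γ D J m col
  · have := h2 row col h.le
    rw [Matrix.sub_apply, sub_eq_zero] at this
    exact this
  · rw [h1 row col h]
    have hne : row ≠ col := by
      rintro rfl
      exact h rfl
    exact (Matrix.one_apply_ne hne).symm

/-- `x_r(t)` is block diagonal for `r` of grade `0` -/
theorem bd_xMat (h : GradeOK D m) (r : Fin D.nroots) (hr0 : gr D J m r.val = 0) (t : F) :
    BD D J m (D.xMat F r t) := by
  intro row col hne
  unfold ChevalleyDatum.xMat
  simp only [Matrix.of_apply]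
  rcases col with i | s
  · rcases row with i' | u
    · exact absurd rfl hne
    · by_cases hu : u = r
      · subst hu
        exact absurd hr0 hne
      · simp [hu]
  · by_cases hsr : s = r
    · subst hsr
      rcases row with i' | u
      · simp
      · by_cases hu : u = s
        · subst hu
          exact absurd rfl hne
        · simp [hu]
    · simp only [hsr, if_false]
      by_cases hneg : s.val = D.negIdx.getD r.val 0
      · simp only [hneg, if_true]
        have hs0 : gr D J m s.val = 0 := by
          have := gr_neg (J := J) h r.val r.2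
          unfold ChevalleyDatum.neg at this
          rw [hneg, this, hr0, neg_zero]
        rcases row with i' | u
        · exact absurd hs0.symm hne
        · by_cases hus : u = s
          · subst hus
            exact absurd rfl hne
          · by_cases hur : u = r
            · subst hur
              exact absurd (hr0.trans hs0.symm) hne
            · simp [hus, hur]
      · simp only [hneg, if_false]
        rcases row with i' | u
        · rfl
        · by_cases hus : u = s
          · subst hus
            exact absurd rfl hne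
          · have hnil : D.chainCoeff r.val s.val u.val = [] := by
              by_contra hc
              obtain ⟨k, _, hk⟩ := gr_chain (J := J) h r.val s.val u.val r.2 hc
              rw [hr0, mul_zero, add_zero] at hk
              exact hne hk
            simp [hus, hnil]

/-- `x_r(t) - 1` is strictly block triangular for `r` of positive grade -/
theorem gd_xMat_sub_one (h : GradeOK D m) (r : Fin D.nroots) (hr1 : 1 ≤ gr D J m r.val) (t : F) :
    GD D J m (D.xMat F r t - 1) := by
  intro row col hle
  rw [Matrix.sub_apply, Matrix.one_apply, sub_eq_zero]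
  unfold ChevalleyDatum.xMat
  simp only [Matrix.of_apply]
  rcases col with i | s
  · rcases row with i' | u
    · simp
    · have hu : u ≠ r := by
        rintro rfl
        change gr D J m u.val ≤ 0 at hle
        omega
      simp [hu]
  · by_cases hsr : s = r
    · subst hsr
      rcases row with i' | u
      · simp
      · simp
    · simp only [hsr, if_false]
      by_cases hneg : s.val = D.negIdx.getD r.val 0
      · simp only [hneg, if_true]
        have hs : gr D J m s.val = - gr D J m r.val := by
          have := gr_neg (J := J) h r.val r.2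
          unfold ChevalleyDatum.neg at this
          rw [hneg, this]
        rcases row with i' | u
        · exfalso
          change (0 : ℤ) ≤ gr D J m s.val at hle
          omega
        · by_cases hus : u = s
          · subst hus
            simp
          · have hur : u ≠ r := by
              rintro rfl
              change gr D J m u.val ≤ gr D J m s.val at hle
              omega
            have : (Sum.inr u : D.Idx) ≠ Sum.inr s := fun h' => hus (Sum.inr.inj h')
            simp [hus, hur, this]
      · simp only [hneg, if_false]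
        rcases row with i' | u
        · simp
        · have hnil : D.chainCoeff r.val s.val u.val = [] := by
            by_contra hc
            obtain ⟨k, hk1, hk⟩ := gr_chain (J := J) h r.val s.val u.val r.2 hc
            change gr D J m u.val ≤ gr D J m s.val at hle
            have : (1 : ℤ) ≤ (k : ℤ) * gr D J m r.val := by
              have hk' : (1 : ℤ) ≤ (k : ℤ) := by exact_mod_cast hk1
              nlinarith
            omega
          simp only [hnil, List.map_nil, List.sum_nil, add_zero]
          by_cases hus : u = s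
          · subst hus
            simp
          · have : (Sum.inr u : D.Idx) ≠ Sum.inr s := fun h' => hus (Sum.inr.inj h')
            simp [hus, this]

theorem bd_x (h : GradeOK D m) (r : ℕ) (hr : D.InRootSub J r) (t : F) : BD D J m (D.x F r t) := by
  unfold ChevalleyDatum.x
  rw [dif_pos hr.1]
  exact bd_xMat h ⟨r, hr.1⟩ (gr_eq_zero h r hr) t

theorem gd_x_sub_one (h : GradeOK D m) (r : ℕ) (hr : D.IsPosRoot r) (hJ : ¬ D.InRootSub J r)
    (t : F) : GD D J m (D.x F r t - 1) := by
  unfold ChevalleyDatum.x
  rw [dif_pos hr.1]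
  exact gd_xMat_sub_one h ⟨r, hr.1⟩ (one_le_gr h r hr hJ) t

/-- the group of block diagonal matrices -/
def bdSubgroup (D : ChevalleyDatum) (J : Set ℕ) (m : ℕ → ℕ → ℤ) (F : Type*) [Field F] :
    Subgroup (GL D.Idx F) where
  carrier := {g | BD D J m (g : Matrix D.Idx D.Idx F) ∧
    BD D J m ((g⁻¹ : GL D.Idx F) : Matrix D.Idx D.Idx F)}
  one_mem' := by
    constructor
    · rw [Units.val_one, ← Matrix.diagonal_one]
      exact bd_diagonal _
    · rw [inv_one, Units.val_one, ← Matrix.diagonal_one]
      exact bd_diagonal _
  mul_mem' := by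
    rintro a b ⟨ha, ha'⟩ ⟨hb, hb'⟩
    constructor
    · rw [Units.val_mul]
      exact bd_mul ha hb
    · rw [mul_inv_rev, Units.val_mul]
      exact bd_mul hb' ha'
  inv_mem' := by
    rintro a ⟨ha, ha'⟩
    exact ⟨ha', by rw [inv_inv]; exact ha⟩

/-- the group of block unitriangular matrices -/
def gdSubgroup (D : ChevalleyDatum) (J : Set ℕ) (m : ℕ → ℕ → ℤ) (F : Type*) [Field F] :
    Subgroup (GL D.Idx F) where
  carrier := {g | GD D J m ((g : Matrix D.Idx D.Idx F) - 1) ∧
    GD D J m (((g⁻¹ : GL D.Idx F) : Matrix D.Idx D.Idx F) - 1)}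
  one_mem' := by
    constructor
    · rw [Units.val_one, sub_self]
      intro _ _ _
      rfl
    · rw [inv_one, Units.val_one, sub_self]
      intro _ _ _
      rfl
  mul_mem' := by
    rintro a b ⟨ha, ha'⟩ ⟨hb, hb'⟩
    constructor
    · rw [Units.val_mul]
      exact gd_sub_one_mul ha hb
    · rw [mul_inv_rev, Units.val_mul]
      exact gd_sub_one_mul hb' ha'
  inv_mem' := by
    rintro a ⟨ha, ha'⟩
    exact ⟨ha', by rw [inv_inv]; exact ha⟩

theorem bd_inf_gd : bdSubgroup D J m F ⊓ gdSubgroup D J m F = ⊥ := by
  rw [eq_bot_iff]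
  rintro g ⟨⟨h1, -⟩, ⟨h2, -⟩⟩
  rw [Subgroup.mem_bot]
  apply Units.ext
  rw [Units.val_one]
  exact eq_one_of_bd_gd h1 h2

end

end Cfsg.Agent.Helper36.ChevGrade
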