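import Mathlib
import Cfsg.Agent.Lib.Helper36.ChevGrade

/-!
# A cheaper check of the grading table (helper36)

The chain condition of `GradeOK` is checked row by row, walking the chain table only once.
-/

set_option autoImplicit false

namespace Cfsg.Agent.Helper36.ChevGrade

open Cfsg.Lie

/-- row-wise check of the chain condition -/
def chainFast (tbl : List (List ℤ)) (chain : List (Array (ℕ × Array (ℕ × ℤ)))) : Bool :=
  (tbl.zip chain).all fun p =>
    p.2.toList.all fun e =>
      ((tbl.getD e.1 []).length == p.1.length) &&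
      e.2.toList.zipIdx.all fun q =>
        tbl.getD q.1.1 [] ==
          List.zipWith (fun a b => a + ((q.2 : ℤ) + 1) * b) (tbl.getD e.1 []) p.1

theorem getD_zipWith_lin (k : ℤ) : ∀ (l1 l2 : List ℤ), l1.length = l2.length → ∀ i : ℕ,
    (List.zipWith (fun a b => a + k * b) l1 l2).getD i 0 = l1.getD i 0 + k * l2.getD i 0
  | [], [], _, i => by simp
  | [], _ :: _, h, _ => by simp at h
  | _ :: _, [], h, _ => by simp at h
  | a :: l1, b :: l2, h, 0 => by simp
  | a :: l1, b :: l2, h, i + 1 => by
      have h' : l1.length = l2.length := by simpa using h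
      simpa using getD_zipWith_lin k l1 l2 h' i

theorem chain_of_fast (D : ChevalleyDatum) (tbl : List (List ℤ)) (hlen : tbl.length = D.nroots)
    (hsz : D.chain.size = D.nroots) (h : chainFast tbl D.chain.toList = true) :
    ∀ r < D.nroots, ∀ e ∈ (D.chain.getD r #[]).toList, ∀ q ∈ e.2.toList.zipIdx, ∀ i < D.rank,
      mTbl tbl q.1.1 i = mTbl tbl e.1 i + ((q.2 : ℤ) + 1) * mTbl tbl r i := by
  intro r hr e he q hq i _
  have hr1 : r < tbl.length := by omega
  have hr2 : r < D.chain.toList.length := by simpa [hsz] using hr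
  have hmem : (tbl[r], D.chain.toList[r]) ∈ tbl.zip D.chain.toList := by
    rw [List.mem_iff_getElem]
    refine ⟨r, by simpa using ⟨hr1, hr2⟩, ?_⟩
    simp
  have hchain : D.chain.getD r #[] = D.chain.toList[r] := by
    have : r < D.chain.size := by omega
    simp [Array.getD, this]
  rw [hchain] at he
  unfold chainFast at h
  rw [List.all_eq_true] at h
  have h1 := h _ hmem
  rw [List.all_eq_true] at h1
  have h2 := h1 e he
  rw [Bool.and_eq_true, List.all_eq_true] at h2
  obtain ⟨h3, h4⟩ := h2
  have h5 := h4 q hq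
  simp only [beq_iff_eq] at h3 h5
  unfold mTbl
  rw [h5, getD_zipWith_lin _ _ _ h3]
  have : tbl.getD r [] = tbl[r] := by simp [List.getD, hr1]
  rw [this]

/-- the remaining (cheap) conditions of `GradeOK` -/
def GradeRest (D : ChevalleyDatum) (m : ℕ → ℕ → ℤ) : Prop :=
  (∀ r < D.nroots, (D.coroot.getD r #[]).size = D.rank) ∧
  (∀ r < D.nroots, ∀ i < D.rank, m (D.neg r) i = - m r i) ∧
  (∀ r < D.nroots, ∀ i < D.rank, (m r i = 0 ↔ (D.coroot.getD r #[]).getD i 0 = 0)) ∧
  (∀ r < D.nroots, ∀ i < D.rank, (0 < m r i ↔ 0 < (D.coroot.getD r #[]).getD i 0)) ∧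
  (∀ i < D.rank, (D.coroot.getD (D.simple i) #[]).getD i 0 ≠ 0)

instance (D : ChevalleyDatum) (m : ℕ → ℕ → ℤ) : Decidable (GradeRest D m) := by
  unfold GradeRest; infer_instance

theorem gradeOK_of_fast (D : ChevalleyDatum) (tbl : List (List ℤ)) (hlen : tbl.length = D.nroots)
    (hsz : D.chain.size = D.nroots) (h : chainFast tbl D.chain.toList = true)
    (hrest : GradeRest D (mTbl tbl)) : GradeOK D (mTbl tbl) :=
  ⟨hrest.1, chain_of_fast D tbl hlen hsz h, hrest.2.1, hrest.2.2.1, hrest.2.2.2.1, hrest.2.2.2.2⟩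

/-- the coroot table as a list of lists -/
def corTbl (D : ChevalleyDatum) : List (List ℤ) := D.coroot.toList.map Array.toList

end Cfsg.Agent.Helper36.ChevGrade
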