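import Mathlib
import Cfsg.Agent.Lib.Helper36.ChevGradeFast

/-!
# Root coefficient tables for the seven Chevalley data (helper36)
-/

set_option autoImplicit false

namespace Cfsg.Agent.Helper36.ChevGrade

open Cfsg.Lie

def rcG2 : List (List ℤ) :=
  [[-3, -2], [-3, -1], [-2, -1], [-1, -1], [-1, 0], [0, -1], [0, 1], [1, 0], [1, 1], [2, 1], [3, 1], [3, 2]]

def rcB2 : List (List ℤ) :=
  [[-2, -1], [-1, -1], [-1, 0], [0, -1], [0, 1], [1, 0], [1, 1], [2, 1]]

def rcF4 : List (List ℤ) :=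
  [[-2, -4, -3, -2], [-2, -4, -3, -1], [-2, -4, -2, -1], [-2, -3, -2, -1], [-2, -2, -2, -1], [-2, -2, -1, -1], [-2, -2, -1, 0], [-1, -3, -2, -1], [-1, -2, -2, -1], [-1, -2, -1, -1], [-1, -2, -1, 0], [-1, -1, -1, -1], [-1, -1, -1, 0], [-1, -1, 0, 0], [-1, 0, 0, 0], [0, -2, -2, -1], [0, -2, -1, -1], [0, -2, -1, 0], [0, -1, -1, -1], [0, -1, -1, 0], [0, -1, 0, 0], [0, 0, -1, -1], [0, 0, -1, 0], [0, 0, 0, -1], [0, 0, 0, 1], [0, 0, 1, 0], [0, 0, 1, 1], [0, 1, 0, 0], [0, 1, 1, 0], [0, 1, 1, 1], [0, 2, 1, 0], [0, 2, 1, 1], [0, 2, 2, 1], [1, 0, 0, 0], [1, 1, 0, 0], [1, 1, 1, 0], [1, 1, 1, 1], [1, 2, 1, 0], [1, 2, 1, 1], [1, 2, 2, 1], [1, 3, 2, 1], [2, 2, 1, 0], [2, 2, 1, 1], [2, 2, 2, 1], [2, 3, 2, 1], [2, 4, 2, 1], [2, 4, 3, 1], [2, 4, 3, 2]]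

set_option maxRecDepth 100000 in
theorem gradeOK_G2 : GradeOK chevG2 (mTbl rcG2) := by decide +kernel
set_option maxRecDepth 100000 in
theorem gradeOK_B2 : GradeOK chevB2 (mTbl rcB2) := by decide +kernel
set_option maxRecDepth 100000 in
theorem gradeOK_F4 : GradeOK chevF4 (mTbl rcF4) := by decide +kernel
set_option maxRecDepth 100000 in
theorem gradeOK_D4 : GradeOK chevD4 (mCoroot chevD4) := by decide +kernel
set_option maxRecDepth 100000 in
theorem fast_E6 : chainFast (corTbl chevE6) chevE6.chain.toList = true := by decide +kernel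
set_option maxRecDepth 100000 in
theorem rest_E6 : GradeRest chevE6 (mTbl (corTbl chevE6)) := by decide +kernel
theorem gradeOK_E6 : GradeOK chevE6 (mTbl (corTbl chevE6)) :=
  gradeOK_of_fast _ _ (by decide +kernel) (by decide +kernel) fast_E6 rest_E6

set_option maxRecDepth 100000 in
theorem fast_E7 : chainFast (corTbl chevE7) chevE7.chain.toList = true := by decide +kernel
set_option maxRecDepth 100000 in
theorem rest_E7 : GradeRest chevE7 (mTbl (corTbl chevE7)) := by decide +kernel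
theorem gradeOK_E7 : GradeOK chevE7 (mTbl (corTbl chevE7)) :=
  gradeOK_of_fast _ _ (by decide +kernel) (by decide +kernel) fast_E7 rest_E7

set_option maxRecDepth 100000 in
theorem fast_E8 : chainFast (corTbl chevE8) chevE8.chain.toList = true := by decide +kernel
set_option maxRecDepth 100000 in
theorem rest_E8 : GradeRest chevE8 (mTbl (corTbl chevE8)) := by decide +kernel
theorem gradeOK_E8 : GradeOK chevE8 (mTbl (corTbl chevE8)) :=
  gradeOK_of_fast _ _ (by decide +kernel) (by decide +kernel) fast_E8 rest_E8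

theorem gradeOK_all (D : ChevalleyDatum)
    (hD : D ∈ [chevG2, chevB2, chevD4, chevF4, chevE6, chevE7, chevE8]) :
    ∃ m : ℕ → ℕ → ℤ, GradeOK D m := by
  simp only [List.mem_cons, List.not_mem_nil, or_false] at hD
  rcases hD with rfl | rfl | rfl | rfl | rfl | rfl | rfl
  · exact ⟨_, gradeOK_G2⟩
  · exact ⟨_, gradeOK_B2⟩
  · exact ⟨_, gradeOK_D4⟩
  · exact ⟨_, gradeOK_F4⟩
  · exact ⟨_, gradeOK_E6⟩
  · exact ⟨_, gradeOK_E7⟩
  · exact ⟨_, gradeOK_E8⟩

end Cfsg.Agent.Helper36.ChevGrade
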