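import Mathlib
import Cfsg.Agent.Lib.Helper36.ChevGrade

/-!
# The height filtration of the adjoint module (helper36)

`J = ∅` in the `J`-grading: `h_i` has height `0`, `e_s` has height `ht s`.  `Fil d` are the matrices raising the
height by at least `d`.  `x_r(t) - 1 ∈ Fil (ht r)` for positive `r`, with the entry `c_i(r) t` at `(h_i, e_{-r})`.
-/

set_option autoImplicit false

namespace Cfsg.Agent.Helper36.ChevHeight

open Cfsg.Lie Cfsg.Agent.Helper36.ChevGrade

section

variable {F : Type*} [Field F] (D : ChevalleyDatum) (m : ℕ → ℕ → ℤ)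

/-- the height of a root -/
noncomputable def ht (s : ℕ) : ℤ := gr D (∅ : Set ℕ) m s

/-- the height of a basis vector -/
noncomputable def hγ : D.Idx → ℤ := γ D (∅ : Set ℕ) m

/-- matrices raising the height by at least `d` -/
def Fil (d : ℤ) (M : Matrix D.Idx D.Idx F) : Prop :=
  ∀ row col, hγ D m row < hγ D m col + d → M row col = 0

variable {D m}

theorem hγ_inl (i : Fin D.rank) : hγ D m (Sum.inl i) = 0 := rfl

theorem hγ_inr (s : Fin D.nroots) : hγ D m (Sum.inr s) = ht D m s.val := rfl

theorem fil_mono {d d' : ℤ} (h : d' ≤ d) {M : Matrix D.Idx D.Idx F} (hM : Fil D m d M) :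
    Fil D m d' M := fun row col hlt => hM row col (by omega)

theorem fil_zero (d : ℤ) : Fil D m d (0 : Matrix D.Idx D.Idx F) := fun _ _ _ => rfl

theorem fil_add {d : ℤ} {A B : Matrix D.Idx D.Idx F} (hA : Fil D m d A) (hB : Fil D m d B) :
    Fil D m d (A + B) := by
  intro row col hlt
  rw [Matrix.add_apply, hA row col hlt, hB row col hlt, add_zero]

theorem fil_sub {d : ℤ} {A B : Matrix D.Idx D.Idx F} (hA : Fil D m d A) (hB : Fil D m d B) :
    Fil D m d (A - B) := by
  intro row col hlt
  rw [Matrix.sub_apply, hA row col hlt, hB row col hlt, sub_zero]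

theorem fil_mul {a b : ℤ} {A B : Matrix D.Idx D.Idx F} (hA : Fil D m a A) (hB : Fil D m b B) :
    Fil D m (a + b) (A * B) := by
  intro row col hlt
  rw [Matrix.mul_apply]
  apply Finset.sum_eq_zero
  intro k _
  by_cases h1 : hγ D m row < hγ D m k + a
  · rw [hA row k h1, zero_mul]
  · rw [hB k col (by omega), mul_zero]

theorem fil_one : Fil D m 0 (1 : Matrix D.Idx D.Idx F) := by
  intro row col hlt
  have hne : row ≠ col := by
    rintro rfl
    omega
  exact Matrix.one_apply_ne hne

theorem fil_diagonal (d : D.Idx → F) : Fil D m 0 (Matrix.diagonal d) := by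
  intro row col hlt
  have hne : row ≠ col := by
    rintro rfl
    omega
  exact Matrix.diagonal_apply_ne _ hne

theorem fil_of_gd {M : Matrix D.Idx D.Idx F} (h : GD D (∅ : Set ℕ) m M) : Fil D m 1 M := by
  intro row col hlt
  apply h row col
  change hγ D m row ≤ hγ D m col
  omega

/-- `1 + Fil 1 ⊆ Fil 0` -/
theorem fil_zero_of_sub_one {M : Matrix D.Idx D.Idx F} (h : Fil D m 1 (M - 1)) : Fil D m 0 M := by
  have e : M = (M - 1) + 1 := by abel
  rw [e]
  exact fil_add (fil_mono (by omega) h) fil_one

theorem ht_neg (h : GradeOK D m) (r : ℕ) (hr : r < D.nroots) : ht D m (D.neg r) = - ht D m r :=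
  gr_neg h r hr

/-- `x_r(t) - 1` raises the height by at least `ht r` -/
theorem fil_xMat_sub_one (h : GradeOK D m) (r : Fin D.nroots) (hr0 : 0 ≤ ht D m r.val) (t : F) :
    Fil D m (ht D m r.val) (D.xMat F r t - 1) := by
  intro row col hlt
  rw [Matrix.sub_apply, Matrix.one_apply, sub_eq_zero]
  unfold ChevalleyDatum.xMat
  simp only [Matrix.of_apply]
  rcases col with i | s
  · rcases row with i' | u
    · simp
    · have hu : u ≠ r := by
        rintro rfl
        rw [hγ_inr, hγ_inl] at hlt
        omega
      simp [hu]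
  · by_cases hsr : s = r
    · subst hsr
      rcases row with i' | u
      · simp
      · simp
    · simp only [hsr, if_false]
      by_cases hneg : s.val = D.negIdx.getD r.val 0
      · simp only [hneg, if_true]
        have hs : ht D m s.val = - ht D m r.val := by
          have := ht_neg h r.val r.2
          unfold ChevalleyDatum.neg at this
          rw [hneg, this]
        rcases row with i' | u
        · exfalso
          rw [hγ_inl, hγ_inr] at hlt
          omega
        · by_cases hus : u = s
          · subst hus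
            simp
          · have hur : u ≠ r := by
              rintro rfl
              rw [hγ_inr, hγ_inr] at hlt
              omega
            have : (Sum.inr u : D.Idx) ≠ Sum.inr s := fun h' => hus (Sum.inr.inj h')
            simp [hus, hur, this]
      · simp only [hneg, if_false]
        rcases row with i' | u
        · simp
        · have hnil : D.chainCoeff r.val s.val u.val = [] := by
            by_contra hc
            obtain ⟨k, hk1, hk⟩ := gr_chain (J := (∅ : Set ℕ)) h r.val s.val u.val r.2 hc
            rw [hγ_inr, hγ_inr] at hlt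
            change ht D m u.val = ht D m s.val + (k : ℤ) * ht D m r.val at hk
            have : ht D m r.val ≤ (k : ℤ) * ht D m r.val := by
              have hk' : (1 : ℤ) ≤ (k : ℤ) := by exact_mod_cast hk1
              nlinarith
            omega
          simp only [hnil, List.map_nil, List.sum_nil, add_zero]
          by_cases hus : u = s
          · subst hus
            simp
          · have : (Sum.inr u : D.Idx) ≠ Sum.inr s := fun h' => hus (Sum.inr.inj h')
            simp [hus, this]

theorem fil_x_sub_one (h : GradeOK D m) (r : ℕ) (hr : r < D.nroots) (hr0 : 0 ≤ ht D m r) (t : F) :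
    Fil D m (ht D m r) (D.x F r t - 1) := by
  unfold ChevalleyDatum.x
  rw [dif_pos hr]
  exact fil_xMat_sub_one h ⟨r, hr⟩ hr0 t

/-- the entry of `x_r(t)` at `(h_i, e_{-r})` -/
theorem x_apply_inl_neg (r : ℕ) (hr : r < D.nroots) (hn : D.neg r < D.nroots) (hne : D.neg r ≠ r)
    (i : Fin D.rank) (t : F) :
    D.x F r t (Sum.inl i) (Sum.inr ⟨D.neg r, hn⟩) =
      (((D.coroot.getD r #[]).getD i.val 0 : ℤ) : F) * t := by
  unfold ChevalleyDatum.x
  rw [dif_pos hr]
  unfold ChevalleyDatum.xMat
  simp only [Matrix.of_apply]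
  have h1 : (⟨D.neg r, hn⟩ : Fin D.nroots) ≠ ⟨r, hr⟩ := fun h' => hne (Fin.mk.inj_iff.mp h')
  rw [if_neg h1, if_pos (by rfl)]

/-- the entry of `x_r(t) - 1` at `(h_i, e_{-r})` -/
theorem x_sub_one_apply_inl_neg (r : ℕ) (hr : r < D.nroots) (hn : D.neg r < D.nroots)
    (hne : D.neg r ≠ r) (i : Fin D.rank) (t : F) :
    (D.x F r t - 1) (Sum.inl i) (Sum.inr ⟨D.neg r, hn⟩) =
      (((D.coroot.getD r #[]).getD i.val 0 : ℤ) : F) * t := by
  rw [Matrix.sub_apply, x_apply_inl_neg r hr hn hne, Matrix.one_apply_ne (by simp), sub_zero]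

/-- a root element of smaller height is not a `Fil 0`-conjugate of a root element of larger height -/
theorem no_conj (h : GradeOK D m) (r s : ℕ) (hr : r < D.nroots) (hs : s < D.nroots)
    (hr0 : 0 ≤ ht D m r) (hlt : ht D m s < ht D m r) (hn : D.neg s < D.nroots) (hne : D.neg s ≠ s)
    (b binv : Matrix D.Idx D.Idx F) (hb : Fil D m 0 b) (hbinv : Fil D m 0 binv) (t t' : F)
    (i : Fin D.rank) (hci : (((D.coroot.getD s #[]).getD i.val 0 : ℤ) : F) * t ≠ 0)
    (heq : D.x F s t - 1 = b * (D.x F r t' - 1) * binv) : False := by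
  have h1 : Fil D m (0 + ht D m r + 0) (b * (D.x F r t' - 1) * binv) :=
    fil_mul (fil_mul hb (fil_x_sub_one h r hr hr0 t')) hbinv
  rw [← heq] at h1
  have h2 := h1 (Sum.inl i) (Sum.inr ⟨D.neg s, hn⟩) (by
    rw [hγ_inl, hγ_inr]
    change 0 < ht D m (D.neg s) + (0 + ht D m r + 0)
    rw [ht_neg h s hs]
    omega)
  rw [x_sub_one_apply_inl_neg s hs hn hne] at h2
  exact hci h2

/-- conjugation by a unitriangular matrix does not change the leading coefficient of a root element -/
theorem coeff_eq_of_conj (h : GradeOK D m) (r : ℕ) (hr : r < D.nroots) (hr0 : 0 ≤ ht D m r)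
    (hn : D.neg r < D.nroots) (hne : D.neg r ≠ r)
    (u uinv : Matrix D.Idx D.Idx F) (hu : Fil D m 1 (u - 1)) (huinv : Fil D m 1 (uinv - 1))
    (huu : u * uinv = 1) (t t' : F) (heq : u * D.x F r t' * uinv = D.x F r t) (i : Fin D.rank) :
    (((D.coroot.getD r #[]).getD i.val 0 : ℤ) : F) * t' =
      (((D.coroot.getD r #[]).getD i.val 0 : ℤ) : F) * t := by
  have hM := fil_x_sub_one (F := F) h r hr hr0 t'
  have e : (D.x F r t - 1) - (D.x F r t' - 1) =
      (u - 1) * (D.x F r t' - 1) * uinv + (D.x F r t' - 1) * (uinv - 1) := by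
    rw [← heq]
    have : u * D.x F r t' * uinv - 1 = u * (D.x F r t' - 1) * uinv := by
      rw [mul_sub, sub_mul, mul_one, huu]
    rw [this]
    noncomm_ring
  have h1 : Fil D m (ht D m r + 1) ((D.x F r t - 1) - (D.x F r t' - 1)) := by
    rw [e]
    apply fil_add
    · have := fil_mul (fil_mul hu hM) (fil_zero_of_sub_one huinv)
      exact fil_mono (by omega) this
    · have := fil_mul hM huinv
      exact this
  have h2 := h1 (Sum.inl i) (Sum.inr ⟨D.neg r, hn⟩) (by
    rw [hγ_inl, hγ_inr]
    change 0 < ht D m (D.neg r) + (ht D m r + 1)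
    rw [ht_neg h r hr]
    omega)
  rw [Matrix.sub_apply, x_sub_one_apply_inl_neg r hr hn hne, x_sub_one_apply_inl_neg r hr hn hne,
    sub_eq_zero] at h2
  exact h2.symm

/-- the group of invertible matrices that do not lower the height -/
def filSubgroup (D : ChevalleyDatum) (m : ℕ → ℕ → ℤ) (F : Type*) [Field F] :
    Subgroup (GL D.Idx F) where
  carrier := {g | Fil D m 0 (g : Matrix D.Idx D.Idx F) ∧
    Fil D m 0 ((g⁻¹ : GL D.Idx F) : Matrix D.Idx D.Idx F)}
  one_mem' := by
    constructor
    · rw [Units.val_one]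
      exact fil_one
    · rw [inv_one, Units.val_one]
      exact fil_one
  mul_mem' := by
    rintro a b ⟨ha, ha'⟩ ⟨hb, hb'⟩
    constructor
    · rw [Units.val_mul]
      have := fil_mul ha hb
      rwa [add_zero] at this
    · rw [mul_inv_rev, Units.val_mul]
      have := fil_mul hb' ha'
      rwa [add_zero] at this
  inv_mem' := by
    rintro a ⟨ha, ha'⟩
    exact ⟨ha', by rw [inv_inv]; exact ha⟩

end

end Cfsg.Agent.Helper36.ChevHeight
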