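import Mathlib
import Cfsg.Agent.Lib.Helper18.ChevTorus
import Cfsg.Agent.Lib.Helper36.ChevHeight

/-!
# Table checks for the centraliser of `U_J` (helper36)

* `BezOK`: the coefficients of every coroot on the fundamental coroots have gcd `1` (Bezout table);
* `StepOK`: for `k ≠ i0` a positive root `s` involving `p_{i0}` with `w_k(s)` positive of another height;
* `PathOK`: `p_k` is the difference of two positive roots involving `p_{i0}`;
* `LinOK`: the Cartan integers are linear in the root.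
-/

set_option autoImplicit false

namespace Cfsg.Agent.Helper36.ChevHeight

open Cfsg.Lie Cfsg.Agent.Helper18 Cfsg.Agent.Helper36.ChevGrade

/-- the coefficient of the coroot of `r` on the `i`-th fundamental coroot -/
def cor (D : ChevalleyDatum) (r i : ℕ) : ℤ := (D.coroot.getD r #[]).getD i 0

/-- the height of a root, as a list sum -/
def htL (D : ChevalleyDatum) (m : ℕ → ℕ → ℤ) (s : ℕ) : ℤ := ((List.range D.rank).map (m s)).sum

def BezOK (D : ChevalleyDatum) (bez : ℕ → ℕ → ℤ) : Prop :=
  ∀ r < D.nroots, ((List.range D.rank).map fun i => bez r i * cor D r i).sum = 1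

/-- decode a table of natural numbers (offset `2`) into integer coefficients -/
def bezDec (tbl : List (List ℕ)) (r i : ℕ) : ℤ := (((tbl.getD r []).getD i 2 : ℕ) : ℤ) - 2

def StepOK (D : ChevalleyDatum) (m : ℕ → ℕ → ℤ) (tbl : List (List ℕ)) : Prop :=
  ∀ k < D.rank, ∀ i0 < D.rank, k ≠ i0 →
    D.IsPosRoot ((tbl.getD k []).getD i0 0) ∧
    D.IsPosRoot (D.reflectRoot k ((tbl.getD k []).getD i0 0)) ∧
    cor D ((tbl.getD k []).getD i0 0) i0 ≠ 0 ∧
    cor D (D.reflectRoot k ((tbl.getD k []).getD i0 0)) i0 ≠ 0 ∧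
    htL D m (D.reflectRoot k ((tbl.getD k []).getD i0 0)) ≠ htL D m ((tbl.getD k []).getD i0 0)

def PathOK (D : ChevalleyDatum) (tbl : List (List (ℕ × ℕ))) : Prop :=
  ∀ i0 < D.rank, ∀ k < D.rank, k ≠ i0 →
    D.IsPosRoot ((tbl.getD i0 []).getD k (0, 0)).1 ∧
    D.IsPosRoot ((tbl.getD i0 []).getD k (0, 0)).2 ∧
    cor D ((tbl.getD i0 []).getD k (0, 0)).1 i0 ≠ 0 ∧
    cor D ((tbl.getD i0 []).getD k (0, 0)).2 i0 ≠ 0 ∧
    ∀ i < D.rank, D.cartan i (D.simple k) =
      D.cartan i ((tbl.getD i0 []).getD k (0, 0)).1 - D.cartan i ((tbl.getD i0 []).getD k (0, 0)).2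

def LinOK (D : ChevalleyDatum) (m : ℕ → ℕ → ℤ) : Prop :=
  ∀ s < D.nroots, ∀ i < D.rank,
    D.cartan i s = ((List.range D.rank).map fun k => m s k * D.cartan i (D.simple k)).sum

instance (D : ChevalleyDatum) (bez : ℕ → ℕ → ℤ) : Decidable (BezOK D bez) := by
  unfold BezOK; infer_instance

instance (D : ChevalleyDatum) (m : ℕ → ℕ → ℤ) (tbl : List (List ℕ)) : Decidable (StepOK D m tbl) := by
  unfold StepOK; infer_instance

instance (D : ChevalleyDatum) (tbl : List (List (ℕ × ℕ))) : Decidable (PathOK D tbl) := by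
  unfold PathOK; infer_instance

instance (D : ChevalleyDatum) (m : ℕ → ℕ → ℤ) : Decidable (LinOK D m) := by
  unfold LinOK; infer_instance

/-- all the table facts -/
structure HtData (D : ChevalleyDatum) (m : ℕ → ℕ → ℤ) : Prop where
  grade : GradeOK D m
  bez : ∃ bez, BezOK D bez
  step : ∃ tbl, StepOK D m tbl
  path : ∃ tbl, PathOK D tbl
  lin : LinOK D m

section

variable {F : Type*} [Field F] {D : ChevalleyDatum} {m : ℕ → ℕ → ℤ}

theorem sum_range_eq_list (f : ℕ → ℤ) (n : ℕ) :
    ∑ i ∈ Finset.range n, f i = ((List.range n).map f).sum := by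
  induction n with
  | zero => simp
  | succ n ih =>
    rw [Finset.sum_range_succ, ih, List.range_succ, List.map_append, List.sum_append]
    simp

theorem ht_eq_htL (s : ℕ) : ht D m s = htL D m s := by
  unfold ht gr htL
  rw [← sum_range_eq_list]
  apply Finset.sum_congr _ (fun _ _ => rfl)
  ext i
  simp

/-- some coefficient of the coroot of `r` is nonzero in `F` -/
theorem exists_cor_ne_zero {bez : ℕ → ℕ → ℤ} (hb : BezOK D bez) (r : ℕ) (hr : r < D.nroots) :
    ∃ i < D.rank, ((cor D r i : ℤ) : F) ≠ 0 := by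
  by_contra hcon
  push Not at hcon
  have h1 := congrArg (fun z : ℤ => (z : F)) (hb r hr)
  simp only [Int.cast_list_sum, List.map_map, Int.cast_one] at h1
  have h2 : ((List.range D.rank).map
      ((fun z : ℤ => (z : F)) ∘ fun i => bez r i * cor D r i)).sum = 0 := by
    apply List.sum_eq_zero
    intro x hx
    rw [List.mem_map] at hx
    obtain ⟨i, hi, rfl⟩ := hx
    rw [List.mem_range] at hi
    simp only [Function.comp, Int.cast_mul, hcon i hi, mul_zero]
  rw [h2] at h1
  exact zero_ne_one h1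

theorem exists_cor_ne_zero_int {bez : ℕ → ℕ → ℤ} (hb : BezOK D bez) (r : ℕ) (hr : r < D.nroots) :
    ∃ i < D.rank, cor D r i ≠ 0 := by
  obtain ⟨i, hi, h⟩ := exists_cor_ne_zero (F := ℚ) hb r hr
  exact ⟨i, hi, fun h0 => h (by rw [h0, Int.cast_zero])⟩

/-- a root with a nonzero coroot coefficient outside `J` is not in `Φ_J` -/
theorem not_inRootSub_of_cor {J : Set ℕ} (r i0 : ℕ) (hi0 : i0 < D.rank) (hi0J : i0 ∉ J)
    (h : cor D r i0 ≠ 0) : ¬ D.InRootSub J r := fun hc => h (hc.2 i0 hi0 hi0J)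

/-! ### Characters -/

theorem prod_zpow_sub (c : ℕ → F) (hc : ∀ i, c i ≠ 0) (e ea eb : ℕ → ℤ) (l : List ℕ)
    (h : ∀ i ∈ l, e i = ea i - eb i) :
    (l.map fun i => c i ^ e i).prod =
      (l.map fun i => c i ^ ea i).prod / (l.map fun i => c i ^ eb i).prod := by
  induction l with
  | nil => simp
  | cons a l ih =>
    rw [List.map_cons, List.prod_cons, List.map_cons, List.prod_cons, List.map_cons, List.prod_cons,
      ih (fun i hi => h i (List.mem_cons_of_mem _ hi)), h a List.mem_cons_self, zpow_sub₀ (hc a),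
      mul_div_mul_comm]

theorem chi_sub (c : ℕ → F) (hc : ∀ i, c i ≠ 0) (s a b : ℕ)
    (h : ∀ i < D.rank, D.cartan i s = D.cartan i a - D.cartan i b) :
    chi D c s = chi D c a / chi D c b := by
  unfold chi
  exact prod_zpow_sub c hc _ _ _ _ (fun i hi => h i (List.mem_range.mp hi))

theorem prod_map_zpow (f : ℕ → F) (n : ℤ) (l : List ℕ) :
    (l.map fun i => f i ^ n).prod = ((l.map f).prod) ^ n := by
  induction l with
  | nil => simp
  | cons a l ih => rw [List.map_cons, List.prod_cons, ih, List.map_cons, List.prod_cons, mul_zpow]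

theorem prod_zpow_lin (c : ℕ → F) (hc : ∀ i, c i ≠ 0) (a : ℕ → ℕ → ℤ) (mm : ℕ → ℤ) (L K : List ℕ)
    (h1 : ∀ k ∈ K, (L.map fun i => c i ^ a i k).prod = 1) :
    (L.map fun i => c i ^ ((K.map fun k => mm k * a i k).sum)).prod = 1 := by
  induction K with
  | nil => simp
  | cons k K ih =>
    have e : (fun i => c i ^ (((k :: K).map fun k => mm k * a i k).sum)) =
        fun i => (c i ^ a i k) ^ mm k * c i ^ ((K.map fun k => mm k * a i k).sum) := by
      funext i
      rw [List.map_cons, List.sum_cons, zpow_add₀ (hc i), mul_comm (mm k), zpow_mul]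
    rw [e, List.prod_map_mul, ih (fun k' hk' => h1 k' (List.mem_cons_of_mem _ hk')),
      prod_map_zpow (fun i => c i ^ a i k), h1 k List.mem_cons_self, one_zpow, one_mul]

theorem chi_lin (c : ℕ → F) (hc : ∀ i, c i ≠ 0) (s : ℕ) (mm : ℕ → ℤ)
    (h : ∀ i < D.rank, D.cartan i s =
      ((List.range D.rank).map fun k => mm k * D.cartan i (D.simple k)).sum)
    (h1 : ∀ k < D.rank, chi D c (D.simple k) = 1) : chi D c s = 1 := by
  unfold chi
  have e : ((List.range D.rank).map fun i => c i ^ D.cartan i s) =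
      (List.range D.rank).map fun i => c i ^
        (((List.range D.rank).map fun k => mm k * D.cartan i (D.simple k)).sum) := by
    apply List.map_congr_left
    intro i hi
    rw [h i (List.mem_range.mp hi)]
  rw [e]
  exact prod_zpow_lin c hc (fun i k => D.cartan i (D.simple k)) mm _ _
    (fun k hk => h1 k (List.mem_range.mp hk))

/-- if the characters of all positive roots outside `Φ_J` are trivial on `h(c)`, then all characters are -/
theorem chi_eq_one_all (hH : HtData D m) (hsimpPos : ∀ i < D.rank, D.IsPosRoot (D.simple i))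
    (J : Set ℕ) (i0 : ℕ) (hi0 : i0 < D.rank) (hi0J : i0 ∉ J) (c : ℕ → F) (hc : ∀ i, c i ≠ 0)
    (h : ∀ r, D.IsPosRoot r → ¬ D.InRootSub J r → chi D c r = 1) (s : ℕ) (hs : s < D.nroots) :
    chi D c s = 1 := by
  obtain ⟨tbl, hP⟩ := hH.path
  apply chi_lin c hc s (m s) (hH.lin s hs)
  intro k hk
  by_cases hki : k = i0
  · subst hki
    exact h _ (hsimpPos k hk) (not_inRootSub_simple hH.grade k hk hi0J)
  · obtain ⟨hp1, hp2, hc1, hc2, hsub⟩ := hP i0 hi0 k hk hki
    rw [chi_sub c hc _ _ _ hsub, h _ hp1 (not_inRootSub_of_cor _ i0 hi0 hi0J hc1),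
      h _ hp2 (not_inRootSub_of_cor _ i0 hi0 hi0J hc2), div_one]

/-- the torus element is trivial when all characters are -/
theorem torMat_eq_one (c : ℕ → F) (h : ∀ s < D.nroots, chi D c s = 1) : torMat D c = 1 := by
  unfold torMat
  rw [← Matrix.diagonal_one]
  congr 1
  funext i
  rcases i with i | s
  · rfl
  · exact h s.val s.2

end

end Cfsg.Agent.Helper36.ChevHeight
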