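import Mathlib
import Cfsg.Agent.Lib.Helper36.ChevHeightChk
import Cfsg.Agent.Lib.Helper36.ChevGradeData

/-!
# Tables for the centraliser of `U_J` (helper36): Bezout coefficients of the coroots, step roots, path roots
-/

set_option autoImplicit false

namespace Cfsg.Agent.Helper36.ChevHeight

open Cfsg.Lie Cfsg.Agent.Helper36.ChevGrade

def bezG2 : List (List ℕ) :=
  [[3, 1], [2, 1], [3, 1], [1, 2], [1, 2], [2, 1], [2, 3], [3, 2], [3, 2], [1, 3], [2, 3], [3, 2]]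

def stepG2 : List (List ℕ) :=
  [[0, 6], [7, 0]]

def pathG2 : List (List (ℕ × ℕ)) :=
  [[(0, 0), (8, 7)], [(8, 6), (0, 0)]]

def bezB2 : List (List ℕ) :=
  [[2, 1], [3, 1], [1, 2], [2, 1], [2, 3], [3, 2], [3, 2], [2, 3]]

def stepB2 : List (List ℕ) :=
  [[0, 4], [5, 0]]

def pathB2 : List (List (ℕ × ℕ)) :=
  [[(0, 0), (6, 5)], [(6, 4), (0, 0)]]

def bezD4 : List (List ℕ) :=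
  [[2, 2, 2, 1], [2, 2, 2, 1], [2, 2, 1, 2], [2, 2, 2, 1], [2, 1, 2, 2], [1, 2, 2, 2], [2, 2, 2, 1], [2, 2, 1, 2], [2, 2, 2, 1], [2, 1, 2, 2], [2, 2, 1, 2], [2, 2, 2, 1], [2, 2, 2, 3], [2, 2, 3, 2], [2, 3, 2, 2], [2, 2, 2, 3], [2, 2, 3, 2], [2, 2, 2, 3], [3, 2, 2, 2], [2, 3, 2, 2], [2, 2, 2, 3], [2, 2, 3, 2], [2, 2, 2, 3], [2, 2, 2, 3]]

def stepD4 : List (List ℕ) :=
  [[0, 14, 16, 15], [18, 0, 13, 12], [19, 14, 0, 15], [19, 14, 16, 0]]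

def pathD4 : List (List (ℕ × ℕ)) :=
  [[(0, 0), (19, 18), (21, 19), (20, 19)], [(19, 14), (0, 0), (16, 14), (15, 14)], [(21, 16), (16, 13), (0, 0), (17, 16)], [(20, 15), (15, 12), (17, 15), (0, 0)]]

def bezF4 : List (List ℕ) :=
  [[2, 2, 3, 0], [2, 2, 2, 1], [2, 2, 2, 1], [2, 3, 2, 0], [2, 2, 2, 1], [2, 2, 2, 1], [2, 2, 1, 2], [2, 3, 2, 0], [3, 2, 2, 1], [3, 2, 2, 1], [3, 2, 1, 2], [2, 3, 2, 1], [2, 3, 1, 2], [2, 1, 2, 2], [1, 2, 2, 2], [2, 2, 2, 1], [2, 2, 2, 1], [2, 2, 1, 2], [2, 3, 2, 1], [2, 3, 1, 2], [2, 1, 2, 2], [2, 2, 2, 1], [2, 2, 1, 2], [2, 2, 2, 1], [2, 2, 2, 3], [2, 2, 3, 2], [2, 2, 2, 3], [2, 3, 2, 2], [2, 3, 2, 2], [2, 3, 2, 2], [2, 2, 3, 2], [2, 2, 2, 3], [2, 2, 2, 3], [3, 2, 2, 2], [2, 3, 2, 2], [2, 3, 2, 2], [2, 3, 2, 2], [3, 2,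 2, 2], [3, 2, 2, 2], [3, 2, 2, 2], [2, 3, 2, 1], [2, 2, 3, 2], [2, 2, 2, 3], [2, 2, 2, 3], [2, 3, 2, 1], [2, 2, 2, 3], [2, 2, 2, 3], [2, 2, 3, 1]]

def stepF4 : List (List ℕ) :=
  [[0, 27, 28, 29], [33, 0, 25, 26], [34, 27, 0, 24], [35, 28, 25, 0]]

def pathF4 : List (List (ℕ × ℕ)) :=
  [[(0, 0), (34, 33), (35, 34), (36, 35)], [(34, 27), (0, 0), (28, 27), (29, 28)], [(35, 28), (28, 25), (0, 0), (26, 25)], [(36, 29), (29, 26), (26, 24), (0, 0)]]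

def bezE6 : List (List ℕ) :=
  [[2, 2, 2, 2, 2, 1], [2, 2, 2, 2, 2, 1], [2, 2, 2, 2, 2, 1], [2, 2, 2, 2, 2, 1], [2, 2, 2, 2, 1, 2], [2, 2, 2, 2, 2, 1], [2, 2, 2, 2, 2, 1], [2, 2, 2, 2, 1, 2], [2, 2, 2, 2, 2, 1], [2, 2, 2, 2, 1, 2], [2, 2, 2, 1, 2, 2], [2, 2, 2, 2, 2, 1], [2, 2, 2, 2, 1, 2], [2, 2, 2, 1, 2, 2], [2, 2, 1, 2, 2, 2], [1, 2, 2, 2, 2, 2], [2, 2, 2, 2, 2, 1], [2, 2, 2, 2, 2, 1], [2, 2, 2, 2, 1, 2], [2, 2, 2, 2, 2, 1], [2, 2, 2, 2, 1, 2], [2, 2, 2, 1, 2, 2], [2, 2, 2, 2, 2, 1], [2, 2, 2, 2, 1, 2], [2, 2, 2, 1, 2, 2], [2, 1, 2, 2, 2, 2], [2, 2, 2, 2, 2, 1], [2, 2, 2, 2, 1, 2], [2, 2, 2, 1, 2, 2], [2, 2, 1, 2, 2, 2], [2, 2, 2, 2, 2, 1], [2, 2, 2, 2, 1, 2], [2, 2, 2, 1, 2, 2], [2, 2, 2, 2, 2, 1], [2, 2, 2, 2, 1, 2], [2, 2, 2, 2, 2, 1], [2,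 2, 2, 2, 2, 3], [2, 2, 2, 2, 3, 2], [2, 2, 2, 2, 2, 3], [2, 2, 2, 3, 2, 2], [2, 2, 2, 2, 3, 2], [2, 2, 2, 2, 2, 3], [2, 2, 3, 2, 2, 2], [2, 2, 2, 3, 2, 2], [2, 2, 2, 2, 3, 2], [2, 2, 2, 2, 2, 3], [2, 3, 2, 2, 2, 2], [2, 2, 2, 3, 2, 2], [2, 2, 2, 2, 3, 2], [2, 2, 2, 2, 2, 3], [2, 2, 2, 3, 2, 2], [2, 2, 2, 2, 3, 2], [2, 2, 2, 2, 2, 3], [2, 2, 2, 2, 3, 2], [2, 2, 2, 2, 2, 3], [2, 2, 2, 2, 2, 3], [3, 2, 2, 2, 2, 2], [2, 2, 3, 2, 2, 2], [2, 2, 2, 3, 2, 2], [2, 2, 2, 2, 3, 2], [2, 2, 2, 2, 2, 3], [2, 2, 2, 3, 2, 2], [2, 2, 2, 2, 3, 2], [2, 2, 2, 2, 2, 3], [2, 2, 2, 2, 3, 2], [2, 2, 2, 2, 2, 3], [2, 2, 2, 2, 2, 3], [2, 2, 2, 2, 3, 2], [2, 2, 2, 2, 2, 3], [2, 2, 2, 2, 2, 3], [2, 2, 2, 2, 2, 3], [2, 2, 2, 2, 2, 3]]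

def stepE6 : List (List ℕ) :=
  [[0, 50, 42, 43, 44, 45], [58, 0, 43, 39, 40, 41], [56, 47, 0, 39, 40, 41], [57, 46, 42, 0, 37, 38], [58, 47, 43, 39, 0, 36], [59, 48, 44, 40, 37, 0]]

def pathE6 : List (List (ℕ × ℕ)) :=
  [[(0, 0), (61, 58), (57, 56), (58, 57), (59, 58), (60, 59)], [(61, 50), (0, 0), (50, 47), (47, 46), (48, 47), (49, 48)], [(57, 42), (50, 43), (0, 0), (43, 42), (44, 43), (45, 44)], [(58, 43), (47, 39), (43, 39), (0, 0), (40, 39), (41, 40)], [(59, 44), (48, 40), (44, 40), (40, 37), (0, 0), (38, 37)], [(60, 45), (49, 41), (45, 41), (41, 38), (38, 36), (0, 0)]]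

def bezE7 : List (List ℕ) :=
  [[2, 2, 2, 2, 2, 2, 1], [2, 2, 2, 2, 2, 2, 1], [2, 2, 2, 2, 2, 2, 1], [2, 2, 2, 2, 2, 2, 1], [2, 2, 2, 2, 2, 2, 1], [2, 2, 2, 2, 2, 2, 1], [2, 2, 2, 2, 2, 1, 2], [2, 2, 2, 2, 2, 2, 1], [2, 2, 2, 2, 2, 2, 1], [2, 2, 2, 2, 2, 2, 1], [2, 2, 2, 2, 2, 1, 2], [2, 2, 2, 2, 2, 2, 1], [2, 2, 2, 2, 2, 2, 1], [2, 2, 2, 2, 2, 1, 2], [2, 2, 2, 2, 2, 2, 1], [2, 2, 2, 2, 2, 1, 2], [2, 2, 2, 2, 1, 2, 2], [2, 2, 2, 2, 2, 2, 1], [2, 2, 2, 2, 2, 2, 1], [2, 2, 2, 2, 2, 1, 2], [2, 2, 2, 2, 2, 2, 1], [2, 2, 2, 2, 2, 1, 2], [2, 2, 2, 2, 1, 2, 2], [2, 2, 2, 2, 2, 2, 1], [2, 2, 2, 2, 2, 1, 2], [2, 2, 2, 2, 1, 2, 2], [2, 2, 2, 1, 2, 2, 2], [2, 2, 2, 2, 2, 2, 1], [2, 2, 2, 2, 2, 1, 2], [2, 2, 2, 2, 1, 2, 2], [2, 2, 2, 1, 2, 2, 2], [2, 2, 1,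 2, 2, 2, 2], [1, 2, 2, 2, 2, 2, 2], [2, 2, 2, 2, 2, 2, 1], [2, 2, 2, 2, 2, 2, 1], [2, 2, 2, 2, 2, 1, 2], [2, 2, 2, 2, 2, 2, 1], [2, 2, 2, 2, 2, 1, 2], [2, 2, 2, 2, 1, 2, 2], [2, 2, 2, 2, 2, 2, 1], [2, 2, 2, 2, 2, 1, 2], [2, 2, 2, 2, 1, 2, 2], [2, 2, 2, 1, 2, 2, 2], [2, 2, 2, 2, 2, 2, 1], [2, 2, 2, 2, 2, 1, 2], [2, 2, 2, 2, 1, 2, 2], [2, 2, 2, 1, 2, 2, 2], [2, 1, 2, 2, 2, 2, 2], [2, 2, 2, 2, 2, 2, 1], [2, 2, 2, 2, 2, 1, 2], [2, 2, 2, 2, 1, 2, 2], [2, 2, 2, 1, 2, 2, 2], [2, 2, 1, 2, 2, 2, 2], [2, 2, 2, 2, 2, 2, 1], [2, 2, 2, 2, 2, 1, 2], [2, 2, 2, 2, 1, 2, 2], [2, 2, 2, 1, 2, 2, 2], [2, 2, 2, 2, 2, 2, 1], [2, 2, 2, 2, 2, 1, 2], [2, 2, 2, 2, 1, 2, 2], [2, 2, 2, 2, 2, 2, 1], [2, 2, 2, 2, 2, 1, 2], [2, 2, 2, 2, 2, 2, 1], [2, 2, 2, 2, 2, 2, 3], [2, 2,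 2, 2, 2, 3, 2], [2, 2, 2, 2, 2, 2, 3], [2, 2, 2, 2, 3, 2, 2], [2, 2, 2, 2, 2, 3, 2], [2, 2, 2, 2, 2, 2, 3], [2, 2, 2, 3, 2, 2, 2], [2, 2, 2, 2, 3, 2, 2], [2, 2, 2, 2, 2, 3, 2], [2, 2, 2, 2, 2, 2, 3], [2, 2, 3, 2, 2, 2, 2], [2, 2, 2, 3, 2, 2, 2], [2, 2, 2, 2, 3, 2, 2], [2, 2, 2, 2, 2, 3, 2], [2, 2, 2, 2, 2, 2, 3], [2, 3, 2, 2, 2, 2, 2], [2, 2, 2, 3, 2, 2, 2], [2, 2, 2, 2, 3, 2, 2], [2, 2, 2, 2, 2, 3, 2], [2, 2, 2, 2, 2, 2, 3], [2, 2, 2, 3, 2, 2, 2], [2, 2, 2, 2, 3, 2, 2], [2, 2, 2, 2, 2, 3, 2], [2, 2, 2, 2, 2, 2, 3], [2, 2, 2, 2, 3, 2, 2], [2, 2, 2, 2, 2, 3, 2], [2, 2, 2, 2, 2, 2, 3], [2, 2, 2, 2, 2, 3, 2], [2, 2, 2, 2, 2, 2, 3], [2, 2, 2, 2, 2, 2, 3], [3, 2, 2, 2, 2, 2, 2], [2, 2, 3, 2, 2, 2, 2], [2, 2, 2, 3, 2, 2, 2], [2, 2, 2, 2, 3, 2, 2], [2,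 2, 2, 2, 2, 3, 2], [2, 2, 2, 2, 2, 2, 3], [2, 2, 2, 3, 2, 2, 2], [2, 2, 2, 2, 3, 2, 2], [2, 2, 2, 2, 2, 3, 2], [2, 2, 2, 2, 2, 2, 3], [2, 2, 2, 2, 3, 2, 2], [2, 2, 2, 2, 2, 3, 2], [2, 2, 2, 2, 2, 2, 3], [2, 2, 2, 2, 2, 3, 2], [2, 2, 2, 2, 2, 2, 3], [2, 2, 2, 2, 2, 2, 3], [2, 2, 2, 2, 3, 2, 2], [2, 2, 2, 2, 2, 3, 2], [2, 2, 2, 2, 2, 2, 3], [2, 2, 2, 2, 2, 3, 2], [2, 2, 2, 2, 2, 2, 3], [2, 2, 2, 2, 2, 2, 3], [2, 2, 2, 2, 2, 3, 2], [2, 2, 2, 2, 2, 2, 3], [2, 2, 2, 2, 2, 2, 3], [2, 2, 2, 2, 2, 2, 3], [2, 2, 2, 2, 2, 3, 2], [2, 2, 2, 2, 2, 2, 3], [2, 2, 2, 2, 2, 2, 3], [2, 2, 2, 2, 2, 2, 3], [2, 2, 2, 2, 2, 2, 3], [2, 2, 2, 2, 2, 2, 3], [2, 2, 2, 2, 2, 2, 3]]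

def stepE7 : List (List ℕ) :=
  [[0, 83, 73, 74, 75, 76, 77], [95, 0, 74, 69, 70, 71, 72], [93, 79, 0, 69, 70, 71, 72], [94, 78, 73, 0, 66, 67, 68], [95, 79, 74, 69, 0, 64, 65], [96, 80, 75, 70, 66, 0, 63], [97, 81, 76, 71, 67, 64, 0]]

def pathE7 : List (List (ℕ × ℕ)) :=
  [[(0, 0), (99, 95), (94, 93), (95, 94), (96, 95), (97, 96), (98, 97)], [(99, 83), (0, 0), (83, 79), (79, 78), (80, 79), (81, 80), (82, 81)], [(94, 73), (83, 74), (0, 0), (74, 73), (75, 74), (76, 75), (77, 76)], [(95, 74), (79, 69), (74, 69), (0, 0), (70, 69), (71, 70), (72, 71)], [(96, 75), (80, 70), (75, 70), (70, 66), (0, 0), (67, 66), (68, 67)], [(97, 76), (81, 71), (76, 71), (71, 67), (67, 64), (0, 0), (65, 64)], [(98, 77), (82, 72), (77, 72), (72, 68), (68, 65), (65, 63),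 (0, 0)]]

def bezE8 : List (List ℕ) :=
  [[2, 2, 2, 2, 2, 2, 3, 0], [2, 2, 2, 2, 2, 2, 2, 1], [2, 2, 2, 2, 2, 2, 2, 1], [2, 2, 2, 2, 2, 2, 2, 1], [2, 2, 2, 2, 2, 2, 2, 1], [2, 2, 2, 2, 2, 2, 2, 1], [2, 2, 2, 2, 2, 2, 2, 1], [2, 2, 2, 2, 2, 2, 2, 1], [2, 2, 2, 2, 2, 2, 2, 1], [2, 2, 2, 2, 2, 2, 2, 1], [2, 2, 2, 2, 2, 2, 2, 1], [2, 2, 2, 2, 2, 2, 2, 1], [2, 2, 2, 2, 2, 2, 2, 1], [2, 2, 2, 2, 2, 2, 1, 2], [2, 2, 2, 2, 2, 2, 2, 1], [2, 2, 2, 2, 2, 2, 2, 1], [2, 2, 2, 2, 2, 2, 2, 1], [2, 2, 2, 2, 2, 2, 2, 1], [2, 2, 2, 2, 2, 2, 2, 1], [2, 2, 2, 2, 2, 2, 2, 1], [2, 2, 2, 2, 2, 2, 1, 2], [2, 2, 2, 2, 2, 2, 2, 1], [2, 2, 2, 2, 2, 2, 2, 1], [2, 2, 2, 2, 2, 2, 2, 1], [2, 2, 2, 2, 2, 2, 2, 1], [2, 2, 2, 2, 2, 2, 1, 2], [2, 2, 2, 2, 2, 2, 2, 1], [2, 2, 2, 2,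 2, 2, 2, 1], [2, 2, 2, 2, 2, 2, 2, 1], [2, 2, 2, 2, 2, 2, 1, 2], [2, 2, 2, 2, 2, 2, 2, 1], [2, 2, 2, 2, 2, 2, 2, 1], [2, 2, 2, 2, 2, 2, 1, 2], [2, 2, 2, 2, 2, 2, 2, 1], [2, 2, 2, 2, 2, 2, 1, 2], [2, 2, 2, 2, 2, 1, 2, 2], [2, 2, 2, 2, 2, 2, 2, 1], [2, 2, 2, 2, 2, 2, 2, 1], [2, 2, 2, 2, 2, 2, 2, 1], [2, 2, 2, 2, 2, 2, 1, 2], [2, 2, 2, 2, 2, 2, 2, 1], [2, 2, 2, 2, 2, 2, 2, 1], [2, 2, 2, 2, 2, 2, 1, 2], [2, 2, 2, 2, 2, 2, 2, 1], [2, 2, 2, 2, 2, 2, 1, 2], [2, 2, 2, 2, 2, 1, 2, 2], [2, 2, 2, 2, 2, 2, 2, 1], [2, 2, 2, 2, 2, 2, 2, 1], [2, 2, 2, 2, 2, 2, 1, 2], [2, 2, 2, 2, 2, 2, 2, 1], [2, 2, 2, 2, 2, 2, 1, 2], [2, 2, 2, 2, 2, 1, 2, 2], [2, 2, 2, 2, 2, 2, 2, 1], [2, 2, 2, 2, 2, 2, 1, 2], [2, 2, 2, 2, 2, 1, 2, 2], [2, 2, 2, 2, 1, 2, 2, 2], [2, 2, 2, 2, 2,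 2, 2, 1], [2, 2, 2, 2, 2, 2, 2, 1], [2, 2, 2, 2, 2, 2, 1, 2], [2, 2, 2, 2, 2, 2, 2, 1], [2, 2, 2, 2, 2, 2, 1, 2], [2, 2, 2, 2, 2, 1, 2, 2], [2, 2, 2, 2, 2, 2, 2, 1], [2, 2, 2, 2, 2, 2, 1, 2], [2, 2, 2, 2, 2, 1, 2, 2], [2, 2, 2, 2, 1, 2, 2, 2], [2, 2, 2, 2, 2, 2, 2, 1], [2, 2, 2, 2, 2, 2, 1, 2], [2, 2, 2, 2, 2, 1, 2, 2], [2, 2, 2, 2, 1, 2, 2, 2], [2, 2, 2, 1, 2, 2, 2, 2], [2, 2, 2, 2, 2, 2, 2, 1], [2, 2, 2, 2, 2, 2, 1, 2], [2, 2, 2, 2, 2, 1, 2, 2], [2, 2, 2, 2, 1, 2, 2, 2], [2, 2, 2, 1, 2, 2, 2, 2], [2, 2, 1, 2, 2, 2, 2, 2], [1, 2, 2, 2, 2, 2, 2, 2], [2, 2, 2, 2, 2, 2, 2, 1], [2, 2, 2, 2, 2, 2, 2, 1], [2, 2, 2, 2, 2, 2, 1, 2], [2, 2, 2, 2, 2, 2, 2, 1], [2, 2, 2, 2, 2, 2, 1, 2], [2, 2, 2, 2, 2, 1, 2, 2], [2, 2, 2, 2, 2, 2, 2, 1], [2, 2, 2, 2, 2, 2,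 1, 2], [2, 2, 2, 2, 2, 1, 2, 2], [2, 2, 2, 2, 1, 2, 2, 2], [2, 2, 2, 2, 2, 2, 2, 1], [2, 2, 2, 2, 2, 2, 1, 2], [2, 2, 2, 2, 2, 1, 2, 2], [2, 2, 2, 2, 1, 2, 2, 2], [2, 2, 2, 1, 2, 2, 2, 2], [2, 2, 2, 2, 2, 2, 2, 1], [2, 2, 2, 2, 2, 2, 1, 2], [2, 2, 2, 2, 2, 1, 2, 2], [2, 2, 2, 2, 1, 2, 2, 2], [2, 2, 2, 1, 2, 2, 2, 2], [2, 1, 2, 2, 2, 2, 2, 2], [2, 2, 2, 2, 2, 2, 2, 1], [2, 2, 2, 2, 2, 2, 1, 2], [2, 2, 2, 2, 2, 1, 2, 2], [2, 2, 2, 2, 1, 2, 2, 2], [2, 2, 2, 1, 2, 2, 2, 2], [2, 2, 1, 2, 2, 2, 2, 2], [2, 2, 2, 2, 2, 2, 2, 1], [2, 2, 2, 2, 2, 2, 1, 2], [2, 2, 2, 2, 2, 1, 2, 2], [2, 2, 2, 2, 1, 2, 2, 2], [2, 2, 2, 1, 2, 2, 2, 2], [2, 2, 2, 2, 2, 2, 2, 1], [2, 2, 2, 2, 2, 2, 1, 2], [2, 2, 2, 2, 2, 1, 2, 2], [2, 2, 2, 2, 1, 2, 2, 2], [2, 2, 2, 2, 2, 2, 2,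 1], [2, 2, 2, 2, 2, 2, 1, 2], [2, 2, 2, 2, 2, 1, 2, 2], [2, 2, 2, 2, 2, 2, 2, 1], [2, 2, 2, 2, 2, 2, 1, 2], [2, 2, 2, 2, 2, 2, 2, 1], [2, 2, 2, 2, 2, 2, 2, 3], [2, 2, 2, 2, 2, 2, 3, 2], [2, 2, 2, 2, 2, 2, 2, 3], [2, 2, 2, 2, 2, 3, 2, 2], [2, 2, 2, 2, 2, 2, 3, 2], [2, 2, 2, 2, 2, 2, 2, 3], [2, 2, 2, 2, 3, 2, 2, 2], [2, 2, 2, 2, 2, 3, 2, 2], [2, 2, 2, 2, 2, 2, 3, 2], [2, 2, 2, 2, 2, 2, 2, 3], [2, 2, 2, 3, 2, 2, 2, 2], [2, 2, 2, 2, 3, 2, 2, 2], [2, 2, 2, 2, 2, 3, 2, 2], [2, 2, 2, 2, 2, 2, 3, 2], [2, 2, 2, 2, 2, 2, 2, 3], [2, 2, 3, 2, 2, 2, 2, 2], [2, 2, 2, 3, 2, 2, 2, 2], [2, 2, 2, 2, 3, 2, 2, 2], [2, 2, 2, 2, 2, 3, 2, 2], [2, 2, 2, 2, 2, 2, 3, 2], [2, 2, 2, 2, 2, 2, 2, 3], [2, 3, 2, 2, 2, 2, 2, 2], [2, 2, 2, 3, 2, 2, 2, 2], [2, 2, 2, 2, 3, 2, 2, 2],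 [2, 2, 2, 2, 2, 3, 2, 2], [2, 2, 2, 2, 2, 2, 3, 2], [2, 2, 2, 2, 2, 2, 2, 3], [2, 2, 2, 3, 2, 2, 2, 2], [2, 2, 2, 2, 3, 2, 2, 2], [2, 2, 2, 2, 2, 3, 2, 2], [2, 2, 2, 2, 2, 2, 3, 2], [2, 2, 2, 2, 2, 2, 2, 3], [2, 2, 2, 2, 3, 2, 2, 2], [2, 2, 2, 2, 2, 3, 2, 2], [2, 2, 2, 2, 2, 2, 3, 2], [2, 2, 2, 2, 2, 2, 2, 3], [2, 2, 2, 2, 2, 3, 2, 2], [2, 2, 2, 2, 2, 2, 3, 2], [2, 2, 2, 2, 2, 2, 2, 3], [2, 2, 2, 2, 2, 2, 3, 2], [2, 2, 2, 2, 2, 2, 2, 3], [2, 2, 2, 2, 2, 2, 2, 3], [3, 2, 2, 2, 2, 2, 2, 2], [2, 2, 3, 2, 2, 2, 2, 2], [2, 2, 2, 3, 2, 2, 2, 2], [2, 2, 2, 2, 3, 2, 2, 2], [2, 2, 2, 2, 2, 3, 2, 2], [2, 2, 2, 2, 2, 2, 3, 2], [2, 2, 2, 2, 2, 2, 2, 3], [2, 2, 2, 3, 2, 2, 2, 2], [2, 2, 2, 2, 3, 2, 2, 2], [2, 2, 2, 2, 2, 3, 2, 2], [2, 2, 2, 2, 2, 2, 3, 2], [2,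 2, 2, 2, 2, 2, 2, 3], [2, 2, 2, 2, 3, 2, 2, 2], [2, 2, 2, 2, 2, 3, 2, 2], [2, 2, 2, 2, 2, 2, 3, 2], [2, 2, 2, 2, 2, 2, 2, 3], [2, 2, 2, 2, 2, 3, 2, 2], [2, 2, 2, 2, 2, 2, 3, 2], [2, 2, 2, 2, 2, 2, 2, 3], [2, 2, 2, 2, 2, 2, 3, 2], [2, 2, 2, 2, 2, 2, 2, 3], [2, 2, 2, 2, 2, 2, 2, 3], [2, 2, 2, 2, 3, 2, 2, 2], [2, 2, 2, 2, 2, 3, 2, 2], [2, 2, 2, 2, 2, 2, 3, 2], [2, 2, 2, 2, 2, 2, 2, 3], [2, 2, 2, 2, 2, 3, 2, 2], [2, 2, 2, 2, 2, 2, 3, 2], [2, 2, 2, 2, 2, 2, 2, 3], [2, 2, 2, 2, 2, 2, 3, 2], [2, 2, 2, 2, 2, 2, 2, 3], [2, 2, 2, 2, 2, 2, 2, 3], [2, 2, 2, 2, 2, 3, 2, 2], [2, 2, 2, 2, 2, 2, 3, 2], [2, 2, 2, 2, 2, 2, 2, 3], [2, 2, 2, 2, 2, 2, 3, 2], [2, 2, 2, 2, 2, 2, 2, 3], [2, 2, 2, 2, 2, 2, 2, 3], [2, 2, 2, 2, 2, 2, 3, 2], [2, 2, 2, 2, 2, 2, 2, 3], [2, 2,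 2, 2, 2, 2, 2, 3], [2, 2, 2, 2, 2, 2, 2, 3], [2, 2, 2, 2, 2, 3, 2, 2], [2, 2, 2, 2, 2, 2, 3, 2], [2, 2, 2, 2, 2, 2, 2, 3], [2, 2, 2, 2, 2, 2, 3, 2], [2, 2, 2, 2, 2, 2, 2, 3], [2, 2, 2, 2, 2, 2, 2, 3], [2, 2, 2, 2, 2, 2, 3, 2], [2, 2, 2, 2, 2, 2, 2, 3], [2, 2, 2, 2, 2, 2, 2, 3], [2, 2, 2, 2, 2, 2, 2, 3], [2, 2, 2, 2, 2, 2, 3, 2], [2, 2, 2, 2, 2, 2, 2, 3], [2, 2, 2, 2, 2, 2, 2, 3], [2, 2, 2, 2, 2, 2, 2, 3], [2, 2, 2, 2, 2, 2, 2, 3], [2, 2, 2, 2, 2, 2, 3, 2], [2, 2, 2, 2, 2, 2, 2, 3], [2, 2, 2, 2, 2, 2, 2, 3], [2, 2, 2, 2, 2, 2, 2, 3], [2, 2, 2, 2, 2, 2, 2, 3], [2, 2, 2, 2, 2, 2, 2, 3], [2, 2, 2, 2, 2, 2, 2, 3], [2, 2, 2, 2, 2, 2, 3, 2], [2, 2, 2, 2, 2, 2, 2, 3], [2, 2, 2, 2, 2, 2, 2, 3], [2, 2, 2, 2, 2, 2, 2, 3], [2, 2, 2, 2, 2, 2, 2, 3], [2, 2, 2,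 2, 2, 2, 2, 3], [2, 2, 2, 2, 2, 2, 2, 3], [2, 2, 2, 2, 2, 2, 2, 3], [2, 2, 2, 2, 2, 2, 2, 3], [2, 2, 2, 2, 2, 2, 2, 3], [2, 2, 2, 2, 2, 2, 2, 3], [2, 2, 2, 2, 2, 2, 2, 3], [2, 2, 2, 2, 2, 2, 2, 3], [2, 2, 2, 2, 2, 2, 3, 1]]

def stepE8 : List (List ℕ) :=
  [[0, 147, 135, 136, 137, 138, 139, 140], [164, 0, 136, 130, 131, 132, 133, 134], [162, 142, 0, 130, 131, 132, 133, 134], [163, 141, 135, 0, 126, 127, 128, 129], [164, 142, 136, 130, 0, 123, 124, 125], [165, 143, 137, 131, 126, 0, 121, 122], [166, 144, 138, 132, 127, 123, 0, 120], [167, 145, 139, 133, 128, 124, 121, 0]]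

def pathE8 : List (List (ℕ × ℕ)) :=
  [[(0, 0), (169, 164), (163, 162), (164, 163), (165, 164), (166, 165), (167, 166), (168, 167)], [(169, 147), (0, 0), (147, 142), (142, 141), (143, 142), (144, 143), (145, 144), (146, 145)], [(163, 135), (147, 136), (0, 0), (136, 135), (137, 136), (138, 137), (139, 138), (140, 139)], [(164, 136), (142, 130), (136, 130), (0, 0), (131, 130), (132, 131), (133, 132), (134, 133)], [(165, 137), (143, 131), (137, 131), (131, 126), (0, 0), (127, 126), (128, 127), (129, 128)], [(166, 138), (144, 132), (138, 132), (132, 127), (127, 123), (0, 0), (124, 123), (125, 124)], [(167, 139), (145, 133), (139, 133), (133, 128), (128, 124), (124, 121), (0, 0), (122, 121)], [(168, 140), (146, 134), (140, 134), (134, 129), (129, 125),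 (125, 122), (122, 120), (0, 0)]]

set_option maxRecDepth 100000 in
theorem bezOK_G2 : BezOK chevG2 (bezDec bezG2) := by decide +kernel
set_option maxRecDepth 100000 in
theorem stepOK_G2 : StepOK chevG2 (mTbl rcG2) stepG2 := by decide +kernel
set_option maxRecDepth 100000 in
theorem pathOK_G2 : PathOK chevG2 pathG2 := by decide +kernel
set_option maxRecDepth 100000 in
theorem linOK_G2 : LinOK chevG2 (mTbl rcG2) := by decide +kernel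
theorem htData_G2 : HtData chevG2 (mTbl rcG2) :=
  ⟨gradeOK_G2, ⟨_, bezOK_G2⟩, ⟨_, stepOK_G2⟩, ⟨_, pathOK_G2⟩, linOK_G2⟩

set_option maxRecDepth 100000 in
theorem bezOK_B2 : BezOK chevB2 (bezDec bezB2) := by decide +kernel
set_option maxRecDepth 100000 in
theorem stepOK_B2 : StepOK chevB2 (mTbl rcB2) stepB2 := by decide +kernel
set_option maxRecDepth 100000 in
theorem pathOK_B2 : PathOK chevB2 pathB2 := by decide +kernel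
set_option maxRecDepth 100000 in
theorem linOK_B2 : LinOK chevB2 (mTbl rcB2) := by decide +kernel
theorem htData_B2 : HtData chevB2 (mTbl rcB2) :=
  ⟨gradeOK_B2, ⟨_, bezOK_B2⟩, ⟨_, stepOK_B2⟩, ⟨_, pathOK_B2⟩, linOK_B2⟩

set_option maxRecDepth 100000 in
theorem bezOK_D4 : BezOK chevD4 (bezDec bezD4) := by decide +kernel
set_option maxRecDepth 100000 in
theorem stepOK_D4 : StepOK chevD4 (mCoroot chevD4) stepD4 := by decide +kernel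
set_option maxRecDepth 100000 in
theorem pathOK_D4 : PathOK chevD4 pathD4 := by decide +kernel
set_option maxRecDepth 100000 in
theorem linOK_D4 : LinOK chevD4 (mCoroot chevD4) := by decide +kernel
theorem htData_D4 : HtData chevD4 (mCoroot chevD4) :=
  ⟨gradeOK_D4, ⟨_, bezOK_D4⟩, ⟨_, stepOK_D4⟩, ⟨_, pathOK_D4⟩, linOK_D4⟩

set_option maxRecDepth 100000 in
theorem bezOK_F4 : BezOK chevF4 (bezDec bezF4) := by decide +kernel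
set_option maxRecDepth 100000 in
theorem stepOK_F4 : StepOK chevF4 (mTbl rcF4) stepF4 := by decide +kernel
set_option maxRecDepth 100000 in
theorem pathOK_F4 : PathOK chevF4 pathF4 := by decide +kernel
set_option maxRecDepth 100000 in
theorem linOK_F4 : LinOK chevF4 (mTbl rcF4) := by decide +kernel
theorem htData_F4 : HtData chevF4 (mTbl rcF4) :=
  ⟨gradeOK_F4, ⟨_, bezOK_F4⟩, ⟨_, stepOK_F4⟩, ⟨_, pathOK_F4⟩, linOK_F4⟩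

set_option maxRecDepth 100000 in
theorem bezOK_E6 : BezOK chevE6 (bezDec bezE6) := by decide +kernel
set_option maxRecDepth 100000 in
theorem stepOK_E6 : StepOK chevE6 (mTbl (corTbl chevE6)) stepE6 := by decide +kernel
set_option maxRecDepth 100000 in
theorem pathOK_E6 : PathOK chevE6 pathE6 := by decide +kernel
set_option maxRecDepth 100000 in
theorem linOK_E6 : LinOK chevE6 (mTbl (corTbl chevE6)) := by decide +kernel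
theorem htData_E6 : HtData chevE6 (mTbl (corTbl chevE6)) :=
  ⟨gradeOK_E6, ⟨_, bezOK_E6⟩, ⟨_, stepOK_E6⟩, ⟨_, pathOK_E6⟩, linOK_E6⟩

set_option maxRecDepth 100000 in
theorem bezOK_E7 : BezOK chevE7 (bezDec bezE7) := by decide +kernel
set_option maxRecDepth 100000 in
theorem stepOK_E7 : StepOK chevE7 (mTbl (corTbl chevE7)) stepE7 := by decide +kernel
set_option maxRecDepth 100000 in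
theorem pathOK_E7 : PathOK chevE7 pathE7 := by decide +kernel
set_option maxRecDepth 100000 in
theorem linOK_E7 : LinOK chevE7 (mTbl (corTbl chevE7)) := by decide +kernel
theorem htData_E7 : HtData chevE7 (mTbl (corTbl chevE7)) :=
  ⟨gradeOK_E7, ⟨_, bezOK_E7⟩, ⟨_, stepOK_E7⟩, ⟨_, pathOK_E7⟩, linOK_E7⟩

set_option maxRecDepth 100000 in
theorem bezOK_E8 : BezOK chevE8 (bezDec bezE8) := by decide +kernel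
set_option maxRecDepth 100000 in
theorem stepOK_E8 : StepOK chevE8 (mTbl (corTbl chevE8)) stepE8 := by decide +kernel
set_option maxRecDepth 100000 in
theorem pathOK_E8 : PathOK chevE8 pathE8 := by decide +kernel
set_option maxRecDepth 100000 in
theorem linOK_E8 : LinOK chevE8 (mTbl (corTbl chevE8)) := by decide +kernel
theorem htData_E8 : HtData chevE8 (mTbl (corTbl chevE8)) :=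
  ⟨gradeOK_E8, ⟨_, bezOK_E8⟩, ⟨_, stepOK_E8⟩, ⟨_, pathOK_E8⟩, linOK_E8⟩

theorem htData_all (D : ChevalleyDatum)
    (hD : D ∈ [chevG2, chevB2, chevD4, chevF4, chevE6, chevE7, chevE8]) :
    ∃ m : ℕ → ℕ → ℤ, HtData D m := by
  simp only [List.mem_cons, List.not_mem_nil, or_false] at hD
  rcases hD with rfl | rfl | rfl | rfl | rfl | rfl | rfl
  · exact ⟨_, htData_G2⟩
  · exact ⟨_, htData_B2⟩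
  · exact ⟨_, htData_D4⟩
  · exact ⟨_, htData_F4⟩
  · exact ⟨_, htData_E6⟩
  · exact ⟨_, htData_E7⟩
  · exact ⟨_, htData_E8⟩

end Cfsg.Agent.Helper36.ChevHeight
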