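import Mathlib
import Cfsg.Prelude.Def_ChevStructure
import Cfsg.Prelude.Def_LieTypes
import Cfsg.Prelude.Def_ChevB2

/-!
# Every root is reached from a fundamental root of its support by reflections in its support (helper36)

`tbl[r] = (j, l)`: `r = w_{l_1} ⋯ w_{l_k} (p_j)` with `j` and all letters of `l` in the support of `r`.
-/

set_option autoImplicit false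

namespace Cfsg.Agent.Helper36.ChevReachJ

open Cfsg.Lie

/-- the action of a word in the fundamental reflections on root indices (same as helper18's `permW`) -/
def pW (D : ChevalleyDatum) (l : List ℕ) (s : ℕ) : ℕ := l.foldr (fun i acc => D.reflectRoot i acc) s

def ReachOK (D : ChevalleyDatum) (tbl : List (ℕ × List ℕ)) : Prop :=
  ∀ r < D.nroots, (tbl.getD r (0, [])).1 < D.rank ∧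
    (D.coroot.getD r #[]).getD (tbl.getD r (0, [])).1 0 ≠ 0 ∧
    (∀ i ∈ (tbl.getD r (0, [])).2, i < D.rank ∧ (D.coroot.getD r #[]).getD i 0 ≠ 0) ∧
    pW D (tbl.getD r (0, [])).2 (D.simple (tbl.getD r (0, [])).1) = r

instance (D : ChevalleyDatum) (tbl : List (ℕ × List ℕ)) : Decidable (ReachOK D tbl) := by
  unfold ReachOK; infer_instance

def reachG2 : List (ℕ × List ℕ) :=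
  [(1, [1, 0, 1]), (1, [0, 1]), (0, [0, 1, 0]), (0, [1, 0]), (0, [0]), (1, [1]), (1, []), (0, []), (0, [1]), (0, [0, 1]), (1, [0]), (1, [1, 0])]

def reachB2 : List (ℕ × List ℕ) :=
  [(1, [0, 1]), (0, [1, 0]), (0, [0]), (1, [1]), (1, []), (0, []), (0, [1]), (1, [0])]

def reachD4 : List (ℕ × List ℕ) :=
  [(3, [1, 0, 2, 1, 3]), (3, [0, 2, 1, 3]), (2, [0, 1, 2]), (3, [0, 1, 3]), (1, [0, 1]), (0, [0]), (3, [2, 1, 3]), (2, [1, 2]), (3, [1, 3]), (1, [1]), (2, [2]), (3, [3]), (3, []), (2, []), (1, []), (3, [1]), (2, [1]), (3, [2, 1]), (0, []), (1, [0]), (3, [0, 1]), (2, [0, 1]), (3, [0, 2, 1]), (3, [1, 0, 2, 1])]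

def reachF4 : List (ℕ × List ℕ) :=
  [(3, [3, 2, 1, 0, 2, 1, 2, 3]), (3, [2, 1, 0, 2, 1, 2, 3]), (3, [1, 0, 2, 1, 2, 3]), (1, [0, 1, 2, 1, 0, 3, 2, 1]), (3, [0, 2, 1, 2, 3]), (3, [0, 1, 2, 3]), (2, [0, 1, 2]), (1, [1, 2, 1, 0, 3, 2, 1]), (1, [2, 1, 0, 3, 2, 1]), (1, [1, 0, 3, 2, 1]), (1, [1, 0, 2, 1]), (1, [0, 3, 2, 1]), (1, [0, 2, 1]), (1, [0, 1]), (0, [0]), (3, [2, 1, 2, 3]), (3, [1, 2, 3]), (2, [1, 2]), (1, [3, 2, 1]), (1, [2, 1]), (1, [1]), (3, [2, 3]), (2, [2]), (3, [3]), (3, []), (2, []), (3, [2]), (1, []), (1, [2]), (1, [3, 2]), (2, [1]), (3, [1, 2]), (3, [2, 1, 2]), (0, []), (1, [0]), (1, [0, 2]), (1, [0, 3, 2]), (1, [1, 0, 2]), (1, [1, 0, 3, 2]), (1, [2, 1, 0, 3, 2]), (1, [1, 2, 1, 0, 3, 2]),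 (2, [0, 1]), (3, [0, 1, 2]), (3, [0, 2, 1, 2]), (1, [0, 1, 2, 1, 0, 3, 2]), (3, [1, 0, 2, 1, 2]), (3, [2, 1, 0, 2, 1, 2]), (3, [3, 2, 1, 0, 2, 1, 2])]

def reachE6 : List (ℕ × List ℕ) :=
  [(5, [1, 3, 2, 0, 4, 3, 1, 2, 3, 4, 5]), (5, [3, 2, 0, 4, 3, 1, 2, 3, 4, 5]), (5, [2, 0, 4, 3, 1, 2, 3, 4, 5]), (5, [2, 0, 3, 1, 2, 3, 4, 5]), (4, [2, 0, 3, 1, 2, 3, 4]), (5, [0, 4, 3, 1, 2, 3, 4, 5]), (5, [0, 3, 1, 2, 3, 4, 5]), (4, [0, 3, 1, 2, 3, 4]), (5, [0, 1, 2, 3, 4, 5]), (4, [0, 1, 2, 3, 4]), (3, [0, 1, 2, 3]), (5, [0, 2, 3, 4, 5]), (4, [0, 2, 3, 4]), (3, [0, 2, 3]), (2, [0, 2]), (0, [0]), (5, [4, 3, 1, 2, 3, 4, 5]), (5, [3, 1, 2, 3, 4, 5]), (4, [3, 1, 2, 3, 4]), (5, [1, 2, 3, 4, 5]), (4, [1, 2, 3, 4]), (3, [1,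 2, 3]), (5, [1, 3, 4, 5]), (4, [1, 3, 4]), (3, [1, 3]), (1, [1]), (5, [2, 3, 4, 5]), (4, [2, 3, 4]), (3, [2, 3]), (2, [2]), (5, [3, 4, 5]), (4, [3, 4]), (3, [3]), (5, [4, 5]), (4, [4]), (5, [5]), (5, []), (4, []), (5, [4]), (3, []), (4, [3]), (5, [3, 4]), (2, []), (3, [2]), (4, [2, 3]), (5, [2, 3, 4]), (1, []), (3, [1]), (4, [1, 3]), (5, [1, 3, 4]), (3, [1, 2]), (4, [1, 2, 3]), (5, [1, 2, 3, 4]), (4, [3, 1, 2, 3]), (5, [3, 1, 2, 3, 4]), (5, [4, 3, 1, 2, 3, 4]), (0, []), (2, [0]), (3, [0, 2]), (4, [0, 2, 3]), (5, [0, 2, 3, 4]), (3, [0, 1, 2]), (4, [0, 1, 2, 3]), (5, [0, 1, 2, 3, 4]), (4, [0, 3, 1, 2, 3]), (5, [0, 3, 1, 2, 3, 4]), (5, [0, 4, 3, 1, 2, 3, 4]), (4, [2, 0, 3, 1, 2, 3]), (5, [2, 0, 3, 1, 2, 3,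 4]), (5, [2, 0, 4, 3, 1, 2, 3, 4]), (5, [3, 2, 0, 4, 3, 1, 2, 3, 4]), (5, [1, 3, 2, 0, 4, 3, 1, 2, 3, 4])]

def reachE7 : List (ℕ × List ℕ) :=
  [(6, [0, 2, 3, 1, 4, 3, 2, 0, 5, 4, 3, 1, 2, 3, 4, 5, 6]), (6, [2, 3, 1, 4, 3, 2, 0, 5, 4, 3, 1, 2, 3, 4, 5, 6]), (6, [3, 1, 4, 3, 2, 0, 5, 4, 3, 1, 2, 3, 4, 5, 6]), (6, [1, 4, 3, 2, 0, 5, 4, 3, 1, 2, 3, 4, 5, 6]), (6, [1, 3, 2, 0, 5, 4, 3, 1, 2, 3, 4, 5, 6]), (6, [1, 3, 2, 0, 4, 3, 1, 2, 3, 4, 5, 6]), (5, [1, 3, 2, 0, 4, 3, 1, 2, 3, 4, 5]), (6, [4, 3, 2, 0, 5, 4, 3, 1, 2, 3, 4, 5, 6]), (6, [3, 2, 0, 5, 4, 3, 1, 2, 3, 4, 5, 6]), (6, [3, 2, 0, 4, 3, 1, 2, 3, 4, 5, 6]), (5, [3, 2, 0, 4, 3, 1, 2, 3, 4, 5]), (6, [2, 0, 5, 4, 3, 1, 2, 3, 4, 5, 6]), (6, [2, 0, 4, 3,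 1, 2, 3, 4, 5, 6]), (5, [2, 0, 4, 3, 1, 2, 3, 4, 5]), (6, [2, 0, 3, 1, 2, 3, 4, 5, 6]), (5, [2, 0, 3, 1, 2, 3, 4, 5]), (4, [2, 0, 3, 1, 2, 3, 4]), (6, [0, 5, 4, 3, 1, 2, 3, 4, 5, 6]), (6, [0, 4, 3, 1, 2, 3, 4, 5, 6]), (5, [0, 4, 3, 1, 2, 3, 4, 5]), (6, [0, 3, 1, 2, 3, 4, 5, 6]), (5, [0, 3, 1, 2, 3, 4, 5]), (4, [0, 3, 1, 2, 3, 4]), (6, [0, 1, 2, 3, 4, 5, 6]), (5, [0, 1, 2, 3, 4, 5]), (4, [0, 1, 2, 3, 4]), (3, [0, 1, 2, 3]), (6, [0, 2, 3, 4, 5, 6]), (5, [0, 2, 3, 4, 5]), (4, [0, 2, 3, 4]), (3, [0, 2, 3]), (2, [0, 2]), (0, [0]), (6, [5, 4, 3, 1, 2, 3, 4, 5, 6]), (6, [4, 3, 1, 2, 3, 4, 5, 6]), (5, [4, 3, 1, 2, 3, 4, 5]), (6, [3, 1, 2, 3, 4, 5, 6]), (5, [3, 1, 2, 3, 4, 5]), (4, [3, 1, 2, 3, 4]), (6, [1, 2,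 3, 4, 5, 6]), (5, [1, 2, 3, 4, 5]), (4, [1, 2, 3, 4]), (3, [1, 2, 3]), (6, [1, 3, 4, 5, 6]), (5, [1, 3, 4, 5]), (4, [1, 3, 4]), (3, [1, 3]), (1, [1]), (6, [2, 3, 4, 5, 6]), (5, [2, 3, 4, 5]), (4, [2, 3, 4]), (3, [2, 3]), (2, [2]), (6, [3, 4, 5, 6]), (5, [3, 4, 5]), (4, [3, 4]), (3, [3]), (6, [4, 5, 6]), (5, [4, 5]), (4, [4]), (6, [5, 6]), (5, [5]), (6, [6]), (6, []), (5, []), (6, [5]), (4, []), (5, [4]), (6, [4, 5]), (3, []), (4, [3]), (5, [3, 4]), (6, [3, 4, 5]), (2, []), (3, [2]), (4, [2, 3]), (5, [2, 3, 4]), (6, [2, 3, 4, 5]), (1, []), (3, [1]), (4, [1, 3]), (5, [1, 3, 4]), (6, [1, 3, 4, 5]), (3, [1, 2]), (4, [1, 2, 3]), (5, [1, 2, 3, 4]), (6, [1, 2, 3, 4, 5]), (4, [3, 1, 2, 3]), (5, [3, 1, 2, 3, 4]),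 (6, [3, 1, 2, 3, 4, 5]), (5, [4, 3, 1, 2, 3, 4]), (6, [4, 3, 1, 2, 3, 4, 5]), (6, [5, 4, 3, 1, 2, 3, 4, 5]), (0, []), (2, [0]), (3, [0, 2]), (4, [0, 2, 3]), (5, [0, 2, 3, 4]), (6, [0, 2, 3, 4, 5]), (3, [0, 1, 2]), (4, [0, 1, 2, 3]), (5, [0, 1, 2, 3, 4]), (6, [0, 1, 2, 3, 4, 5]), (4, [0, 3, 1, 2, 3]), (5, [0, 3, 1, 2, 3, 4]), (6, [0, 3, 1, 2, 3, 4, 5]), (5, [0, 4, 3, 1, 2, 3, 4]), (6, [0, 4, 3, 1, 2, 3, 4, 5]), (6, [0, 5, 4, 3, 1, 2, 3, 4, 5]), (4, [2, 0, 3, 1, 2, 3]), (5, [2, 0, 3, 1, 2, 3, 4]), (6, [2, 0, 3, 1, 2, 3, 4, 5]), (5, [2, 0, 4, 3, 1, 2, 3, 4]), (6, [2, 0, 4, 3, 1, 2, 3, 4, 5]), (6, [2, 0, 5, 4, 3, 1, 2, 3, 4, 5]), (5, [3, 2, 0, 4, 3, 1, 2, 3, 4]), (6, [3, 2, 0, 4, 3, 1, 2, 3, 4, 5]), (6, [3,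 2, 0, 5, 4, 3, 1, 2, 3, 4, 5]), (6, [4, 3, 2, 0, 5, 4, 3, 1, 2, 3, 4, 5]), (5, [1, 3, 2, 0, 4, 3, 1, 2, 3, 4]), (6, [1, 3, 2, 0, 4, 3, 1, 2, 3, 4, 5]), (6, [1, 3, 2, 0, 5, 4, 3, 1, 2, 3, 4, 5]), (6, [1, 4, 3, 2, 0, 5, 4, 3, 1, 2, 3, 4, 5]), (6, [3, 1, 4, 3, 2, 0, 5, 4, 3, 1, 2, 3, 4, 5]), (6, [2, 3, 1, 4, 3, 2, 0, 5, 4, 3, 1, 2, 3, 4, 5]), (6, [0, 2, 3, 1, 4, 3, 2, 0, 5, 4, 3, 1, 2, 3, 4, 5])]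

def reachE8 : List (ℕ × List ℕ) :=
  [(7, [7, 6, 5, 4, 3, 1, 2, 0, 3, 2, 4, 3, 1, 5, 4, 3, 2, 0, 6, 5, 4, 3, 1, 2, 3, 4, 5, 6, 7]), (7, [6, 5, 4, 3, 1, 2, 0, 3, 2, 4, 3, 1, 5, 4, 3, 2, 0, 6, 5, 4, 3, 1, 2, 3, 4, 5, 6, 7]), (7, [5, 4, 3, 1, 2, 0, 3, 2, 4, 3, 1, 5, 4, 3, 2, 0, 6, 5, 4, 3, 1, 2, 3, 4, 5, 6, 7]), (7, [4, 3, 1, 2, 0, 3, 2, 4, 3, 1, 5, 4, 3, 2, 0, 6, 5, 4, 3, 1, 2, 3, 4, 5, 6, 7]), (7, [3, 1, 2, 0, 3, 2, 4, 3, 1, 5, 4, 3, 2, 0, 6, 5, 4, 3, 1, 2, 3, 4, 5, 6, 7]), (7, [1, 2, 0, 3, 2, 4, 3, 1, 5, 4, 3, 2, 0, 6, 5, 4, 3, 1, 2, 3, 4, 5, 6, 7]), (7, [0, 1, 3, 2, 4, 3, 1, 5, 4, 3, 2, 0, 6, 5, 4, 3, 1, 2, 3, 4, 5, 6, 7]), (7, [2, 0, 3, 2, 4, 3, 1, 5, 4, 3, 2, 0, 6, 5, 4, 3, 1, 2, 3, 4, 5, 6, 7]), (7,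 [0, 3, 2, 4, 3, 1, 5, 4, 3, 2, 0, 6, 5, 4, 3, 1, 2, 3, 4, 5, 6, 7]), (7, [0, 2, 4, 3, 1, 5, 4, 3, 2, 0, 6, 5, 4, 3, 1, 2, 3, 4, 5, 6, 7]), (7, [0, 2, 3, 1, 5, 4, 3, 2, 0, 6, 5, 4, 3, 1, 2, 3, 4, 5, 6, 7]), (7, [0, 2, 3, 1, 4, 3, 2, 0, 6, 5, 4, 3, 1, 2, 3, 4, 5, 6, 7]), (7, [0, 2, 3, 1, 4, 3, 2, 0, 5, 4, 3, 1, 2, 3, 4, 5, 6, 7]), (6, [0, 2, 3, 1, 4, 3, 2, 0, 5, 4, 3, 1, 2, 3, 4, 5, 6]), (7, [1, 3, 2, 4, 3, 1, 5, 4, 3, 2, 0, 6, 5, 4, 3, 1, 2, 3, 4, 5, 6, 7]), (7, [3, 2, 4, 3, 1, 5, 4, 3, 2, 0, 6, 5, 4, 3, 1, 2, 3, 4, 5, 6, 7]), (7, [2, 4, 3, 1, 5, 4, 3, 2, 0, 6, 5, 4, 3, 1, 2, 3, 4, 5, 6, 7]), (7, [2, 3, 1, 5, 4, 3, 2, 0, 6, 5, 4, 3, 1, 2, 3, 4, 5, 6, 7]), (7, [2, 3, 1, 4, 3, 2, 0, 6, 5, 4, 3, 1, 2, 3, 4,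 5, 6, 7]), (7, [2, 3, 1, 4, 3, 2, 0, 5, 4, 3, 1, 2, 3, 4, 5, 6, 7]), (6, [2, 3, 1, 4, 3, 2, 0, 5, 4, 3, 1, 2, 3, 4, 5, 6]), (7, [4, 3, 1, 5, 4, 3, 2, 0, 6, 5, 4, 3, 1, 2, 3, 4, 5, 6, 7]), (7, [3, 1, 5, 4, 3, 2, 0, 6, 5, 4, 3, 1, 2, 3, 4, 5, 6, 7]), (7, [3, 1, 4, 3, 2, 0, 6, 5, 4, 3, 1, 2, 3, 4, 5, 6, 7]), (7, [3, 1, 4, 3, 2, 0, 5, 4, 3, 1, 2, 3, 4, 5, 6, 7]), (6, [3, 1, 4, 3, 2, 0, 5, 4, 3, 1, 2, 3, 4, 5, 6]), (7, [1, 5, 4, 3, 2, 0, 6, 5, 4, 3, 1, 2, 3, 4, 5, 6, 7]), (7, [1, 4, 3, 2, 0, 6, 5, 4, 3, 1, 2, 3, 4, 5, 6, 7]), (7, [1, 4, 3, 2, 0, 5, 4, 3, 1, 2, 3, 4, 5, 6, 7]), (6, [1, 4, 3, 2, 0, 5, 4, 3, 1, 2, 3, 4, 5, 6]), (7, [1, 3, 2, 0, 6, 5, 4, 3, 1, 2, 3, 4, 5, 6, 7]), (7, [1, 3, 2, 0, 5, 4, 3, 1, 2,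 3, 4, 5, 6, 7]), (6, [1, 3, 2, 0, 5, 4, 3, 1, 2, 3, 4, 5, 6]), (7, [1, 3, 2, 0, 4, 3, 1, 2, 3, 4, 5, 6, 7]), (6, [1, 3, 2, 0, 4, 3, 1, 2, 3, 4, 5, 6]), (5, [1, 3, 2, 0, 4, 3, 1, 2, 3, 4, 5]), (7, [5, 4, 3, 2, 0, 6, 5, 4, 3, 1, 2, 3, 4, 5, 6, 7]), (7, [4, 3, 2, 0, 6, 5, 4, 3, 1, 2, 3, 4, 5, 6, 7]), (7, [4, 3, 2, 0, 5, 4, 3, 1, 2, 3, 4, 5, 6, 7]), (6, [4, 3, 2, 0, 5, 4, 3, 1, 2, 3, 4, 5, 6]), (7, [3, 2, 0, 6, 5, 4, 3, 1, 2, 3, 4, 5, 6, 7]), (7, [3, 2, 0, 5, 4, 3, 1, 2, 3, 4, 5, 6, 7]), (6, [3, 2, 0, 5, 4, 3, 1, 2, 3, 4, 5, 6]), (7, [3, 2, 0, 4, 3, 1, 2, 3, 4, 5, 6, 7]), (6, [3, 2, 0, 4, 3, 1, 2, 3, 4, 5, 6]), (5, [3, 2, 0, 4, 3, 1, 2, 3, 4, 5]), (7, [2, 0, 6, 5, 4, 3, 1, 2, 3, 4, 5, 6, 7]), (7, [2, 0, 5,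 4, 3, 1, 2, 3, 4, 5, 6, 7]), (6, [2, 0, 5, 4, 3, 1, 2, 3, 4, 5, 6]), (7, [2, 0, 4, 3, 1, 2, 3, 4, 5, 6, 7]), (6, [2, 0, 4, 3, 1, 2, 3, 4, 5, 6]), (5, [2, 0, 4, 3, 1, 2, 3, 4, 5]), (7, [2, 0, 3, 1, 2, 3, 4, 5, 6, 7]), (6, [2, 0, 3, 1, 2, 3, 4, 5, 6]), (5, [2, 0, 3, 1, 2, 3, 4, 5]), (4, [2, 0, 3, 1, 2, 3, 4]), (7, [0, 6, 5, 4, 3, 1, 2, 3, 4, 5, 6, 7]), (7, [0, 5, 4, 3, 1, 2, 3, 4, 5, 6, 7]), (6, [0, 5, 4, 3, 1, 2, 3, 4, 5, 6]), (7, [0, 4, 3, 1, 2, 3, 4, 5, 6, 7]), (6, [0, 4, 3, 1, 2, 3, 4, 5, 6]), (5, [0, 4, 3, 1, 2, 3, 4, 5]), (7, [0, 3, 1, 2, 3, 4, 5, 6, 7]), (6, [0, 3, 1, 2, 3, 4, 5, 6]), (5, [0, 3, 1, 2, 3, 4, 5]), (4, [0, 3, 1, 2, 3, 4]), (7, [0, 1, 2, 3, 4, 5, 6, 7]), (6, [0, 1, 2, 3, 4, 5, 6]), (5,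 [0, 1, 2, 3, 4, 5]), (4, [0, 1, 2, 3, 4]), (3, [0, 1, 2, 3]), (7, [0, 2, 3, 4, 5, 6, 7]), (6, [0, 2, 3, 4, 5, 6]), (5, [0, 2, 3, 4, 5]), (4, [0, 2, 3, 4]), (3, [0, 2, 3]), (2, [0, 2]), (0, [0]), (7, [6, 5, 4, 3, 1, 2, 3, 4, 5, 6, 7]), (7, [5, 4, 3, 1, 2, 3, 4, 5, 6, 7]), (6, [5, 4, 3, 1, 2, 3, 4, 5, 6]), (7, [4, 3, 1, 2, 3, 4, 5, 6, 7]), (6, [4, 3, 1, 2, 3, 4, 5, 6]), (5, [4, 3, 1, 2, 3, 4, 5]), (7, [3, 1, 2, 3, 4, 5, 6, 7]), (6, [3, 1, 2, 3, 4, 5, 6]), (5, [3, 1, 2, 3, 4, 5]), (4, [3, 1, 2, 3, 4]), (7, [1, 2, 3, 4, 5, 6, 7]), (6, [1, 2, 3, 4, 5, 6]), (5, [1, 2, 3, 4, 5]), (4, [1, 2, 3, 4]), (3, [1, 2, 3]), (7, [1, 3, 4, 5, 6, 7]), (6, [1, 3, 4, 5, 6]), (5, [1, 3, 4, 5]), (4, [1, 3, 4]), (3, [1, 3]), (1,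 [1]), (7, [2, 3, 4, 5, 6, 7]), (6, [2, 3, 4, 5, 6]), (5, [2, 3, 4, 5]), (4, [2, 3, 4]), (3, [2, 3]), (2, [2]), (7, [3, 4, 5, 6, 7]), (6, [3, 4, 5, 6]), (5, [3, 4, 5]), (4, [3, 4]), (3, [3]), (7, [4, 5, 6, 7]), (6, [4, 5, 6]), (5, [4, 5]), (4, [4]), (7, [5, 6, 7]), (6, [5, 6]), (5, [5]), (7, [6, 7]), (6, [6]), (7, [7]), (7, []), (6, []), (7, [6]), (5, []), (6, [5]), (7, [5, 6]), (4, []), (5, [4]), (6, [4, 5]), (7, [4, 5, 6]), (3, []), (4, [3]), (5, [3, 4]), (6, [3, 4, 5]), (7, [3, 4, 5, 6]), (2, []), (3, [2]), (4, [2, 3]), (5, [2, 3, 4]), (6, [2, 3, 4, 5]), (7, [2, 3, 4, 5, 6]), (1, []), (3, [1]), (4, [1, 3]), (5, [1, 3, 4]), (6, [1, 3, 4, 5]), (7, [1, 3, 4, 5, 6]), (3, [1, 2]), (4, [1, 2, 3]), (5, [1,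 2, 3, 4]), (6, [1, 2, 3, 4, 5]), (7, [1, 2, 3, 4, 5, 6]), (4, [3, 1, 2, 3]), (5, [3, 1, 2, 3, 4]), (6, [3, 1, 2, 3, 4, 5]), (7, [3, 1, 2, 3, 4, 5, 6]), (5, [4, 3, 1, 2, 3, 4]), (6, [4, 3, 1, 2, 3, 4, 5]), (7, [4, 3, 1, 2, 3, 4, 5, 6]), (6, [5, 4, 3, 1, 2, 3, 4, 5]), (7, [5, 4, 3, 1, 2, 3, 4, 5, 6]), (7, [6, 5, 4, 3, 1, 2, 3, 4, 5, 6]), (0, []), (2, [0]), (3, [0, 2]), (4, [0, 2, 3]), (5, [0, 2, 3, 4]), (6, [0, 2, 3, 4, 5]), (7, [0, 2, 3, 4, 5, 6]), (3, [0, 1, 2]), (4, [0, 1, 2, 3]), (5, [0, 1, 2, 3, 4]), (6, [0, 1, 2, 3, 4, 5]), (7, [0, 1, 2, 3, 4, 5, 6]), (4, [0, 3, 1, 2, 3]), (5, [0, 3, 1, 2, 3, 4]), (6, [0, 3, 1, 2, 3, 4, 5]), (7, [0, 3, 1, 2, 3, 4, 5, 6]), (5, [0, 4, 3, 1, 2, 3, 4]), (6, [0, 4, 3, 1,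 2, 3, 4, 5]), (7, [0, 4, 3, 1, 2, 3, 4, 5, 6]), (6, [0, 5, 4, 3, 1, 2, 3, 4, 5]), (7, [0, 5, 4, 3, 1, 2, 3, 4, 5, 6]), (7, [0, 6, 5, 4, 3, 1, 2, 3, 4, 5, 6]), (4, [2, 0, 3, 1, 2, 3]), (5, [2, 0, 3, 1, 2, 3, 4]), (6, [2, 0, 3, 1, 2, 3, 4, 5]), (7, [2, 0, 3, 1, 2, 3, 4, 5, 6]), (5, [2, 0, 4, 3, 1, 2, 3, 4]), (6, [2, 0, 4, 3, 1, 2, 3, 4, 5]), (7, [2, 0, 4, 3, 1, 2, 3, 4, 5, 6]), (6, [2, 0, 5, 4, 3, 1, 2, 3, 4, 5]), (7, [2, 0, 5, 4, 3, 1, 2, 3, 4, 5, 6]), (7, [2, 0, 6, 5, 4, 3, 1, 2, 3, 4, 5, 6]), (5, [3, 2, 0, 4, 3, 1, 2, 3, 4]), (6, [3, 2, 0, 4, 3, 1, 2, 3, 4, 5]), (7, [3, 2, 0, 4, 3, 1, 2, 3, 4, 5, 6]), (6, [3, 2, 0, 5, 4, 3, 1, 2, 3, 4, 5]), (7, [3, 2, 0, 5, 4, 3, 1, 2, 3, 4, 5, 6]), (7, [3, 2, 0, 6, 5,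 4, 3, 1, 2, 3, 4, 5, 6]), (6, [4, 3, 2, 0, 5, 4, 3, 1, 2, 3, 4, 5]), (7, [4, 3, 2, 0, 5, 4, 3, 1, 2, 3, 4, 5, 6]), (7, [4, 3, 2, 0, 6, 5, 4, 3, 1, 2, 3, 4, 5, 6]), (7, [5, 4, 3, 2, 0, 6, 5, 4, 3, 1, 2, 3, 4, 5, 6]), (5, [1, 3, 2, 0, 4, 3, 1, 2, 3, 4]), (6, [1, 3, 2, 0, 4, 3, 1, 2, 3, 4, 5]), (7, [1, 3, 2, 0, 4, 3, 1, 2, 3, 4, 5, 6]), (6, [1, 3, 2, 0, 5, 4, 3, 1, 2, 3, 4, 5]), (7, [1, 3, 2, 0, 5, 4, 3, 1, 2, 3, 4, 5, 6]), (7, [1, 3, 2, 0, 6, 5, 4, 3, 1, 2, 3, 4, 5, 6]), (6, [1, 4, 3, 2, 0, 5, 4, 3, 1, 2, 3, 4, 5]), (7, [1, 4, 3, 2, 0, 5, 4, 3, 1, 2, 3, 4, 5, 6]), (7, [1, 4, 3, 2, 0, 6, 5, 4, 3, 1, 2, 3, 4, 5, 6]), (7, [1, 5, 4, 3, 2, 0, 6, 5, 4, 3, 1, 2, 3, 4, 5, 6]), (6, [3, 1, 4, 3, 2, 0, 5, 4, 3, 1,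 2, 3, 4, 5]), (7, [3, 1, 4, 3, 2, 0, 5, 4, 3, 1, 2, 3, 4, 5, 6]), (7, [3, 1, 4, 3, 2, 0, 6, 5, 4, 3, 1, 2, 3, 4, 5, 6]), (7, [3, 1, 5, 4, 3, 2, 0, 6, 5, 4, 3, 1, 2, 3, 4, 5, 6]), (7, [4, 3, 1, 5, 4, 3, 2, 0, 6, 5, 4, 3, 1, 2, 3, 4, 5, 6]), (6, [2, 3, 1, 4, 3, 2, 0, 5, 4, 3, 1, 2, 3, 4, 5]), (7, [2, 3, 1, 4, 3, 2, 0, 5, 4, 3, 1, 2, 3, 4, 5, 6]), (7, [2, 3, 1, 4, 3, 2, 0, 6, 5, 4, 3, 1, 2, 3, 4, 5, 6]), (7, [2, 3, 1, 5, 4, 3, 2, 0, 6, 5, 4, 3, 1, 2, 3, 4, 5, 6]), (7, [2, 4, 3, 1, 5, 4, 3, 2, 0, 6, 5, 4, 3, 1, 2, 3, 4, 5, 6]), (7, [3, 2, 4, 3, 1, 5, 4, 3, 2, 0, 6, 5, 4, 3, 1, 2, 3, 4, 5, 6]), (7, [1, 3, 2, 4, 3, 1, 5, 4, 3, 2, 0, 6, 5, 4, 3, 1, 2, 3, 4, 5, 6]), (6, [0, 2, 3, 1, 4, 3, 2, 0, 5, 4, 3, 1, 2,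 3, 4, 5]), (7, [0, 2, 3, 1, 4, 3, 2, 0, 5, 4, 3, 1, 2, 3, 4, 5, 6]), (7, [0, 2, 3, 1, 4, 3, 2, 0, 6, 5, 4, 3, 1, 2, 3, 4, 5, 6]), (7, [0, 2, 3, 1, 5, 4, 3, 2, 0, 6, 5, 4, 3, 1, 2, 3, 4, 5, 6]), (7, [0, 2, 4, 3, 1, 5, 4, 3, 2, 0, 6, 5, 4, 3, 1, 2, 3, 4, 5, 6]), (7, [0, 3, 2, 4, 3, 1, 5, 4, 3, 2, 0, 6, 5, 4, 3, 1, 2, 3, 4, 5, 6]), (7, [2, 0, 3, 2, 4, 3, 1, 5, 4, 3, 2, 0, 6, 5, 4, 3, 1, 2, 3, 4, 5, 6]), (7, [0, 1, 3, 2, 4, 3, 1, 5, 4, 3, 2, 0, 6, 5, 4, 3, 1, 2, 3, 4, 5, 6]), (7, [1, 2, 0, 3, 2, 4, 3, 1, 5, 4, 3, 2, 0, 6, 5, 4, 3, 1, 2, 3, 4, 5, 6]), (7, [3, 1, 2, 0, 3, 2, 4, 3, 1, 5, 4, 3, 2, 0, 6, 5, 4, 3, 1, 2, 3, 4, 5, 6]), (7, [4, 3, 1, 2, 0, 3, 2, 4, 3, 1, 5, 4, 3, 2, 0, 6, 5, 4, 3, 1, 2, 3, 4, 5, 6]),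 (7, [5, 4, 3, 1, 2, 0, 3, 2, 4, 3, 1, 5, 4, 3, 2, 0, 6, 5, 4, 3, 1, 2, 3, 4, 5, 6]), (7, [6, 5, 4, 3, 1, 2, 0, 3, 2, 4, 3, 1, 5, 4, 3, 2, 0, 6, 5, 4, 3, 1, 2, 3, 4, 5, 6]), (7, [7, 6, 5, 4, 3, 1, 2, 0, 3, 2, 4, 3, 1, 5, 4, 3, 2, 0, 6, 5, 4, 3, 1, 2, 3, 4, 5, 6])]

set_option maxRecDepth 100000 in
theorem reachOK_G2 : ReachOK chevG2 reachG2 := by decide +kernel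

set_option maxRecDepth 100000 in
theorem reachOK_B2 : ReachOK chevB2 reachB2 := by decide +kernel

set_option maxRecDepth 100000 in
theorem reachOK_D4 : ReachOK chevD4 reachD4 := by decide +kernel

set_option maxRecDepth 100000 in
theorem reachOK_F4 : ReachOK chevF4 reachF4 := by decide +kernel

set_option maxRecDepth 100000 in
theorem reachOK_E6 : ReachOK chevE6 reachE6 := by decide +kernel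

set_option maxRecDepth 100000 in
theorem reachOK_E7 : ReachOK chevE7 reachE7 := by decide +kernel

set_option maxRecDepth 100000 in
theorem reachOK_E8 : ReachOK chevE8 reachE8 := by decide +kernel

theorem reachOK_all (D : ChevalleyDatum)
    (hD : D ∈ [chevG2, chevB2, chevD4, chevF4, chevE6, chevE7, chevE8]) :
    ∃ tbl : List (ℕ × List ℕ), ReachOK D tbl := by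
  simp only [List.mem_cons, List.not_mem_nil, or_false] at hD
  rcases hD with rfl | rfl | rfl | rfl | rfl | rfl | rfl
  · exact ⟨_, reachOK_G2⟩
  · exact ⟨_, reachOK_B2⟩
  · exact ⟨_, reachOK_D4⟩
  · exact ⟨_, reachOK_F4⟩
  · exact ⟨_, reachOK_E6⟩
  · exact ⟨_, reachOK_E7⟩
  · exact ⟨_, reachOK_E8⟩

end Cfsg.Agent.Helper36.ChevReachJ
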