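import Mathlib
import Cfsg.Agent.S1043
import Cfsg.Agent.S1047
import Cfsg.Agent.S1036
import Cfsg.Agent.S1037
import Cfsg.Agent.S0311
import Cfsg.Agent.Lib.Helper18.TorusAll
import Cfsg.Agent.Lib.Helper18.BNData
import Cfsg.Agent.Lib.Helper18.ConjAll
import Cfsg.Agent.Lib.Helper36.ChevGen
import Cfsg.Agent.Lib.Helper36.SylowNorm
import Cfsg.Agent.Lib.Helper36.ChevGradeData
import Cfsg.Agent.Lib.Helper36.ChevReachJ

/-!
# Levi decomposition of the parabolic subgroups of a Chevalley group (helper36)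

`U_J ⊓ L_J = 1` (grading argument), `U_J ⊔ L_J = P_J` (from helper18's S1047), and
`P_J ≤ N(U_J)`, `N_G(U_J) ≤ P_J`, given that the fundamental root elements `x_{±p_j}(t)`, `j ∈ J`,
normalise `U_J` (hypothesis `NormOK`, to be supplied from commutator data).
-/

set_option autoImplicit false

namespace Cfsg.Agent.Helper36.ChevLevi

open Cfsg.Lie Cfsg.Agent.S1043 Cfsg.Agent.Helper18 Cfsg.Agent.Helper36.ChevGrade
  Cfsg.Agent.Helper36.ChevReachJ

section

variable {F : Type*} [Field F] (D : ChevalleyDatum) (hD : Good D) (J : Set ℕ)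

/-! ### `U_J ⊓ L_J = 1` -/

include hD in
theorem levi_le_bd (m : ℕ → ℕ → ℤ) (h : GradeOK D m) :
    D.leviSubgroup F J ≤ bdSubgroup D J m F := by
  unfold ChevalleyDatum.leviSubgroup
  apply sup_le
  · intro g hg
    obtain ⟨tbl, hT⟩ := torusData_all D hD
    obtain ⟨c, -, hc⟩ := mem_diag_eq_torMat D hT g hg
    obtain ⟨c', -, hc'⟩ := mem_diag_eq_torMat D hT g⁻¹ (inv_mem hg)
    refine ⟨?_, ?_⟩
    · show BD D J m (g : Matrix D.Idx D.Idx F)
      rw [hc, torMat]
      exact bd_diagonal _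
    · show BD D J m ((g⁻¹ : GL D.Idx F) : Matrix D.Idx D.Idx F)
      rw [hc', torMat]
      exact bd_diagonal _
  · rw [Subgroup.closure_le]
    rintro g ⟨r, t, hr, hg⟩
    have e : g = xU D hD r t := Units.ext hg
    refine ⟨?_, ?_⟩
    · show BD D J m (g : Matrix D.Idx D.Idx F)
      rw [hg]
      exact bd_x h r hr t
    · show BD D J m ((g⁻¹ : GL D.Idx F) : Matrix D.Idx D.Idx F)
      rw [e, xU_inv, xU_val]
      exact bd_x h r hr (-t)

include hD in
theorem radical_le_gd (m : ℕ → ℕ → ℤ) (h : GradeOK D m) :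
    D.unipotentRadical F J ≤ gdSubgroup D J m F := by
  unfold ChevalleyDatum.unipotentRadical
  rw [Subgroup.closure_le]
  rintro g ⟨r, t, hr, hJ, hg⟩
  have e : g = xU D hD r t := Units.ext hg
  refine ⟨?_, ?_⟩
  · show GD D J m ((g : Matrix D.Idx D.Idx F) - 1)
    rw [hg]
    exact gd_x_sub_one h r hr hJ t
  · show GD D J m (((g⁻¹ : GL D.Idx F) : Matrix D.Idx D.Idx F) - 1)
    rw [e, xU_inv, xU_val]
    exact gd_x_sub_one h r hr hJ (-t)

include hD in
theorem radical_inf_levi : D.unipotentRadical F J ⊓ D.leviSubgroup F J = ⊥ := by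
  obtain ⟨m, h⟩ := gradeOK_all D hD
  rw [eq_bot_iff]
  intro g hg
  have h1 : g ∈ bdSubgroup D J m F ⊓ gdSubgroup D J m F :=
    ⟨levi_le_bd D hD J m h hg.2, radical_le_gd D hD J m h hg.1⟩
  rwa [bd_inf_gd] at h1

/-! ### `U_J ⊔ L_J = P_J` -/

include hD in
theorem radical_sup_levi :
    D.unipotentRadical F J ⊔ D.leviSubgroup F J = D.parabolicSubgroup F J := by
  classical
  rw [Cfsg.Agent.S1047.result D hD J]
  unfold ChevalleyDatum.unipotentRadical ChevalleyDatum.leviSubgroup
  rw [sup_left_comm]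
  congr 1
  rw [← Subgroup.closure_union]
  congr 1
  ext g
  simp only [Set.mem_union, Set.mem_ofPred_eq]
  constructor
  · rintro (⟨r, t, hr, -, hg⟩ | ⟨r, t, hr, hg⟩)
    · exact ⟨r, t, Or.inl hr, hg⟩
    · exact ⟨r, t, Or.inr hr, hg⟩
  · rintro ⟨r, t, hr | hr, hg⟩
    · by_cases hJ : D.InRootSub J r
      · exact Or.inr ⟨r, t, hJ, hg⟩
      · exact Or.inl ⟨r, t, hr, hJ, hg⟩
    · exact Or.inr ⟨r, t, hr, hg⟩

/-! ### `P_J` normalises `U_J` -/

/-- the fundamental root elements `x_{±p_j}(t)`, `j ∈ J`, normalise `U_J` -/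
def NormOK : Prop :=
  ∀ j ∈ J, j < D.rank → ∀ t : F,
    xU D hD (D.simple j) t ∈ Subgroup.normalizer (D.unipotentRadical F J : Set (GL D.Idx F)) ∧
    xU D hD (D.neg (D.simple j)) t ∈
      Subgroup.normalizer (D.unipotentRadical F J : Set (GL D.Idx F))

/-- the subgroup generated by the `x_{±p_j}(t)`, `j ∈ J` -/
def simpleSub : Subgroup (GL D.Idx F) :=
  Subgroup.closure {g | ∃ j ∈ J, j < D.rank ∧ ∃ t : F,
    g = xU D hD (D.simple j) t ∨ g = xU D hD (D.neg (D.simple j)) t}

theorem xU_simple_mem (j : ℕ) (hjJ : j ∈ J) (hj : j < D.rank) (t : F) :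
    xU D hD (D.simple j) t ∈ simpleSub (F := F) D hD J :=
  Subgroup.subset_closure ⟨j, hjJ, hj, t, Or.inl rfl⟩

theorem xU_neg_simple_mem (j : ℕ) (hjJ : j ∈ J) (hj : j < D.rank) (t : F) :
    xU D hD (D.neg (D.simple j)) t ∈ simpleSub (F := F) D hD J :=
  Subgroup.subset_closure ⟨j, hjJ, hj, t, Or.inr rfl⟩

theorem nGL_mem_simpleSub (j : ℕ) (hjJ : j ∈ J) (hj : j < D.rank) :
    nGL D hD j ∈ simpleSub (F := F) D hD J := by
  unfold nGL
  exact mul_mem (mul_mem (xU_simple_mem D hD J j hjJ hj 1) (xU_neg_simple_mem D hD J j hjJ hj (-1)))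
    (xU_simple_mem D hD J j hjJ hj 1)

theorem nWordGL_mem_simpleSub (l : List ℕ) (hl : ∀ i ∈ l, i ∈ J ∧ i < D.rank) :
    nWordGL D hD l ∈ simpleSub (F := F) D hD J := by
  induction l with
  | nil => exact one_mem _
  | cons i l ih =>
    rw [nWordGL_cons]
    exact mul_mem (nGL_mem_simpleSub D hD J i (hl i List.mem_cons_self).1 (hl i List.mem_cons_self).2)
      (ih fun k hk => hl k (List.mem_cons_of_mem _ hk))

/-- root elements for roots of `Φ_J` lie in the subgroup generated by the `x_{±p_j}(t)`, `j ∈ J` -/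
theorem xU_mem_simpleSub (r : ℕ) (hr : D.InRootSub J r) (t : F) :
    xU D hD r t ∈ simpleSub (F := F) D hD J := by
  have hB := bnFacts_all D hD
  obtain ⟨tbl, hT⟩ := reachOK_all D hD
  obtain ⟨hj, hjne, hl, hp⟩ := hT r hr.1
  set j := (tbl.getD r (0, [])).1 with hjdef
  set l := (tbl.getD r (0, [])).2 with hldef
  have hjJ : j ∈ J := by
    by_contra hnot
    exact hjne (hr.2 j hj hnot)
  have hlJ : ∀ i ∈ l, i ∈ J ∧ i < D.rank := by
    intro i hi
    refine ⟨?_, (hl i hi).1⟩
    by_contra hnot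
    exact (hl i hi).2 (hr.2 i (hl i hi).1 hnot)
  have hp' : permW D l (D.simple j) = r := hp
  rw [← hp']
  exact ChevGen.xU_permW_mem_of D hD _ (D.simple j) (hB.hsimp j hj)
    (fun t => xU_simple_mem D hD J j hjJ hj t) l (fun i hi => (hlJ i hi).2)
    (nWordGL_mem_simpleSub D hD J l hlJ) t

include hD in
/-- `H` normalises `U_J` -/
theorem diag_le_normalizer_radical :
    D.diagonalSubgroup F ≤ Subgroup.normalizer (D.unipotentRadical F J : Set (GL D.Idx F)) := by
  obtain ⟨tbl, hT⟩ := torusData_all D hD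
  have key : ∀ g ∈ D.diagonalSubgroup F, ∀ x ∈ {g : GL D.Idx F | ∃ (r : ℕ) (t : F),
      D.IsPosRoot r ∧ ¬ D.InRootSub J r ∧ (g : Matrix D.Idx D.Idx F) = D.x F r t},
      g * x * g⁻¹ ∈ Subgroup.closure {g : GL D.Idx F | ∃ (r : ℕ) (t : F),
        D.IsPosRoot r ∧ ¬ D.InRootSub J r ∧ (g : Matrix D.Idx D.Idx F) = D.x F r t} := by
    rintro g hg x ⟨r, t, hpos, hJ, hx⟩
    obtain ⟨c, hc, hgc⟩ := mem_diag_eq_torMat D hT g hg
    apply Subgroup.subset_closure
    refine ⟨r, chi D c r * t, hpos, hJ, ?_⟩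
    rw [Units.val_mul, Units.val_mul, hx, hgc,
      torMat_mul_x D r (fun i hi => hT.addOK D i hi r hpos.1) c hc t, mul_assoc, ← hgc,
      Units.mul_inv, mul_one]
  intro g hg
  unfold ChevalleyDatum.unipotentRadical
  apply SylowNorm.mem_normalizer_closure
  · exact key g hg
  · intro x hx
    have := key g⁻¹ (inv_mem hg) x hx
    rwa [inv_inv] at this

include hD in
/-- `P_J` normalises `U_J` -/
theorem parabolic_le_normalizer (hN : NormOK (F := F) D hD J) :
    D.parabolicSubgroup F J ≤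
      Subgroup.normalizer (D.unipotentRadical F J : Set (GL D.Idx F)) := by
  classical
  have hS : simpleSub (F := F) D hD J ≤
      Subgroup.normalizer (D.unipotentRadical F J : Set (GL D.Idx F)) := by
    unfold simpleSub
    rw [Subgroup.closure_le]
    rintro g ⟨j, hjJ, hj, t, rfl | rfl⟩
    · exact (hN j hjJ hj t).1
    · exact (hN j hjJ hj t).2
  unfold ChevalleyDatum.parabolicSubgroup ChevalleyDatum.borelSubgroup
  apply sup_le
  · apply sup_le
    · unfold ChevalleyDatum.posUnipotent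
      rw [Subgroup.closure_le]
      rintro g ⟨r, t, hpos, hg⟩
      have e : g = xU D hD r t := Units.ext hg
      rw [SetLike.mem_coe, e]
      by_cases hJ : D.InRootSub J r
      · exact hS (xU_mem_simpleSub D hD J r hJ t)
      · exact Subgroup.le_normalizer (Subgroup.subset_closure ⟨r, t, hpos, hJ, rfl⟩)
    · exact diag_le_normalizer_radical D hD J
  · rw [Subgroup.closure_le]
    rintro g ⟨j, hjJ, hj, hg⟩
    have e : g = nGL D hD j := Units.ext (hg.trans (nGL_val D hD j).symm)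
    rw [SetLike.mem_coe, e]
    exact hS (nGL_mem_simpleSub D hD J j hjJ hj)

/-! ### `N_G(U_J) ≤ P_J` -/

include hD in
theorem parabolic_le_group : D.parabolicSubgroup F J ≤ D.group F := by
  have h43 := Cfsg.Agent.S1043.result (F := F) D hD
  unfold ChevalleyDatum.parabolicSubgroup
  apply sup_le h43.1
  rw [Subgroup.closure_le]
  rintro g ⟨j, -, hj, hg⟩
  have hB := bnFacts_all D hD
  have e : g = nGL D hD j := Units.ext (hg.trans (nGL_val D hD j).symm)
  rw [SetLike.mem_coe, e]
  exact h43.2.1 (nGL_mem D hD j (hB.hsimp j hj))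

include hD in
/-- for `i ∉ J` the element `n_i` does not normalise `U_J` -/
theorem nGL_not_mem_normalizer_radical (i : ℕ) (hi : i < D.rank) (hiJ : i ∉ J) :
    nGL D hD i ∉ Subgroup.normalizer (D.unipotentRadical F J : Set (GL D.Idx F)) := by
  intro hn
  have hB := bnFacts_all D hD
  obtain ⟨m, hm⟩ := gradeOK_all D hD
  have hl : ∀ k ∈ [i], k < D.rank := by
    intro k hk
    rw [List.mem_singleton] at hk
    rw [hk]
    exact hi
  obtain ⟨-, η, hη, hc⟩ := nWordGL_conj (F := F) D hD hB.hrefl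
    (fun i hi s hs => conjGoal_all D hD i s hi hs) [i] hl (D.simple i) (hB.hsimp i hi)
  have h1 : nWordGL (F := F) D hD [i] = nGL D hD i := by
    rw [nWordGL_cons, nWordGL_nil, mul_one]
  have h2 : permW D [i] (D.simple i) = D.neg (D.simple i) := by
    show D.reflectRoot i (D.simple i) = _
    exact ChevGen.reflectRoot_simple D i
  rw [h1, h2] at hc
  have h3 : nGL D hD i * xU D hD (D.simple i) 1 * (nGL D hD i)⁻¹ =
      xU D hD (D.neg (D.simple i)) ((η : F) * 1) := by
    rw [mul_inv_eq_iff_eq_mul]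
    apply Units.ext
    rw [Units.val_mul, Units.val_mul, xU_val, xU_val, hc 1]
  have h4 : xU D hD (D.simple i) (1 : F) ∈ D.unipotentRadical F J :=
    Subgroup.subset_closure ⟨D.simple i, 1, hB.hsimpPos i hi,
      not_inRootSub_simple hm i hi hiJ, rfl⟩
  have h5 := ((Subgroup.mem_normalizer_iff.mp hn) _).mp h4
  rw [h3] at h5
  have hUJ : D.unipotentRadical F J ≤ D.posUnipotent F := by
    unfold ChevalleyDatum.unipotentRadical ChevalleyDatum.posUnipotent
    apply Subgroup.closure_mono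
    rintro g ⟨r, t, hpos, -, hg⟩
    exact ⟨r, t, hpos, hg⟩
  have hneg : D.IsNegRoot (D.neg (D.simple i)) := by
    rcases hB.hpn _ (hB.hnv _ (hB.hsimp i hi)) with h | h
    · exact absurd h (hB.hnegpos _ (hB.hsimpPos i hi))
    · exact h
  have h6 : xU D hD (D.neg (D.simple i)) ((η : F) * 1) ∈ D.negUnipotent F :=
    Subgroup.subset_closure ⟨D.neg (D.simple i), (η : F) * 1, hneg, rfl⟩
  have h7 : xU D hD (D.neg (D.simple i)) ((η : F) * 1) ∈
      D.borelSubgroup F ⊓ D.negUnipotent F :=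
    ⟨Subgroup.mem_sup_left (hUJ h5), h6⟩
  rw [(Cfsg.Agent.S1037.result D hD).1, Subgroup.mem_bot] at h7
  have h8 := xU_eq_one D hD hB _ (hB.hnv _ (hB.hsimp i hi)) _ h7
  rcases hη with rfl | rfl <;> simp at h8

include hD in
/-- `N_G(U_J) = P_J`, given the (B,N)-pair of the group and `NormOK` -/
theorem normalizer_radical_of
    (hBN : ∃ P : Cfsg.BNPair ↥(D.group F),
      P.B = (D.borelSubgroup F).subgroupOf (D.group F) ∧
      P.N = (D.monomialSubgroup F).subgroupOf (D.group F) ∧
      P.S = {n : ↥(D.group F) | ∃ i < D.rank,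
        ((n : GL D.Idx F) : Matrix D.Idx D.Idx F) = D.nMat F (D.simple i) 1})
    (hN : NormOK (F := F) D hD J) :
    Subgroup.normalizer (D.unipotentRadical F J : Set (GL D.Idx F)) ⊓ D.group F =
      D.parabolicSubgroup F J := by
  apply le_antisymm
  · rintro g ⟨hgN, hgG⟩
    obtain ⟨P, hPB, -, hPS⟩ := hBN
    have hBP : D.borelSubgroup F ≤ D.parabolicSubgroup F J := le_sup_left
    have hBM : P.B ≤ (Subgroup.normalizer (D.unipotentRadical F J : Set (GL D.Idx F))).subgroupOf
        (D.group F) := by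
      rw [hPB]
      intro x hx
      rw [Subgroup.mem_subgroupOf] at hx ⊢
      exact parabolic_le_normalizer D hD J hN (hBP hx)
    obtain ⟨K, hK, hM⟩ := Cfsg.Agent.S0311.result P _ hBM
    have hKJ : ∀ s ∈ K, (s : GL D.Idx F) ∈ D.parabolicSubgroup F J := by
      intro s hs
      have hsS := hK hs
      rw [hPS] at hsS
      obtain ⟨i, hi, hsi⟩ := hsS
      have h1 : s ∈ P.parabolic K := Subgroup.mem_sup_right (Subgroup.subset_closure hs)
      rw [← hM, Subgroup.mem_subgroupOf] at h1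
      have h2 : (s : GL D.Idx F) = nGL D hD i := by
        apply Units.ext
        rw [hsi, nGL_val]
      have hiJ : i ∈ J := by
        by_contra hnot
        rw [h2] at h1
        exact nGL_not_mem_normalizer_radical D hD J i hi hnot h1
      exact Subgroup.mem_sup_right (Subgroup.subset_closure ⟨i, hiJ, hi, hsi⟩)
    have h3 : (⟨g, hgG⟩ : ↥(D.group F)) ∈ P.parabolic K := by
      rw [← hM, Subgroup.mem_subgroupOf]
      exact hgN
    have h4 : P.parabolic K ≤ (D.parabolicSubgroup F J).subgroupOf (D.group F) := by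
      unfold Cfsg.BNPair.parabolic
      apply sup_le
      · rw [hPB]
        intro x hx
        rw [Subgroup.mem_subgroupOf] at hx ⊢
        exact hBP hx
      · rw [Subgroup.closure_le]
        intro s hs
        rw [SetLike.mem_coe, Subgroup.mem_subgroupOf]
        exact hKJ s hs
    have h5 := h4 h3
    rw [Subgroup.mem_subgroupOf] at h5
    exact h5
  · exact le_inf (parabolic_le_normalizer D hD J hN) (parabolic_le_group D hD J)

end

end Cfsg.Agent.Helper36.ChevLevi
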