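import Mathlib
import Cfsg.Prelude.Def_ChevStructure
import Cfsg.Prelude.Def_LieTypes
import Cfsg.Prelude.Def_ChevB2

/-!
# Supports of the roots occurring in the commutator formula with a fundamental root (helper36)
-/

set_option autoImplicit false

namespace Cfsg.Agent.Helper36.ChevSupp

open Cfsg.Lie

/-- the root `c.1` is positive and its support contains that of `s` away from `i` -/
def SuppTerm (D : ChevalleyDatum) (i s : ℕ) (c : ℕ × ℤ × ℕ × ℕ) : Prop :=
  D.IsPosRoot c.1 ∧
    ∀ i' < D.rank, i' ≠ i → (D.coroot.getD s #[]).getD i' 0 ≠ 0 →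
      (D.coroot.getD c.1 #[]).getD i' 0 ≠ 0

instance (D : ChevalleyDatum) (i s : ℕ) (c : ℕ × ℤ × ℕ × ℕ) : Decidable (SuppTerm D i s c) := by
  unfold SuppTerm; infer_instance

/-- all roots in the commutator formula for `(p, s)` satisfy `SuppTerm` -/
def SuppPair (D : ChevalleyDatum) (i p s : ℕ) : Prop :=
  D.IsPosRoot s → s ≠ D.simple i → ∀ c ∈ D.commTerms p s, SuppTerm D i s c

instance (D : ChevalleyDatum) (i p s : ℕ) : Decidable (SuppPair D i p s) := by
  unfold SuppPair; infer_instance

/-- the reflection `w_i` changes only the `i`-th coefficient -/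
def ReflSupp (D : ChevalleyDatum) (i s : ℕ) : Prop :=
  ∀ k < D.rank, k ≠ i →
    (D.coroot.getD (D.reflectRoot i s) #[]).getD k 0 = (D.coroot.getD s #[]).getD k 0

instance (D : ChevalleyDatum) (i s : ℕ) : Decidable (ReflSupp D i s) := by
  unfold ReflSupp; infer_instance

/-- for a fundamental root `p = ±p_i` and a positive root `s ≠ p_i`, every root `a p + b s` occurring in
the commutator formula for `(p, s)` is positive and its support contains that of `s` away from `i`;
the support of `p_i` is `{i}`; the reflection `w_i` changes only the `i`-th coefficient -/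
def SuppOK (D : ChevalleyDatum) : Prop :=
  (∀ i < D.rank, ∀ i' < D.rank, i' ≠ i → (D.coroot.getD (D.simple i) #[]).getD i' 0 = 0) ∧
  (∀ i < D.rank, ∀ s < D.nroots, ReflSupp D i s) ∧
  ∀ i < D.rank, ∀ p ∈ [D.simple i, D.neg (D.simple i)], ∀ s < D.nroots, SuppPair D i p s

instance (D : ChevalleyDatum) : Decidable (SuppOK D) := by
  unfold SuppOK; infer_instance

set_option maxRecDepth 100000 in
theorem suppOK_G2 : SuppOK chevG2 := by decide +kernel
set_option maxRecDepth 100000 in
theorem suppOK_B2 : SuppOK chevB2 := by decide +kernel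
set_option maxRecDepth 100000 in
theorem suppOK_D4 : SuppOK chevD4 := by decide +kernel
set_option maxRecDepth 100000 in
theorem suppOK_F4 : SuppOK chevF4 := by decide +kernel
set_option maxRecDepth 100000 in
theorem suppOK_E6 : SuppOK chevE6 := by decide +kernel
set_option maxRecDepth 100000 in
theorem suppOK_E7 : SuppOK chevE7 := by decide +kernel
set_option maxRecDepth 100000 in
theorem suppOK_E8 : SuppOK chevE8 := by decide +kernel

theorem suppOK_all (D : ChevalleyDatum)
    (hD : D ∈ [chevG2, chevB2, chevD4, chevF4, chevE6, chevE7, chevE8]) : SuppOK D := by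
  simp only [List.mem_cons, List.not_mem_nil, or_false] at hD
  rcases hD with rfl | rfl | rfl | rfl | rfl | rfl | rfl
  · exact suppOK_G2
  · exact suppOK_B2
  · exact suppOK_D4
  · exact suppOK_F4
  · exact suppOK_E6
  · exact suppOK_E7
  · exact suppOK_E8

end Cfsg.Agent.Helper36.ChevSupp
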