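import Mathlib
import Cfsg.Agent.Lib.Helper18.UiAll
import Cfsg.Agent.Lib.Helper36.ChevLevi
import Cfsg.Agent.Lib.Helper36.ChevSuppData

/-!
# The fundamental root elements `x_{±p_j}(t)`, `j ∈ J`, normalise `U_J` (helper36)

from helper18's commutator data for the pairs `(p_j, s)`, `s` positive, and conjugation by `n_j`.
-/

set_option autoImplicit false

namespace Cfsg.Agent.Helper36.ChevNormJ

open Cfsg.Lie Cfsg.Agent.S1043 Cfsg.Agent.Helper18 Cfsg.Agent.Helper36.ChevSupp
  Cfsg.Agent.Helper36.ChevLevi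

theorem mem_normalizer_of_conj_of_sq' {G : Type*} [Group G] (H : Subgroup G) (g : G)
    (h1 : ∀ h ∈ H, g * h * g⁻¹ ∈ H) (h2 : g⁻¹ * g⁻¹ ∈ Subgroup.normalizer (H : Set G)) :
    g ∈ Subgroup.normalizer (H : Set G) := by
  rw [Subgroup.mem_normalizer_iff]
  intro h
  constructor
  · exact h1 h
  · intro hh
    have h3 := ((Subgroup.mem_normalizer_iff.mp h2) _).mp hh
    have h4 := h1 _ h3
    have e : g * (g⁻¹ * g⁻¹ * (g * h * g⁻¹) * (g⁻¹ * g⁻¹)⁻¹) * g⁻¹ = h := by group
    rwa [e] at h4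

section

variable {F : Type*} [Field F] (D : ChevalleyDatum) (hD : Good D) (J : Set ℕ)

include hD in
theorem inRootSub_simple (j : ℕ) (hjJ : j ∈ J) (hj : j < D.rank) : D.InRootSub J (D.simple j) := by
  have hB := bnFacts_all D hD
  have hS := suppOK_all D hD
  exact ⟨hB.hsimp j hj, fun i hi hiJ => hS.1 j hj i hi (fun e => hiJ (e ▸ hjJ))⟩

/-- the generating set of `U_J` -/
def radSet : Set (GL D.Idx F) :=
  {g | ∃ (r : ℕ) (t : F), D.IsPosRoot r ∧ ¬ D.InRootSub J r ∧ (g : Matrix D.Idx D.Idx F) = D.x F r t}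

theorem xU_mem_radical (s : ℕ) (u : F) (hs : D.IsPosRoot s) (hsJ : ¬ D.InRootSub J s) :
    xU D hD s u ∈ D.unipotentRadical F J :=
  Subgroup.subset_closure ⟨s, u, hs, hsJ, rfl⟩

include hD in
/-- the roots in the commutator formula for `(p_j, s)` are positive and outside `Φ_J` -/
theorem commTerms_facts (j : ℕ) (hjJ : j ∈ J) (hj : j < D.rank) (s : ℕ) (hs : D.IsPosRoot s)
    (hsJ : ¬ D.InRootSub J s) :
    ∀ c ∈ D.commTerms (D.simple j) s, D.IsPosRoot c.1 ∧ ¬ D.InRootSub J c.1 := by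
  have hS := suppOK_all D hD
  have hs1 : s ≠ D.simple j := by
    rintro rfl
    exact hsJ (inRootSub_simple D hD J j hjJ hj)
  intro c hc
  obtain ⟨hpos, hsup⟩ := hS.2.2 j hj (D.simple j) List.mem_cons_self s hs.1 hs hs1 c hc
  refine ⟨hpos, fun hcJ => ?_⟩
  unfold ChevalleyDatum.InRootSub at hsJ
  push Not at hsJ
  obtain ⟨i', hi', hi'J, hne⟩ := hsJ hs.1
  have hij : i' ≠ j := fun e => hi'J (e ▸ hjJ)
  exact hsup i' hi' hij hne (hcJ.2 i' hi' hi'J)

include hD in
/-- `x_{p_j}(t)`, `j ∈ J`, normalises `U_J` -/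
theorem xU_simple_mem_normalizer_radical (j : ℕ) (hjJ : j ∈ J) (hj : j < D.rank) (t : F) :
    xU D hD (D.simple j) t ∈
      Subgroup.normalizer (D.unipotentRadical F J : Set (GL D.Idx F)) := by
  have hU := uiFacts_all D hD
  have key : ∀ (t : F) (g : GL D.Idx F), g ∈ radSet (F := F) D J →
      (xU D hD (D.simple j) t)⁻¹ * g * xU D hD (D.simple j) t ∈ D.unipotentRadical F J := by
    intro t g hg
    obtain ⟨s, u, hs, hsJ, hg⟩ := hg
    have hgs : g = xU D hD s u := Units.ext hg
    have hc := comm_of_check (F := F) D (D.simple j) s (hU.hcomm j hj s hs) t u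
    have e : (xU D hD (D.simple j) t)⁻¹ * g * xU D hD (D.simple j) t =
        xU D hD s u * wordGL D hD (D.commWord F (D.simple j) s t u) := by
      have e' : xU D hD s u * xU D hD (D.simple j) t =
          xU D hD (D.simple j) t * xU D hD s u *
            wordGL D hD (D.commWord F (D.simple j) s t u) := by
        apply Units.ext
        simp only [Units.val_mul, xU_val, wordGL_val]
        exact hc
      rw [hgs, mul_assoc, e']
      group
    rw [e]
    apply mul_mem (xU_mem_radical D hD J s u hs hsJ)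
    apply wordGL_mem
    intro p hp
    simp only [ChevalleyDatum.commWord, List.mem_map] at hp
    obtain ⟨c, hc, rfl⟩ := hp
    obtain ⟨h1, h2⟩ := commTerms_facts D hD J j hjJ hj s hs hsJ c hc
    exact xU_mem_radical D hD J _ _ h1 h2
  unfold ChevalleyDatum.unipotentRadical
  apply SylowNorm.mem_normalizer_closure
  · intro g hg
    have := key (-t) g hg
    rwa [xU_inv, neg_neg, ← xU_inv] at this
  · intro g hg
    exact key t g hg

include hD in
/-- conjugation by `n_j`, `j ∈ J`, maps `U_J` into itself -/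
theorem nGL_conj_radical (j : ℕ) (hjJ : j ∈ J) (hj : j < D.rank) (g : GL D.Idx F)
    (hg : g ∈ D.unipotentRadical F J) :
    nGL D hD j * g * (nGL D hD j)⁻¹ ∈ D.unipotentRadical F J := by
  have hB := bnFacts_all D hD
  have hS := suppOK_all D hD
  apply SylowNorm.conj_mem_closure (radSet (F := F) D J) (nGL D hD j) _ g hg
  rintro x ⟨s, u, hs, hsJ, hx⟩
  obtain ⟨η, -, hc⟩ := conjGoal_all (F := F) D hD j s hj hs.1
  have hs1 : s ≠ D.simple j := by
    rintro rfl
    exact hsJ (inRootSub_simple D hD J j hjJ hj)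
  have e : nGL D hD j * x * (nGL D hD j)⁻¹ = xU D hD (D.reflectRoot j s) ((η : F) * u) := by
    apply Units.ext
    rw [Units.val_mul, Units.val_mul, hx, nGL_val, hc u, mul_assoc, ← nGL_val D hD j, Units.mul_inv,
      mul_one, xU_val]
  rw [e]
  apply xU_mem_radical D hD J _ _ (hB.hreflPos j hj s hs hs1)
  intro hcJ
  unfold ChevalleyDatum.InRootSub at hsJ
  push Not at hsJ
  obtain ⟨i', hi', hi'J, hne⟩ := hsJ hs.1
  have hij : i' ≠ j := fun e => hi'J (e ▸ hjJ)
  apply hne
  rw [← hS.2.1 j hj s hs.1 i' hi' hij]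
  exact hcJ.2 i' hi' hi'J

include hD in
/-- `n_j`, `j ∈ J`, normalises `U_J` -/
theorem nGL_mem_normalizer_radical (j : ℕ) (hjJ : j ∈ J) (hj : j < D.rank) :
    nGL D hD j ∈ Subgroup.normalizer (D.unipotentRadical F J : Set (GL D.Idx F)) := by
  have hB := bnFacts_all D hD
  apply mem_normalizer_of_conj_of_sq' _ _ (nGL_conj_radical D hD J j hjJ hj)
  have h := nrGL_inv_sq_mem (F := F) D hD (D.simple j) (hB.hsimp j hj)
  rw [← nGL_eq_nrGL] at h
  exact diag_le_normalizer_radical D hD J h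

include hD in
/-- `x_{-p_j}(t)`, `j ∈ J`, normalises `U_J` -/
theorem xU_neg_simple_mem_normalizer_radical (j : ℕ) (hjJ : j ∈ J) (hj : j < D.rank) (t : F) :
    xU D hD (D.neg (D.simple j)) t ∈
      Subgroup.normalizer (D.unipotentRadical F J : Set (GL D.Idx F)) := by
  have hB := bnFacts_all D hD
  obtain ⟨η, hη, hc⟩ := conjGoal_all (F := F) D hD j (D.simple j) hj (hB.hsimp j hj)
  rw [ChevGen.reflectRoot_simple] at hc
  have hηη : (η : F) * ((η : F) * t) = t := by
    rcases hη with rfl | rfl <;> simp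
  have e : xU D hD (D.neg (D.simple j)) t =
      nGL D hD j * xU D hD (D.simple j) ((η : F) * t) * (nGL D hD j)⁻¹ := by
    rw [eq_mul_inv_iff_mul_eq]
    apply Units.ext
    rw [Units.val_mul, Units.val_mul, xU_val, xU_val, nGL_val, hc ((η : F) * t), hηη]
  rw [e]
  have hn := nGL_mem_normalizer_radical (F := F) D hD J j hjJ hj
  exact mul_mem (mul_mem hn (xU_simple_mem_normalizer_radical D hD J j hjJ hj _)) (inv_mem hn)

include hD in
theorem normOK_all : NormOK (F := F) D hD J := fun j hjJ hj t =>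
  ⟨xU_simple_mem_normalizer_radical D hD J j hjJ hj t,
    xU_neg_simple_mem_normalizer_radical D hD J j hjJ hj t⟩

end

end Cfsg.Agent.Helper36.ChevNormJ
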