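import Mathlib
import Cfsg.Agent.Lib.Helper36.ChevNormJ
import Cfsg.Agent.Lib.Helper36.ChevDiagChar
import Cfsg.Agent.Lib.Helper36.ChevHeightData
import Cfsg.Agent.Lib.Helper22.CharP

/-!
# The centraliser of `U_J` in the parabolic subgroup `P_J` (helper36)

`C_{P_J}(U_J) ≤ U` for a proper `J`: by the (B,N)-pair, `C B` is a parabolic subgroup `P_K`; a height argument on
the adjoint module shows `K = ∅`, so `C ≤ B = U H`, and the `H`-part is trivial.  Hence `P_J` has characteristic `p`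
and `F*(P_J) = O_p(P_J)`.
-/

set_option autoImplicit false

namespace Cfsg.Agent.Helper36.ChevCentU

open Cfsg.Lie Cfsg.Agent.S1043 Cfsg.Agent.Helper18 Cfsg.Agent.Helper36.ChevGrade
  Cfsg.Agent.Helper36.ChevHeight Cfsg.Agent.Helper36.ChevLevi Cfsg.Agent.Helper36.ChevDiagChar

section

variable {F : Type*} [Field F] (D : ChevalleyDatum) (hD : Good D)

theorem not_inRootSub_empty (m : ℕ → ℕ → ℤ) (hH : HtData D m) (r : ℕ) (hr : r < D.nroots) :
    ¬ D.InRootSub (∅ : Set ℕ) r := by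
  obtain ⟨bez, hb⟩ := hH.bez
  obtain ⟨i, hi, hne⟩ := exists_cor_ne_zero_int hb r hr
  exact not_inRootSub_of_cor r i hi (Set.notMem_empty i) hne

theorem one_le_ht (m : ℕ → ℕ → ℤ) (hH : HtData D m) (r : ℕ) (hr : D.IsPosRoot r) :
    1 ≤ ht D m r :=
  one_le_gr hH.grade r hr (not_inRootSub_empty D m hH r hr.1)

include hD in
theorem posUnipotent_le_gd (m : ℕ → ℕ → ℤ) (hH : HtData D m) :
    D.posUnipotent F ≤ gdSubgroup D (∅ : Set ℕ) m F := by
  unfold ChevalleyDatum.posUnipotent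
  rw [Subgroup.closure_le]
  rintro g ⟨r, t, hpos, hg⟩
  have e : g = xU D hD r t := Units.ext hg
  have hJ := not_inRootSub_empty D m hH r hpos.1
  refine ⟨?_, ?_⟩
  · show GD D (∅ : Set ℕ) m ((g : Matrix D.Idx D.Idx F) - 1)
    rw [hg]
    exact gd_x_sub_one hH.grade r hpos hJ t
  · show GD D (∅ : Set ℕ) m (((g⁻¹ : GL D.Idx F) : Matrix D.Idx D.Idx F) - 1)
    rw [e, xU_inv, xU_val]
    exact gd_x_sub_one hH.grade r hpos hJ (-t)

include hD in
theorem posUnipotent_fil (m : ℕ → ℕ → ℤ) (hH : HtData D m) (u : GL D.Idx F)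
    (hu : u ∈ D.posUnipotent F) :
    Fil D m 1 ((u : Matrix D.Idx D.Idx F) - 1) ∧
      Fil D m 1 (((u⁻¹ : GL D.Idx F) : Matrix D.Idx D.Idx F) - 1) := by
  obtain ⟨h1, h2⟩ := posUnipotent_le_gd D hD m hH hu
  exact ⟨fil_of_gd h1, fil_of_gd h2⟩

include hD in
theorem borel_le_fil (m : ℕ → ℕ → ℤ) (hH : HtData D m) :
    D.borelSubgroup F ≤ filSubgroup D m F := by
  unfold ChevalleyDatum.borelSubgroup
  apply sup_le
  · intro g hg
    obtain ⟨h1, h2⟩ := posUnipotent_fil D hD m hH g hg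
    exact ⟨fil_zero_of_sub_one h1, fil_zero_of_sub_one h2⟩
  · intro g hg
    obtain ⟨tbl, hT⟩ := torusData_all D hD
    obtain ⟨c, -, hc⟩ := mem_diag_eq_torMat D hT g hg
    obtain ⟨c', -, hc'⟩ := mem_diag_eq_torMat D hT g⁻¹ (inv_mem hg)
    refine ⟨?_, ?_⟩
    · show Fil D m 0 (g : Matrix D.Idx D.Idx F)
      rw [hc, torMat]
      exact fil_diagonal _
    · show Fil D m 0 ((g⁻¹ : GL D.Idx F) : Matrix D.Idx D.Idx F)
      rw [hc', torMat]
      exact fil_diagonal _

include hD in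
/-- `n_k`, `k ≠ i0 ∉ J`, is not a product of an element of `B` and an element centralising `U_J` -/
theorem nGL_ne_borel_mul_cent (m : ℕ → ℕ → ℤ) (hH : HtData D m) (J : Set ℕ) (k : ℕ) (hk : k < D.rank)
    (i0 : ℕ) (hi0 : i0 < D.rank) (hi0J : i0 ∉ J) (hki : k ≠ i0)
    (b c : GL D.Idx F) (hb : b ∈ D.borelSubgroup F)
    (hc : c ∈ Subgroup.centralizer (D.unipotentRadical F J : Set (GL D.Idx F))) :
    nGL D hD k ≠ b * c := by
  intro hn
  have hB := bnFacts_all D hD
  obtain ⟨tbl, hS⟩ := hH.step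
  obtain ⟨bez, hbez⟩ := hH.bez
  obtain ⟨hsPos, hrPos, hcs, hcr, hht⟩ := hS k hk i0 hi0 hki
  generalize (tbl.getD k []).getD i0 0 = s at hsPos hrPos hcs hcr hht
  obtain ⟨η, hη, hconj⟩ := conjGoal_all (F := F) D hD k s hk hsPos.1
  have hxs : xU D hD s (1 : F) ∈ D.unipotentRadical F J :=
    Subgroup.subset_closure ⟨s, 1, hsPos, not_inRootSub_of_cor s i0 hi0 hi0J hcs, rfl⟩
  have hcomm := (Subgroup.mem_centralizer_iff.mp hc) _ hxs
  have e1 : nGL D hD k * xU D hD s 1 * (nGL D hD k)⁻¹ =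
      xU D hD (D.reflectRoot k s) ((η : F) * 1) := by
    rw [mul_inv_eq_iff_eq_mul]
    apply Units.ext
    rw [Units.val_mul, Units.val_mul, xU_val, xU_val, nGL_val, hconj 1]
  have e2 : b * xU D hD s 1 * b⁻¹ = xU D hD (D.reflectRoot k s) ((η : F) * 1) := by
    rw [← e1, hn]
    have h1 : c * xU D hD s 1 * c⁻¹ = xU D hD s 1 := by
      rw [← hcomm, mul_inv_cancel_right]
    calc b * xU D hD s 1 * b⁻¹ = b * (c * xU D hD s 1 * c⁻¹) * b⁻¹ := by rw [h1]
      _ = b * c * xU D hD s 1 * (b * c)⁻¹ := by group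
  have hηne : ((η : F) * 1) ≠ 0 := by
    rcases hη with rfl | rfl <;> simp
  obtain ⟨hbf1, hbf2⟩ := borel_le_fil D hD m hH hb
  have e2' := congrArg (fun g : GL D.Idx F => (g : Matrix D.Idx D.Idx F)) e2
  simp only [Units.val_mul, xU_val] at e2'
  have e3 : D.x F (D.reflectRoot k s) ((η : F) * 1) - 1 =
      (b : Matrix D.Idx D.Idx F) * (D.x F s 1 - 1) * ((b⁻¹ : GL D.Idx F) : Matrix D.Idx D.Idx F) := by
    rw [← e2', mul_sub, sub_mul, mul_one, Units.mul_inv]
  have e4 : D.x F s 1 - 1 =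
      ((b⁻¹ : GL D.Idx F) : Matrix D.Idx D.Idx F) * (D.x F (D.reflectRoot k s) ((η : F) * 1) - 1) *
        (b : Matrix D.Idx D.Idx F) := by
    rw [e3]
    have h1 : ((b⁻¹ : GL D.Idx F) : Matrix D.Idx D.Idx F) * (b : Matrix D.Idx D.Idx F) = 1 :=
      Units.inv_mul b
    calc D.x F s 1 - 1 = 1 * (D.x F s 1 - 1) * 1 := by rw [one_mul, mul_one]
      _ = (((b⁻¹ : GL D.Idx F) : Matrix D.Idx D.Idx F) * (b : Matrix D.Idx D.Idx F)) *
            (D.x F s 1 - 1) *
            (((b⁻¹ : GL D.Idx F) : Matrix D.Idx D.Idx F) * (b : Matrix D.Idx D.Idx F)) := by rw [h1]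
      _ = _ := by simp only [mul_assoc]
  rw [← ht_eq_htL, ← ht_eq_htL] at hht
  have hs0 := one_le_ht D m hH s hsPos
  have hr0 := one_le_ht D m hH _ hrPos
  rcases lt_or_gt_of_ne hht with hlt | hlt
  · obtain ⟨i, hi, hci⟩ := exists_cor_ne_zero (F := F) hbez (D.reflectRoot k s) hrPos.1
    exact no_conj hH.grade s (D.reflectRoot k s) hsPos.1 hrPos.1 (by omega) hlt
      (hB.hnv _ hrPos.1) (hB.hne _ hrPos.1) _ _ hbf1 hbf2 ((η : F) * 1) 1 ⟨i, hi⟩
      (mul_ne_zero hci hηne) e3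
  · obtain ⟨i, hi, hci⟩ := exists_cor_ne_zero (F := F) hbez s hsPos.1
    exact no_conj hH.grade (D.reflectRoot k s) s hrPos.1 hsPos.1 (by omega) hlt
      (hB.hnv _ hsPos.1) (hB.hne _ hsPos.1) _ _ hbf2 hbf1 1 ((η : F) * 1) ⟨i, hi⟩
      (by rw [mul_one]; exact hci) e4

include hD in
/-- an element of `B` centralising `U_J` lies in `U` -/
theorem mem_posUnipotent_of_cent (m : ℕ → ℕ → ℤ) (hH : HtData D m) (J : Set ℕ)
    (i0 : ℕ) (hi0 : i0 < D.rank) (hi0J : i0 ∉ J) (g : GL D.Idx F) (hgB : g ∈ D.borelSubgroup F)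
    (hgC : g ∈ Subgroup.centralizer (D.unipotentRadical F J : Set (GL D.Idx F))) :
    g ∈ D.posUnipotent F := by
  have hB := bnFacts_all D hD
  obtain ⟨tbl, hT⟩ := torusData_all D hD
  obtain ⟨bez, hbez⟩ := hH.bez
  unfold ChevalleyDatum.borelSubgroup at hgB
  obtain ⟨u, hu, h, hh, rfl⟩ :=
    SylowNorm.mem_sup_of_le_normalizer _ _ (diag_le_normalizer D hT) g hgB
  obtain ⟨c, hc, hhc⟩ := mem_diag_eq_torMat D hT h hh
  obtain ⟨hu1, hu2⟩ := posUnipotent_fil D hD m hH u hu
  have hchi : ∀ r, D.IsPosRoot r → ¬ D.InRootSub J r → chi D c r = 1 := by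
    intro r hpos hJ
    have hx : xU D hD r (1 : F) ∈ D.unipotentRadical F J :=
      Subgroup.subset_closure ⟨r, 1, hpos, hJ, rfl⟩
    have hcomm := (Subgroup.mem_centralizer_iff.mp hgC) _ hx
    have e1 : (h : Matrix D.Idx D.Idx F) * D.x F r 1 =
        D.x F r (chi D c r) * (h : Matrix D.Idx D.Idx F) := by
      rw [hhc]
      have := torMat_mul_x D r (fun i hi => hT.addOK D i hi r hpos.1) c hc 1
      rwa [mul_one] at this
    have h1 := congrArg (fun g : GL D.Idx F => (g : Matrix D.Idx D.Idx F)) hcomm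
    simp only [Units.val_mul, xU_val] at h1
    have h2 : D.x F r 1 * (u : Matrix D.Idx D.Idx F) =
        (u : Matrix D.Idx D.Idx F) * D.x F r (chi D c r) := by
      have h3 : D.x F r 1 * (u : Matrix D.Idx D.Idx F) * (h : Matrix D.Idx D.Idx F) =
          (u : Matrix D.Idx D.Idx F) * D.x F r (chi D c r) * (h : Matrix D.Idx D.Idx F) := by
        rw [mul_assoc, h1, mul_assoc, e1, mul_assoc]
      have h4 := congrArg (fun M => M * ((h⁻¹ : GL D.Idx F) : Matrix D.Idx D.Idx F)) h3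
      simp only [mul_assoc, Units.mul_inv, mul_one] at h4
      exact h4
    have e2 : (u : Matrix D.Idx D.Idx F) * D.x F r (chi D c r) *
        ((u⁻¹ : GL D.Idx F) : Matrix D.Idx D.Idx F) = D.x F r 1 := by
      rw [← h2, mul_assoc, Units.mul_inv, mul_one]
    obtain ⟨i, hi, hci⟩ := exists_cor_ne_zero (F := F) hbez r hpos.1
    have h5 := coeff_eq_of_conj hH.grade r hpos.1 (by have := one_le_ht D m hH r hpos; omega)
      (hB.hnv r hpos.1) (hB.hne r hpos.1) _ _ hu1 hu2 (Units.mul_inv u) 1 (chi D c r) e2 ⟨i, hi⟩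
    have h6 := mul_left_cancel₀ hci h5
    exact h6
  have hall : ∀ s < D.nroots, chi D c s = 1 := fun s hs =>
    chi_eq_one_all hH hB.hsimpPos J i0 hi0 hi0J c hc hchi s hs
  have hh1 : h = 1 := by
    apply Units.ext
    rw [hhc, torMat_eq_one c hall]
    rfl
  rw [hh1, mul_one]
  exact hu

include hD in
/-- `C_{P_J}(U_J) ≤ U` for a proper subset `J` of the fundamental roots -/
theorem cent_radical_le_posUnipotent (hBN : HasBN F D) (J : Set ℕ) (hJ : ∃ i, i < D.rank ∧ i ∉ J) :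
    Subgroup.centralizer (D.unipotentRadical F J : Set (GL D.Idx F)) ⊓ D.parabolicSubgroup F J ≤
      D.posUnipotent F := by
  classical
  obtain ⟨i0, hi0, hi0J⟩ := hJ
  obtain ⟨m, hH⟩ := htData_all D hD
  have hPN := parabolic_le_normalizer D hD J (ChevNormJ.normOK_all (F := F) D hD J)
  have hPG := parabolic_le_group (F := F) D hD J
  have hBP : D.borelSubgroup F ≤ D.parabolicSubgroup F J := le_sup_left
  have hPC : D.parabolicSubgroup F J ≤ Subgroup.normalizer
      ((Subgroup.centralizer (D.unipotentRadical F J : Set (GL D.Idx F)) ⊓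
        D.parabolicSubgroup F J : Subgroup (GL D.Idx F)) : Set (GL D.Idx F)) := by
    have key : ∀ p ∈ D.parabolicSubgroup F J,
        ∀ c ∈ Subgroup.centralizer (D.unipotentRadical F J : Set (GL D.Idx F)) ⊓
          D.parabolicSubgroup F J,
        p * c * p⁻¹ ∈ Subgroup.centralizer (D.unipotentRadical F J : Set (GL D.Idx F)) ⊓
          D.parabolicSubgroup F J := by
      intro p hp c hc
      rw [Subgroup.mem_inf] at hc ⊢
      refine ⟨?_, mul_mem (mul_mem hp hc.2) (inv_mem hp)⟩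
      rw [Subgroup.mem_centralizer_iff]
      intro x hx
      have hx' : p⁻¹ * x * p ∈ D.unipotentRadical F J := by
        have := (Subgroup.mem_normalizer_iff.mp (hPN (inv_mem hp)) x).mp hx
        rwa [inv_inv] at this
      have h1 := (Subgroup.mem_centralizer_iff.mp hc.1) _ hx'
      calc x * (p * c * p⁻¹) = p * ((p⁻¹ * x * p) * c) * p⁻¹ := by group
        _ = p * (c * (p⁻¹ * x * p)) * p⁻¹ := by rw [h1]
        _ = p * c * p⁻¹ * x := by group
    intro p hp
    rw [Subgroup.mem_normalizer_iff]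
    intro c
    constructor
    · exact key p hp c
    · intro h
      have := key p⁻¹ (inv_mem hp) _ h
      simpa [mul_assoc] using this
  have hMP : Subgroup.centralizer (D.unipotentRadical F J : Set (GL D.Idx F)) ⊓
      D.parabolicSubgroup F J ⊔ D.borelSubgroup F ≤ D.parabolicSubgroup F J :=
    sup_le inf_le_right hBP
  obtain ⟨P, hPB, -, hPS⟩ := hBN
  have hBM : P.B ≤ (Subgroup.centralizer (D.unipotentRadical F J : Set (GL D.Idx F)) ⊓
      D.parabolicSubgroup F J ⊔ D.borelSubgroup F).subgroupOf (D.group F) := by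
    rw [hPB]
    intro x hx
    rw [Subgroup.mem_subgroupOf] at hx ⊢
    exact Subgroup.mem_sup_right hx
  obtain ⟨K, hK, hMK⟩ := Cfsg.Agent.S0311.result P _ hBM
  have hKe : K = ∅ := by
    by_contra hne
    obtain ⟨s, hs⟩ := Set.nonempty_iff_ne_empty.mpr hne
    have hsS := hK hs
    rw [hPS] at hsS
    obtain ⟨k, hk, hsk⟩ := hsS
    have h1 : s ∈ P.parabolic K := Subgroup.mem_sup_right (Subgroup.subset_closure hs)
    rw [← hMK, Subgroup.mem_subgroupOf] at h1
    have h2 : (s : GL D.Idx F) = nGL D hD k := by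
      apply Units.ext
      rw [hsk, nGL_val]
    rw [h2] at h1
    have hkJ : k ∈ J := by
      by_contra hnot
      exact nGL_not_mem_normalizer_radical D hD J k hk hnot (hPN (hMP h1))
    have hki : k ≠ i0 := fun e => hi0J (e ▸ hkJ)
    obtain ⟨c, hc, b, hb, hn⟩ :=
      SylowNorm.mem_sup_of_le_normalizer _ _ (hBP.trans hPC) _ (inv_mem h1)
    exact nGL_ne_borel_mul_cent D hD m hH J k hk i0 hi0 hi0J hki b⁻¹ c⁻¹ (inv_mem hb)
      (inv_mem hc.1) (by rw [← mul_inv_rev, ← hn, inv_inv])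
  intro g hg
  have hgM : g ∈ Subgroup.centralizer (D.unipotentRadical F J : Set (GL D.Idx F)) ⊓
      D.parabolicSubgroup F J ⊔ D.borelSubgroup F := Subgroup.mem_sup_left hg
  have hgG : g ∈ D.group F := hPG (hMP hgM)
  have h3 : (⟨g, hgG⟩ : ↥(D.group F)) ∈ P.parabolic K := by
    rw [← hMK, Subgroup.mem_subgroupOf]
    exact hgM
  rw [hKe] at h3
  unfold Cfsg.BNPair.parabolic at h3
  rw [Subgroup.closure_empty, sup_bot_eq, hPB, Subgroup.mem_subgroupOf] at h3
  exact mem_posUnipotent_of_cent D hD m hH J i0 hi0 hi0J g h3 hg.1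

end

section

variable {F : Type*} [Field F] (D : ChevalleyDatum) (hD : Good D)
  (p : ℕ) [Fact p.Prime] [CharP F p]

include hD in
/-- a proper parabolic subgroup has characteristic `p` -/
theorem isCharP_parabolic (hBN : HasBN F D) (J : Set ℕ) (hJ : ∃ i, i < D.rank ∧ i ∉ J) :
    Cfsg.Agent.Helper54.IsCharP p ↥(D.parabolicSubgroup F J) := by
  have hPN := parabolic_le_normalizer D hD J (ChevNormJ.normOK_all (F := F) D hD J)
  have hUp : IsPGroup p (D.posUnipotent F) := isPGroup_posUnipotent D hD p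
  have hUJ : D.unipotentRadical F J ≤ D.posUnipotent F := by
    unfold ChevalleyDatum.unipotentRadical ChevalleyDatum.posUnipotent
    apply Subgroup.closure_mono
    rintro g ⟨r, t, hpos, -, hg⟩
    exact ⟨r, t, hpos, hg⟩
  have hUJP : D.unipotentRadical F J ≤ D.parabolicSubgroup F J :=
    hUJ.trans (le_sup_left.trans le_sup_left)
  have hQn : ((D.unipotentRadical F J).subgroupOf (D.parabolicSubgroup F J)).Normal :=
    Subgroup.normal_subgroupOf_of_le_normalizer hPN
  have hpow : ∀ (S : Subgroup ↥(D.parabolicSubgroup F J)),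
      (∀ x ∈ S, (x : GL D.Idx F) ∈ D.posUnipotent F) → IsPGroup p S := by
    intro S hS x
    obtain ⟨k, hk⟩ := hUp ⟨(x : ↥(D.parabolicSubgroup F J)), hS x x.2⟩
    refine ⟨k, ?_⟩
    apply Subtype.ext
    apply Subtype.ext
    have := congrArg Subtype.val hk
    simpa using this
  have hQp : IsPGroup p ((D.unipotentRadical F J).subgroupOf (D.parabolicSubgroup F J)) :=
    hpow _ (fun x hx => hUJ (Subgroup.mem_subgroupOf.mp hx))
  have hQle : (D.unipotentRadical F J).subgroupOf (D.parabolicSubgroup F J) ≤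
      Cfsg.pCore p ↥(D.parabolicSubgroup F J) := le_sSup ⟨hQn, hQp⟩
  have hCp : IsPGroup p (Subgroup.centralizer
      (((D.unipotentRadical F J).subgroupOf (D.parabolicSubgroup F J) :
        Subgroup ↥(D.parabolicSubgroup F J)) : Set ↥(D.parabolicSubgroup F J))) := by
    apply hpow
    intro x hx
    apply cent_radical_le_posUnipotent D hD hBN J hJ
    rw [Subgroup.mem_inf]
    refine ⟨?_, x.2⟩
    rw [Subgroup.mem_centralizer_iff]
    intro y hy
    have h1 := (Subgroup.mem_centralizer_iff.mp hx) ⟨y, hUJP hy⟩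
      (Subgroup.mem_subgroupOf.mpr hy)
    exact congrArg Subtype.val h1
  have hCle : Subgroup.centralizer
      (((D.unipotentRadical F J).subgroupOf (D.parabolicSubgroup F J) :
        Subgroup ↥(D.parabolicSubgroup F J)) : Set ↥(D.parabolicSubgroup F J)) ≤
      Cfsg.pCore p ↥(D.parabolicSubgroup F J) := le_sSup ⟨inferInstance, hCp⟩
  unfold Cfsg.Agent.Helper54.IsCharP
  exact (Subgroup.centralizer_le (by exact_mod_cast hQle)).trans hCle

include hD in
/-- `F*(P_J)` is a `p`-group for a proper parabolic subgroup -/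
theorem isPGroup_generalizedFitting_parabolic [Fintype F] (hBN : HasBN F D) (J : Set ℕ)
    (hJ : ∃ i, i < D.rank ∧ i ∉ J) :
    IsPGroup p ↥(Cfsg.generalizedFittingSubgroup ↥(D.parabolicSubgroup F J)) := by
  rw [Cfsg.Agent.Helper22.generalizedFitting_eq_of_isCharP (isCharP_parabolic D hD p hBN J hJ)]
  exact Cfsg.Agent.Helper22.isPGroup_pCore p

end

end Cfsg.Agent.Helper36.ChevCentU
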