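import Cfsg.Agent.Lib.Helper59.F4SuzMem
import Cfsg.Agent.Lib.Helper18.ChevLongest

/-!
# `²F₄`: the representatives `n_{p₁} n_{p₄}` and `n_{p₂} n_{p₃} n_{p₂} n_{p₃}` of the two
generators of `W¹` lie in `N ∩ G¹`  (piece (N) of the `²F₄` plan)
-/

set_option autoImplicit false
set_option linter.unusedSectionVars false
set_option linter.unusedVariables false
set_option maxRecDepth 100000

namespace Cfsg.Agent.Helper36.F4N

open Cfsg Cfsg.Lie Cfsg.Agent.Helper18 Cfsg.Agent.Helper15.Ree4 Cfsg.Agent.Helper6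
open Cfsg.Agent.Helper6.ChevGraph Cfsg.Agent.Helper6.ChevGraph.F4 Cfsg.Agent.S1043
open Cfsg.Agent.Helper59.F4Suz

/-- `n_{p₁}(1) n_{p₄}(1)` as a word with constant parameters -/
def wN14 : List (ℕ × LP) :=
  [(33, kq 1), (14, kq (-1)), (33, kq 1), (24, kq 1), (23, kq (-1)), (24, kq 1)]

/-- pair word · negative pair word · pair word, all at `t = 1` -/
def wP14 : List (ℕ × LP) :=
  [(33, kq 1), (24, kq 1), (14, kq 1), (23, kq 1), (33, kq 1), (24, kq 1)]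

/-- `n_{p₂}(1) n_{p₃}(1) n_{p₂}(1) n_{p₃}(1)` as a word with constant parameters -/
def wN2323 : List (ℕ × LP) :=
  [(27, kq 1), (20, kq (-1)), (27, kq 1), (25, kq 1), (22, kq (-1)), (25, kq 1),
   (27, kq 1), (20, kq (-1)), (27, kq 1), (25, kq 1), (22, kq (-1)), (25, kq 1)]

/-- the Suzuki word at `a = b = 1` -/
def wS11 : List (ℕ × LP) :=
  [(27, kq 1), (25, kq 1), (28, kq 1), (19, kq 1), (17, kq 1), (27, kq 1), (25, kq 1), (30, kq 1)]

theorem chk_n14 : wordEqP chevF4 2 wN14 wP14 = true := by decide +kernel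

theorem chk_n2323 : wordEqP chevF4 2 wN2323 wS11 = true := by decide +kernel

section

variable {K : Type*} [Field K] [CharP K 2] {e : ℕ} (FD : FieldData K e)

theorem simple_vals : chevF4.simple 0 = 33 ∧ chevF4.simple 1 = 27 ∧ chevF4.simple 2 = 25 ∧
    chevF4.simple 3 = 24 ∧ chevF4.neg 33 = 14 ∧ chevF4.neg 27 = 20 ∧ chevF4.neg 25 = 22 ∧
    chevF4.neg 24 = 23 := by decide

theorem xU_eq_xg (r : ℕ) (t : K) : xU chevF4 goodF4 r t = xg r t := Units.ext rfl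

/-- the representative of the reflection of the orbit `{p₁, p₄}` -/
noncomputable def nJ1 : GL chevF4.Idx K := nWordGL chevF4 goodF4 [0, 3]

/-- the representative of the reflection of the orbit `{p₂, p₃}` -/
noncomputable def nJ2 : GL chevF4.Idx K := nWordGL chevF4 goodF4 [1, 2, 1, 2]

theorem nJ1_eq : (nJ1 : GL chevF4.Idx K) = wordG (evalWord (1 : Kˣ) 1 wN14) := by
  obtain ⟨h0, h1, h2, h3, h33, h27, h25, h24⟩ := simple_vals
  simp only [nJ1, nWordGL, nGL, List.map_cons, List.map_nil, List.prod_cons, List.prod_nil, mul_one,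
    h0, h3, h33, h24, xU_eq_xg]
  simp [evalWord, wN14, kq, LP.eval, LP.evalMono, wordG, mul_assoc]

theorem nJ2_eq : (nJ2 : GL chevF4.Idx K) = wordG (evalWord (1 : Kˣ) 1 wN2323) := by
  obtain ⟨h0, h1, h2, h3, h33, h27, h25, h24⟩ := simple_vals
  simp only [nJ2, nWordGL, nGL, List.map_cons, List.map_nil, List.prod_cons, List.prod_nil, mul_one,
    h1, h2, h27, h25, xU_eq_xg]
  simp [evalWord, wN2323, kq, LP.eval, LP.evalMono, wordG, mul_assoc]

theorem nJ1_mem_N : (nJ1 : GL chevF4.Idx K) ∈ chevF4.monomialSubgroup K :=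
  nWordGL_mem chevF4 goodF4 [0, 3] (by decide)

theorem nJ2_mem_N : (nJ2 : GL chevF4.Idx K) ∈ chevF4.monomialSubgroup K :=
  nWordGL_mem chevF4 goodF4 [1, 2, 1, 2] (by decide)

include FD

theorem pair_mem_pos (t : K) : xg 33 (t ^ e) * xg 24 t ∈ twistedF4 K e := by
  refine Subgroup.subset_closure ⟨f4PairWord e f4p1 f4p4 t, Or.inl ⟨t, Or.inl rfl⟩, ?_⟩
  rw [← wordG_val, wordG_pair]
  rfl

theorem pair_mem_neg (t : K) : xg 14 (t ^ e) * xg 23 t ∈ twistedF4 K e := by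
  refine Subgroup.subset_closure ⟨f4PairWord e f4m1 f4m4 t, Or.inl ⟨t, Or.inr rfl⟩, ?_⟩
  rw [← wordG_val, wordG_pair]
  rfl

/-- `n_{p₁}(1) n_{p₄}(1) ∈ G¹` -/
theorem nJ1_mem_twisted : (nJ1 : GL chevF4.Idx K) ∈ twistedF4 K e := by
  rw [nJ1_eq, wordG_eq_of_wordEqP (1 : Kˣ) 1 _ _ chk_n14]
  have e1 : wordG (evalWord (1 : Kˣ) 1 wP14) =
      (xg 33 ((1 : K) ^ e) * xg 24 1) * (xg 14 ((1 : K) ^ e) * xg 23 1) *
        (xg 33 ((1 : K) ^ e) * xg 24 1) := by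
    simp [evalWord, wP14, kq, LP.eval, LP.evalMono, wordG, mul_assoc]
  rw [e1]
  exact mul_mem (mul_mem (pair_mem_pos FD 1) (pair_mem_neg FD 1)) (pair_mem_pos FD 1)

/-- `n_{p₂}(1) n_{p₃}(1) n_{p₂}(1) n_{p₃}(1) ∈ G¹` -/
theorem nJ2_mem_twisted : (nJ2 : GL chevF4.Idx K) ∈ twistedF4 K e := by
  rw [nJ2_eq, wordG_eq_of_wordEqP (1 : Kˣ) 1 _ _ chk_n2323]
  have h := wS_mem FD (1 : Kˣ) (1 : Kˣ) (by simp)
  have e1 : wordG (evalWord (1 : Kˣ) 1 wS11) =
      wordG (evalWord (1 : Kˣ) 1 (wS 27 25 28 30 19 17)) := by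
    simp [evalWord, wS11, wS, kq, LP.eval, LP.evalMono, wordG]
  rw [e1]
  exact h

end

end Cfsg.Agent.Helper36.F4N
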