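import Cfsg.Agent.Lib.Helper36.F4Ord2
import Cfsg.Agent.Lib.Helper18.TwRecF4
import Cfsg.Agent.Lib.Helper6.RF4G

/-!
# `²F₄`: the recursion data instantiated (helper18 `recF4` + helper6 `RF4F`)
-/

set_option autoImplicit false
set_option linter.unusedSectionVars false
set_option linter.unusedVariables false
set_option maxRecDepth 100000

namespace Cfsg.Agent.Helper36.F4Fin

open Cfsg Cfsg.Lie Cfsg.Agent.Helper18 Cfsg.Agent.Helper15.Ree4 Cfsg.Agent.Helper6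
open Cfsg.Agent.Helper6.ChevGraph Cfsg.Agent.Helper6.ChevGraph.F4 Cfsg.Agent.S1043
open Cfsg.Agent.Helper59.F4Suz Cfsg.Agent.Helper59.TwFix Cfsg.Agent.Helper17
open Cfsg.Agent.Helper36.F4Tw Cfsg.Agent.Helper36.F4Asm Cfsg.Agent.Helper36.F4Ord
open Cfsg.Agent.Helper18.TwRecF4

section

variable {K : Type*} [Field K] [CharP K 2] {e : ℕ} (FD : FieldData K e)
  (α : ↥(chevF4.group K) ≃* ↥(chevF4.group K))
  (hα : ∀ (r : Fin chevF4.nroots) (t : K),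
      α (xG goodF4 r.val t) = xG goodF4 (sig r.val) (if isShort r.val then t ^ 2 else t))

theorem xU_xg (r : ℕ) (t : K) : xU chevF4 Cfsg.Agent.Helper18.TwWordF4.gF4 r t = xg r t := Units.ext rfl

/-- the fixed points of the class subgroups lie in `²F₄` -/
theorem hfixX : ∀ j : Fin 2, ∀ x ∈ (XJΓ j : Subgroup ↥(chevF4.group K)),
    (twF4 FD α hα).τ x = x → x ∈ (twF4 FD α hα).G1 := by
  intro j x hx hfix
  fin_cases j
  · obtain ⟨t0, t1, e1⟩ := Cfsg.Agent.Helper18.TwWordF4.XJ1_prod (x : GL chevF4.Idx K) hx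
    rw [xU_xg, xU_xg] at e1
    exact Cfsg.Agent.Helper6.RF4F.fix_J1_mem FD α hα x t0 t1 e1 hfix
  · obtain ⟨t0, t1, t2, t3, e1⟩ := Cfsg.Agent.Helper18.TwWordF4.XJ2_prod (x : GL chevF4.Idx K) hx
    rw [xU_xg, xU_xg, xU_xg, xU_xg] at e1
    exact Cfsg.Agent.Helper6.RF4F.fix_J2_mem FD α hα x t0 t1 t2 t3 e1 hfix

/-- the recursion data of `²F₄` -/
noncomputable def RF : Rec (twF4 FD α hα) (Fin 2) := recF4 FD α hα (hfixX FD α hα)

/-- the class of an index -/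
def tF : Fin 2 → Bool
  | 0 => false
  | 1 => true

theorem hnJ : ∀ j, (((RF FD α hα).nJ j : ↥(chevF4.group K)) : GL chevF4.Idx K) = nW (J (tF j)) := by
  intro j
  fin_cases j <;> rfl

end

section

variable {K : Type*} [Field K] [Fintype K] [CharP K 2] {e : ℕ} (FD : FieldData K e)
  (α : ↥(chevF4.group K) ≃* ↥(chevF4.group K))
  (hα : ∀ (r : Fin chevF4.nroots) (t : K),
      α (xG goodF4 r.val t) = xG goodF4 (sig r.val) (if isShort r.val then t ^ 2 else t))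

theorem XG_mem_XJ1 (r : ℕ) (hr : r ∈ [33, 24]) (t : K) :
    (XG r t : ↥(chevF4.group K)) ∈ (XJΓ 0 : Subgroup ↥(chevF4.group K)) := by
  show ((XG r t : ↥(chevF4.group K)) : GL chevF4.Idx K) ∈ Cfsg.Agent.Helper18.TwWordF4.XJ1
  rw [Cfsg.Agent.Helper18.TwWordF4.XJ1_eq, XG_val]
  exact Subgroup.subset_closure ⟨r, hr, t, (xU_xg r t).symm⟩

theorem XG_mem_XJ2 (r : ℕ) (hr : r ∈ [27, 30, 28, 25]) (t : K) :
    (XG r t : ↥(chevF4.group K)) ∈ (XJΓ 1 : Subgroup ↥(chevF4.group K)) := by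
  show ((XG r t : ↥(chevF4.group K)) : GL chevF4.Idx K) ∈ Cfsg.Agent.Helper18.TwWordF4.XJ2
  rw [Cfsg.Agent.Helper18.TwWordF4.XJ2_eq, XG_val]
  exact Subgroup.subset_closure ⟨r, hr, t, (xU_xg r t).symm⟩

/-- the counts of the fixed points of the class subgroups -/
theorem hd : ∀ j, Nat.card ↥((RF FD α hα).FixX j) ^ 2 = Nat.card ↥((RF FD α hα).XJ j) := by
  intro j
  fin_cases j
  · obtain ⟨h1, h2⟩ := Cfsg.Agent.Helper6.RF4F.card_J1 FD α hα (XJΓ 0) ((RF FD α hα).FixX 0)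
      (by
        intro y hy
        obtain ⟨t0, t1, e1⟩ := Cfsg.Agent.Helper18.TwWordF4.XJ1_prod (y : GL chevF4.Idx K) hy
        rw [xU_xg, xU_xg] at e1
        exact ⟨t0, t1, e1⟩)
      (fun t => ⟨XG_mem_XJ1 33 (by simp) t, XG_mem_XJ1 24 (by simp) t⟩)
      (fun y => Iff.rfl)
    show Nat.card ↥((RF FD α hα).FixX 0) ^ 2 = Nat.card ↥(XJΓ 0 : Subgroup ↥(chevF4.group K))
    rw [h1, h2]
  · obtain ⟨h1, h2⟩ := Cfsg.Agent.Helper6.RF4F.card_J2 FD α hα (XJΓ 1) ((RF FD α hα).FixX 1)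
      (by
        intro y hy
        obtain ⟨t0, t1, t2, t3, e1⟩ :=
          Cfsg.Agent.Helper18.TwWordF4.XJ2_prod (y : GL chevF4.Idx K) hy
        rw [xU_xg, xU_xg, xU_xg, xU_xg] at e1
        exact ⟨t0, t1, t2, t3, e1⟩)
      (fun t => ⟨XG_mem_XJ2 25 (by simp) t, XG_mem_XJ2 27 (by simp) t, XG_mem_XJ2 28 (by simp) t,
        XG_mem_XJ2 30 (by simp) t⟩)
      (fun y => Iff.rfl)
    show Nat.card ↥((RF FD α hα).FixX 1) ^ 2 = Nat.card ↥(XJΓ 1 : Subgroup ↥(chevF4.group K))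
    rw [h1, h2, ← pow_mul]

include FD hα

/-- `|U¹| = q¹²` -/
theorem card_unip {q : ℕ} (hq : Fintype.card K = q) :
    Nat.card ↥(chevF4.posUnipotent K ⊓ twistedF4 K e) = q ^ 12 :=
  card_U1 FD α hα (RF FD α hα) (hd FD α hα) hq

/-- `|²F₄| = q¹² |H¹| (1+q)(1+q²)(1+q³)(1+q⁶)` -/
theorem card_twisted {q : ℕ} (hq : Fintype.card K = q) :
    Nat.card ↥(twistedF4 K e) =
      q ^ 12 * Nat.card ↥(chevF4.diagonalSubgroup K ⊓ twistedF4 K e) *
        ((1 + q) * (1 + q ^ 2) * (1 + q ^ 3) * (1 + q ^ 6)) := by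
  rw [card_twistedF4 FD α hα (RF FD α hα) (hd FD α hα) tF (hnJ FD α hα),
    card_B1 FD α hα (RF FD α hα) (hd FD α hα), card_unip FD α hα hq, hq]

end

theorem order_arith (q : ℕ) (hq : 1 ≤ q) :
    q ^ 12 * (q - 1) ^ 2 * ((1 + q) * (1 + q ^ 2) * (1 + q ^ 3) * (1 + q ^ 6)) =
      q ^ 12 * (q - 1) * (q ^ 3 + 1) * (q ^ 4 - 1) * (q ^ 6 + 1) := by
  obtain ⟨r, rfl⟩ : ∃ r, q = r + 1 := ⟨q - 1, by omega⟩
  have h4 : (r + 1) ^ 4 - 1 = r * ((1 + (r + 1)) * (1 + (r + 1) ^ 2)) := by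
    apply Nat.sub_eq_of_eq_add
    ring
  rw [Nat.add_sub_cancel, h4]
  ring

end Cfsg.Agent.Helper36.F4Fin
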