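import Cfsg.Agent.Lib.Helper36.StdFamily

set_option autoImplicit false

namespace Cfsg.Agent.Helper36

open Module

universe u v w w'

section frame

variable {F : Type u} [Field F] [CharP F 2] {σ : F →+* F} {V : Type v} [AddCommGroup V] [Module F V]
  [FiniteDimensional F V]

theorem char_two_add_self (a : F) : a + a = 0 := by
  rw [← two_mul, show (2 : F) = 0 from CharP.cast_eq_zero F 2, zero_mul]

/-- the hermitian form `k(u,v) = H(N u, v)` attached to a self-adjoint square-zero map -/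
def kForm (H : V →ₗ[F] V →ₛₗ[σ] F) (N : V →ₗ[F] V) : V →ₗ[F] V →ₛₗ[σ] F := H ∘ₗ N

theorem kForm_apply (H : V →ₗ[F] V →ₛₗ[σ] F) (N : V →ₗ[F] V) (u v : V) :
    kForm H N u v = H (N u) v := rfl

theorem kForm_isHerm {H : V →ₗ[F] V →ₛₗ[σ] F} (hH : IsHerm H) {N : V →ₗ[F] V}
    (hadj : ∀ u v, H (N u) v = H u (N v)) : IsHerm (kForm H N) := by
  intro u v
  rw [kForm_apply, kForm_apply, hadj v u, hH]

theorem kForm_ker {H : V →ₗ[F] V →ₛₗ[σ] F} (hnd : LinearMap.ker H = ⊥) (N : V →ₗ[F] V) :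
    LinearMap.ker (kForm H N) = LinearMap.ker N := by
  ext u
  simp only [LinearMap.mem_ker]
  constructor
  · intro h
    have : N u ∈ LinearMap.ker H := by
      rw [LinearMap.mem_ker]
      exact h
    rw [hnd] at this
    exact (Submodule.mem_bot F).mp this
  · intro h
    show H (N u) = 0
    rw [h, map_zero]

variable {ι : Type w} [Fintype ι] [DecidableEq ι] (ρ : ι → ℕ)

/-- the coefficients used to make the lifted family totally isotropic -/
noncomputable def adjCoeff (H : V →ₗ[F] V →ₛₗ[σ] F) (x : ι → V) (β : ι → F) (i k : ι) : F :=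
  if ρ i < ρ k then H (x i) (x k) else if i = k then β i else 0

theorem adjCoeff_spec (hρ : Function.Injective ρ) {H : V →ₗ[F] V →ₛₗ[σ] F} (hH : IsHerm H) (x : ι → V)
    (β : ι → F) (hβ : ∀ i, β i + σ (β i) = H (x i) (x i)) (i k : ι) :
    adjCoeff ρ H x β i k + σ (adjCoeff ρ H x β k i) = H (x i) (x k) := by
  unfold adjCoeff
  rcases lt_trichotomy (ρ i) (ρ k) with h | h | h
  · have hne : i ≠ k := fun e => by rw [e] at h; exact lt_irrefl _ h
    rw [if_pos h, if_neg (not_lt.mpr h.le), if_neg hne.symm, map_zero, add_zero]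
  · have := hρ h
    subst this
    rw [if_neg (lt_irrefl _), if_pos rfl]
    exact hβ i
  · have hne : i ≠ k := fun e => by rw [e] at h; exact lt_irrefl _ h
    rw [if_neg (not_lt.mpr h.le), if_neg hne, if_pos h, zero_add, ← hH]

/-- the adjusted family -/
noncomputable def adjFam (H : V →ₗ[F] V →ₛₗ[σ] F) (N : V →ₗ[F] V) (τ : ι → ι) (x : ι → V) (β : ι → F)
    (i : ι) : V :=
  x i + ∑ j, adjCoeff ρ H x β i j • N (x (τ j))

theorem N_adjFam {H : V →ₗ[F] V →ₛₗ[σ] F} {N : V →ₗ[F] V} (hN2 : ∀ x, N (N x) = 0) (τ : ι → ι)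
    (x : ι → V) (β : ι → F) (i : ι) : N (adjFam ρ H N τ x β i) = N (x i) := by
  unfold adjFam
  rw [map_add, map_sum]
  simp [hN2]

theorem H_adjFam (hρ : Function.Injective ρ) {H : V →ₗ[F] V →ₛₗ[σ] F} (hH : IsHerm H) {N : V →ₗ[F] V}
    (hN2 : ∀ x, N (N x) = 0)
    (hadj : ∀ u v, H (N u) v = H u (N v)) {τ : ι → ι} (hτ : ∀ i, τ (τ i) = i) {x : ι → V}
    (hx : IsStd (kForm H N) τ x) (β : ι → F) (hβ : ∀ i, β i + σ (β i) = H (x i) (x i)) (i k : ι) :
    H (adjFam ρ H N τ x β i) (adjFam ρ H N τ x β k) = 0 := by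
  have hNN : ∀ a b, H (N a) (N b) = 0 := by
    intro a b
    rw [hadj, hN2, map_zero]
  have hk1 : ∀ i l, H (x i) (N (x (τ l))) = if l = i then 1 else 0 := by
    intro i l
    rw [← hadj, ← kForm_apply, hx]
    by_cases h : l = i
    · subst h; simp
    · have : τ l ≠ τ i := fun e => h (by rw [← hτ l, e, hτ])
      simp [h, this]
  have hk2 : ∀ j k, H (N (x (τ j))) (x k) = if j = k then 1 else 0 := by
    intro j k
    rw [← kForm_apply, hx, hτ]
    by_cases h : j = k
    · subst h; simp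
    · have : ¬ k = j := fun e => h e.symm
      simp [h, this]
  have expand : ∀ a b c d : V, H (a + b) (c + d) = H a c + H a d + H b c + H b d := by
    intro a b c d
    simp only [map_add, LinearMap.add_apply]
    ring
  unfold adjFam
  rw [expand, map_sum, LinearMap.map_sum₂, LinearMap.map_sum₂]
  have e1 : ∑ l, H (x i) (adjCoeff ρ H x β k l • N (x (τ l))) = σ (adjCoeff ρ H x β k i) := by
    simp only [LinearMap.map_smulₛₗ, smul_eq_mul, hk1]
    rw [Finset.sum_eq_single i]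
    · simp
    · intro b _ hb
      simp [hb]
    · simp
  have e2 : ∑ j, H (adjCoeff ρ H x β i j • N (x (τ j))) (x k) = adjCoeff ρ H x β i k := by
    simp only [LinearMap.map_smul₂, smul_eq_mul, hk2]
    rw [Finset.sum_eq_single k]
    · simp
    · intro b _ hb
      simp [hb]
    · simp
  have e3 : ∑ j, H (adjCoeff ρ H x β i j • N (x (τ j))) (∑ l, adjCoeff ρ H x β k l • N (x (τ l))) = 0 := by
    apply Finset.sum_eq_zero
    intro j _
    rw [map_sum]
    apply Finset.sum_eq_zero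
    intro l _
    rw [LinearMap.map_smul₂, LinearMap.map_smulₛₗ, hNN, smul_zero, smul_zero]
  rw [e1, e2, e3, add_zero]
  have := adjCoeff_spec ρ hρ hH x β hβ i k
  rw [← this]
  have h2 := char_two_add_self (adjCoeff ρ H x β i k + σ (adjCoeff ρ H x β k i))
  linear_combination h2


end frame

section frame2

variable {F : Type u} [Field F] [CharP F 2] {σ : F →+* F} {V : Type v} [AddCommGroup V] [Module F V]
  [FiniteDimensional F V]
variable {ι : Type w} [Fintype ι] [DecidableEq ι] {ι' : Type w'} [Fintype ι'] [DecidableEq ι']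

/-- the involution on the index set of the family `(y, N y)` -/
def pairInv (τ : ι → ι) : ι ⊕ ι → ι ⊕ ι
  | Sum.inl i => Sum.inr (τ i)
  | Sum.inr i => Sum.inl (τ i)

theorem pairInv_invol {τ : ι → ι} (hτ : ∀ i, τ (τ i) = i) : ∀ a, pairInv τ (pairInv τ a) = a := by
  rintro (i | i) <;> simp [pairInv, hτ]

/-- the involution on the index set of a frame -/
def frameInv (τ : ι → ι) (τ' : ι' → ι') : ι ⊕ (ι' ⊕ ι) → ι ⊕ (ι' ⊕ ι)
  | Sum.inl i => Sum.inr (Sum.inr (τ i))
  | Sum.inr (Sum.inl j) => Sum.inr (Sum.inl (τ' j))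
  | Sum.inr (Sum.inr i) => Sum.inl (τ i)

theorem frameInv_invol {τ : ι → ι} (hτ : ∀ i, τ (τ i) = i) {τ' : ι' → ι'} (hτ' : ∀ i, τ' (τ' i) = i) :
    ∀ a, frameInv τ τ' (frameInv τ τ' a) = a := by
  rintro (i | j | i) <;> simp [frameInv, hτ, hτ']

theorem pair_isStd {H : V →ₗ[F] V →ₛₗ[σ] F} {N : V →ₗ[F] V} (hN2 : ∀ x, N (N x) = 0)
    (hadj : ∀ u v, H (N u) v = H u (N v)) {τ : ι → ι} {y : ι → V}
    (hy0 : ∀ i k, H (y i) (y k) = 0) (hyk : IsStd (kForm H N) τ y) :
    IsStd H (pairInv τ) (Sum.elim y (fun i => N (y i))) := by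
  rintro (i | i) (j | j)
  · simp [pairInv, hy0]
  · simp only [Sum.elim_inl, Sum.elim_inr, pairInv, Sum.inr.injEq]
    rw [← hadj, ← kForm_apply, hyk]
  · simp only [Sum.elim_inl, Sum.elim_inr, pairInv, Sum.inl.injEq]
    rw [← kForm_apply, hyk]
  · simp only [Sum.elim_inr, pairInv]
    rw [hadj, hN2, map_zero]
    simp

/-- `N` vanishes on the orthogonal complement of `(y, N y)` -/
theorem N_eq_zero_of_mem_orth {H : V →ₗ[F] V →ₛₗ[σ] F} (hnd : LinearMap.ker H = ⊥) {N : V →ₗ[F] V}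
    (hN2 : ∀ x, N (N x) = 0) (hadj : ∀ u v, H (N u) v = H u (N v)) {τ : ι → ι} (hτ : ∀ i, τ (τ i) = i)
    {y : ι → V} (hy0 : ∀ i k, H (y i) (y k) = 0) (hyk : IsStd (kForm H N) τ y)
    (hcard : Fintype.card ι + finrank F (LinearMap.ker N) = finrank F V) {z : V}
    (hz : z ∈ orthFam H (Sum.elim y (fun i => N (y i)))) : N z = 0 := by
  have hstd := pair_isStd hN2 hadj hy0 hyk
  have hli : LinearIndependent F (fun i => N (y i)) := by
    have := (hstd.linearIndependent (pairInv_invol hτ)).comp Sum.inr Sum.inr_injective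
    exact this
  have hrange : Submodule.span F (Set.range (fun i => N (y i))) = LinearMap.range N := by
    apply Submodule.eq_of_le_of_finrank_eq
    · rw [Submodule.span_le]
      rintro _ ⟨i, rfl⟩
      exact ⟨y i, rfl⟩
    · rw [finrank_span_eq_card hli]
      have := LinearMap.finrank_range_add_finrank_ker N
      omega
  have hzN : ∀ u, H z (N u) = 0 := by
    intro u
    have hu : N u ∈ Submodule.span F (Set.range (fun i => N (y i))) := by
      rw [hrange]; exact ⟨u, rfl⟩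
    rw [Submodule.mem_span_range_iff_exists_fun] at hu
    obtain ⟨c, hc⟩ := hu
    rw [← hc, map_sum]
    apply Finset.sum_eq_zero
    intro i _
    rw [LinearMap.map_smulₛₗ]
    have := (mem_orthFam H _ z).mp hz (Sum.inr i)
    simp only [Sum.elim_inr] at this
    rw [this, smul_zero]
  have : N z ∈ LinearMap.ker H := by
    rw [LinearMap.mem_ker]
    apply LinearMap.ext
    intro u
    rw [hadj, hzN, LinearMap.zero_apply]
  rw [hnd] at this
  exact (Submodule.mem_bot F).mp this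

/-- A frame for the pair `(H, N)`. -/
structure IsFrame (H : V →ₗ[F] V →ₛₗ[σ] F) (N : V →ₗ[F] V) (τ : ι → ι) (τ' : ι' → ι')
    (Z : ι ⊕ (ι' ⊕ ι) → V) : Prop where
  std : IsStd H (frameInv τ τ') Z
  N_inl : ∀ i, N (Z (Sum.inl i)) = Z (Sum.inr (Sum.inr i))
  N_mid : ∀ j, N (Z (Sum.inr (Sum.inl j))) = 0
  N_inr : ∀ i, N (Z (Sum.inr (Sum.inr i))) = 0
  card : Fintype.card ι + (Fintype.card ι' + Fintype.card ι) = finrank F V

theorem isFrame_of_families {H : V →ₗ[F] V →ₛₗ[σ] F} (hH : IsHerm H) (hnd : LinearMap.ker H = ⊥)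
    {N : V →ₗ[F] V} (hN2 : ∀ x, N (N x) = 0) (hadj : ∀ u v, H (N u) v = H u (N v)) {τ : ι → ι}
    (hτ : ∀ i, τ (τ i) = i) {y : ι → V} (hy0 : ∀ i k, H (y i) (y k) = 0)
    (hyk : IsStd (kForm H N) τ y)
    (hcard : Fintype.card ι + finrank F (LinearMap.ker N) = finrank F V)
    {τ' : ι' → ι'} (w : ι' → orthFam H (Sum.elim y (fun i => N (y i))))
    (hw : IsStd (H.domRestrict₁₂ (orthFam H (Sum.elim y (fun i => N (y i))))
      (orthFam H (Sum.elim y (fun i => N (y i))))) τ' w)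
    (hwcard : Fintype.card ι' = finrank F (orthFam H (Sum.elim y (fun i => N (y i))))) :
    IsFrame H N τ τ' (Sum.elim y (Sum.elim (fun j => (w j : V)) (fun i => N (y i)))) := by
  have hstd := pair_isStd hN2 hadj hy0 hyk
  have hwy : ∀ j i, H (w j : V) (y i) = 0 := fun j i => by
    have := (mem_orthFam H _ _).mp (w j).2 (Sum.inl i)
    simpa using this
  have hwNy : ∀ j i, H (w j : V) (N (y i)) = 0 := fun j i => by
    have := (mem_orthFam H _ _).mp (w j).2 (Sum.inr i)
    simpa using this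
  have hyw : ∀ i j, H (y i) (w j : V) = 0 := fun i j => by rw [hH, hwy, map_zero]
  have hNyw : ∀ i j, H (N (y i)) (w j : V) = 0 := fun i j => by rw [hH, hwNy, map_zero]
  refine ⟨?_, ?_, ?_, ?_, ?_⟩
  · rintro (i | j | i) (i' | j' | i')
    · simp [frameInv, hy0]
    · simp [frameInv, hyw]
    · simp only [Sum.elim_inl, Sum.elim_inr, frameInv, Sum.inr.injEq]
      rw [← hadj, ← kForm_apply, hyk]
    · simp [frameInv, hwy]
    · have := hw j j'
      simp only [LinearMap.domRestrict₁₂_apply] at this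
      simp only [Sum.elim_inl, Sum.elim_inr, frameInv, Sum.inr.injEq, Sum.inl.injEq, this]
    · simp [frameInv, hwNy]
    · simp only [Sum.elim_inl, Sum.elim_inr, frameInv, Sum.inl.injEq]
      rw [← kForm_apply, hyk]
    · simp [frameInv, hNyw]
    · simp only [Sum.elim_inr, frameInv]
      rw [hadj, hN2, map_zero]
      simp
  · intro i; rfl
  · intro j
    exact N_eq_zero_of_mem_orth hnd hN2 hadj hτ hy0 hyk hcard (w j).2
  · intro i
    exact hN2 _
  · have h2 := hstd.finrank_orthFam (pairInv_invol hτ)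
    rw [Fintype.card_sum] at h2
    omega


theorem exists_isotropic_lift (ρ : ι → ℕ) (hρ : Function.Injective ρ) {H : V →ₗ[F] V →ₛₗ[σ] F}
    (hH : IsHerm H)
    {N : V →ₗ[F] V} (hN2 : ∀ x, N (N x) = 0) (hadj : ∀ u v, H (N u) v = H u (N v)) {τ : ι → ι}
    (hτ : ∀ i, τ (τ i) = i) {x : ι → V} (hx : IsStd (kForm H N) τ x)
    (hT : ∀ v, ∃ β, β + σ β = H v v) :
    ∃ y : ι → V, (∀ i k, H (y i) (y k) = 0) ∧ IsStd (kForm H N) τ y := by
  choose β hβ using fun i => hT (x i)
  refine ⟨adjFam ρ H N τ x β, fun i k => H_adjFam ρ hρ hH hN2 hadj hτ hx β hβ i k, ?_⟩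
  intro i j
  rw [kForm_apply, N_adjFam ρ hN2, hadj, N_adjFam ρ hN2, ← hadj, ← kForm_apply, hx]

/-- two sesquilinear forms agreeing on a basis are equal -/
theorem sesq_ext_basis {κ : Type*} (b : Basis κ F V) (H₁ H₂ : V →ₗ[F] V →ₛₗ[σ] F)
    (h : ∀ i j, H₁ (b i) (b j) = H₂ (b i) (b j)) : H₁ = H₂ := by
  apply b.ext
  intro i
  apply b.ext
  intro j
  exact h i j

/-- Two frames of the same shape are related by an isometry intertwining the square-zero maps. -/
theorem exists_isometry_of_frames {H : V →ₗ[F] V →ₛₗ[σ] F} {N₁ N₂ : V →ₗ[F] V} {τ : ι → ι}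
    (hτ : ∀ i, τ (τ i) = i) {τ' : ι' → ι'} (hτ' : ∀ i, τ' (τ' i) = i) {Z₁ Z₂ : ι ⊕ (ι' ⊕ ι) → V}
    (h₁ : IsFrame H N₁ τ τ' Z₁) (h₂ : IsFrame H N₂ τ τ' Z₂) :
    ∃ g : V ≃ₗ[F] V, (∀ u v, H (g u) (g v) = H u v) ∧ ∀ u, g (N₁ u) = N₂ (g u) := by
  have hcard : Fintype.card (ι ⊕ (ι' ⊕ ι)) = finrank F V := by
    rw [Fintype.card_sum, Fintype.card_sum]; exact h₁.card
  set b₁ := basisOfLinearIndependentOfCardEqFinrank' Z₁
    (h₁.std.linearIndependent (frameInv_invol hτ hτ')) hcard with hb₁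
  set b₂ := basisOfLinearIndependentOfCardEqFinrank' Z₂
    (h₂.std.linearIndependent (frameInv_invol hτ hτ')) hcard with hb₂
  have hb₁a : ∀ a, b₁ a = Z₁ a := fun a => by rw [hb₁, coe_basisOfLinearIndependentOfCardEqFinrank']
  have hb₂a : ∀ a, b₂ a = Z₂ a := fun a => by rw [hb₂, coe_basisOfLinearIndependentOfCardEqFinrank']
  set g := b₁.equiv b₂ (Equiv.refl _) with hg
  have hgZ : ∀ a, g (Z₁ a) = Z₂ a := by
    intro a
    rw [← hb₁a, hg, Basis.equiv_apply, Equiv.refl_apply, hb₂a]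
  refine ⟨g, ?_, ?_⟩
  · have : (H.comp g.toLinearMap).compl₂ g.toLinearMap = H := by
      apply sesq_ext_basis b₁
      intro a c
      rw [LinearMap.compl₂_apply, LinearMap.comp_apply, LinearEquiv.coe_coe, hb₁a, hb₁a, hgZ, hgZ,
        h₁.std, h₂.std]
    intro u v
    have h := LinearMap.congr_fun (LinearMap.congr_fun this u) v
    rw [LinearMap.compl₂_apply, LinearMap.comp_apply, LinearEquiv.coe_coe] at h
    exact h
  · have : g.toLinearMap ∘ₗ N₁ = N₂ ∘ₗ g.toLinearMap := by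
      apply b₁.ext
      rintro (i | j | i)
      · simp only [LinearMap.comp_apply, LinearEquiv.coe_coe, hb₁a, hgZ, h₁.N_inl, h₂.N_inl]
      · simp only [LinearMap.comp_apply, LinearEquiv.coe_coe, hb₁a, hgZ, h₁.N_mid, h₂.N_mid, map_zero]
      · simp only [LinearMap.comp_apply, LinearEquiv.coe_coe, hb₁a, hgZ, h₁.N_inr, h₂.N_inr, map_zero]
    intro u
    exact LinearMap.congr_fun this u

end frame2

end Cfsg.Agent.Helper36
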