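import Mathlib
import Cfsg.Agent.Lib.Helper36.Frame

set_option autoImplicit false

namespace Cfsg.Agent.Helper36

open Module

universe u v

section artinSchreier

variable {F : Type u} [Field F] [Fintype F] [CharP F 2]

/-- the Artin–Schreier map `μ ↦ μ * μ + μ` -/
def asHom (F : Type u) [Field F] [CharP F 2] : F →+ F where
  toFun μ := μ * μ + μ
  map_zero' := by simp
  map_add' x y := by
    have h := char_two_add_self (x * y)
    linear_combination h

omit [Fintype F] in
theorem asHom_apply (μ : F) : asHom F μ = μ * μ + μ := rfl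

omit [Fintype F] in
theorem asHom_eq_iff (μ ν : F) : asHom F μ = asHom F ν ↔ μ = ν ∨ μ = ν + 1 := by
  rw [asHom_apply, asHom_apply]
  constructor
  · intro h
    have h2 := char_two_add_self (ν * ν - μ * ν - μ + ν)
    have : (μ - ν) * (μ - (ν + 1)) = 0 := by linear_combination h + h2
    rcases mul_eq_zero.mp this with h' | h'
    · left; exact sub_eq_zero.mp h'
    · right; exact sub_eq_zero.mp h'
  · rintro (rfl | rfl)
    · rfl
    · have h3 := char_two_add_self ν
      have h1 := char_two_add_self (1 : F)
      linear_combination h3 + h1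

omit [Fintype F] in
theorem asHom_ker : ∀ μ : F, μ ∈ (asHom F).ker ↔ μ = 0 ∨ μ = 1 := by
  intro μ
  rw [AddMonoidHom.mem_ker]
  have := asHom_eq_iff μ 0
  rw [map_zero, zero_add] at this
  exact this

theorem asHom_range_index : (asHom F).range.index = 2 := by
  classical
  have hker : Nat.card (asHom F).ker = 2 := by
    have : ((asHom F).ker : Set F) = {0, 1} := by
      ext μ
      simp only [SetLike.mem_coe, Set.mem_insert_iff, Set.mem_singleton_iff]
      exact asHom_ker μ
    rw [← SetLike.coe_sort_coe, this, Nat.card_coe_set_eq, Set.ncard_pair zero_ne_one]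
  have h1 := AddSubgroup.card_mul_index (asHom F).ker
  have h2 := AddSubgroup.card_mul_index (asHom F).range
  rw [AddSubgroup.index_ker, hker] at h1
  have hpos : 0 < Nat.card (asHom F).range := Nat.card_pos
  have : Nat.card (asHom F).range * (asHom F).range.index = Nat.card (asHom F).range * 2 := by
    rw [h2, ← h1, mul_comm]
  exact Nat.eq_of_mul_eq_mul_left hpos this

open Classical in
theorem as_fiber_card (δ : F) :
    (Finset.univ.filter (fun μ : F => μ * μ + μ = δ)).card =
      if δ ∈ (asHom F).range then 2 else 0 := by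
  by_cases hδ : δ ∈ (asHom F).range
  · rw [if_pos hδ]
    obtain ⟨μ₀, rfl⟩ := hδ
    have : (Finset.univ.filter (fun μ : F => μ * μ + μ = asHom F μ₀)) = {μ₀, μ₀ + 1} := by
      ext μ
      simp only [Finset.mem_filter, Finset.mem_univ, true_and, Finset.mem_insert,
        Finset.mem_singleton]
      exact asHom_eq_iff μ μ₀
    rw [this, Finset.card_pair]
    intro h
    have : (0 : F) = 1 := by linear_combination h
    exact zero_ne_one this
  · rw [if_neg hδ]
    rw [Finset.card_eq_zero, Finset.filter_eq_empty_iff]
    intro μ _ h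
    exact hδ ⟨μ, h⟩

open Classical in
theorem as_count (α : F) (hα : α ∉ (asHom F).range) (γ : F) :
    (Finset.univ.filter (fun μ : F => μ * μ + μ = γ)).card +
      (Finset.univ.filter (fun μ : F => μ * μ + μ = γ + α)).card = 2 := by
  rw [as_fiber_card, as_fiber_card]
  have h := AddSubgroup.add_mem_iff_of_index_two (asHom_range_index (F := F)) (a := γ) (b := α)
  by_cases hγ : γ ∈ (asHom F).range
  · have : γ + α ∉ (asHom F).range := by
      rw [h]
      intro h'
      exact hα (h'.mp hγ)
    rw [if_pos hγ, if_neg this]
  · have : γ + α ∈ (asHom F).range := by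
      rw [h]
      exact ⟨fun h' => absurd h' hγ, fun h' => absurd h' hα⟩
    rw [if_neg hγ, if_pos this]

end artinSchreier

section quad

variable {F : Type u} [Field F] [CharP F 2] {V : Type v} [AddCommGroup V] [Module F V]

/-- `Q` is a quadratic form with polar form `B` (characteristic two) -/
structure IsQuad (Q : V → F) (B : V →ₗ[F] V →ₗ[F] F) : Prop where
  add : ∀ u v, Q (u + v) = Q u + Q v + B u v
  smul : ∀ (c : F) (v : V), Q (c • v) = c * c * Q v

theorem vec_add_self (F : Type u) [Field F] [CharP F 2] {V : Type v} [AddCommGroup V] [Module F V]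
    (v : V) : v + v = 0 := by
  have h := char_two_add_self (1 : F)
  have : v + v = ((1 : F) + 1) • v := by rw [add_smul, one_smul]
  rw [this, h, zero_smul]

namespace IsQuad

variable {Q : V → F} {B : V →ₗ[F] V →ₗ[F] F} (h : IsQuad Q B)
include h

theorem zero : Q 0 = 0 := by
  have := h.smul 0 0
  simpa using this

theorem self (v : V) : B v v = 0 := by
  have h1 := h.add v v
  rw [vec_add_self F, h.zero] at h1
  have h2 := char_two_add_self (Q v)
  linear_combination -h1 - h2

theorem symm (u v : V) : B u v = B v u := by
  have h1 := h.add u v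
  have h2 := h.add v u
  rw [add_comm v u] at h2
  linear_combination h2 - h1

theorem line (v a : V) (c : F) : Q (v + c • a) = Q v + c * c * Q a + c * B v a := by
  rw [h.add, h.smul, map_smul, smul_eq_mul]

/-- an isometry of `Q` preserves `B` -/
theorem preserves_polar (t : V →ₗ[F] V) (ht : ∀ v, Q (t v) = Q v) (u v : V) :
    B (t u) (t v) = B u v := by
  have h1 := h.add (t u) (t v)
  rw [← map_add, ht, ht, ht, h.add] at h1
  linear_combination -h1

end IsQuad

/-- representing a functional by a non-degenerate form -/
theorem exists_repr_dual [FiniteDimensional F V] {B : V →ₗ[F] V →ₗ[F] F}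
    (hnd : ∀ u, (∀ v, B u v = 0) → u = 0) (φ : V →ₗ[F] F) : ∃ a, ∀ v, B a v = φ v := by
  have hinj : Function.Injective B := by
    rw [← LinearMap.ker_eq_bot, Submodule.eq_bot_iff]
    intro u hu
    rw [LinearMap.mem_ker] at hu
    apply hnd
    intro v
    rw [hu, LinearMap.zero_apply]
  have hsurj : Function.Surjective B :=
    (LinearMap.injective_iff_surjective_of_finrank_eq_finrank
      (Subspace.dual_finrank_eq (K := F) (V := V)).symm).mp hinj
  obtain ⟨a, ha⟩ := hsurj φ
  exact ⟨a, fun v => by rw [ha]⟩

/-- the symplectic transvection `v ↦ v + lam * B a v • a` -/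
noncomputable def tvMap (B : V →ₗ[F] V →ₗ[F] F) (a : V) (lam : F) : V →ₗ[F] V :=
  LinearMap.id + lam • (B a).smulRight a

omit [CharP F 2] in
theorem tvMap_apply (B : V →ₗ[F] V →ₗ[F] F) (a : V) (lam : F) (v : V) :
    tvMap B a lam v = v + lam • (B a v • a) := by
  simp [tvMap]

theorem tvMap_tvMap {Q : V → F} {B : V →ₗ[F] V →ₗ[F] F} (h : IsQuad Q B) (a : V) (lam : F) (v : V) :
    tvMap B a lam (tvMap B a lam v) = v := by
  rw [tvMap_apply, tvMap_apply, map_add, map_smul, map_smul, h.self, smul_zero, smul_zero, add_zero,
    add_assoc, vec_add_self F, add_zero]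

theorem Q_tvMap {Q : V → F} {B : V →ₗ[F] V →ₗ[F] F} (h : IsQuad Q B) (a : V) (lam : F) (v : V) :
    Q (tvMap B a lam v) = Q v + (B a v) * (B a v) * (lam * lam * Q a + lam) := by
  rw [tvMap_apply, smul_smul, h.line, h.symm v a]
  ring

end quad

section counting

variable {F : Type u} [Field F] [Fintype F] [CharP F 2] {V : Type v} [AddCommGroup V] [Module F V]

omit [Fintype F] in
theorem sq_inj_char_two (x y : F) (h : x * x = y * y) : x = y := by
  have h2 := char_two_add_self (y * y - x * y)
  have : (x - y) * (x - y) = 0 := by linear_combination h + h2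
  exact sub_eq_zero.mp (mul_self_eq_zero.mp this)

theorem exists_sqrt_char_two (x : F) : ∃ y : F, y * y = x := by
  obtain ⟨y, hy⟩ := surjective_frobenius F 2 x
  exact ⟨y, by rw [← hy, frobenius_def, pow_two]⟩

open Classical in
theorem card_filter_equiv {α : Type*} [Fintype α] (e : α ≃ α) (P : α → Prop) :
    (Finset.univ.filter P).card = (Finset.univ.filter (fun x => P (e x))).card := by
  symm
  apply Finset.card_bij (fun x _ => e x)
  · intro x hx
    simpa using hx
  · intro x _ y _ hxy
    exact e.injective hxy
  · intro y hy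
    refine ⟨e.symm y, ?_, by simp⟩
    simpa using hy

open Classical in
/-- on each line in direction `a`, the two forms have two zeros altogether -/
theorem line_count {Q : V → F} {B : V →ₗ[F] V →ₗ[F] F} (h : IsQuad Q B) (a : V)
    (hα : Q a ∉ (asHom F).range) (v : V) :
    (Finset.univ.filter (fun c : F => Q (v + c • a) = 0)).card +
      (Finset.univ.filter (fun c : F =>
        Q (v + c • a) + B a (v + c • a) * B a (v + c • a) = 0)).card = 2 := by
  have hα0 : Q a ≠ 0 := by
    intro h0
    apply hα
    rw [h0]
    exact zero_mem _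
  have hBa : ∀ c : F, B a (v + c • a) = B v a := by
    intro c
    rw [map_add, map_smul, h.self, smul_zero, add_zero, h.symm]
  simp only [hBa, h.line]
  by_cases hβ : B v a = 0
  · simp only [hβ, mul_zero, add_zero]
    obtain ⟨c₀, hc₀⟩ := exists_sqrt_char_two (Q v / Q a)
    have hset : (Finset.univ.filter (fun c : F => Q v + c * c * Q a = 0)) = {c₀} := by
      ext c
      simp only [Finset.mem_filter, Finset.mem_univ, true_and, Finset.mem_singleton]
      constructor
      · intro hc
        apply sq_inj_char_two
        rw [hc₀, eq_div_iff hα0]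
        have h2 := char_two_add_self (Q v)
        linear_combination hc - h2
      · rintro rfl
        rw [hc₀, div_mul_cancel₀ _ hα0]
        exact char_two_add_self _
    rw [hset, Finset.card_singleton]
  · have hne : B v a / Q a ≠ 0 := div_ne_zero hβ hα0
    rw [card_filter_equiv (Equiv.mulLeft₀ (B v a / Q a) hne),
      card_filter_equiv (Equiv.mulLeft₀ (B v a / Q a) hne)
        (fun c : F => Q v + c * c * Q a + c * B v a + B v a * B v a = 0)]
    simp only [Equiv.mulLeft₀_apply]
    have e1 : ∀ μ : F, (Q v + B v a / Q a * μ * (B v a / Q a * μ) * Q a + B v a / Q a * μ * B v a = 0) ↔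
        μ * μ + μ = Q a * Q v / (B v a * B v a) := by
      intro μ
      have h2 := char_two_add_self (Q a * Q v / (B v a * B v a))
      constructor
      · intro hh
        have : Q a * Q v / (B v a * B v a) + (μ * μ + μ) = 0 := by
          have e : Q a * Q v / (B v a * B v a) + (μ * μ + μ) =
              (Q a / (B v a * B v a)) * (Q v + B v a / Q a * μ * (B v a / Q a * μ) * Q a + B v a / Q a * μ * B v a) := by
            field_simp
            ring
          rw [e, hh, mul_zero]
        linear_combination this - h2
      · intro hh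
        have e : Q v + B v a / Q a * μ * (B v a / Q a * μ) * Q a + B v a / Q a * μ * B v a =
            (B v a * B v a / Q a) * (Q a * Q v / (B v a * B v a) + (μ * μ + μ)) := by
          field_simp
          ring
        rw [e, hh, h2, mul_zero]
    have e2 : ∀ μ : F, (Q v + B v a / Q a * μ * (B v a / Q a * μ) * Q a + B v a / Q a * μ * B v a +
        B v a * B v a = 0) ↔ μ * μ + μ = Q a * Q v / (B v a * B v a) + Q a := by
      intro μ
      have h2 := char_two_add_self (Q a * Q v / (B v a * B v a) + Q a)
      constructor
      · intro hh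
        have : Q a * Q v / (B v a * B v a) + Q a + (μ * μ + μ) = 0 := by
          have e : Q a * Q v / (B v a * B v a) + Q a + (μ * μ + μ) =
              (Q a / (B v a * B v a)) * (Q v + B v a / Q a * μ * (B v a / Q a * μ) * Q a +
                B v a / Q a * μ * B v a + B v a * B v a) := by
            field_simp
            ring
          rw [e, hh, mul_zero]
        linear_combination this - h2
      · intro hh
        have e : Q v + B v a / Q a * μ * (B v a / Q a * μ) * Q a + B v a / Q a * μ * B v a + B v a * B v a =
            (B v a * B v a / Q a) * (Q a * Q v / (B v a * B v a) + Q a + (μ * μ + μ)) := by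
          field_simp
          ring
        rw [e, hh, h2, mul_zero]
    simp only [e1, e2]
    exact as_count (Q a) hα _

end counting

section main

variable {F : Type u} [Field F] [Fintype F] [CharP F 2] {V : Type v} [AddCommGroup V] [Module F V]
  [Fintype V]

open Classical in
theorem sum_line_card (P : V → Prop) (a : V) :
    ∑ v : V, (Finset.univ.filter (fun c : F => P (v + c • a))).card =
      Fintype.card F * (Finset.univ.filter P).card := by
  simp only [Finset.card_filter]
  rw [Finset.sum_comm]
  have : ∀ c : F, ∑ v : V, (if P (v + c • a) then 1 else 0) = ∑ v : V, (if P v then 1 else 0) := by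
    intro c
    exact Fintype.sum_equiv (Equiv.addRight (c • a)) _ _ (fun v => rfl)
  simp only [this]
  rw [Finset.sum_const, Finset.card_univ, smul_eq_mul]

open Classical in
/-- if `Q a` is not of the form `μ² + μ` and `Q`, `Q + (B a ·)²` have equally many zeros, then
`Q` has exactly `|V| / |F|` zeros -/
theorem card_zero_eq {Q : V → F} {B : V →ₗ[F] V →ₗ[F] F} (h : IsQuad Q B) (a : V)
    (hα : Q a ∉ (asHom F).range)
    (hZ : Fintype.card {v : V // Q v = 0} = Fintype.card {v : V // Q v + B a v * B a v = 0}) :
    Fintype.card {v : V // Q v = 0} * Fintype.card F = Fintype.card V := by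
  have h1 := sum_line_card (F := F) (fun v : V => Q v = 0) a
  have h2 := sum_line_card (F := F) (fun v : V => Q v + B a v * B a v = 0) a
  have h3 : ∑ v : V, ((Finset.univ.filter (fun c : F => Q (v + c • a) = 0)).card +
      (Finset.univ.filter (fun c : F =>
        Q (v + c • a) + B a (v + c • a) * B a (v + c • a) = 0)).card) = 2 * Fintype.card V := by
    simp only [line_count h a hα]
    rw [Finset.sum_const, Finset.card_univ, smul_eq_mul, mul_comm]
  rw [Finset.sum_add_distrib, h1, h2] at h3
  rw [Fintype.card_subtype, Fintype.card_subtype] at hZ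
  rw [Fintype.card_subtype]
  rw [← hZ] at h3
  have : 2 * (Fintype.card F * (Finset.univ.filter (fun v : V => Q v = 0)).card) = 2 * Fintype.card V := by
    rw [← h3]; ring
  have := Nat.eq_of_mul_eq_mul_left (by norm_num) this
  rw [← this, mul_comm]

/-- Two involutions of `O(Q)` conjugate under the symplectic group of the polar form are conjugate
in `O(Q)`, provided the number of zeros of `Q` is not `|V| / |F|`. -/
theorem exists_isometry_conj {Q : V → F} {B : V →ₗ[F] V →ₗ[F] F} (h : IsQuad Q B)
    (hnd : ∀ u, (∀ v, B u v = 0) → u = 0)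
    (hcount : Nat.card {v : V // Q v = 0} * Nat.card F ≠ Nat.card V)
    (t g : V ≃ₗ[F] V) (ht : ∀ v, Q (t v) = Q v) (htt : ∀ v, t (t v) = v)
    (hg : ∀ u v, B (g u) (g v) = B u v) (hs : ∀ v, Q (g (t (g.symm v))) = Q v) :
    ∃ k : V ≃ₗ[F] V, (∀ v, Q (k v) = Q v) ∧ ∀ v, k (t v) = g (t (g.symm (k v))) := by
  classical
  -- the difference of the two forms is the square of a functional
  have hDadd : ∀ u v, Q (g (u + v)) + Q (u + v) = (Q (g u) + Q u) + (Q (g v) + Q v) := by
    intro u v
    rw [map_add, h.add, h.add, hg]
    have := char_two_add_self (B u v)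
    linear_combination this
  have hDsmul : ∀ (c : F) v, Q (g (c • v)) + Q (c • v) = c * c * (Q (g v) + Q v) := by
    intro c v
    rw [map_smul, h.smul, h.smul]
    ring
  let sq : F ≃+* F := frobeniusEquiv F 2
  have hsq : ∀ x : F, sq.symm x * sq.symm x = x := by
    intro x
    have := frobeniusEquiv_symm_pow_p F 2 x
    rw [pow_two] at this
    exact this
  have hsq' : ∀ x : F, sq.symm (x * x) = x := by
    intro x
    have := frobeniusEquiv_symm_pow F 2 x
    rw [pow_two] at this
    exact this
  let φ : V →ₗ[F] F :=
    { toFun := fun v => sq.symm (Q (g v) + Q v)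
      map_add' := fun u v => by rw [hDadd, map_add]
      map_smul' := fun c v => by
        rw [hDsmul, map_mul, hsq', RingHom.id_apply, smul_eq_mul] }
  obtain ⟨a, ha⟩ := exists_repr_dual hnd φ
  have hQg : ∀ v, Q (g v) = Q v + B a v * B a v := by
    intro v
    have h1 : B a v * B a v = Q (g v) + Q v := by
      rw [ha v]
      exact hsq _
    have h2 := char_two_add_self (Q v)
    linear_combination -h1 - h2
  -- `B a` is invariant under `t`
  have hBat : ∀ v, B a (t v) = B a v := by
    intro v
    apply sq_inj_char_two
    have h1 := hQg (t v)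
    have h2 : Q (g (t v)) = Q (g v) := by
      have := hs (g v)
      rw [g.symm_apply_apply] at this
      exact this
    rw [h2, hQg, ht] at h1
    linear_combination -h1
  have htB : ∀ u v, B (t u) (t v) = B u v := h.preserves_polar t.toLinearMap ht
  have hta : t a = a := by
    have : t a - a = 0 := by
      apply hnd
      intro v
      rw [map_sub, LinearMap.sub_apply, sub_eq_zero]
      have := htB a (t v)
      rw [htt] at this
      rw [this, hBat]
    exact sub_eq_zero.mp this
  -- the Arf condition
  have hα : Q a ∈ (asHom F).range := by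
    by_contra hα
    apply hcount
    rw [Nat.card_eq_fintype_card, Nat.card_eq_fintype_card, Nat.card_eq_fintype_card]
    apply card_zero_eq h a hα
    apply Fintype.card_congr
    symm
    exact Equiv.subtypeEquiv g.toEquiv (fun v => by
      show _ ↔ Q (g v) = 0
      rw [hQg])
  obtain ⟨μ, hμ⟩ := hα
  rw [asHom_apply] at hμ
  obtain ⟨lam, hlam⟩ : ∃ lam : F, lam * lam * Q a + lam + 1 = 0 := by
    by_cases h0 : Q a = 0
    · exact ⟨1, by rw [h0]; have := char_two_add_self (1 : F); linear_combination this⟩
    · refine ⟨μ / Q a, ?_⟩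
      have h2 := char_two_add_self (1 : F)
      have e : μ / Q a * (μ / Q a) * Q a + μ / Q a + 1 = (μ * μ + μ) / Q a + 1 := by
        field_simp
      rw [e, hμ, div_self h0, h2]
  -- the transvection
  let c : V ≃ₗ[F] V := LinearEquiv.ofInvolutive (tvMap B a lam) (tvMap_tvMap h a lam)
  have hc : ∀ v, c v = tvMap B a lam v := fun v => rfl
  have hBac : ∀ v, B a (c v) = B a v := by
    intro v
    rw [hc, tvMap_apply, map_add, map_smul, map_smul, h.self, smul_zero, smul_zero, add_zero]
  have hQc : ∀ v, Q (g (c v)) = Q v := by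
    intro v
    rw [hQg, hBac, hc, Q_tvMap h]
    linear_combination (B a v * B a v) * hlam
  have hct : ∀ v, c (t v) = t (c v) := by
    intro v
    rw [hc, hc, tvMap_apply, tvMap_apply, map_add, map_smul, map_smul, hta, hBat]
  refine ⟨c.trans g, hQc, ?_⟩
  intro v
  show g (c (t v)) = g (t (g.symm (g (c v))))
  rw [g.symm_apply_apply, hct]

end main

section matrices

variable {F : Type u} [Field F] [Fintype F] [CharP F 2] {ι : Type} [Fintype ι] [DecidableEq ι]

/-- `GL` as linear equivalences -/
noncomputable def glEquiv (F : Type u) [Field F] (ι : Type) [Fintype ι] [DecidableEq ι] :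
    Matrix.GeneralLinearGroup ι F ≃* ((ι → F) ≃ₗ[F] (ι → F)) :=
  Matrix.GeneralLinearGroup.toLin.trans (LinearMap.GeneralLinearGroup.generalLinearEquiv F (ι → F))

omit [Fintype F] [CharP F 2] in
theorem glEquiv_apply (M : Matrix.GeneralLinearGroup ι F) (v : ι → F) :
    glEquiv F ι M v = (M : Matrix ι ι F).mulVec v := by
  rfl

/-- matrix version of `exists_isometry_conj` -/
theorem exists_isometry_conj_GL {Q : (ι → F) → F} {B : (ι → F) →ₗ[F] (ι → F) →ₗ[F] F}
    (h : IsQuad Q B) (hnd : ∀ u, (∀ v, B u v = 0) → u = 0)
    (hcount : Nat.card {v : ι → F // Q v = 0} * Nat.card F ≠ Nat.card (ι → F))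
    (t g : Matrix.GeneralLinearGroup ι F)
    (ht : ∀ v, Q ((t : Matrix ι ι F).mulVec v) = Q v) (htt : t * t = 1)
    (hg : ∀ u v, B ((g : Matrix ι ι F).mulVec u) ((g : Matrix ι ι F).mulVec v) = B u v)
    (hs : ∀ v, Q (((g * t * g⁻¹ : Matrix.GeneralLinearGroup ι F) : Matrix ι ι F).mulVec v) = Q v) :
    ∃ k : Matrix.GeneralLinearGroup ι F, (∀ v, Q ((k : Matrix ι ι F).mulVec v) = Q v) ∧
      k * t * k⁻¹ = g * t * g⁻¹ := by
  set Φ := glEquiv F ι with hΦ
  have ht' : ∀ v, Q (Φ t v) = Q v := fun v => by rw [hΦ, glEquiv_apply]; exact ht v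
  have htt' : ∀ v, Φ t (Φ t v) = v := by
    intro v
    have : Φ t * Φ t = 1 := by rw [← map_mul, htt, map_one]
    have h2 := LinearEquiv.congr_fun this v
    exact h2
  have hg' : ∀ u v, B (Φ g u) (Φ g v) = B u v := fun u v => by
    rw [hΦ, glEquiv_apply, glEquiv_apply]; exact hg u v
  have hs' : ∀ v, Q (Φ g (Φ t ((Φ g).symm v))) = Q v := by
    intro v
    have h1 := hs v
    rw [← glEquiv_apply, ← hΦ, map_mul, map_mul, map_inv] at h1
    exact h1
  obtain ⟨k, hk1, hk2⟩ := exists_isometry_conj h hnd hcount (Φ t) (Φ g) ht' htt' hg' hs'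
  refine ⟨Φ.symm k, ?_, ?_⟩
  · intro v
    rw [← glEquiv_apply, ← hΦ, MulEquiv.apply_symm_apply]
    exact hk1 v
  · apply Φ.injective
    rw [map_mul, map_mul, map_inv, map_mul, map_mul, map_inv, MulEquiv.apply_symm_apply]
    rw [mul_inv_eq_iff_eq_mul]
    apply LinearEquiv.ext
    intro v
    exact hk2 v

end matrices

end Cfsg.Agent.Helper36
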