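import Mathlib

set_option autoImplicit false

namespace Cfsg.Agent.Helper36.TotSing

open Module

universe u v

section general

variable {F : Type u} [Field F] {V : Type v} [AddCommGroup V] [Module F V]

/-- `Q` is a quadratic form with polar form `B` (any characteristic) -/
structure IsQF (Q : V → F) (B : LinearMap.BilinForm F V) : Prop where
  add : ∀ u v, Q (u + v) = Q u + Q v + B u v
  smul : ∀ (c : F) (v : V), Q (c • v) = c * c * Q v

/-- `U` is a totally singular subspace of dimension `m` -/
def IsMTS (Q : V → F) (m : ℕ) (U : Submodule F V) : Prop :=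
  finrank F U = m ∧ ∀ w ∈ U, Q w = 0

/-- a nonzero functional on a subspace cuts out a hyperplane -/
theorem finrank_inf_ker [FiniteDimensional F V] (φ : V →ₗ[F] F) (U : Submodule F V)
    (hφ : ∃ u ∈ U, φ u ≠ 0) :
    finrank F ↥(U ⊓ LinearMap.ker φ) + 1 = finrank F U := by
  obtain ⟨u, hu, hne⟩ := hφ
  have hsurj : Function.Surjective (φ.domRestrict U) := by
    intro c
    refine ⟨(c / φ u) • ⟨u, hu⟩, ?_⟩
    rw [map_smul, LinearMap.domRestrict_apply, smul_eq_mul, div_mul_cancel₀ _ hne]
  have h1 := LinearMap.finrank_range_add_finrank_ker (φ.domRestrict U)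
  rw [LinearMap.range_eq_top.mpr hsurj, finrank_top, finrank_self] at h1
  have h2 : (LinearMap.ker (φ.domRestrict U)).map U.subtype = U ⊓ LinearMap.ker φ := by
    ext x
    constructor
    · rintro ⟨⟨y, hy⟩, hy0, rfl⟩
      exact ⟨hy, hy0⟩
    · rintro ⟨hx, hx0⟩
      exact ⟨⟨x, hx⟩, hx0, rfl⟩
  rw [← h2, Submodule.finrank_map_subtype_eq]
  omega

/-- adjoining a vector outside a subspace raises the dimension by one -/
theorem finrank_sup_span_singleton [FiniteDimensional F V] (S : Submodule F V) (w : V)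
    (hw : w ∉ S) : finrank F ↥(S ⊔ Submodule.span F {w}) = finrank F S + 1 := by
  have hw0 : w ≠ 0 := by
    rintro rfl
    exact hw S.zero_mem
  have h1 := Submodule.finrank_sup_add_finrank_inf_eq S (Submodule.span F {w})
  have h2 : S ⊓ Submodule.span F {w} = ⊥ := by
    rw [eq_bot_iff]
    rintro x ⟨hxS, hxw⟩
    obtain ⟨c, rfl⟩ := Submodule.mem_span_singleton.mp hxw
    by_cases hc : c = 0
    · simp [hc]
    · exfalso
      apply hw
      have := S.smul_mem c⁻¹ hxS
      rwa [smul_smul, inv_mul_cancel₀ hc, one_smul] at this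
  rw [h2, finrank_bot, finrank_span_singleton hw0] at h1
  omega

end general

section main

variable {F : Type u} [Field F] {V : Type v} [AddCommGroup V] [Module F V]
variable {Q : V → F} {B : LinearMap.BilinForm F V}

namespace IsQF

theorem zero (h : IsQF Q B) : Q 0 = 0 := by
  simpa using h.smul 0 0

theorem symm (h : IsQF Q B) (u v : V) : B u v = B v u := by
  have h1 := h.add u v
  have h2 := h.add v u
  rw [add_comm v u] at h2
  linear_combination h2 - h1

theorem isRefl (h : IsQF Q B) : B.IsRefl := fun u v huv => by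
  rw [h.symm]; exact huv

theorem line (h : IsQF Q B) (v a : V) (c : F) :
    Q (v + c • a) = Q v + c * c * Q a + c * B v a := by
  rw [h.add, h.smul, map_smul, smul_eq_mul]

/-- two vectors of a totally singular subspace are orthogonal -/
theorem ortho_of_ts (h : IsQF Q B) {U : Submodule F V} (hU : ∀ w ∈ U, Q w = 0) {x y : V}
    (hx : x ∈ U) (hy : y ∈ U) : B x y = 0 := by
  have := h.add x y
  rw [hU _ (U.add_mem hx hy), hU _ hx, hU _ hy] at this
  linear_combination -this

theorem le_orthogonal (h : IsQF Q B) {U : Submodule F V} (hU : ∀ w ∈ U, Q w = 0) :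
    U ≤ B.orthogonal U := by
  intro u hu
  rw [LinearMap.BilinForm.mem_orthogonal_iff]
  intro n hn
  exact h.ortho_of_ts hU hn hu

variable [FiniteDimensional F V]

theorem orthogonal_eq (h : IsQF Q B) (hnd : B.Nondegenerate) {m : ℕ} (hV : finrank F V = 2 * m)
    {U : Submodule F V} (hU : IsMTS Q m U) : B.orthogonal U = U := by
  symm
  apply Submodule.eq_of_le_of_finrank_eq (h.le_orthogonal hU.2)
  rw [LinearMap.BilinForm.finrank_orthogonal hnd, hV, hU.1]
  omega

/-- a vector orthogonal to a maximal totally singular subspace lies in it -/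
theorem mem_of_ortho (h : IsQF Q B) (hnd : B.Nondegenerate) {m : ℕ} (hV : finrank F V = 2 * m)
    {U : Submodule F V} (hU : IsMTS Q m U) {w : V} (hw : ∀ u ∈ U, B u w = 0) : w ∈ U := by
  rw [← h.orthogonal_eq hnd hV hU]
  exact hw

theorem finrank_inf_le (m : ℕ) {U W : Submodule F V} (hU : finrank F U = m) :
    finrank F ↥(U ⊓ W) ≤ m := by
  rw [← hU]
  exact Submodule.finrank_mono inf_le_left

/-- two maximal totally singular subspaces, one inside the other, are equal -/
theorem eq_of_le {m : ℕ} {U W : Submodule F V} (hU : IsMTS Q m U) (hW : IsMTS Q m W)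
    (hle : U ≤ W) : U = W :=
  Submodule.eq_of_le_of_finrank_eq hle (by rw [hU.1, hW.1])

/-- the neighbour of `U` through a singular vector `w ∉ U` -/
def nbr (B : LinearMap.BilinForm F V) (U : Submodule F V) (w : V) : Submodule F V :=
  (U ⊓ LinearMap.ker (B w)) ⊔ Submodule.span F {w}

theorem nbr_spec (h : IsQF Q B) (hnd : B.Nondegenerate) {m : ℕ} (hV : finrank F V = 2 * m)
    {U : Submodule F V} (hU : IsMTS Q m U) {w : V} (hw : Q w = 0) (hwU : w ∉ U) :
    IsMTS Q m (nbr B U w) ∧ finrank F ↥(U ⊓ nbr B U w) + 1 = m ∧ w ∈ nbr B U w ∧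
      ∀ W : Submodule F V, (∀ x ∈ W, Q x = 0) → w ∈ W →
        finrank F ↥(U ⊓ W) + 1 ≤ finrank F ↥(nbr B U w ⊓ W) := by
  have hex : ∃ u ∈ U, B w u ≠ 0 := by
    by_contra hcon
    push Not at hcon
    apply hwU
    apply h.mem_of_ortho hnd hV hU
    intro u hu
    rw [h.symm]
    exact hcon u hu
  have hS := finrank_inf_ker (B w) U hex
  rw [hU.1] at hS
  have hwS : w ∉ U ⊓ LinearMap.ker (B w) := fun hc => hwU hc.1
  have hdim := finrank_sup_span_singleton (U ⊓ LinearMap.ker (B w)) w hwS
  have hwmem : w ∈ nbr B U w :=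
    Submodule.mem_sup_right (Submodule.mem_span_singleton_self w)
  have hts : ∀ x ∈ nbr B U w, Q x = 0 := by
    intro x hx
    obtain ⟨a, ha, b, hb, rfl⟩ := Submodule.mem_sup.mp hx
    obtain ⟨c, rfl⟩ := Submodule.mem_span_singleton.mp hb
    rw [h.line, hU.2 a ha.1, hw, h.symm]
    have : B w a = 0 := ha.2
    rw [this]
    ring
  have hmts : IsMTS Q m (nbr B U w) := ⟨by unfold nbr; rw [hdim]; omega, hts⟩
  refine ⟨hmts, ?_, hwmem, ?_⟩
  · have h1 : finrank F ↥(U ⊓ LinearMap.ker (B w)) ≤ finrank F ↥(U ⊓ nbr B U w) :=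
      Submodule.finrank_mono (le_inf inf_le_left le_sup_left)
    have h2 : finrank F ↥(U ⊓ nbr B U w) ≤ m := finrank_inf_le m hU.1
    have h3 : finrank F ↥(U ⊓ nbr B U w) ≠ m := by
      intro heq
      have : U ⊓ nbr B U w = nbr B U w :=
        Submodule.eq_of_le_of_finrank_eq inf_le_right (by rw [heq, hmts.1])
      apply hwU
      have h4 : w ∈ U ⊓ nbr B U w := by rw [this]; exact hwmem
      exact h4.1
    omega
  · intro W hW hwW
    have h1 : (U ⊓ W) ⊔ Submodule.span F {w} ≤ nbr B U w ⊓ W := by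
      apply sup_le
      · apply le_inf _ inf_le_right
        intro x hx
        apply Submodule.mem_sup_left
        refine ⟨hx.1, ?_⟩
        show B w x = 0
        exact h.ortho_of_ts hW hwW hx.2
      · rw [Submodule.span_singleton_le_iff_mem]
        exact ⟨hwmem, hwW⟩
    have h2 := finrank_sup_span_singleton (U ⊓ W) w (fun hc => hwU hc.1)
    have h3 := Submodule.finrank_mono h1
    omega

/-- the adjacency lemma -/
theorem adjacent (h : IsQF Q B) (hnd : B.Nondegenerate) {m : ℕ} (hV : finrank F V = 2 * m)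
    {U W X : Submodule F V} (hU : IsMTS Q m U) (hW : IsMTS Q m W) (hX : IsMTS Q m X)
    (hUW : finrank F ↥(U ⊓ W) + 1 = m) :
    finrank F ↥(X ⊓ U) = finrank F ↥(X ⊓ W) + 1 ∨ finrank F ↥(X ⊓ W) = finrank F ↥(X ⊓ U) + 1 := by
  have hUo := h.orthogonal_eq hnd hV hU
  have hWo := h.orthogonal_eq hnd hV hW
  have hXo := h.orthogonal_eq hnd hV hX
  -- H^⊥ = U + W
  have hle : U ⊔ W ≤ B.orthogonal (U ⊓ W) := by
    apply sup_le
    · calc U = B.orthogonal U := hUo.symm
        _ ≤ B.orthogonal (U ⊓ W) := LinearMap.BilinForm.orthogonal_le inf_le_left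
    · calc W = B.orthogonal W := hWo.symm
        _ ≤ B.orthogonal (U ⊓ W) := LinearMap.BilinForm.orthogonal_le inf_le_right
  have hHo : B.orthogonal (U ⊓ W) = U ⊔ W := by
    symm
    apply Submodule.eq_of_le_of_finrank_eq hle
    have h1 := Submodule.finrank_sup_add_finrank_inf_eq U W
    rw [LinearMap.BilinForm.finrank_orthogonal hnd, hV]
    rw [hU.1, hW.1] at h1
    omega
  -- each vector of X ∩ H^⊥ lies in U or in W
  have hcover : ∀ x ∈ X ⊓ B.orthogonal (U ⊓ W), x ∈ U ∨ x ∈ W := by
    rintro x ⟨hxX, hxH⟩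
    rw [hHo] at hxH
    obtain ⟨a, ha, b, hb, rfl⟩ := Submodule.mem_sup.mp hxH
    have hab : B a b = 0 := by
      have := h.add a b
      rw [hX.2 _ hxX, hU.2 a ha, hW.2 b hb] at this
      linear_combination -this
    by_cases haW : a ∈ W
    · right
      exact W.add_mem haW hb
    · left
      apply U.add_mem ha
      have hsup : (U ⊓ W) ⊔ Submodule.span F {a} = U := by
        apply Submodule.eq_of_le_of_finrank_eq
        · apply sup_le inf_le_left
          rw [Submodule.span_singleton_le_iff_mem]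
          exact ha
        · rw [finrank_sup_span_singleton (U ⊓ W) a (fun hc => haW hc.2), hU.1, hUW]
      apply h.mem_of_ortho hnd hV hU
      intro n hn
      rw [← hsup] at hn
      obtain ⟨y, hy, z, hz, rfl⟩ := Submodule.mem_sup.mp hn
      obtain ⟨c, rfl⟩ := Submodule.mem_span_singleton.mp hz
      rw [map_add, LinearMap.add_apply, map_smul, LinearMap.smul_apply, hab,
        h.ortho_of_ts hW.2 hy.2 hb]
      simp
  -- dimension of X ∩ H^⊥
  have hdimY : finrank F ↥(X ⊓ B.orthogonal (U ⊓ W)) = finrank F ↥(X ⊓ (U ⊓ W)) + 1 := by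
    have heq : X ⊓ B.orthogonal (U ⊓ W) = B.orthogonal (X ⊔ (U ⊓ W)) := by
      ext x
      constructor
      · rintro ⟨hxX, hxH⟩
        rw [LinearMap.BilinForm.mem_orthogonal_iff]
        intro n hn
        obtain ⟨y, hy, z, hz, rfl⟩ := Submodule.mem_sup.mp hn
        rw [map_add, LinearMap.add_apply, h.ortho_of_ts hX.2 hy hxX]
        rw [zero_add]
        exact hxH z hz
      · intro hx
        rw [LinearMap.BilinForm.mem_orthogonal_iff] at hx
        refine ⟨?_, ?_⟩
        · apply h.mem_of_ortho hnd hV hX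
          intro u hu
          exact hx u (Submodule.mem_sup_left hu)
        · intro n hn
          exact hx n (Submodule.mem_sup_right hn)
    rw [heq, LinearMap.BilinForm.finrank_orthogonal hnd, hV]
    have h1 := Submodule.finrank_sup_add_finrank_inf_eq X (U ⊓ W)
    rw [hX.1] at h1
    have h2 : finrank F ↥(X ⊓ (U ⊓ W)) ≤ finrank F ↥(U ⊓ W) := Submodule.finrank_mono inf_le_right
    omega
  -- the union argument
  have hUle : U ≤ B.orthogonal (U ⊓ W) := le_sup_left.trans hle
  have hWle : W ≤ B.orthogonal (U ⊓ W) := le_sup_right.trans hle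
  have hcases : X ⊓ B.orthogonal (U ⊓ W) ≤ U ∨ X ⊓ B.orthogonal (U ⊓ W) ≤ W := by
    by_contra hcon
    push Not at hcon
    obtain ⟨h1, h2⟩ := hcon
    obtain ⟨a, haY, haU⟩ := SetLike.not_le_iff_exists.mp h1
    obtain ⟨b, hbY, hbW⟩ := SetLike.not_le_iff_exists.mp h2
    have haW : a ∈ W := (hcover a haY).resolve_left haU
    have hbU : b ∈ U := (hcover b hbY).resolve_right hbW
    rcases hcover (a + b) (Submodule.add_mem _ haY hbY) with hab | hab
    · apply haU
      have := U.sub_mem hab hbU
      rwa [add_sub_cancel_right] at this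
    · apply hbW
      have := W.sub_mem hab haW
      rwa [add_sub_cancel_left] at this
  rcases hcases with hc | hc
  · left
    have e1 : X ⊓ U = X ⊓ B.orthogonal (U ⊓ W) :=
      le_antisymm (inf_le_inf_left X hUle) (le_inf inf_le_left hc)
    have e2 : X ⊓ W = X ⊓ (U ⊓ W) := by
      apply le_antisymm
      · apply le_inf inf_le_left
        apply le_inf _ inf_le_right
        exact (inf_le_inf_left X hWle).trans hc
      · exact inf_le_inf_left X inf_le_right
    rw [e1, e2, hdimY]
  · right
    have e1 : X ⊓ W = X ⊓ B.orthogonal (U ⊓ W) :=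
      le_antisymm (inf_le_inf_left X hWle) (le_inf inf_le_left hc)
    have e2 : X ⊓ U = X ⊓ (U ⊓ W) := by
      apply le_antisymm
      · apply le_inf inf_le_left
        apply le_inf inf_le_right
        exact (inf_le_inf_left X hUle).trans hc
      · exact inf_le_inf_left X inf_le_left
    rw [e1, e2, hdimY]

/-- the three-term parity lemma for maximal totally singular subspaces -/
theorem parity (h : IsQF Q B) (hnd : B.Nondegenerate) {m : ℕ} (hV : finrank F V = 2 * m) :
    ∀ (k : ℕ) (U W X : Submodule F V), IsMTS Q m U → IsMTS Q m W → IsMTS Q m X →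
      m - finrank F ↥(U ⊓ W) = k →
      Even ((m - finrank F ↥(U ⊓ W)) + (m - finrank F ↥(W ⊓ X)) + (m - finrank F ↥(U ⊓ X))) := by
  intro k
  induction k using Nat.strong_induction_on with
  | _ k ih =>
    intro U W X hU hW hX hk
    by_cases hWU : W ≤ U
    · have : W = U := eq_of_le hW hU hWU
      subst this
      rw [inf_idem, hW.1, Nat.sub_self, zero_add]
      exact ⟨_, rfl⟩
    · obtain ⟨w, hwW, hwU⟩ := SetLike.not_le_iff_exists.mp hWU
      obtain ⟨hN, hUN, hwN, hNW⟩ := h.nbr_spec hnd hV hU (hW.2 w hwW) hwU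
      have hNW' := hNW W hW.2 hwW
      have hUWlt : finrank F ↥(U ⊓ W) < m := by
        have h1 : finrank F ↥(U ⊓ W) ≤ m := finrank_inf_le m hU.1
        have h2 : finrank F ↥(U ⊓ W) ≠ m := by
          intro heq
          have : U ⊓ W = W := Submodule.eq_of_le_of_finrank_eq inf_le_right (by rw [heq, hW.1])
          apply hWU
          rw [← this]
          exact inf_le_left
        omega
      have hNWle : finrank F ↥(nbr B U w ⊓ W) ≤ m := finrank_inf_le m hN.1
      have hIH := ih (m - finrank F ↥(nbr B U w ⊓ W)) (by omega) (nbr B U w) W X hN hW hX rfl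
      have hA1 := h.adjacent hnd hV hU hN hX hUN
      have hA2 := h.adjacent hnd hV hU hN hW hUN
      rw [inf_comm X U, inf_comm X (nbr B U w)] at hA1
      rw [inf_comm W U, inf_comm W (nbr B U w)] at hA2
      have b1 : finrank F ↥(U ⊓ X) ≤ m := finrank_inf_le m hU.1
      have b2 : finrank F ↥(nbr B U w ⊓ X) ≤ m := finrank_inf_le m hN.1
      have b3 : finrank F ↥(W ⊓ X) ≤ m := finrank_inf_le m hW.1
      rw [Nat.even_iff] at hIH ⊢
      omega

/-- the parity lemma, final form -/
theorem parity' (h : IsQF Q B) (hnd : B.Nondegenerate) {m : ℕ} (hV : finrank F V = 2 * m)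
    {U W X : Submodule F V} (hU : IsMTS Q m U) (hW : IsMTS Q m W) (hX : IsMTS Q m X) :
    Even ((m - finrank F ↥(U ⊓ W)) + (m - finrank F ↥(W ⊓ X)) + (m - finrank F ↥(U ⊓ X))) :=
  h.parity hnd hV _ U W X hU hW hX rfl

end IsQF

end main

end Cfsg.Agent.Helper36.TotSing
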