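import Mathlib
import Cfsg.Prelude.Def_Classical
import Cfsg.Agent.Lib.Helper36.OrthChar2
import Cfsg.Agent.Lib.Helper36.TotSing

set_option autoImplicit false

namespace Cfsg.Agent.Helper36.QuadInv

open Matrix Module Cfsg.Agent.Helper36 Cfsg.Agent.Helper36.TotSing
open scoped commutatorElement

universe u

/-- the isometry group of `Q`, as a type -/
abbrev OG {ι : Type} [Fintype ι] [DecidableEq ι] (F : Type u) [Field F] (Q : (ι → F) → F) : Type u :=
  ↥(Cfsg.isometryGroup F Q)

section basics

variable {F : Type u} [Field F] [Fintype F] [CharP F 2] {ι : Type} [Fintype ι] [DecidableEq ι]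
variable {Q : (ι → F) → F} {B : (ι → F) →ₗ[F] (ι → F) →ₗ[F] F}

omit [Fintype F] [CharP F 2] in
theorem mem_O_iff (c : GL ι F) :
    c ∈ Cfsg.isometryGroup F Q ↔ ∀ v, Q ((c : Matrix ι ι F) *ᵥ v) = Q v := by
  constructor
  · intro h v
    exact h v v
  · intro h u _
    exact h u

/-- the action of the isometry group on the natural module -/
noncomputable def actHom (Q : (ι → F) → F) : OG F Q →* ((ι → F) ≃ₗ[F] (ι → F)) :=
  (glEquiv F ι).toMonoidHom.comp (Subgroup.subtype _)

omit [Fintype F] [CharP F 2] in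
theorem actHom_apply (t : OG F Q) (v : ι → F) :
    actHom Q t v = (t.1 : Matrix ι ι F) *ᵥ v := rfl

omit [Fintype F] [CharP F 2] in
theorem Q_act (t : OG F Q) (v : ι → F) : Q (actHom Q t v) = Q v :=
  (mem_O_iff _).mp t.2 v

omit [Fintype F] in
theorem B_act (hQ : IsQuad Q B) (t : OG F Q) (u v : ι → F) :
    B (actHom Q t u) (actHom Q t v) = B u v :=
  hQ.preserves_polar (actHom Q t).toLinearMap (Q_act t) u v

omit [Fintype F] [CharP F 2] in
theorem act_mul (s t : OG F Q) (v : ι → F) :
    actHom Q (s * t) v = actHom Q s (actHom Q t v) := by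
  rw [map_mul]; rfl

omit [Fintype F] [CharP F 2] in
theorem act_one (v : ι → F) : actHom Q 1 v = v := by
  rw [map_one]; rfl

omit [Fintype F] [CharP F 2] in
theorem actHom_injective : Function.Injective (actHom Q) := by
  intro s t h
  apply Subtype.ext
  exact (glEquiv F ι).injective h

omit [Fintype F] [CharP F 2] in
theorem act_ext (s t : OG F Q) (h : ∀ v, actHom Q s v = actHom Q t v) : s = t :=
  actHom_injective (LinearEquiv.ext h)

/-- an isometry given as a linear equivalence -/
noncomputable def mkO (E : (ι → F) ≃ₗ[F] (ι → F)) (hE : ∀ v, Q (E v) = Q v) : OG F Q :=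
  ⟨(glEquiv F ι).symm E, (mem_O_iff _).mpr (fun v => by
    rw [← glEquiv_apply, MulEquiv.apply_symm_apply]; exact hE v)⟩

omit [Fintype F] [CharP F 2] in
theorem actHom_mkO (E : (ι → F) ≃ₗ[F] (ι → F)) (hE : ∀ v, Q (E v) = Q v) :
    actHom Q (mkO E hE) = E := by
  show glEquiv F ι ((glEquiv F ι).symm E) = E
  exact MulEquiv.apply_symm_apply _ _

omit [Fintype F] [CharP F 2] in
theorem rank_eq (t : OG F Q) :
    ((t.1 : Matrix ι ι F) - 1).rank =
      finrank F (LinearMap.range ((actHom Q t).toLinearMap - LinearMap.id)) := by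
  have : ((t.1 : Matrix ι ι F) - 1).mulVecLin = (actHom Q t).toLinearMap - LinearMap.id := by
    apply LinearMap.ext
    intro v
    simp [actHom_apply]
  rw [Matrix.rank, this]

omit [Fintype F] [CharP F 2] in
theorem act_act_of_sq (t : OG F Q) (ht : t * t = 1) (v : ι → F) :
    actHom Q t (actHom Q t v) = v := by
  rw [← act_mul, ht, act_one]

omit [Fintype F] [CharP F 2] in
theorem eq_one_of_rank_zero (t : OG F Q) (h : ((t.1 : Matrix ι ι F) - 1).rank = 0) : t = 1 := by
  rw [rank_eq] at h
  have h1 : LinearMap.range ((actHom Q t).toLinearMap - LinearMap.id) = ⊥ :=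
    Submodule.finrank_eq_zero.mp h
  rw [LinearMap.range_eq_bot] at h1
  apply act_ext
  intro v
  rw [act_one]
  have := LinearMap.congr_fun h1 v
  rw [LinearMap.sub_apply, LinearMap.zero_apply, LinearMap.id_apply, LinearEquiv.coe_coe] at this
  exact sub_eq_zero.mp this

omit [Fintype F] [CharP F 2] in
theorem rank_one_eq : (((1 : OG F Q).1 : Matrix ι ι F) - 1).rank = 0 := by
  simp

omit [Fintype F] [Fintype ι] [DecidableEq ι] in
theorem vsub_eq_add (x y : ι → F) : x - y = x + y := by
  rw [sub_eq_add_neg]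
  congr 1
  exact neg_eq_of_add_eq_zero_left (vec_add_self F y)

end basics

section reflections

variable {F : Type u} [Field F] [Fintype F] [CharP F 2] {ι : Type} [Fintype ι] [DecidableEq ι]
variable {Q : (ι → F) → F} {B : (ι → F) →ₗ[F] (ι → F) →ₗ[F] F}

/-- the reflection in a non-singular vector -/
noncomputable def refl (hQ : IsQuad Q B) (a : ι → F) (ha : Q a ≠ 0) : OG F Q :=
  mkO (LinearEquiv.ofInvolutive (tvMap B a (Q a)⁻¹) (tvMap_tvMap hQ a _))
    (fun v => by
      show Q (tvMap B a (Q a)⁻¹ v) = _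
      rw [Q_tvMap hQ]
      have : (Q a)⁻¹ * (Q a)⁻¹ * Q a + (Q a)⁻¹ = 0 := by
        rw [mul_assoc, inv_mul_cancel₀ ha, mul_one]
        exact char_two_add_self _
      rw [this, mul_zero, add_zero])

omit [Fintype F] in
theorem act_refl (hQ : IsQuad Q B) (a : ι → F) (ha : Q a ≠ 0) (v : ι → F) :
    actHom Q (refl hQ a ha) v = v + (Q a)⁻¹ • (B a v • a) := by
  unfold refl
  rw [actHom_mkO]
  exact tvMap_apply _ _ _ _

omit [Fintype F] in
theorem refl_mul_self (hQ : IsQuad Q B) (a : ι → F) (ha : Q a ≠ 0) :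
    refl hQ a ha * refl hQ a ha = 1 := by
  apply act_ext
  intro v
  rw [act_mul, act_one]
  unfold refl
  rw [actHom_mkO]
  exact tvMap_tvMap hQ a _ v

omit [Fintype F] [CharP F 2] [Fintype ι] [DecidableEq ι] in
theorem exists_B_ne (hnd : ∀ u, (∀ v, B u v = 0) → u = 0) (a : ι → F) (ha : a ≠ 0) :
    ∃ v, B a v ≠ 0 := by
  by_contra hcon
  push Not at hcon
  exact ha (hnd a hcon)

omit [Fintype F] [Fintype ι] [DecidableEq ι] in
theorem ne_zero_of_Q (hQ : IsQuad Q B) (a : ι → F) (ha : Q a ≠ 0) : a ≠ 0 := by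
  rintro rfl
  exact ha hQ.zero

omit [Fintype F] in
theorem rank_refl (hQ : IsQuad Q B) (hnd : ∀ u, (∀ v, B u v = 0) → u = 0) (a : ι → F)
    (ha : Q a ≠ 0) : (((refl hQ a ha).1 : Matrix ι ι F) - 1).rank = 1 := by
  rw [rank_eq]
  have ha0 := ne_zero_of_Q hQ a ha
  obtain ⟨v₀, hv₀⟩ := exists_B_ne hnd a ha0
  have hc : (Q a)⁻¹ * B a v₀ ≠ 0 := mul_ne_zero (inv_ne_zero ha) hv₀
  have : LinearMap.range ((actHom Q (refl hQ a ha)).toLinearMap - LinearMap.id) =
      Submodule.span F {a} := by
    apply le_antisymm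
    · rintro w ⟨v, rfl⟩
      rw [LinearMap.sub_apply, LinearEquiv.coe_coe, act_refl, LinearMap.id_apply,
        add_sub_cancel_left, smul_smul]
      exact Submodule.smul_mem _ _ (Submodule.mem_span_singleton_self a)
    · rw [Submodule.span_singleton_le_iff_mem]
      refine ⟨((Q a)⁻¹ * B a v₀)⁻¹ • v₀, ?_⟩
      rw [map_smul, LinearMap.sub_apply, LinearEquiv.coe_coe, act_refl, LinearMap.id_apply,
        add_sub_cancel_left, smul_smul, smul_smul, mul_assoc, inv_mul_cancel₀ hc, one_smul]
  rw [this, finrank_span_singleton ha0]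

omit [Fintype F] in
theorem refl_ne_one (hQ : IsQuad Q B) (hnd : ∀ u, (∀ v, B u v = 0) → u = 0) (a : ι → F)
    (ha : Q a ≠ 0) : refl hQ a ha ≠ 1 := by
  intro h
  have h1 := rank_refl hQ hnd a ha
  rw [h] at h1
  simp at h1

omit [Fintype F] in
/-- the reflection depends only on the line spanned by the vector -/
theorem refl_smul (hQ : IsQuad Q B) (a : ι → F) (ha : Q a ≠ 0) (lam : F) (hlam : lam ≠ 0)
    (ha' : Q (lam • a) ≠ 0) : refl hQ (lam • a) ha' = refl hQ a ha := by
  apply act_ext
  intro v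
  rw [act_refl, act_refl, hQ.smul, map_smul, LinearMap.smul_apply, smul_eq_mul, smul_smul, smul_smul,
    smul_smul]
  congr 2
  field_simp

end reflections

section transitivity

variable {F : Type u} [Field F] [Fintype F] [CharP F 2] {ι : Type} [Fintype ι] [DecidableEq ι]
variable {Q : (ι → F) → F} {B : (ι → F) →ₗ[F] (ι → F) →ₗ[F] F}

omit [Fintype F] [Fintype ι] [DecidableEq ι] in
/-- symplectic transvections preserve the polar form -/
theorem tvMap_preserves (hQ : IsQuad Q B) (y : ι → F) (kap : F) (u v : ι → F) :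
    B (tvMap B y kap u) (tvMap B y kap v) = B u v := by
  rw [tvMap_apply, tvMap_apply]
  simp only [map_add, map_smul, LinearMap.add_apply, LinearMap.smul_apply, smul_eq_mul, hQ.self,
    mul_zero, add_zero]
  rw [hQ.symm u y]
  have := char_two_add_self (kap * (B y v * B y u))
  linear_combination this

omit [Fintype F] [CharP F 2] [Fintype ι] [DecidableEq ι] in
/-- a vector outside two proper kernels -/
theorem exists_not_mem_two {W : Type*} [AddCommGroup W] [Module F W]
    {W' : Type*} [AddCommGroup W'] [Module F W']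
    (f : (ι → F) →ₗ[F] W) (g : (ι → F) →ₗ[F] W') (hf : ∃ x, f x ≠ 0) (hg : ∃ y, g y ≠ 0) :
    ∃ z, f z ≠ 0 ∧ g z ≠ 0 := by
  obtain ⟨x, hx⟩ := hf
  obtain ⟨y, hy⟩ := hg
  by_cases hgx : g x = 0
  · by_cases hfy : f y = 0
    · refine ⟨x + y, ?_, ?_⟩
      · rw [map_add, hfy, add_zero]; exact hx
      · rw [map_add, hgx, zero_add]; exact hy
    · exact ⟨y, hfy, hy⟩
  · exact ⟨x, hx, hgx⟩

omit [Fintype F] [Fintype ι] [DecidableEq ι] in
/-- the symplectic group of the polar form is transitive on non-zero vectors -/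
theorem exists_symplectic_map (hQ : IsQuad Q B) (hnd : ∀ u, (∀ v, B u v = 0) → u = 0)
    (u w : ι → F) (hu : u ≠ 0) (hw : w ≠ 0) :
    ∃ g : (ι → F) ≃ₗ[F] (ι → F), (∀ x y, B (g x) (g y) = B x y) ∧ g u = w := by
  have step : ∀ u w : ι → F, B u w ≠ 0 →
      ∃ g : (ι → F) ≃ₗ[F] (ι → F), (∀ x y, B (g x) (g y) = B x y) ∧ g u = w := by
    intro u w huw
    refine ⟨LinearEquiv.ofInvolutive (tvMap B (u + w) (B u w)⁻¹) (tvMap_tvMap hQ _ _), ?_, ?_⟩
    · intro x y
      exact tvMap_preserves hQ _ _ x y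
    · show tvMap B (u + w) (B u w)⁻¹ u = w
      rw [tvMap_apply, map_add, LinearMap.add_apply, hQ.self, zero_add, hQ.symm w u, smul_smul,
        inv_mul_cancel₀ huw, one_smul, ← add_assoc, vec_add_self F, zero_add]
  by_cases huw : B u w = 0
  · obtain ⟨z, hz1, hz2⟩ := exists_not_mem_two (B u) (B w) (exists_B_ne hnd u hu)
      (exists_B_ne hnd w hw)
    obtain ⟨g1, hg1, hg1u⟩ := step u z hz1
    obtain ⟨g2, hg2, hg2z⟩ := step z w (by rw [hQ.symm]; exact hz2)
    refine ⟨g1.trans g2, ?_, ?_⟩
    · intro x y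
      show B (g2 (g1 x)) (g2 (g1 y)) = B x y
      rw [hg2, hg1]
    · show g2 (g1 u) = w
      rw [hg1u, hg2z]
  · exact step u w huw

/-- any two reflections are conjugate in `O(Q)` -/
theorem exists_conj_refl (hQ : IsQuad Q B) (hnd : ∀ u, (∀ v, B u v = 0) → u = 0)
    (hcount : Nat.card {v : ι → F // Q v = 0} * Nat.card F ≠ Nat.card (ι → F))
    (a : ι → F) (ha : Q a ≠ 0) (b : ι → F) (hb : Q b ≠ 0) :
    ∃ k : OG F Q, k * refl hQ a ha = refl hQ b hb * k := by
  -- rescale `b`
  obtain ⟨lam, hlam⟩ := exists_sqrt_char_two (Q a / Q b)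
  have hlam0 : lam ≠ 0 := by
    rintro rfl
    rw [mul_zero] at hlam
    exact (div_ne_zero ha hb) hlam.symm
  have hQb' : Q (lam • b) = Q a := by
    rw [hQ.smul, hlam, div_mul_cancel₀ _ hb]
  have hb' : Q (lam • b) ≠ 0 := by rw [hQb']; exact ha
  have hrefl : refl hQ (lam • b) hb' = refl hQ b hb := refl_smul hQ b hb lam hlam0 hb'
  obtain ⟨g, hg, hga⟩ := exists_symplectic_map hQ hnd a (lam • b) (ne_zero_of_Q hQ a ha)
    (ne_zero_of_Q hQ _ hb')
  have hconj : ∀ v, g (actHom Q (refl hQ a ha) (g.symm v)) = actHom Q (refl hQ b hb) v := by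
    intro v
    rw [← hrefl, act_refl, act_refl, map_add, map_smul, map_smul, hga, g.apply_symm_apply, hQb']
    congr 3
    have := hg a (g.symm v)
    rw [hga, g.apply_symm_apply] at this
    exact this.symm
  obtain ⟨k, hk1, hk2⟩ := exists_isometry_conj hQ hnd hcount (actHom Q (refl hQ a ha)) g
    (Q_act _) (act_act_of_sq _ (refl_mul_self hQ a ha)) hg
    (fun v => by rw [hconj]; exact Q_act _ v)
  refine ⟨mkO k hk1, ?_⟩
  apply act_ext
  intro v
  rw [act_mul, act_mul, actHom_mkO, hk2, hconj]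

/-- a product of two reflections lies in the commutator subgroup -/
theorem refl_mul_refl_mem (hQ : IsQuad Q B) (hnd : ∀ u, (∀ v, B u v = 0) → u = 0)
    (hcount : Nat.card {v : ι → F // Q v = 0} * Nat.card F ≠ Nat.card (ι → F))
    (a : ι → F) (ha : Q a ≠ 0) (b : ι → F) (hb : Q b ≠ 0) :
    refl hQ a ha * refl hQ b hb ∈ Cfsg.Omega F Q := by
  obtain ⟨k, hk⟩ := exists_conj_refl hQ hnd hcount a ha b hb
  have key : refl hQ a ha * refl hQ b hb = ⁅refl hQ a ha, k⁆ := by
    have hb_eq : refl hQ b hb = k * refl hQ a ha * k⁻¹ := by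
      rw [hk, mul_assoc, mul_inv_cancel, mul_one]
    rw [commutatorElement_def, hb_eq, inv_eq_of_mul_eq_one_right (refl_mul_self hQ a ha)]
    group
  rw [key]
  exact Subgroup.commutator_mem_commutator (Subgroup.mem_top _) (Subgroup.mem_top _)

end transitivity

section peel

variable {F : Type u} [Field F] [Fintype F] [CharP F 2] {ι : Type} [Fintype ι] [DecidableEq ι]
variable {Q : (ι → F) → F} {B : (ι → F) →ₗ[F] (ι → F) →ₗ[F] F}

omit [Fintype F] in
/-- peeling a reflection off a non-alternating involution -/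
theorem peel (hQ : IsQuad Q B) (t : OG F Q) (ht : t * t = 1) (v : ι → F)
    (hv : B v (actHom Q t v) ≠ 0) :
    ∃ (ha : Q (actHom Q t v + v) ≠ 0),
      (refl hQ _ ha * t) * (refl hQ _ ha * t) = 1 ∧
      (((refl hQ _ ha * t).1 : Matrix ι ι F) - 1).rank + 1 = ((t.1 : Matrix ι ι F) - 1).rank := by
  obtain ⟨a, ha_def⟩ : ∃ a, a = actHom Q t v + v := ⟨_, rfl⟩
  rw [← ha_def]
  have hta : actHom Q t a = a := by
    rw [ha_def, map_add, act_act_of_sq t ht, add_comm]
  have hQa : Q a = B v (actHom Q t v) := by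
    rw [ha_def, hQ.add, Q_act t v, char_two_add_self, zero_add, hQ.symm]
  have ha : Q a ≠ 0 := by
    rw [hQa]; exact hv
  have ha0 : a ≠ 0 := ne_zero_of_Q hQ a ha
  have hBat : ∀ x, B a (actHom Q t x) = B a x := by
    intro x
    conv_lhs => rw [← hta]
    exact B_act hQ t a x
  refine ⟨ha, ?_, ?_⟩
  · have hcomm : refl hQ a ha * t = t * refl hQ a ha := by
      apply act_ext
      intro x
      rw [act_mul, act_mul, act_refl, act_refl, map_add, map_smul, map_smul, hta, hBat]
    calc refl hQ a ha * t * (refl hQ a ha * t) = refl hQ a ha * (t * refl hQ a ha) * t := by group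
      _ = refl hQ a ha * (refl hQ a ha * t) * t := by rw [hcomm]
      _ = (refl hQ a ha * refl hQ a ha) * (t * t) := by group
      _ = 1 := by rw [refl_mul_self, ht, mul_one]
  · rw [rank_eq, rank_eq]
    set N := (actHom Q t).toLinearMap - LinearMap.id with hN
    set N' := (actHom Q (refl hQ a ha * t)).toLinearMap - LinearMap.id with hN'
    have hNx : ∀ x, N x = actHom Q t x - x := fun x => rfl
    have hN'x : ∀ x, N' x = N x + (Q a)⁻¹ • (B a x • a) := by
      intro x
      show actHom Q (refl hQ a ha * t) x - x = (actHom Q t x - x) + _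
      rw [act_mul, act_refl, hBat]
      abel
    have hNv : N v = a := by
      rw [hNx, vsub_eq_add, ha_def]
    have hBav : B a v = Q a := by
      rw [hQa, ha_def, map_add, LinearMap.add_apply, hQ.self, add_zero, hQ.symm]
    have hker : LinearMap.ker N ⊔ Submodule.span F {v} ≤ LinearMap.ker N' := by
      apply sup_le
      · intro x hx
        rw [LinearMap.mem_ker] at hx ⊢
        have htx : actHom Q t x = x := by
          rw [hNx] at hx
          exact sub_eq_zero.mp hx
        have h1 : B (actHom Q t v) x = B v x := by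
          have := B_act hQ t v x
          rw [htx] at this
          exact this
        have hBax : B a x = 0 := by
          rw [ha_def, map_add, LinearMap.add_apply, h1]
          exact char_two_add_self _
        rw [hN'x, hx, hBax, zero_smul, smul_zero, add_zero]
      · rw [Submodule.span_singleton_le_iff_mem, LinearMap.mem_ker, hN'x, hNv, hBav, smul_smul,
          inv_mul_cancel₀ ha, one_smul]
        exact vec_add_self F a
    have hv_notin : v ∉ LinearMap.ker N := by
      rw [LinearMap.mem_ker, hNv]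
      exact ha0
    have h1 := finrank_sup_span_singleton (LinearMap.ker N) v hv_notin
    have h2 := Submodule.finrank_mono hker
    have h3 := LinearMap.finrank_range_add_finrank_ker N
    have h4 := LinearMap.finrank_range_add_finrank_ker N'
    have hrange : LinearMap.range N ≤ LinearMap.range N' ⊔ Submodule.span F {a} := by
      rintro w ⟨x, rfl⟩
      have : N x = N' x + (Q a)⁻¹ • (B a x • a) := by
        rw [hN'x, add_assoc, vec_add_self F, add_zero]
      rw [this]
      exact Submodule.add_mem _ (Submodule.mem_sup_left ⟨x, rfl⟩)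
        (Submodule.mem_sup_right (Submodule.smul_mem _ _ (Submodule.smul_mem _ _
          (Submodule.mem_span_singleton_self a))))
    have h5 := Submodule.finrank_mono hrange
    have h6 := Submodule.finrank_add_le_finrank_add_finrank (LinearMap.range N')
      (Submodule.span F {a})
    have h7 : finrank F (Submodule.span F {a}) = 1 := finrank_span_singleton ha0
    omega

omit [Fintype F] in
/-- `N = t - 1` is self-adjoint for an involution -/
theorem N_adj (hQ : IsQuad Q B) (t : OG F Q) (ht : t * t = 1) (x y : ι → F) :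
    B (actHom Q t y - y) x = B y (actHom Q t x - x) := by
  have h1 : B (actHom Q t y) x = B y (actHom Q t x) := by
    have := B_act hQ t (actHom Q t y) x
    rw [act_act_of_sq t ht] at this
    exact this.symm
  rw [map_sub, LinearMap.sub_apply, map_sub, h1]

omit [Fintype F] [Fintype ι] [DecidableEq ι] in
theorem nondegenerate_of (hQ : IsQuad Q B) (hnd : ∀ u, (∀ v, B u v = 0) → u = 0) :
    LinearMap.BilinForm.Nondegenerate B := by
  constructor
  · intro u hu
    exact hnd u hu
  · intro v hv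
    apply hnd v
    intro u
    rw [hQ.symm]
    exact hv u

omit [Fintype F] [Fintype ι] [DecidableEq ι] in
theorem isRefl_of (hQ : IsQuad Q B) : LinearMap.BilinForm.IsRefl B := fun u v huv => by
  rw [hQ.symm]; exact huv

omit [Fintype F] in
/-- the orthogonal complement of the image of `t - 1` is its kernel -/
theorem orthogonal_range (hQ : IsQuad Q B) (hnd : ∀ u, (∀ v, B u v = 0) → u = 0) (t : OG F Q)
    (ht : t * t = 1) :
    LinearMap.BilinForm.orthogonal B
      (LinearMap.range ((actHom Q t).toLinearMap - LinearMap.id)) =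
      LinearMap.ker ((actHom Q t).toLinearMap - LinearMap.id) := by
  ext x
  constructor
  · intro hx
    rw [LinearMap.mem_ker]
    apply hnd
    intro y
    rw [hQ.symm]
    have := hx _ ⟨y, rfl⟩
    have h2 := N_adj hQ t ht x y
    exact h2.symm.trans this
  · intro hx n hn
    obtain ⟨y, rfl⟩ := hn
    rw [LinearMap.mem_ker] at hx
    show B (actHom Q t y - y) x = 0
    rw [N_adj hQ t ht x y]
    have : actHom Q t x - x = 0 := hx
    rw [this, map_zero]

omit [Fintype F] in
/-- for an alternating-type involution, a non-singular fixed vector pairs non-trivially with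
some fixed vector -/
theorem exists_fixed_pairing (hQ : IsQuad Q B) (hnd : ∀ u, (∀ v, B u v = 0) → u = 0)
    (t : OG F Q) (ht : t * t = 1) (halt : ∀ v, B v (actHom Q t v) = 0) (a : ι → F)
    (ha : Q a ≠ 0) : ∃ v₁, actHom Q t v₁ = v₁ ∧ B a v₁ ≠ 0 := by
  by_contra hcon
  push Not at hcon
  have h1 : a ∈ LinearMap.BilinForm.orthogonal B
      (LinearMap.ker ((actHom Q t).toLinearMap - LinearMap.id)) := by
    intro n hn
    rw [LinearMap.mem_ker] at hn
    have hn' : actHom Q t n = n := sub_eq_zero.mp hn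
    show B n a = 0
    rw [hQ.symm]
    exact hcon n hn'
  rw [← orthogonal_range hQ hnd t ht,
    LinearMap.BilinForm.orthogonal_orthogonal (nondegenerate_of hQ hnd) (isRefl_of hQ)] at h1
  obtain ⟨y, hy⟩ := h1
  apply ha
  rw [← hy]
  show Q (actHom Q t y - y) = 0
  rw [vsub_eq_add, hQ.add, Q_act t y, char_two_add_self, zero_add, hQ.symm]
  exact halt y

omit [Fintype F] in
/-- multiplying an alternating-type involution by a commuting reflection raises the rank -/
theorem rank_refl_mul_of_alt (hQ : IsQuad Q B) (hnd : ∀ u, (∀ v, B u v = 0) → u = 0)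
    (t : OG F Q) (ht : t * t = 1) (halt : ∀ v, B v (actHom Q t v) = 0) (a : ι → F)
    (ha : Q a ≠ 0) (hta : actHom Q t a = a) :
    (refl hQ a ha * t) * (refl hQ a ha * t) = 1 ∧
      (((refl hQ a ha * t).1 : Matrix ι ι F) - 1).rank = ((t.1 : Matrix ι ι F) - 1).rank + 1 ∧
      ∀ x, B x (actHom Q (refl hQ a ha * t) x) = (Q a)⁻¹ * (B a x * B a x) := by
  have hBat : ∀ x, B a (actHom Q t x) = B a x := by
    intro x
    conv_lhs => rw [← hta]
    exact B_act hQ t a x
  have hcomm : refl hQ a ha * t = t * refl hQ a ha := by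
    apply act_ext
    intro x
    rw [act_mul, act_mul, act_refl, act_refl, map_add, map_smul, map_smul, hta, hBat]
  have hsq : (refl hQ a ha * t) * (refl hQ a ha * t) = 1 := by
    calc refl hQ a ha * t * (refl hQ a ha * t) = refl hQ a ha * (t * refl hQ a ha) * t := by group
      _ = refl hQ a ha * (refl hQ a ha * t) * t := by rw [hcomm]
      _ = (refl hQ a ha * refl hQ a ha) * (t * t) := by group
      _ = 1 := by rw [refl_mul_self, ht, mul_one]
  have hq : ∀ x, B x (actHom Q (refl hQ a ha * t) x) = (Q a)⁻¹ * (B a x * B a x) := by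
    intro x
    rw [act_mul, act_refl, map_add, map_smul, map_smul, halt, zero_add, hBat, smul_eq_mul,
      smul_eq_mul, hQ.symm x a]
  refine ⟨hsq, ?_, hq⟩
  obtain ⟨v₁, hv₁, hne⟩ := exists_fixed_pairing hQ hnd t ht halt a ha
  have hv : B v₁ (actHom Q (refl hQ a ha * t) v₁) ≠ 0 := by
    rw [hq]
    exact mul_ne_zero (inv_ne_zero ha) (mul_ne_zero hne hne)
  obtain ⟨ha', _, hr⟩ := peel hQ (refl hQ a ha * t) hsq v₁ hv
  have hvec : actHom Q (refl hQ a ha * t) v₁ + v₁ = ((Q a)⁻¹ * B a v₁) • a := by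
    rw [act_mul, hv₁, act_refl, add_comm, ← add_assoc, vec_add_self F, zero_add, smul_smul]
  have hc : (Q a)⁻¹ * B a v₁ ≠ 0 := mul_ne_zero (inv_ne_zero ha) hne
  have hrefl : refl hQ (actHom Q (refl hQ a ha * t) v₁ + v₁) ha' = refl hQ a ha := by
    have ha'' : Q (((Q a)⁻¹ * B a v₁) • a) ≠ 0 := by rw [← hvec]; exact ha'
    have h1 : refl hQ (actHom Q (refl hQ a ha * t) v₁ + v₁) ha' =
        refl hQ (((Q a)⁻¹ * B a v₁) • a) ha'' := by
      congr 1
    rw [h1]
    exact refl_smul hQ a ha _ hc ha''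
  rw [hrefl, ← mul_assoc, refl_mul_self, one_mul] at hr
  exact hr.symm

end peel

section decomposition

variable {F : Type u} [Field F] [Fintype F] [CharP F 2] {ι : Type} [Fintype ι] [DecidableEq ι]
variable {Q : (ι → F) → F} {B : (ι → F) →ₗ[F] (ι → F) →ₗ[F] F}

omit [Fintype F] in
/-- if the Witt index is less than half the dimension, every involution fixes a non-singular
vector -/
theorem exists_fixed_nonsingular
    (hnoTS : ∀ U : Submodule F (ι → F), (∀ u ∈ U, Q u = 0) → 2 * finrank F U < Fintype.card ι)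
    (t : OG F Q) (ht : t * t = 1) : ∃ a, actHom Q t a = a ∧ Q a ≠ 0 := by
  by_contra hcon
  push Not at hcon
  set N := (actHom Q t).toLinearMap - LinearMap.id with hN
  have hK : ∀ u ∈ LinearMap.ker N, Q u = 0 := by
    intro u hu
    rw [LinearMap.mem_ker] at hu
    exact hcon u (sub_eq_zero.mp hu)
  have h1 := hnoTS _ hK
  have hle : LinearMap.range N ≤ LinearMap.ker N := by
    rintro w ⟨y, rfl⟩
    rw [LinearMap.mem_ker]
    show actHom Q t (actHom Q t y - y) - (actHom Q t y - y) = 0
    rw [map_sub, act_act_of_sq t ht, vsub_eq_add, vsub_eq_add, vsub_eq_add, add_comm y]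
    exact vec_add_self F _
  have h2 := Submodule.finrank_mono hle
  have h3 := LinearMap.finrank_range_add_finrank_ker N
  rw [Module.finrank_fintype_fun_eq_card] at h3
  omega

/-- the class of an involution in the abelianisation is a power of the class of a reflection -/
theorem decomposition (hQ : IsQuad Q B) (hnd : ∀ u, (∀ v, B u v = 0) → u = 0)
    (hcount : Nat.card {v : ι → F // Q v = 0} * Nat.card F ≠ Nat.card (ι → F))
    (hnoTS : ∀ U : Submodule F (ι → F), (∀ u ∈ U, Q u = 0) → 2 * finrank F U < Fintype.card ι)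
    (a₀ : ι → F) (h₀ : Q a₀ ≠ 0) :
    ∀ (ℓ : ℕ) (t : OG F Q), t * t = 1 → ((t.1 : Matrix ι ι F) - 1).rank = ℓ →
      Abelianization.of t = (Abelianization.of (refl hQ a₀ h₀)) ^ ℓ := by
  set r := Abelianization.of (refl hQ a₀ h₀) with hr
  have hrr : r * r = 1 := by
    rw [hr, ← map_mul, refl_mul_self, map_one]
  have hrefl : ∀ (a : ι → F) (ha : Q a ≠ 0), Abelianization.of (refl hQ a ha) = r := by
    intro a ha
    have hmem := refl_mul_refl_mem hQ hnd hcount a ha a₀ h₀
    have h1 : refl hQ a ha * refl hQ a₀ h₀ ∈ (Abelianization.of : OG F Q →* _).ker := by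
      rw [Abelianization.ker_of]
      exact hmem
    rw [MonoidHom.mem_ker, map_mul, ← hr] at h1
    calc Abelianization.of (refl hQ a ha) = Abelianization.of (refl hQ a ha) * (r * r) := by
          rw [hrr, mul_one]
      _ = (Abelianization.of (refl hQ a ha) * r) * r := by rw [mul_assoc]
      _ = r := by rw [h1, one_mul]
  intro ℓ
  induction ℓ using Nat.strong_induction_on with
  | _ ℓ ih =>
    intro t ht hrank
    by_cases hℓ : ℓ = 0
    · subst hℓ
      rw [eq_one_of_rank_zero t hrank, map_one, pow_zero]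
    by_cases halt : ∀ v, B v (actHom Q t v) = 0
    · -- alternating type
      obtain ⟨a, hta, ha⟩ := exists_fixed_nonsingular hnoTS t ht
      obtain ⟨hsq1, hrank1, hq1⟩ := rank_refl_mul_of_alt hQ hnd t ht halt a ha hta
      obtain ⟨t1, ht1def⟩ : ∃ t1, t1 = refl hQ a ha * t := ⟨_, rfl⟩
      rw [← ht1def] at hsq1 hrank1 hq1
      -- choose `v` with `B a v ≠ 0` and `t v ≠ v`
      have htne : t ≠ 1 := by
        intro h
        apply hℓ
        rw [← hrank, h]
        exact rank_one_eq
      have hexN : ∃ y, ((actHom Q t).toLinearMap - LinearMap.id : (ι → F) →ₗ[F] (ι → F)) y ≠ 0 := by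
        by_contra hcon
        push Not at hcon
        apply htne
        apply act_ext
        intro v
        rw [act_one]
        exact sub_eq_zero.mp (hcon v)
      obtain ⟨v, hv1, hv2⟩ := exists_not_mem_two (B a)
        ((actHom Q t).toLinearMap - LinearMap.id : (ι → F) →ₗ[F] (ι → F)) (exists_B_ne hnd a (ne_zero_of_Q hQ a ha)) hexN
      have hv' : B v (actHom Q t1 v) ≠ 0 := by
        rw [hq1]
        exact mul_ne_zero (inv_ne_zero ha) (mul_ne_zero hv1 hv1)
      obtain ⟨hb, hsq2, hrank2⟩ := peel hQ t1 hsq1 v hv'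
      obtain ⟨t2, ht2def⟩ : ∃ t2, t2 = refl hQ (actHom Q t1 v + v) hb * t1 := ⟨_, rfl⟩
      rw [← ht2def] at hsq2 hrank2
      -- `b = N v + λ a` with `N v ≠ 0` in the image of `N`
      have hbexp : actHom Q t1 v + v = (actHom Q t v - v) + ((Q a)⁻¹ * B a v) • a := by
        rw [ht1def, act_mul, act_refl, vsub_eq_add, smul_smul]
        have hBat : B a (actHom Q t v) = B a v := by
          conv_lhs => rw [← hta]
          exact B_act hQ t a v
        rw [hBat]
        abel
      -- `t1 b = b`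
      have htb : actHom Q t1 (actHom Q t1 v + v) = actHom Q t1 v + v := by
        rw [map_add, act_act_of_sq t1 hsq1, add_comm]
      -- `t2` is not of alternating type
      have hnonalt : ∃ x, B x (actHom Q t2 x) ≠ 0 := by
        -- find `x` with `B a x = 0` and `B b x ≠ 0`
        have hex : ∃ x, B a x = 0 ∧ B (actHom Q t1 v + v) x ≠ 0 := by
          by_contra hcon
          push Not at hcon
          obtain ⟨x₀, hx₀⟩ := exists_B_ne hnd a (ne_zero_of_Q hQ a ha)
          have hmul : ∀ x, B (actHom Q t1 v + v) x =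
              B a x * ((B a x₀)⁻¹ * B (actHom Q t1 v + v) x₀) := by
            intro x
            have h1 : B a (x - (B a x * (B a x₀)⁻¹) • x₀) = 0 := by
              rw [map_sub, map_smul, smul_eq_mul, mul_assoc, inv_mul_cancel₀ hx₀, mul_one, sub_self]
            have h2 := hcon _ h1
            rw [map_sub, map_smul, smul_eq_mul, sub_eq_zero] at h2
            rw [h2]
            ring
          have hb_eq : actHom Q t1 v + v = ((B a x₀)⁻¹ * B (actHom Q t1 v + v) x₀) • a := by
            have : actHom Q t1 v + v - ((B a x₀)⁻¹ * B (actHom Q t1 v + v) x₀) • a = 0 := by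
              apply hnd
              intro x
              rw [map_sub, LinearMap.sub_apply, map_smul, LinearMap.smul_apply, smul_eq_mul, hmul x]
              ring
            exact sub_eq_zero.mp this
          -- then `N v` is a multiple of `a`, so `a` lies in the image of `N`
          obtain ⟨μ₁, hμ₁⟩ : ∃ μ₁, μ₁ = (B a x₀)⁻¹ * B (actHom Q t1 v + v) x₀ := ⟨_, rfl⟩
          rw [← hμ₁, hbexp] at hb_eq
          have hNv : actHom Q t v - v = (μ₁ + (Q a)⁻¹ * B a v) • a := by
            rw [add_smul, ← hb_eq, add_assoc, vec_add_self F, add_zero]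
          have hμ0 : μ₁ + (Q a)⁻¹ * B a v ≠ 0 := by
            intro h0
            rw [h0, zero_smul] at hNv
            exact hv2 hNv
          -- `Q (N v) = 0` but `Q (μ a) ≠ 0`
          have hQN : Q (actHom Q t v - v) = 0 := by
            rw [vsub_eq_add, hQ.add, Q_act t v, char_two_add_self, zero_add, hQ.symm]
            exact halt v
          rw [hNv, hQ.smul] at hQN
          exact (mul_ne_zero (mul_ne_zero hμ0 hμ0) ha) hQN
        obtain ⟨x, hx1, hx2⟩ := hex
        refine ⟨x, ?_⟩
        rw [ht2def, act_mul, act_refl, map_add, map_smul, map_smul, hq1, hx1, mul_zero, mul_zero,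
          zero_add, smul_eq_mul, smul_eq_mul]
        have hBb : B (actHom Q t1 v + v) (actHom Q t1 x) = B (actHom Q t1 v + v) x := by
          conv_lhs => rw [← htb]
          exact B_act hQ t1 _ x
        rw [hBb, hQ.symm x]
        exact mul_ne_zero (inv_ne_zero hb) (mul_ne_zero hx2 hx2)
      obtain ⟨x, hx⟩ := hnonalt
      obtain ⟨hc, hsq3, hrank3⟩ := peel hQ t2 hsq2 x hx
      have hr3 : (((refl hQ (actHom Q t2 x + x) hc * t2).1 : Matrix ι ι F) - 1).rank = ℓ - 1 := by
        omega
      have ih3 := ih (ℓ - 1) (by omega) _ hsq3 hr3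
      -- `t = ρ_a ρ_b ρ_c t3`
      have e1 : t = refl hQ a ha * t1 := by
        rw [ht1def, ← mul_assoc, refl_mul_self, one_mul]
      have e2 : t1 = refl hQ (actHom Q t1 v + v) hb * t2 := by
        rw [ht2def, ← mul_assoc, refl_mul_self, one_mul]
      have e3 : t2 = refl hQ (actHom Q t2 x + x) hc *
          (refl hQ (actHom Q t2 x + x) hc * t2) := by
        rw [← mul_assoc, refl_mul_self, one_mul]
      rw [e1, e2, e3, map_mul, map_mul, map_mul, hrefl, hrefl, hrefl, ih3]
      have hℓ' : ℓ = (ℓ - 1) + 1 := by omega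
      conv_rhs => rw [hℓ', pow_succ]
      rw [← mul_assoc, ← mul_assoc, hrr, one_mul, mul_comm]
    · push Not at halt
      obtain ⟨v, hv⟩ := halt
      obtain ⟨ha, hsq1, hrank1⟩ := peel hQ t ht v hv
      have hr1 : (((refl hQ (actHom Q t v + v) ha * t).1 : Matrix ι ι F) - 1).rank = ℓ - 1 := by
        omega
      have ih1 := ih (ℓ - 1) (by omega) _ hsq1 hr1
      have e1 : t = refl hQ (actHom Q t v + v) ha * (refl hQ (actHom Q t v + v) ha * t) := by
        rw [← mul_assoc, refl_mul_self, one_mul]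
      rw [e1, map_mul, hrefl, ih1]
      have hℓ' : ℓ = (ℓ - 1) + 1 := by omega
      conv_rhs => rw [hℓ', pow_succ]
      rw [mul_comm]

end decomposition

section genericDelta

variable {F : Type u} [Field F] {Vt : Type*} [AddCommGroup Vt] [Module F Vt]
  [FiniteDimensional F Vt]
variable {Qt : Vt → F} {Bt : LinearMap.BilinForm F Vt}
variable {G : Type*} [Group G]

/-- codimension of `L ∩ gL` in `L` -/
noncomputable def dnatG (n : ℕ) (Lt : Submodule F Vt) (ε : G →* (Vt ≃ₗ[F] Vt)) (g : G) : ℕ :=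
  n - finrank F ↥(Lt ⊓ Lt.map (ε g).toLinearMap)

omit [FiniteDimensional F Vt] in
theorem imgG_mts {n : ℕ} {Lt : Submodule F Vt} (ε : G →* (Vt ≃ₗ[F] Vt))
    (hε : ∀ g x, Qt (ε g x) = Qt x) (hLt : IsMTS Qt n Lt) (g : G) :
    IsMTS Qt n (Lt.map (ε g).toLinearMap) := by
  constructor
  · rw [LinearEquiv.finrank_map_eq]
    exact hLt.1
  · rintro w ⟨v, hv, rfl⟩
    rw [LinearEquiv.coe_coe, hε]
    exact hLt.2 v hv

theorem dnatG_mul (hQt : IsQF Qt Bt) (hndt : Bt.Nondegenerate) {n : ℕ}
    (hVt : finrank F Vt = 2 * n) {Lt : Submodule F Vt} (hLt : IsMTS Qt n Lt)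
    (ε : G →* (Vt ≃ₗ[F] Vt)) (hε : ∀ g x, Qt (ε g x) = Qt x) (s t : G) :
    Even (dnatG n Lt ε s + dnatG n Lt ε t + dnatG n Lt ε (s * t)) := by
  have h := hQt.parity' hndt hVt hLt (imgG_mts ε hε hLt s) (imgG_mts ε hε hLt (s * t))
  have hmul : Lt.map (ε (s * t)).toLinearMap =
      (Lt.map (ε t).toLinearMap).map (ε s).toLinearMap := by
    rw [← Submodule.map_comp]
    congr 1
    apply LinearMap.ext
    intro v
    rw [map_mul]
    rfl
  have h2 : finrank F ↥(Lt.map (ε s).toLinearMap ⊓ Lt.map (ε (s * t)).toLinearMap) =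
      finrank F ↥(Lt ⊓ Lt.map (ε t).toLinearMap) := by
    rw [hmul]
    have : Lt.map (ε s).toLinearMap ⊓ (Lt.map (ε t).toLinearMap).map (ε s).toLinearMap =
        (Lt ⊓ Lt.map (ε t).toLinearMap).map (ε s).toLinearMap := by
      rw [Submodule.map_inf _ (ε s).injective]
    rw [this, LinearEquiv.finrank_map_eq]
  rw [h2] at h
  exact h

/-- the Dickson-type invariant -/
noncomputable def deltaG (hQt : IsQF Qt Bt) (hndt : Bt.Nondegenerate) {n : ℕ}
    (hVt : finrank F Vt = 2 * n) {Lt : Submodule F Vt} (hLt : IsMTS Qt n Lt)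
    (ε : G →* (Vt ≃ₗ[F] Vt)) (hε : ∀ g x, Qt (ε g x) = Qt x) : G →* Multiplicative (ZMod 2) :=
  MonoidHom.mk' (fun t => Multiplicative.ofAdd ((dnatG n Lt ε t : ℕ) : ZMod 2)) (by
    intro s t
    rw [← ofAdd_add]
    congr 1
    have h := dnatG_mul hQt hndt hVt hLt ε hε s t
    have h2 : ((dnatG n Lt ε s + dnatG n Lt ε t + dnatG n Lt ε (s * t) : ℕ) : ZMod 2) = 0 :=
      ZMod.natCast_eq_zero_iff_even.mpr h
    push_cast at h2
    have key : ∀ x y z : ZMod 2, x + y + z = 0 → z = x + y := by decide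
    exact key _ _ _ h2)

theorem deltaG_apply (hQt : IsQF Qt Bt) (hndt : Bt.Nondegenerate) {n : ℕ}
    (hVt : finrank F Vt = 2 * n) {Lt : Submodule F Vt} (hLt : IsMTS Qt n Lt)
    (ε : G →* (Vt ≃ₗ[F] Vt)) (hε : ∀ g x, Qt (ε g x) = Qt x) (t : G) :
    deltaG hQt hndt hVt hLt ε hε t = Multiplicative.ofAdd ((dnatG n Lt ε t : ℕ) : ZMod 2) := rfl

/-- a reflection moves the reference subspace to an adjacent one -/
theorem dnatG_refl (hQt : IsQF Qt Bt) (hndt : Bt.Nondegenerate) {n : ℕ}
    (hVt : finrank F Vt = 2 * n) {Lt : Submodule F Vt} (hLt : IsMTS Qt n Lt)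
    (ε : G →* (Vt ≃ₗ[F] Vt)) (g : G) (hgg : g * g = 1) (a : Vt) (ha : Qt a ≠ 0)
    (hg : ∀ x, ε g x = x + (Qt a)⁻¹ • (Bt a x • a)) : dnatG n Lt ε g = 1 := by
  have haL : a ∉ Lt := fun hc => ha (hLt.2 a hc)
  have hex : ∃ u ∈ Lt, Bt a u ≠ 0 := by
    by_contra hcon
    push Not at hcon
    apply haL
    apply hQt.mem_of_ortho hndt hVt hLt
    intro u hu
    rw [hQt.symm]
    exact hcon u hu
  have h1 := finrank_inf_ker (Bt a) Lt hex
  rw [hLt.1] at h1
  have hle : Lt ⊓ LinearMap.ker (Bt a) ≤ Lt ⊓ Lt.map (ε g).toLinearMap := by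
    intro x hx
    refine ⟨hx.1, ?_⟩
    refine ⟨x, hx.1, ?_⟩
    rw [LinearEquiv.coe_coe, hg]
    have : Bt a x = 0 := hx.2
    rw [this, zero_smul, smul_zero, add_zero]
  have h2 := Submodule.finrank_mono hle
  have h3 : finrank F ↥(Lt ⊓ Lt.map (ε g).toLinearMap) ≤ n := IsQF.finrank_inf_le n hLt.1
  have h4 : finrank F ↥(Lt ⊓ Lt.map (ε g).toLinearMap) ≠ n := by
    intro heq
    have hLle : Lt ≤ Lt.map (ε g).toLinearMap := by
      have : Lt ⊓ Lt.map (ε g).toLinearMap = Lt :=
        Submodule.eq_of_le_of_finrank_eq inf_le_left (by rw [heq, hLt.1])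
      intro x hx
      have hx' : x ∈ Lt ⊓ Lt.map (ε g).toLinearMap := by rw [this]; exact hx
      exact hx'.2
    obtain ⟨u, hu, hne⟩ := hex
    obtain ⟨v, hv, hvu⟩ := hLle hu
    have hv' : v = ε g u := by
      rw [← hvu, LinearEquiv.coe_coe]
      have : ε g (ε g v) = (ε (g * g)) v := by rw [map_mul]; rfl
      rw [this, hgg, map_one]
      rfl
    rw [hv', hg] at hv
    have h5 := Lt.sub_mem hv hu
    rw [add_sub_cancel_left, smul_smul] at h5
    have hc : (Qt a)⁻¹ * Bt a u ≠ 0 := mul_ne_zero (inv_ne_zero ha) hne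
    have h6 := Lt.smul_mem ((Qt a)⁻¹ * Bt a u)⁻¹ h5
    rw [smul_smul, inv_mul_cancel₀ hc, one_smul] at h6
    exact haL h6
  unfold dnatG
  omega

end genericDelta

section final

variable {F : Type u} [Field F] [Fintype F] [CharP F 2] {ι : Type} [Fintype ι] [DecidableEq ι]
variable {Q : (ι → F) → F} {B : (ι → F) →ₗ[F] (ι → F) →ₗ[F] F}

/-- membership of involutions in the commutator subgroup, given a Dickson-type invariant -/
theorem mem_Omega_iff_even (hQ : IsQuad Q B) (hnd : ∀ u, (∀ v, B u v = 0) → u = 0)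
    (hcount : Nat.card {v : ι → F // Q v = 0} * Nat.card F ≠ Nat.card (ι → F))
    (hnoTS : ∀ U : Submodule F (ι → F), (∀ u ∈ U, Q u = 0) → 2 * finrank F U < Fintype.card ι)
    (a₀ : ι → F) (h₀ : Q a₀ ≠ 0) (δ : OG F Q →* Multiplicative (ZMod 2))
    (hδ : δ (refl hQ a₀ h₀) = Multiplicative.ofAdd 1) (t : OG F Q) (ht : t * t = 1) :
    t ∈ Cfsg.Omega F Q ↔ Even ((t.1 : Matrix ι ι F) - 1).rank := by
  have hdec := decomposition hQ hnd hcount hnoTS a₀ h₀ _ t ht rfl
  have hrr : Abelianization.of (refl hQ a₀ h₀) * Abelianization.of (refl hQ a₀ h₀) = 1 := by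
    rw [← map_mul, refl_mul_self, map_one]
  constructor
  · intro hmem
    have h1 : δ t = 1 := by
      have := Abelianization.commutator_subset_ker δ hmem
      exact MonoidHom.mem_ker.mp this
    have h2 : δ t = Abelianization.lift δ (Abelianization.of t) := rfl
    rw [h2, hdec, map_pow, Abelianization.lift_apply_of, hδ, ← ofAdd_nsmul] at h1
    have h3 : ((t.1 : Matrix ι ι F) - 1).rank • (1 : ZMod 2) = 0 := by
      have := congrArg Multiplicative.toAdd h1
      simpa using this
    rw [nsmul_eq_mul, mul_one] at h3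
    exact ZMod.natCast_eq_zero_iff_even.mp h3
  · rintro ⟨k, hk⟩
    have h1 : Abelianization.of t = 1 := by
      rw [hdec, hk, pow_add, ← mul_pow, hrr, one_pow]
    have h2 : t ∈ (Abelianization.of : OG F Q →* _).ker := MonoidHom.mem_ker.mpr h1
    rw [Abelianization.ker_of] at h2
    exact h2

end final

section orth

variable {F : Type u} [Field F] {Vt : Type*} [AddCommGroup Vt] [Module F Vt]
  [FiniteDimensional F Vt]
variable {Qt : Vt → F} {Bt : LinearMap.BilinForm F Vt}

/-- a maximal totally singular subspace meets the orthogonal of a subspace of dimension `n - 1`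
in one more dimension than the subspace itself -/
theorem finrank_inf_orthogonal (hQt : IsQF Qt Bt) (hndt : Bt.Nondegenerate) {n : ℕ}
    (hVt : finrank F Vt = 2 * n) {X : Submodule F Vt} (hX : IsMTS Qt n X) (H : Submodule F Vt)
    (hH : finrank F H + 1 = n) :
    finrank F ↥(X ⊓ Bt.orthogonal H) = finrank F ↥(X ⊓ H) + 1 := by
  have heq : X ⊓ Bt.orthogonal H = Bt.orthogonal (X ⊔ H) := by
    ext x
    constructor
    · rintro ⟨hxX, hxH⟩
      rw [LinearMap.BilinForm.mem_orthogonal_iff]
      intro n' hn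
      obtain ⟨y, hy, z, hz, rfl⟩ := Submodule.mem_sup.mp hn
      rw [map_add, LinearMap.add_apply, hQt.ortho_of_ts hX.2 hy hxX, zero_add]
      exact hxH z hz
    · intro hx
      rw [LinearMap.BilinForm.mem_orthogonal_iff] at hx
      refine ⟨?_, ?_⟩
      · apply hQt.mem_of_ortho hndt hVt hX
        intro u hu
        exact hx u (Submodule.mem_sup_left hu)
      · intro n' hn
        exact hx n' (Submodule.mem_sup_right hn)
  rw [heq, LinearMap.BilinForm.finrank_orthogonal hndt, hVt]
  have h1 := Submodule.finrank_sup_add_finrank_inf_eq X H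
  rw [hX.1] at h1
  have h2 : finrank F ↥(X ⊓ H) ≤ finrank F ↥H := Submodule.finrank_mono inf_le_right
  omega

end orth

end Cfsg.Agent.Helper36.QuadInv
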