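import Mathlib
import Cfsg.Agent.S0789
import Cfsg.Agent.Lib.Helper36.QuadInv
import Cfsg.Agent.Lib.Helper14.WittQuad
import Cfsg.Agent.Lib.Helper43.SpinorSum

set_option autoImplicit false

/-!
# Transitivity of `Ω` on subspaces: common tools

Witt's theorem gives an isometry `g₀` with `g₀ U = W`; we then correct `g₀` by an element of the
stabiliser of `W` which hits the right coset of `Ω`.
-/

namespace Cfsg.Agent.Helper36.OmegaTrans

open Matrix Module QuadraticMap Cfsg.Agent.Helper36.QuadInv Cfsg.Agent.Helper43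

universe u

section generic

variable {F : Type u} [Field F] {ι : Type} [Fintype ι] [DecidableEq ι]
variable (Q : QuadraticForm F (ι → F))

theorem mulVecLin_eq (g : OG F ⇑Q) :
    Matrix.mulVecLin ((g : GL ι F) : Matrix ι ι F) = (actHom (⇑Q) g).toLinearMap := by
  apply LinearMap.ext
  intro v
  rfl

/-- `g` stabilises `W` -/
def Stab (W : Submodule F (ι → F)) (g : OG F ⇑Q) : Prop :=
  W.map (Matrix.mulVecLin ((g : GL ι F) : Matrix ι ι F)) = W

theorem map_mul_eq (U : Submodule F (ι → F)) (g h : OG F ⇑Q) :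
    U.map (Matrix.mulVecLin (((g * h : OG F ⇑Q) : GL ι F) : Matrix ι ι F)) =
      (U.map (Matrix.mulVecLin ((h : GL ι F) : Matrix ι ι F))).map
        (Matrix.mulVecLin ((g : GL ι F) : Matrix ι ι F)) := by
  rw [Subgroup.coe_mul, Units.val_mul, Matrix.mulVecLin_mul, Submodule.map_comp]

theorem stab_one (W : Submodule F (ι → F)) : Stab Q W 1 := by
  unfold Stab
  rw [OneMemClass.coe_one, Units.val_one, Matrix.mulVecLin_one, Submodule.map_id]

theorem stab_mul (W : Submodule F (ι → F)) (g h : OG F ⇑Q) (hg : Stab Q W g) (hh : Stab Q W h) :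
    Stab Q W (g * h) := by
  unfold Stab at *
  rw [map_mul_eq, hh, hg]

theorem stab_of_forall_mem (W : Submodule F (ι → F)) (g : OG F ⇑Q)
    (h : ∀ x ∈ W, actHom (⇑Q) g x ∈ W) : Stab Q W g := by
  unfold Stab
  rw [mulVecLin_eq]
  apply Submodule.eq_of_le_of_finrank_eq
  · rintro _ ⟨x, hx, rfl⟩
    exact h x hx
  · exact LinearEquiv.finrank_map_eq _ _

theorem act_reflIso {a : ι → F} (ha : Q a ≠ 0) (x : ι → F) :
    actHom (⇑Q) (reflIso Q ha) x = x - ((Q a)⁻¹ * polar Q a x) • a := by
  rw [actHom_apply]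
  show Cfsg.reflectionMatrix (⇑Q) a *ᵥ x = _
  rw [reflectionMatrix_mulVec_eq, reflLin_apply]

theorem act_reflIso_of_perp {a : ι → F} (ha : Q a ≠ 0) (x : ι → F) (h : polar Q a x = 0) :
    actHom (⇑Q) (reflIso Q ha) x = x := by
  rw [act_reflIso, h, mul_zero, zero_smul, sub_zero]

theorem stab_refl_of_perp (W : Submodule F (ι → F)) {a : ι → F} (ha : Q a ≠ 0)
    (hperp : ∀ x ∈ W, polar Q a x = 0) : Stab Q W (reflIso Q ha) := by
  apply stab_of_forall_mem
  intro x hx
  rw [act_reflIso_of_perp Q ha x (hperp x hx)]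
  exact hx

theorem stab_refl_of_mem (W : Submodule F (ι → F)) {a : ι → F} (ha : Q a ≠ 0)
    (haW : a ∈ W) : Stab Q W (reflIso Q ha) := by
  apply stab_of_forall_mem
  intro x hx
  rw [act_reflIso]
  exact W.sub_mem hx (W.smul_mem _ haW)

omit [Fintype ι] [DecidableEq ι] in
/-- the two vectors of a hyperbolic pair give a product of two reflections of spinor norm
`lam` -/
theorem Q_hyp {w w' : ι → F} (hw : Q w = 0) (hw' : Q w' = 0) (hp : polar Q w w' = 1) (lam : F) :
    Q (w - lam • w') = -lam := by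
  rw [sub_eq_add_neg, ← neg_smul, map_add_eq, QuadraticMap.map_smul, hw, hw', polar_smul_right,
    hp]
  simp

omit [Fintype ι] [DecidableEq ι] in
theorem polar_zero_of_ts (W : Submodule F (ι → F)) (hW : ∀ x ∈ W, Q x = 0) {x y : ι → F}
    (hx : x ∈ W) (hy : y ∈ W) : polar Q x y = 0 := by
  unfold polar
  rw [hW _ (W.add_mem hx hy), hW x hx, hW y hy]
  ring

theorem stab_hyp (W : Submodule F (ι → F)) (hW : ∀ x ∈ W, Q x = 0) {w w' : ι → F} (hwW : w ∈ W)
    (hw' : Q w' = 0) (hp : polar Q w w' = 1) {lam : F} (hlam : lam ≠ 0)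
    (hb : Q (w - lam • w') ≠ 0) (hc : Q (w - (1 : F) • w') ≠ 0) :
    Stab Q W (reflIso Q hb * reflIso Q hc) := by
  have hw : Q w = 0 := hW w hwW
  have hQb : Q (w - lam • w') = -lam := Q_hyp Q hw hw' hp lam
  have hQc : Q (w - (1 : F) • w') = -1 := Q_hyp Q hw hw' hp 1
  have hww : polar Q w w = 0 := polar_zero_of_ts Q W hW hwW hwW
  have hw'w' : polar Q w' w' = 0 := by
    rw [polar_self, hw']
    simp
  have hp' : polar Q w' w = 1 := by rw [polar_comm]; exact hp
  apply stab_of_forall_mem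
  intro x hx
  set p := polar Q w' x with hpdef
  have hwx : polar Q w x = 0 := polar_zero_of_ts Q W hW hwW hx
  have hx₀W : x - p • w ∈ W := W.sub_mem hx (W.smul_mem _ hwW)
  have h1 : polar Q w (x - p • w) = 0 := polar_zero_of_ts Q W hW hwW hx₀W
  have h2 : polar Q w' (x - p • w) = 0 := by
    rw [polar_sub_right, polar_smul_right, hp', smul_eq_mul, mul_one, hpdef, sub_self]
  have hfix : ∀ (lam' : F) (hh : Q (w - lam' • w') ≠ 0),
      actHom (⇑Q) (reflIso Q hh) (x - p • w) = x - p • w := by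
    intro lam' hh
    apply act_reflIso_of_perp
    rw [polar_sub_left, polar_smul_left, h1, h2, smul_zero, sub_zero]
  have hcw : actHom (⇑Q) (reflIso Q hc) w = w' := by
    rw [act_reflIso, hQc, polar_sub_left, polar_smul_left, hww, hp']
    simp
  have hbw' : actHom (⇑Q) (reflIso Q hb) w' = lam⁻¹ • w := by
    rw [act_reflIso, hQb, polar_sub_left, polar_smul_left, hp, hw'w', smul_zero, sub_zero,
      mul_one, smul_sub, smul_smul]
    have : (-lam)⁻¹ * lam = -1 := by
      field_simp
    rw [this]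
    have : (-lam)⁻¹ = -lam⁻¹ := by
      field_simp
    rw [this]
    module
  have hx : x = (x - p • w) + p • w := by abel
  rw [hx, act_mul, map_add, map_smul, hcw, hfix 1 hc, map_add, map_smul, hbw', hfix lam hb]
  exact W.add_mem hx₀W (W.smul_mem _ (W.smul_mem _ hwW))

/-- Witt: an isometry between subspaces is induced by an element of the isometry group -/
theorem exists_iso_map_eq (hQ : (polarBilin Q).Nondegenerate) (U W : Submodule F (ι → F))
    (e : U ≃ₗ[F] W) (he : ∀ u : U, Q (e u : ι → F) = Q (u : ι → F)) :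
    ∃ g₀ : OG F ⇑Q, U.map (Matrix.mulVecLin ((g₀ : GL ι F) : Matrix ι ι F)) = W := by
  obtain ⟨g, hg, hgx⟩ := Cfsg.Agent.Helper14.Witt.witt Q hQ U W e he
  refine ⟨mkO g hg, ?_⟩
  rw [mulVecLin_eq, actHom_mkO]
  ext y
  constructor
  · rintro ⟨x, hx, rfl⟩
    rw [LinearEquiv.coe_coe, hgx ⟨x, hx⟩]
    exact (e ⟨x, hx⟩).2
  · intro hy
    refine ⟨(e.symm ⟨y, hy⟩ : ι → F), (e.symm ⟨y, hy⟩).2, ?_⟩
    rw [LinearEquiv.coe_coe, hgx, LinearEquiv.apply_symm_apply]

theorem coe_mul_list (s g₀ : OG F ⇑Q) (ls l : List (ι → F))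
    (hs : ((s : GL ι F) : Matrix ι ι F) =
      (ls.map (fun v => Cfsg.reflectionMatrix (⇑Q) v)).prod)
    (hg : ((g₀ : GL ι F) : Matrix ι ι F) =
      (l.map (fun v => Cfsg.reflectionMatrix (⇑Q) v)).prod) :
    (((s * g₀ : OG F ⇑Q) : GL ι F) : Matrix ι ι F) =
      ((ls ++ l).map (fun v => Cfsg.reflectionMatrix (⇑Q) v)).prod := by
  rw [Subgroup.coe_mul, Units.val_mul, hs, hg, List.map_append, List.prod_append]

end generic

section finite

variable {F : Type u} [Field F] [Fintype F] {ι : Type} [Fintype ι] [DecidableEq ι]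
variable (Q : QuadraticForm F (ι → F))

theorem isSquare_mul_of_not {x y : F} (hx : ¬ IsSquare x) (hy : ¬ IsSquare y) :
    IsSquare (x * y) := by
  classical
  have hx0 : x ≠ 0 := by
    rintro rfl
    exact hx ⟨0, by ring⟩
  have hy0 : y ≠ 0 := by
    rintro rfl
    exact hy ⟨0, by ring⟩
  rw [← quadraticChar_one_iff_isSquare (mul_ne_zero hx0 hy0), map_mul,
    quadraticChar_neg_one_iff_not_isSquare.mpr hx, quadraticChar_neg_one_iff_not_isSquare.mpr hy]
  norm_num

/-- odd characteristic: a subgroup-like predicate containing a reflection and a product of two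
reflections of non-square spinor norm meets every coset of `Ω` -/
theorem adjust_odd (h2 : (2 : F) ≠ 0) (hQ : (polarBilin Q).Nondegenerate)
    (P : OG F ⇑Q → Prop) (hP1 : P 1) (hPmul : ∀ g h, P g → P h → P (g * h))
    {a b c : ι → F} (ha : Q a ≠ 0) (hb : Q b ≠ 0) (hc : Q c ≠ 0)
    (hPa : P (reflIso Q ha)) (hPbc : P (reflIso Q hb * reflIso Q hc))
    (hns : ¬ IsSquare (Q b * Q c)) (g₀ : OG F ⇑Q) :
    ∃ s, P s ∧ s * g₀ ∈ Cfsg.Omega F ⇑Q := by
  have hexc : Fintype.card F ≠ 2 ∨ Fintype.card ι ≠ 4 := by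
    left
    intro h
    have : ringChar F = 2 := FiniteField.even_card_iff_char_two.2 (by rw [h])
    apply h2
    have hc := ringChar.Nat.cast_ringChar (R := F)
    rw [this] at hc
    exact_mod_cast hc
  obtain ⟨l, hl, hMl⟩ := Cfsg.Agent.S0786.matrix_cd_all Q hQ hexc
    ((g₀ : GL ι F) : Matrix ι ι F) (fun u => g₀.2 u u)
  have hMl' : ((g₀ : GL ι F) : Matrix ι ι F) =
      (l.map (fun v => Cfsg.reflectionMatrix (⇑Q) v)).prod := hMl
  have key : ∀ (s : OG F ⇑Q) (ls : List (ι → F)), (∀ v ∈ ls, Q v ≠ 0) →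
      ((s : GL ι F) : Matrix ι ι F) = (ls.map (fun v => Cfsg.reflectionMatrix (⇑Q) v)).prod →
      Even (ls ++ l).length → IsSquare ((ls ++ l).map (fun v => Q v)).prod →
      s * g₀ ∈ Cfsg.Omega F ⇑Q := by
    intro s ls hls hs hev hsq
    refine (mem_Omega_iff_of_list_all Q h2 hQ (s * g₀) (ls ++ l) ?_
      (coe_mul_list Q s g₀ ls l hs hMl')).mpr ⟨hev, hsq⟩
    intro v hv
    rcases List.mem_append.mp hv with hv | hv
    · exact hls v hv
    · exact hl v hv
  set p := (l.map (fun v => Q v)).prod with hp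
  by_cases hev : Even l.length
  · by_cases hsq : IsSquare p
    · refine ⟨1, hP1, key 1 [] (by simp) (by simp) (by simpa using hev) (by simpa using hsq)⟩
    · refine ⟨reflIso Q hb * reflIso Q hc, hPbc, key _ [b, c] ?_ ?_ ?_ ?_⟩
      · intro v hv
        simp only [List.mem_cons, List.not_mem_nil, or_false] at hv
        rcases hv with rfl | rfl
        · exact hb
        · exact hc
      · rw [Subgroup.coe_mul, Units.val_mul]
        simp [reflIso_coe]
      · simp only [List.cons_append, List.nil_append, List.length_cons]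
        rw [Nat.even_add_one, Nat.even_add_one, not_not]
        exact hev
      · simp only [List.cons_append, List.nil_append, List.map_cons, List.prod_cons]
        rw [← mul_assoc]
        exact isSquare_mul_of_not hns hsq
  · by_cases hsq : IsSquare (Q a * p)
    · refine ⟨reflIso Q ha, hPa, key _ [a] ?_ ?_ ?_ ?_⟩
      · intro v hv
        simp only [List.mem_cons, List.not_mem_nil, or_false] at hv
        rw [hv]
        exact ha
      · simp [reflIso_coe]
      · simp only [List.cons_append, List.nil_append, List.length_cons]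
        rw [Nat.even_add_one]
        exact hev
      · simpa using hsq
    · refine ⟨(reflIso Q hb * reflIso Q hc) * reflIso Q ha, hPmul _ _ hPbc hPa,
        key _ [b, c, a] ?_ ?_ ?_ ?_⟩
      · intro v hv
        simp only [List.mem_cons, List.not_mem_nil, or_false] at hv
        rcases hv with rfl | rfl | rfl
        · exact hb
        · exact hc
        · exact ha
      · rw [Subgroup.coe_mul, Units.val_mul, Subgroup.coe_mul, Units.val_mul]
        simp [reflIso_coe, mul_assoc]
      · simp only [List.cons_append, List.nil_append, List.length_cons]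
        rw [Nat.even_add_one, Nat.even_add_one, not_not, Nat.even_add_one]
        exact hev
      · simp only [List.cons_append, List.nil_append, List.map_cons, List.prod_cons]
        rw [← mul_assoc]
        exact isSquare_mul_of_not hns hsq

/-- characteristic two: a predicate containing a reflection meets every coset of `Ω` -/
theorem adjust_even [CharP F 2] {n : ℕ} (hn : 2 ≤ n) (Q : QuadraticForm F (Fin n → F))
    (hQ : (polarBilin Q).Nondegenerate) (h : Fintype.card F ≠ 2 ∨ n ≠ 4)
    (P : OG F ⇑Q → Prop) (hP1 : P 1) {a : Fin n → F} (ha : Q a ≠ 0) (hPa : P (reflIso Q ha))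
    (g₀ : OG F ⇑Q) : ∃ s, P s ∧ s * g₀ ∈ Cfsg.Omega F ⇑Q := by
  have hexc : Fintype.card F ≠ 2 ∨ Fintype.card (Fin n) ≠ 4 := by rw [Fintype.card_fin]; exact h
  have hOm : Cfsg.Omega F ⇑Q = Cfsg.Agent.S0789.Rplus Q := Cfsg.Agent.S2635.result hn h Q hQ
  obtain ⟨l, hl, hMl⟩ := Cfsg.Agent.S0786.matrix_cd_all Q hQ hexc
    ((g₀ : GL (Fin n) F) : Matrix (Fin n) (Fin n) F) (fun u => g₀.2 u u)
  rw [hOm]
  by_cases hev : Even l.length
  · refine ⟨1, hP1, ?_⟩
    rw [one_mul]
    exact (Cfsg.Agent.S0789.mem_Rplus_iff Q hQ g₀ l hl hMl).mpr hev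
  · refine ⟨reflIso Q ha, hPa, ?_⟩
    refine (Cfsg.Agent.S0789.mem_Rplus_iff Q hQ (reflIso Q ha * g₀) (a :: l) ?_ ?_).mpr ?_
    · intro v hv
      rcases List.mem_cons.mp hv with rfl | hv
      · exact ha
      · exact hl v hv
    · rw [Subgroup.coe_mul, Units.val_mul, hMl, List.map_cons, List.prod_cons]
      rfl
    · rw [List.length_cons, Nat.even_add_one]
      exact hev

end finite

end Cfsg.Agent.Helper36.OmegaTrans
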