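import Mathlib

set_option autoImplicit false

/-!
# Three by three block matrices

Matrices over the index type `α ⊕ (β ⊕ γ)` assembled from nine blocks, with the product,
transpose and extensionality lemmas.
-/

namespace Cfsg.Agent.Helper36.Blk3

open Matrix

universe u

variable {R : Type u} {α β γ : Type*}

/-- the index type -/
abbrev I3 (α β γ : Type*) := α ⊕ (β ⊕ γ)

/-- assemble nine blocks -/
def mk3 (a11 : Matrix α α R) (a12 : Matrix α β R) (a13 : Matrix α γ R)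
    (a21 : Matrix β α R) (a22 : Matrix β β R) (a23 : Matrix β γ R)
    (a31 : Matrix γ α R) (a32 : Matrix γ β R) (a33 : Matrix γ γ R) :
    Matrix (I3 α β γ) (I3 α β γ) R :=
  Matrix.of fun i j =>
    match i, j with
    | Sum.inl i, Sum.inl j => a11 i j
    | Sum.inl i, Sum.inr (Sum.inl j) => a12 i j
    | Sum.inl i, Sum.inr (Sum.inr j) => a13 i j
    | Sum.inr (Sum.inl i), Sum.inl j => a21 i j
    | Sum.inr (Sum.inl i), Sum.inr (Sum.inl j) => a22 i j
    | Sum.inr (Sum.inl i), Sum.inr (Sum.inr j) => a23 i j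
    | Sum.inr (Sum.inr i), Sum.inl j => a31 i j
    | Sum.inr (Sum.inr i), Sum.inr (Sum.inl j) => a32 i j
    | Sum.inr (Sum.inr i), Sum.inr (Sum.inr j) => a33 i j

/-- the blocks of a matrix -/
def b11 (g : Matrix (I3 α β γ) (I3 α β γ) R) : Matrix α α R := fun i j => g (Sum.inl i) (Sum.inl j)
def b12 (g : Matrix (I3 α β γ) (I3 α β γ) R) : Matrix α β R :=
  fun i j => g (Sum.inl i) (Sum.inr (Sum.inl j))
def b13 (g : Matrix (I3 α β γ) (I3 α β γ) R) : Matrix α γ R :=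
  fun i j => g (Sum.inl i) (Sum.inr (Sum.inr j))
def b21 (g : Matrix (I3 α β γ) (I3 α β γ) R) : Matrix β α R :=
  fun i j => g (Sum.inr (Sum.inl i)) (Sum.inl j)
def b22 (g : Matrix (I3 α β γ) (I3 α β γ) R) : Matrix β β R :=
  fun i j => g (Sum.inr (Sum.inl i)) (Sum.inr (Sum.inl j))
def b23 (g : Matrix (I3 α β γ) (I3 α β γ) R) : Matrix β γ R :=
  fun i j => g (Sum.inr (Sum.inl i)) (Sum.inr (Sum.inr j))
def b31 (g : Matrix (I3 α β γ) (I3 α β γ) R) : Matrix γ α R :=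
  fun i j => g (Sum.inr (Sum.inr i)) (Sum.inl j)
def b32 (g : Matrix (I3 α β γ) (I3 α β γ) R) : Matrix γ β R :=
  fun i j => g (Sum.inr (Sum.inr i)) (Sum.inr (Sum.inl j))
def b33 (g : Matrix (I3 α β γ) (I3 α β γ) R) : Matrix γ γ R :=
  fun i j => g (Sum.inr (Sum.inr i)) (Sum.inr (Sum.inr j))

theorem mk3_blocks (g : Matrix (I3 α β γ) (I3 α β γ) R) :
    mk3 (b11 g) (b12 g) (b13 g) (b21 g) (b22 g) (b23 g) (b31 g) (b32 g) (b33 g) = g := by
  ext (i | i | i) (j | j | j) <;> rfl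

section blocksOfMk

variable (a11 : Matrix α α R) (a12 : Matrix α β R) (a13 : Matrix α γ R)
    (a21 : Matrix β α R) (a22 : Matrix β β R) (a23 : Matrix β γ R)
    (a31 : Matrix γ α R) (a32 : Matrix γ β R) (a33 : Matrix γ γ R)

@[simp] theorem b11_mk3 : b11 (mk3 a11 a12 a13 a21 a22 a23 a31 a32 a33) = a11 := rfl
@[simp] theorem b12_mk3 : b12 (mk3 a11 a12 a13 a21 a22 a23 a31 a32 a33) = a12 := rfl
@[simp] theorem b13_mk3 : b13 (mk3 a11 a12 a13 a21 a22 a23 a31 a32 a33) = a13 := rfl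
@[simp] theorem b21_mk3 : b21 (mk3 a11 a12 a13 a21 a22 a23 a31 a32 a33) = a21 := rfl
@[simp] theorem b22_mk3 : b22 (mk3 a11 a12 a13 a21 a22 a23 a31 a32 a33) = a22 := rfl
@[simp] theorem b23_mk3 : b23 (mk3 a11 a12 a13 a21 a22 a23 a31 a32 a33) = a23 := rfl
@[simp] theorem b31_mk3 : b31 (mk3 a11 a12 a13 a21 a22 a23 a31 a32 a33) = a31 := rfl
@[simp] theorem b32_mk3 : b32 (mk3 a11 a12 a13 a21 a22 a23 a31 a32 a33) = a32 := rfl
@[simp] theorem b33_mk3 : b33 (mk3 a11 a12 a13 a21 a22 a23 a31 a32 a33) = a33 := rfl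

end blocksOfMk

theorem mk3_inj {a11 c11 : Matrix α α R} {a12 c12 : Matrix α β R} {a13 c13 : Matrix α γ R}
    {a21 c21 : Matrix β α R} {a22 c22 : Matrix β β R} {a23 c23 : Matrix β γ R}
    {a31 c31 : Matrix γ α R} {a32 c32 : Matrix γ β R} {a33 c33 : Matrix γ γ R}
    (h : mk3 a11 a12 a13 a21 a22 a23 a31 a32 a33 = mk3 c11 c12 c13 c21 c22 c23 c31 c32 c33) :
    a11 = c11 ∧ a12 = c12 ∧ a13 = c13 ∧ a21 = c21 ∧ a22 = c22 ∧ a23 = c23 ∧
      a31 = c31 ∧ a32 = c32 ∧ a33 = c33 := by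
  refine ⟨?_, ?_, ?_, ?_, ?_, ?_, ?_, ?_, ?_⟩
  · simpa using congrArg b11 h
  · simpa using congrArg b12 h
  · simpa using congrArg b13 h
  · simpa using congrArg b21 h
  · simpa using congrArg b22 h
  · simpa using congrArg b23 h
  · simpa using congrArg b31 h
  · simpa using congrArg b32 h
  · simpa using congrArg b33 h

theorem mk3_transpose (a11 : Matrix α α R) (a12 : Matrix α β R) (a13 : Matrix α γ R)
    (a21 : Matrix β α R) (a22 : Matrix β β R) (a23 : Matrix β γ R)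
    (a31 : Matrix γ α R) (a32 : Matrix γ β R) (a33 : Matrix γ γ R) :
    (mk3 a11 a12 a13 a21 a22 a23 a31 a32 a33)ᵀ =
      mk3 a11ᵀ a21ᵀ a31ᵀ a12ᵀ a22ᵀ a32ᵀ a13ᵀ a23ᵀ a33ᵀ := by
  ext (i | i | i) (j | j | j) <;> rfl

theorem mk3_one [DecidableEq α] [DecidableEq β] [DecidableEq γ] [Zero R] [One R] :
    (1 : Matrix (I3 α β γ) (I3 α β γ) R) = mk3 1 0 0 0 1 0 0 0 1 := by
  ext (i | i | i) (j | j | j) <;> simp [mk3, Matrix.one_apply]

theorem mk3_zero [Zero R] :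
    (0 : Matrix (I3 α β γ) (I3 α β γ) R) = mk3 0 0 0 0 0 0 0 0 0 := by
  ext (i | i | i) (j | j | j) <;> rfl

theorem mk3_add [Add R] (a11 c11 : Matrix α α R) (a12 c12 : Matrix α β R) (a13 c13 : Matrix α γ R)
    (a21 c21 : Matrix β α R) (a22 c22 : Matrix β β R) (a23 c23 : Matrix β γ R)
    (a31 c31 : Matrix γ α R) (a32 c32 : Matrix γ β R) (a33 c33 : Matrix γ γ R) :
    mk3 a11 a12 a13 a21 a22 a23 a31 a32 a33 + mk3 c11 c12 c13 c21 c22 c23 c31 c32 c33 =
      mk3 (a11 + c11) (a12 + c12) (a13 + c13) (a21 + c21) (a22 + c22) (a23 + c23)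
        (a31 + c31) (a32 + c32) (a33 + c33) := by
  ext (i | i | i) (j | j | j) <;> rfl

theorem mk3_mul [Fintype α] [Fintype β] [Fintype γ] [NonUnitalNonAssocSemiring R]
    (a11 c11 : Matrix α α R) (a12 c12 : Matrix α β R) (a13 c13 : Matrix α γ R)
    (a21 c21 : Matrix β α R) (a22 c22 : Matrix β β R) (a23 c23 : Matrix β γ R)
    (a31 c31 : Matrix γ α R) (a32 c32 : Matrix γ β R) (a33 c33 : Matrix γ γ R) :
    mk3 a11 a12 a13 a21 a22 a23 a31 a32 a33 * mk3 c11 c12 c13 c21 c22 c23 c31 c32 c33 =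
      mk3 (a11 * c11 + a12 * c21 + a13 * c31) (a11 * c12 + a12 * c22 + a13 * c32)
        (a11 * c13 + a12 * c23 + a13 * c33)
        (a21 * c11 + a22 * c21 + a23 * c31) (a21 * c12 + a22 * c22 + a23 * c32)
        (a21 * c13 + a22 * c23 + a23 * c33)
        (a31 * c11 + a32 * c21 + a33 * c31) (a31 * c12 + a32 * c22 + a33 * c32)
        (a31 * c13 + a32 * c23 + a33 * c33) := by
  ext (i | i | i) (j | j | j) <;>
    simp [mk3, Matrix.mul_apply, Fintype.sum_sum_type, Matrix.add_apply, add_assoc]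

end Cfsg.Agent.Helper36.Blk3
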