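import Mathlib
import Cfsg.Agent.Lib.Helper44.CDChar2

set_option autoImplicit false

/-!
# Generation by reflections in characteristic two, including the elliptic 4-space over `F₂`

helper44's `cartan_dieudonne_char2` excludes dimension four over the field with two elements.
Its only use of the exclusion is the existence of an intermediate vector (`exists_mid`).  That
existence also holds when the space has no totally singular plane, which covers `O⁻₄(2)`.
-/

namespace Cfsg.Agent.Helper36.CDMinus

open Module QuadraticMap Cfsg.Agent.Helper43 Cfsg.Agent.Helper44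

variable {K : Type*} [Field K] {V : Type*} [AddCommGroup V] [Module K V]

/-- the conclusion of `exists_mid` as a property of the form -/
def HasMid (Q : QuadraticForm K V) : Prop :=
  ∀ (u w : V) (c : K), c ≠ 0 → Q u = c → Q w = c → polar Q u w = 0 → u ≠ w →
    ∃ z, Q z = c ∧ polar Q u z ≠ 0 ∧ polar Q w z ≠ 0

theorem hasMid_of_exc [Fintype K] [FiniteDimensional K V] (Q : QuadraticForm K V)
    (h2 : (2 : K) = 0) (hQ : (polarBilin Q).Nondegenerate)
    (hexc : Fintype.card K ≠ 2 ∨ finrank K V ≠ 4) : HasMid Q :=
  fun u w c hc hu hw huw hne => exists_mid Q h2 hQ hexc u w c hc hu hw huw hne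

/-- over the field with two elements, a form without totally singular planes has the
intermediate-vector property -/
theorem hasMid_of_noPlane [Fintype K] (Q : QuadraticForm K V)
    (h2 : (2 : K) = 0) (hQ : (polarBilin Q).Nondegenerate) (hcard : Fintype.card K = 2)
    (hno : ∀ x y : V, Q x = 0 → Q y = 0 → polar Q x y = 0 →
      ∃ α β : K, (α ≠ 0 ∨ β ≠ 0) ∧ α • x + β • y = 0) : HasMid Q := by
  classical
  intro u w c hc hu hw huw hne
  have hA : ∀ x, polar Q x x = 0 := fun x => by rw [polar_self_mul, h2, zero_mul]
  have hnegV : ∀ x : V, -x = x := by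
    intro x
    have : x + x = 0 := by rw [← two_smul K x, h2, zero_smul]
    exact neg_eq_of_add_eq_zero_left this
  have hind := char2_indep Q h2 u w c hc hu hw hne
  have h01 : ∀ a : K, a = 0 ∨ a = 1 := by
    have huniv : ({0, 1} : Finset K) = Finset.univ := by
      apply Finset.eq_univ_of_card
      rw [hcard, Finset.card_pair zero_ne_one]
    intro a
    have : a ∈ ({0, 1} : Finset K) := by rw [huniv]; exact Finset.mem_univ a
    simpa using this
  have hc1 : c = 1 := (h01 c).resolve_left hc
  obtain ⟨y, hy1, hy2⟩ := exists_pair_values Q hQ u w hind 1 1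
  have hQy : Q y ≠ 0 := by
    intro hQy0
    have hQuw : Q (u + w) = 0 := by
      have := map_add_eq Q u w
      rw [this, hu, hw, huw, add_zero, ← two_mul, h2, zero_mul]
    have hpol : polar Q y (u + w) = 0 := by
      rw [polar_add_right, polar_comm Q y u, polar_comm Q y w, hy1, hy2, ← two_mul, h2, zero_mul]
    obtain ⟨α, β, hab, hlin⟩ := hno y (u + w) hQy0 hQuw hpol
    have hα : α = 0 := by
      have h3 := congrArg (polar Q u) hlin
      rw [polar_add_right, polar_smul_right, polar_smul_right, polar_add_right, hy1, hA, huw,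
        polar_zero_right] at h3
      simpa using h3
    have hβ : β ≠ 0 := by
      rcases hab with h | h
      · exact absurd hα h
      · exact h
    rw [hα, zero_smul, zero_add] at hlin
    have h4 : u + w = 0 := (smul_eq_zero.mp hlin).resolve_left hβ
    apply hne
    have := eq_neg_of_add_eq_zero_left h4
    rw [this, hnegV]
  refine ⟨y, ?_, by rw [hy1]; exact one_ne_zero, by rw [hy2]; exact one_ne_zero⟩
  rw [hc1]
  exact (h01 _).resolve_left hQy

/-- transitivity of the group generated by reflections, from the intermediate-vector property -/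
theorem refl_trans' (Q : QuadraticForm K V) (h2 : (2 : K) = 0) (hmid : HasMid Q) (u w : V)
    (hu : Q u ≠ 0) (huw : Q u = Q w) :
    ∃ l : List V, (∀ z ∈ l, Q z ≠ 0) ∧ reflProd Q l u = w := by
  have hsub : ∀ x y : V, Q x = Q y → Q (x - y) = - polar Q x y := by
    intro x y hxy
    have := map_add_eq Q (x - y) y
    rw [sub_add_cancel, polar_sub_left, polar_self_mul, h2, zero_mul] at this
    linear_combination -this + hxy
  have key : ∀ x y : V, Q x = Q y → polar Q x y ≠ 0 →
      Q (x - y) ≠ 0 ∧ reflLin Q (x - y) x = y := by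
    intro x y hxy hp
    have h1 : Q (x - y) ≠ 0 := by rw [hsub x y hxy]; exact neg_ne_zero.mpr hp
    exact ⟨h1, reflLin_sub Q x y hxy h1⟩
  by_cases hne : u = w
  · exact ⟨[], by simp, by rw [reflProd_nil, hne]; rfl⟩
  by_cases hp : polar Q u w ≠ 0
  · obtain ⟨h1, h3⟩ := key u w huw hp
    refine ⟨[u - w], ?_, ?_⟩
    · intro z hz
      rw [List.mem_singleton] at hz
      rw [hz]; exact h1
    · rw [reflProd_cons, reflProd_nil, mul_one, h3]
  · simp only [not_not] at hp
    obtain ⟨z, hz, hz1, hz2⟩ := hmid u w (Q u) hu rfl huw.symm hp hne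
    obtain ⟨h1, h3⟩ := key u z hz.symm hz1
    obtain ⟨h4, h5⟩ := key z w (by rw [hz, huw]) (by rw [polar_comm]; exact hz2)
    refine ⟨[z - w, u - z], ?_, ?_⟩
    · intro x hx
      rcases List.mem_cons.mp hx with rfl | hx
      · exact h4
      · rw [List.mem_singleton] at hx
        rw [hx]; exact h1
    · rw [reflProd_cons, reflProd_cons, reflProd_nil, mul_one, Module.End.mul_apply, h3, h5]

/-- generation by reflections, from the intermediate-vector property -/
theorem cartan_dieudonne_char2' [Finite K] [FiniteDimensional K V] (Q : QuadraticForm K V)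
    (h2 : (2 : K) = 0) (hQ : (polarBilin Q).Nondegenerate) (hmid : HasMid Q)
    (g : V →ₗ[K] V) (hg : ∀ x, Q (g x) = Q x) :
    ∃ l : List V, (∀ z ∈ l, Q z ≠ 0) ∧ g = reflProd Q l := by
  by_cases hsub : Subsingleton V
  · refine ⟨[], by simp, ?_⟩
    apply LinearMap.ext
    intro x
    exact Subsingleton.elim _ _
  · rw [not_subsingleton_iff_nontrivial] at hsub
    obtain ⟨v, hv⟩ := exists_Q_ne_zero Q hQ
    obtain ⟨l₁, hl₁, e₁⟩ := refl_trans' Q h2 hmid (g v) v (by rw [hg]; exact hv) (hg v)
    obtain ⟨l₂, hl₂, e₂⟩ := stab_gen Q h2 hQ v hv (reflProd Q l₁ * g)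
      (fun x => by rw [Module.End.mul_apply, Q_reflProd Q l₁ hl₁, hg])
      (by rw [Module.End.mul_apply, e₁])
    refine ⟨l₁.reverse ++ l₂, ?_, ?_⟩
    · intro z hz
      rcases List.mem_append.mp hz with hz | hz
      · exact hl₁ z (List.mem_reverse.mp hz)
      · exact hl₂ z hz
    · rw [reflProd_append, ← e₂, ← mul_assoc, reflProd_reverse_mul Q l₁ hl₁, one_mul]

end Cfsg.Agent.Helper36.CDMinus
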