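import Mathlib
import Cfsg.Agent.Lib.Helper36.ChevGen

/-!
# Single commutator relations and torus relations in Chevalley groups, by table checks

Helper library (helper36), on top of helper18's sparse word checker.
-/

set_option autoImplicit false

namespace Cfsg.Agent.Helper36.ChevComm

open Cfsg.Lie Cfsg.Agent.S1043 Cfsg.Agent.Helper18

/-- the check that `x_r(a) x_s(b) x_r(-a) x_s(-b) = x_u(c a b)` -/
def commCheck (D : ChevalleyDatum) (r s u : ℕ) (c : ℤ) : Bool :=
  wordEqCheck D [(r, [(1, 1, 0)]), (s, [(1, 0, 1)]), (r, [(-1, 1, 0)]), (s, [(-1, 0, 1)])]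
    [(u, [(c, 1, 1)])]

/-- the word `h_r(a)` with a Laurent polynomial parameter -/
def hWordLP (D : ChevalleyDatum) (r : ℕ) : List (ℕ × LP) :=
  [(r, [(1, 1, 0)]), (D.neg r, [(-1, -1, 0)]), (r, [(1, 1, 0)]),
   (r, [(-1, 0, 0)]), (D.neg r, [(1, 0, 0)]), (r, [(-1, 0, 0)])]

/-- the check that `h_r(a) x_s(b) = x_s(a^e b) h_r(a)` -/
def torusCheck (D : ChevalleyDatum) (r s : ℕ) (e : ℤ) : Bool :=
  wordEqCheck D (hWordLP D r ++ [(s, [(1, 0, 1)])]) ((s, [(1, e, 1)]) :: hWordLP D r)

/-- `l` is a word in the fundamental reflections carrying the root `s` to the root `r` -/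
def WordOK (D : ChevalleyDatum) (l : List ℕ) (s r : ℕ) : Prop :=
  (∀ i ∈ l, i < D.rank) ∧ permW D l s = r

instance (D : ChevalleyDatum) (l : List ℕ) (s r : ℕ) : Decidable (WordOK D l s r) := by
  unfold WordOK
  infer_instance

section

variable {F : Type*} [Field F] (D : ChevalleyDatum) (hD : Good D)

theorem xU_zero (r : ℕ) : xU (F := F) D hD r 0 = 1 := by
  apply Units.ext
  rw [xU_val, x_zero]
  rfl

theorem xU_add (r : ℕ) (t₁ t₂ : F) : xU D hD r t₁ * xU D hD r t₂ = xU D hD r (t₁ + t₂) := by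
  apply Units.ext
  rw [Units.val_mul, xU_val, xU_val, xU_val, x_add D hD]

theorem comm_of_check (r s u : ℕ) (c : ℤ) (h : commCheck D r s u c = true) (t₁ t₂ : F) :
    xU D hD r t₁ * xU D hD s t₂ * (xU D hD r t₁)⁻¹ * (xU D hD s t₂)⁻¹ =
      xU D hD u ((c : F) * t₁ * t₂) := by
  by_cases h1 : t₁ = 0
  · rw [h1, xU_zero, mul_zero, zero_mul, xU_zero]
    group
  by_cases h2 : t₂ = 0
  · rw [h2, xU_zero, mul_zero, xU_zero]
    group
  have := wordMat_eq_of_check D (Units.mk0 t₁ h1) (Units.mk0 t₂ h2) _ _ h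
  apply Units.ext
  rw [xU_inv, xU_inv, Units.val_mul, Units.val_mul, Units.val_mul, xU_val, xU_val, xU_val, xU_val,
    xU_val]
  simpa [ChevalleyDatum.wordMat, evalWord, LP.eval, LP.evalMono, mul_assoc] using this

theorem torus_of_check (r s : ℕ) (e : ℤ) (h : torusCheck D r s e = true) (c : F) (hc : c ≠ 0)
    (t : F) :
    hGL D hD r c * xU D hD s t * (hGL D hD r c)⁻¹ = xU D hD s (c ^ e * t) := by
  rw [mul_inv_eq_iff_eq_mul]
  by_cases h2 : t = 0
  · rw [h2, xU_zero, mul_zero, xU_zero, mul_one, one_mul]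
  have := wordMat_eq_of_check D (Units.mk0 c hc) (Units.mk0 t h2) _ _ h
  apply Units.ext
  rw [Units.val_mul, Units.val_mul, xU_val, xU_val, hGL_val]
  simpa [ChevalleyDatum.wordMat, evalWord, LP.eval, LP.evalMono, mul_assoc, hWordLP,
    ChevalleyDatum.hMat, ChevalleyDatum.hWord, ChevalleyDatum.nWord] using this

theorem hGL_mem_group (r : ℕ) (c : F) : hGL D hD r c ∈ D.group F := by
  unfold hGL
  exact mul_mem (mul_mem (mul_mem (xU_mem_group D hD _ _) (xU_mem_group D hD _ _))
    (xU_mem_group D hD _ _)) (mul_mem (mul_mem (xU_mem_group D hD _ _) (xU_mem_group D hD _ _))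
    (xU_mem_group D hD _ _))

theorem nGL_mem_group (i : ℕ) : nGL (F := F) D hD i ∈ D.group F := by
  unfold nGL
  exact mul_mem (mul_mem (xU_mem_group D hD _ _) (xU_mem_group D hD _ _)) (xU_mem_group D hD _ _)

theorem nWordGL_mem_normalizer (K : Subgroup (GL D.Idx F))
    (hK : ∀ i < D.rank, nGL D hD i ∈ Subgroup.normalizer (K : Set (GL D.Idx F)))
    (l : List ℕ) (hl : ∀ i ∈ l, i < D.rank) :
    nWordGL D hD l ∈ Subgroup.normalizer (K : Set (GL D.Idx F)) := by
  induction l with
  | nil => exact one_mem _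
  | cons i l ih =>
    rw [nWordGL_cons]
    exact mul_mem (hK i (hl i List.mem_cons_self))
      (ih fun k hk => hl k (List.mem_cons_of_mem _ hk))

/-- root subgroups along a Weyl group orbit, for a subgroup normalised by the `n_i` -/
theorem xU_permW_iff (K : Subgroup (GL D.Idx F))
    (hK : ∀ i < D.rank, nGL D hD i ∈ Subgroup.normalizer (K : Set (GL D.Idx F)))
    (s : ℕ) (hs : s < D.nroots) (l : List ℕ) (hl : ∀ i ∈ l, i < D.rank) :
    (∀ t : F, xU D hD s t ∈ K) ↔ (∀ t : F, xU D hD (permW D l s) t ∈ K) := by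
  have hB := bnFacts_all D hD
  have hW := nWordGL_mem_normalizer D hD K hK l hl
  rw [Subgroup.mem_normalizer_iff] at hW
  obtain ⟨-, η, hη, hc⟩ := nWordGL_conj (F := F) D hD hB.hrefl
    (fun i hi s hs => conjGoal_all D hD i s hi hs) l hl s hs
  have hηη : ∀ t : F, (η : F) * ((η : F) * t) = t := by
    intro t
    rcases hη with rfl | rfl <;> simp
  have h1 : ∀ t : F, nWordGL D hD l * xU D hD s t * (nWordGL D hD l)⁻¹ =
      xU D hD (permW D l s) ((η : F) * t) := by
    intro t
    rw [mul_inv_eq_iff_eq_mul]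
    apply Units.ext
    rw [Units.val_mul, Units.val_mul, xU_val, xU_val, hc t]
  constructor
  · intro h t
    have h2 := (hW _).mp (h ((η : F) * t))
    rwa [h1, hηη] at h2
  · intro h t
    apply (hW _).mpr
    rw [h1]
    exact h _

/-- a subgroup normalised by the `n_i` and containing root subgroups meeting the orbits of all
fundamental roots contains the group -/
theorem group_le_of_reach (K : Subgroup (GL D.Idx F))
    (hK : ∀ i < D.rank, nGL D hD i ∈ Subgroup.normalizer (K : Set (GL D.Idx F)))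
    (h : ∀ k < D.rank, ∃ s < D.nroots, (∀ t : F, xU D hD s t ∈ K) ∧
      ∃ l : List ℕ, WordOK D l s (D.simple k)) :
    D.group F ≤ K := by
  have hB := bnFacts_all D hD
  apply ChevGen.group_le_of_simple D hD K
  intro k hk
  obtain ⟨s, hs, hKs, l, hl, hlk⟩ := h k hk
  have h1 : ∀ t : F, xU D hD (D.simple k) t ∈ K := by
    rw [← hlk]
    exact (xU_permW_iff D hD K hK s hs l hl).mp hKs
  have h2 : ∀ t : F, xU D hD (D.neg (D.simple k)) t ∈ K := by
    have h3 := (xU_permW_iff D hD K hK (D.simple k) (hB.hsimp k hk) [k] (by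
      intro i hi
      rw [List.mem_singleton] at hi
      rw [hi]
      exact hk)).mp h1
    have h4 : permW D [k] (D.simple k) = D.neg (D.simple k) := by
      show D.reflectRoot k (D.simple k) = _
      exact ChevGen.reflectRoot_simple D k
    rwa [h4] at h3
  exact fun t => ⟨h1 t, h2 t⟩

/-- root subgroups along a word, for a subgroup normalised by the `n_i` -/
theorem xU_mem_of_word (K : Subgroup (GL D.Idx F))
    (hK : ∀ i < D.rank, nGL D hD i ∈ Subgroup.normalizer (K : Set (GL D.Idx F)))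
    (s r : ℕ) (hs : s < D.nroots) (l : List ℕ) (hw : WordOK D l s r)
    (h : ∀ t : F, xU D hD s t ∈ K) (t : F) : xU D hD r t ∈ K := by
  obtain ⟨hl, hp⟩ := hw
  rw [← hp]
  exact (xU_permW_iff D hD K hK s hs l hl).mp h t

/-- the `n_i` normalise every subgroup containing `N` -/
theorem nGL_mem_normalizer_of_le (K : Subgroup (GL D.Idx F)) (hN : D.monomialSubgroup F ≤ K)
    (i : ℕ) (hi : i < D.rank) : nGL D hD i ∈ Subgroup.normalizer (K : Set (GL D.Idx F)) := by
  have hB := bnFacts_all D hD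
  exact Subgroup.le_normalizer (hN (nGL_mem D hD i (hB.hsimp i hi)))

/-- a subgroup containing two root subgroups contains a third one, given a commutator relation with
an invertible constant -/
theorem xU_mem_of_comm (K : Subgroup (GL D.Idx F)) (r s u : ℕ) (c : ℤ)
    (h : commCheck D r s u c = true) (hc : (c : F) ≠ 0)
    (hr : ∀ t : F, xU D hD r t ∈ K) (hs : ∀ t : F, xU D hD s t ∈ K) (t : F) :
    xU D hD u t ∈ K := by
  have h1 := comm_of_check D hD r s u c h (t / (c : F)) 1
  have h2 : (c : F) * (t / (c : F)) * 1 = t := by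
    field_simp
  rw [h2] at h1
  rw [← h1]
  exact mul_mem (mul_mem (mul_mem (hr _) (hs _)) (inv_mem (hr _))) (inv_mem (hs _))

end

end Cfsg.Agent.Helper36.ChevComm
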