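import Mathlib
import Cfsg.Agent.Lib.Helper36.ChevComm

/-!
# Table checks: a few commutator and torus relations, and Weyl group words between roots

Helper library (helper36).
-/

set_option autoImplicit false
set_option maxRecDepth 100000

namespace Cfsg.Agent.Helper36.ChevCommData

open Cfsg.Lie Cfsg.Agent.Helper18 Cfsg.Agent.Helper36.ChevComm

/-! ### commutators of two fundamental root elements -/

theorem commD4 : commCheck chevD4 18 14 19 (-1) = true := by decide +kernel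

theorem commE6 : commCheck chevE6 56 42 57 (-1) = true := by decide +kernel

theorem commE7 : commCheck chevE7 93 73 94 (-1) = true := by decide +kernel

theorem commE8 : commCheck chevE8 162 135 163 (-1) = true := by decide +kernel

theorem commF4s : commCheck chevF4 33 27 34 (-1) = true := by decide +kernel

theorem commF4l : commCheck chevF4 25 24 26 (-1) = true := by decide +kernel

theorem commG2l : commCheck chevG2 6 10 11 1 = true := by decide +kernel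

/-! ### commutators of two short root elements giving a long root element -/

theorem commB2 : commCheck chevB2 5 6 7 2 = true := by decide +kernel

theorem commG2 : commCheck chevG2 7 9 10 3 = true := by decide +kernel

theorem commF4 : commCheck chevF4 3 27 4 2 = true := by decide +kernel

/-! ### torus relations -/

theorem torusG2 : torusCheck chevG2 6 7 (-1) = true := by decide +kernel

theorem torusB2s : torusCheck chevB2 4 5 (-1) = true := by decide +kernel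

theorem torusB2l : torusCheck chevB2 5 4 (-2) = true := by decide +kernel

/-! ### words from the root `p_0 + p_j` to the fundamental roots -/

theorem wordsD4 : ∀ k < 4, WordOK chevD4 ([[1], [0], [1, 0, 2], [1, 0, 3]].getD k []) 19
    (chevD4.simple k) := by decide +kernel

theorem wordsE6 : ∀ k < 6, WordOK chevE6 ([[2], [3, 1, 2, 0, 3], [0], [2, 0, 3], [3, 4, 2, 0, 3],
    [4, 5, 3, 4, 2, 0, 3]].getD k []) 57 (chevE6.simple k) := by decide +kernel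

theorem wordsE7 : ∀ k < 7, WordOK chevE7 ([[2], [3, 1, 2, 0, 3], [0], [2, 0, 3], [3, 4, 2, 0, 3],
    [4, 5, 3, 4, 2, 0, 3], [5, 6, 4, 5, 3, 4, 2, 0, 3]].getD k []) 94 (chevE7.simple k) := by
  decide +kernel

theorem wordsE8 : ∀ k < 8, WordOK chevE8 ([[2], [3, 1, 2, 0, 3], [0], [2, 0, 3], [3, 4, 2, 0, 3],
    [4, 5, 3, 4, 2, 0, 3], [5, 6, 4, 5, 3, 4, 2, 0, 3],
    [6, 7, 5, 6, 4, 5, 3, 4, 2, 0, 3]].getD k []) 163 (chevE8.simple k) := by decide +kernel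

theorem wordsF4s : WordOK chevF4 [1] 34 (chevF4.simple 0) ∧ WordOK chevF4 [0] 34 (chevF4.simple 1) := by
  decide +kernel

theorem wordsF4l : WordOK chevF4 [3] 26 (chevF4.simple 2) ∧ WordOK chevF4 [2] 26 (chevF4.simple 3) := by
  decide +kernel

theorem wordG2l : WordOK chevG2 [0, 1] 11 (chevG2.simple 1) := by decide +kernel

theorem wordB2l : WordOK chevB2 [0] 7 (chevB2.simple 1) := by decide +kernel

/-! ### words for the short fundamental roots -/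

theorem wordB2a : WordOK chevB2 [1] (chevB2.simple 0) 6 := by decide +kernel

theorem wordG2a : WordOK chevG2 [0, 1] (chevG2.simple 0) 9 := by decide +kernel

theorem wordG2b : WordOK chevG2 [0] 10 (chevG2.simple 1) := by decide +kernel

theorem wordsF4a : WordOK chevF4 [0, 1, 2, 1, 3, 2, 1, 0] (chevF4.simple 0) 3 ∧
    WordOK chevF4 [0, 1] (chevF4.simple 0) 27 ∧
    WordOK chevF4 [0, 1, 2, 3, 1, 0, 2, 1] (chevF4.simple 1) 3 ∧
    WordOK chevF4 [1, 0] (chevF4.simple 1) 33 := by decide +kernel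

theorem wordsF4b : WordOK chevF4 [2, 3, 1, 0, 2] 4 (chevF4.simple 2) ∧
    WordOK chevF4 [3, 2, 1, 0, 2] 4 (chevF4.simple 3) := by decide +kernel

/-! ### words between fundamental roots, one root length -/

/-- the table of words for type D4 -/
def tblD4 : List (List (List ℕ)) :=
  [[[], [0, 1], [1, 0, 2, 1], [1, 0, 3, 1]], [[1, 0], [], [1, 2], [1, 3]],
   [[1, 0, 2, 1], [2, 1], [], [1, 2, 3, 1]], [[1, 0, 3, 1], [3, 1], [1, 2, 3, 1], []]]

/-- the table of words for type E6 -/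
def tblE6 : List (List (List ℕ)) :=
  [[[], [3, 1, 2, 0, 3, 2], [0, 2], [2, 0, 3, 2], [3, 4, 2, 0, 3, 2], [4, 5, 3, 4, 2, 0, 3, 2]],
   [[2, 0, 3, 1, 2, 3], [], [3, 1, 2, 3], [1, 3], [3, 1, 4, 3], [4, 5, 3, 1, 4, 3]],
   [[2, 0], [3, 1, 2, 3], [], [2, 3], [3, 2, 4, 3], [4, 5, 3, 2, 4, 3]],
   [[2, 0, 3, 2], [3, 1], [3, 2], [], [3, 4], [4, 3, 5, 4]],
   [[2, 0, 3, 2, 4, 3], [3, 1, 4, 3], [3, 2, 4, 3], [4, 3], [], [4, 5]],
   [[2, 0, 3, 2, 4, 3, 5, 4], [3, 1, 4, 3, 5, 4], [3, 2, 4, 3, 5, 4], [4, 3, 5, 4], [5, 4], []]]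

/-- the table of words for type E7 -/
def tblE7 : List (List (List ℕ)) :=
  [[[], [3, 1, 2, 0, 3, 2], [0, 2], [2, 0, 3, 2], [3, 4, 2, 0, 3, 2], [4, 5, 3, 4, 2, 0, 3, 2],
    [5, 6, 4, 5, 3, 4, 2, 0, 3, 2]],
   [[2, 0, 3, 1, 2, 3], [], [3, 1, 2, 3], [1, 3], [3, 1, 4, 3], [4, 5, 3, 1, 4, 3],
    [5, 6, 4, 5, 3, 1, 4, 3]],
   [[2, 0], [3, 1, 2, 3], [], [2, 3], [3, 2, 4, 3], [4, 5, 3, 2, 4, 3], [5, 6, 4, 5, 3, 2, 4, 3]],
   [[2, 0, 3, 2], [3, 1], [3, 2], [], [3, 4], [4, 3, 5, 4], [5, 6, 4, 3, 5, 4]],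
   [[2, 0, 3, 2, 4, 3], [3, 1, 4, 3], [3, 2, 4, 3], [4, 3], [], [4, 5], [5, 4, 6, 5]],
   [[2, 0, 3, 2, 4, 3, 5, 4], [3, 1, 4, 3, 5, 4], [3, 2, 4, 3, 5, 4], [4, 3, 5, 4], [5, 4], [],
    [5, 6]],
   [[2, 0, 3, 2, 4, 3, 5, 4, 6, 5], [3, 1, 4, 3, 5, 4, 6, 5], [3, 2, 4, 3, 5, 4, 6, 5],
    [4, 3, 5, 4, 6, 5], [5, 4, 6, 5], [6, 5], []]]

/-- the table of words for type E8 -/
def tblE8 : List (List (List ℕ)) :=
  [[[], [3, 1, 2, 0, 3, 2], [0, 2], [2, 0, 3, 2], [3, 4, 2, 0, 3, 2], [4, 5, 3, 4, 2, 0, 3, 2],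
    [5, 6, 4, 5, 3, 4, 2, 0, 3, 2], [6, 7, 5, 6, 4, 5, 3, 4, 2, 0, 3, 2]],
   [[2, 0, 3, 1, 2, 3], [], [3, 1, 2, 3], [1, 3], [3, 1, 4, 3], [4, 5, 3, 1, 4, 3],
    [5, 6, 4, 5, 3, 1, 4, 3], [6, 7, 5, 6, 4, 5, 3, 1, 4, 3]],
   [[2, 0], [3, 1, 2, 3], [], [2, 3], [3, 2, 4, 3], [4, 5, 3, 2, 4, 3], [5, 6, 4, 5, 3, 2, 4, 3],
    [6, 7, 5, 6, 4, 5, 3, 2, 4, 3]],
   [[2, 0, 3, 2], [3, 1], [3, 2], [], [3, 4], [4, 3, 5, 4], [5, 6, 4, 3, 5, 4],
    [6, 7, 5, 6, 4, 3, 5, 4]],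
   [[2, 0, 3, 2, 4, 3], [3, 1, 4, 3], [3, 2, 4, 3], [4, 3], [], [4, 5], [5, 4, 6, 5],
    [6, 7, 5, 4, 6, 5]],
   [[2, 0, 3, 2, 4, 3, 5, 4], [3, 1, 4, 3, 5, 4], [3, 2, 4, 3, 5, 4], [4, 3, 5, 4], [5, 4], [],
    [5, 6], [6, 5, 7, 6]],
   [[2, 0, 3, 2, 4, 3, 5, 4, 6, 5], [3, 1, 4, 3, 5, 4, 6, 5], [3, 2, 4, 3, 5, 4, 6, 5],
    [4, 3, 5, 4, 6, 5], [5, 4, 6, 5], [6, 5], [], [6, 7]],
   [[2, 0, 3, 2, 4, 3, 5, 4, 6, 5, 7, 6], [3, 1, 4, 3, 5, 4, 6, 5, 7, 6],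
    [3, 2, 4, 3, 5, 4, 6, 5, 7, 6], [4, 3, 5, 4, 6, 5, 7, 6], [5, 4, 6, 5, 7, 6], [6, 5, 7, 6],
    [7, 6], []]]

/-- the words of a table carry each fundamental root to each fundamental root -/
def TblOK (D : ChevalleyDatum) (tbl : List (List (List ℕ))) : Prop :=
  ∀ i < D.rank, ∀ k < D.rank, WordOK D ((tbl.getD i []).getD k []) (D.simple i) (D.simple k)

instance (D : ChevalleyDatum) (tbl : List (List (List ℕ))) : Decidable (TblOK D tbl) := by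
  unfold TblOK
  infer_instance

theorem tblOK_D4 : TblOK chevD4 tblD4 := by decide +kernel

theorem tblOK_E6 : TblOK chevE6 tblE6 := by decide +kernel

theorem tblOK_E7 : TblOK chevE7 tblE7 := by decide +kernel

theorem tblOK_E8 : TblOK chevE8 tblE8 := by decide +kernel

end Cfsg.Agent.Helper36.ChevCommData
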