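import Mathlib
import Cfsg.Agent.Lib.Helper36.ChevGen
import Cfsg.Prelude.Def_ChevAutomorphisms

/-!
# Orbits of fundamental roots for the types with two root lengths

Helper library (helper36).
-/

set_option autoImplicit false

namespace Cfsg.Agent.Helper36.ChevOrbitML

open Cfsg.Lie Cfsg.Agent.S1043 Cfsg.Agent.Helper18

/-- words of length 0 or 2 -/
def wd (D : ChevalleyDatum) (a b : ℕ) : List ℕ := if a < D.rank ∧ b < D.rank then [a, b] else []

theorem wd_lt (D : ChevalleyDatum) (a b : ℕ) : ∀ i ∈ wd D a b, i < D.rank := by
  intro i hi
  unfold wd at hi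
  split_ifs at hi with h
  · rcases List.mem_cons.mp hi with rfl | h2
    · exact h.1
    · rcases List.mem_cons.mp h2 with rfl | h3
      · exact h.2
      · exact absurd h3 (List.not_mem_nil)
  · exact absurd hi (List.not_mem_nil)

/-- every fundamental root is in the orbit of `p_i` or `p_j` under words of length at most two -/
def OrbitIJ (D : ChevalleyDatum) (i j : ℕ) : Prop :=
  ∀ k < D.rank, ∃ a < D.rank + 1, ∃ b < D.rank + 1,
    permW D (wd D a b) (D.simple i) = D.simple k ∨ permW D (wd D a b) (D.simple j) = D.simple k

instance (D : ChevalleyDatum) (i j : ℕ) : Decidable (OrbitIJ D i j) := by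
  unfold OrbitIJ
  infer_instance

/-- the orbit statement for a short and a long fundamental root joined in the diagram -/
def OrbitML (D : ChevalleyDatum) : Prop :=
  ∀ i < D.rank, ∀ j < D.rank, D.isLong (D.simple i) = false → D.isLong (D.simple j) = true →
    D.bonds i j ≠ 0 → OrbitIJ D i j

instance (D : ChevalleyDatum) : Decidable (OrbitML D) := by
  unfold OrbitML
  infer_instance

theorem orbitML_B2 : OrbitML chevB2 := by decide +kernel

theorem orbitML_G2 : OrbitML chevG2 := by decide +kernel

theorem orbitML_F4 : OrbitML chevF4 := by decide +kernel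

end Cfsg.Agent.Helper36.ChevOrbitML
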