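import Cfsg.Agent.Lib.Helper18.ChevUProd
import Cfsg.Agent.Lib.Helper18.ChevUi

/-!
# Words of pairwise commuting root elements: the ordered form, and the splitting into the parts of a filter.
-/

set_option autoImplicit false

namespace Cfsg.Agent.Helper36.Sort

open Cfsg.Lie Cfsg.Agent.S1043 Cfsg.Agent.Helper18

section

variable {F : Type*} [Field F] (D : ChevalleyDatum) (hD : Good D)

theorem wordGL_nil : wordGL D hD ([] : List (ℕ × F)) = 1 := by
  simp [wordGL]

theorem wordGL_cons (p : ℕ × F) (w : List (ℕ × F)) :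
    wordGL D hD (p :: w) = xU D hD p.1 p.2 * wordGL D hD w := by
  simp [wordGL]

theorem wordGL_append (a b : List (ℕ × F)) :
    wordGL D hD (a ++ b) = wordGL D hD a * wordGL D hD b := by
  simp [wordGL]

theorem xU_zero (r : ℕ) : xU D hD r (0 : F) = 1 := by
  apply Units.ext
  rw [xU_val, x_zero]
  rfl

/-- The ordered word of a coefficient function, as a unit. -/
noncomputable def W (t : ℕ → F) (k m : ℕ) : GL D.Idx F := wordGL D hD (ordWord t k m)

theorem W_zero (t : ℕ → F) (k : ℕ) : W D hD t k 0 = 1 := by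
  unfold W ordWord
  simp [wordGL]

theorem W_succ (t : ℕ → F) (k m : ℕ) : W D hD t k (m + 1) = xU D hD k (t k) * W D hD t (k + 1) m := by
  unfold W
  rw [ordWord_succ, wordGL_cons]

theorem W_congr (t t' : ℕ → F) (k m : ℕ) (h : ∀ r, k ≤ r → r < k + m → t r = t' r) :
    W D hD t k m = W D hD t' k m := by
  unfold W
  rw [ordWord_congr t t' k m h]

theorem W_const_zero (k m : ℕ) : W D hD (fun _ => (0 : F)) k m = 1 := by
  induction m generalizing k with
  | zero => exact W_zero D hD _ k
  | succ m ih => rw [W_succ, ih, xU_zero, mul_one]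

/-- Inserting a root element into an ordered word, when it commutes with the factors of smaller index. -/
theorem insert_W (t : ℕ → F) (ρ : ℕ) (e : F) :
    ∀ m k : ℕ, k ≤ ρ → ρ < k + m →
      (∀ s, k ≤ s → s < ρ → Commute (xU D hD s (t s)) (xU D hD ρ e)) →
      xU D hD ρ e * W D hD t k m = W D hD (Function.update t ρ (t ρ + e)) k m := by
  intro m
  induction m with
  | zero => intro k h1 h2; omega
  | succ m ih =>
    intro k h1 h2 hc
    rw [W_succ, W_succ]
    by_cases hk : k = ρ
    · subst hk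
      rw [Function.update_self, ← mul_assoc, xU_add', add_comm]
      congr 1
      apply W_congr
      intro r hr1 _
      rw [Function.update_of_ne (by omega)]
    · have hlt : k < ρ := by omega
      rw [Function.update_of_ne hk, ← mul_assoc, ← (hc k le_rfl hlt).eq, mul_assoc,
        ih (k + 1) (by omega) (by omega) (fun s hs1 hs2 => hc s (by omega) hs2)]

/-- The coefficient function of a word. -/
def tOf (L : List (ℕ × F)) : ℕ → F :=
  L.foldr (fun p t => Function.update t p.1 (t p.1 + p.2)) (fun _ => 0)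

theorem tOf_nil : tOf ([] : List (ℕ × F)) = fun _ => 0 := rfl

theorem tOf_cons (p : ℕ × F) (L : List (ℕ × F)) :
    tOf (p :: L) = Function.update (tOf L) p.1 (tOf L p.1 + p.2) := rfl

theorem tOf_not_mem (L : List (ℕ × F)) (s : ℕ) (h : s ∉ L.map Prod.fst) : tOf L s = 0 := by
  induction L with
  | nil => rfl
  | cons p L ih =>
    rw [List.map_cons, List.mem_cons, not_or] at h
    rw [tOf_cons, Function.update_of_ne h.1, ih h.2]

theorem tOf_mem (L : List (ℕ × F)) (hnd : (L.map Prod.fst).Nodup) (p : ℕ × F) (hp : p ∈ L) :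
    tOf L p.1 = p.2 := by
  induction L with
  | nil => exact absurd hp List.not_mem_nil
  | cons q L ih =>
    rw [List.map_cons, List.nodup_cons] at hnd
    rcases List.mem_cons.mp hp with rfl | hp'
    · rw [tOf_cons, Function.update_self, tOf_not_mem L _ hnd.1, zero_add]
    · have hne : p.1 ≠ q.1 := by
        intro e
        apply hnd.1
        rw [← e]
        exact List.mem_map_of_mem hp'
      rw [tOf_cons, Function.update_of_ne hne, ih hnd.2 hp']

/-- A word of pairwise commuting root elements with distinct roots in the range is the ordered word of its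
coefficient function. -/
theorem wordGL_eq_W (k m : ℕ) (L : List (ℕ × F)) (hnd : (L.map Prod.fst).Nodup)
    (hr : ∀ p ∈ L, k ≤ p.1 ∧ p.1 < k + m)
    (hc : L.Pairwise fun p q => Commute (xU D hD p.1 p.2) (xU D hD q.1 q.2)) :
    wordGL D hD L = W D hD (tOf L) k m := by
  induction L with
  | nil => rw [wordGL_nil, tOf_nil, W_const_zero]
  | cons p L ih =>
    rw [List.map_cons, List.nodup_cons] at hnd
    rw [List.pairwise_cons] at hc
    rw [wordGL_cons, ih hnd.2 (fun q hq => hr q (List.mem_cons_of_mem _ hq)) hc.2, tOf_cons]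
    obtain ⟨h1, h2⟩ := hr p List.mem_cons_self
    apply insert_W D hD _ _ _ m k h1 h2
    intro s _ _
    by_cases hs : s ∈ L.map Prod.fst
    · obtain ⟨q, hq, rfl⟩ := List.mem_map.mp hs
      rw [tOf_mem L hnd.2 q hq]
      exact (hc.1 q hq).symm
    · rw [tOf_not_mem L s hs, xU_zero]
      exact Commute.one_left _

/-- Splitting a word of pairwise commuting elements into the parts of a filter. -/
theorem wordGL_filter (P : ℕ × F → Bool) (L : List (ℕ × F))
    (hc : L.Pairwise fun p q => Commute (xU D hD p.1 p.2) (xU D hD q.1 q.2)) :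
    wordGL D hD L = wordGL D hD (L.filter P) * wordGL D hD (L.filter fun p => !P p) := by
  induction L with
  | nil => simp [wordGL_nil]
  | cons p L ih =>
    rw [List.pairwise_cons] at hc
    have hcomm : Commute (xU D hD p.1 p.2) (wordGL D hD (L.filter P)) := by
      unfold wordGL
      apply Commute.list_prod_right
      intro x hx
      obtain ⟨q, hq, rfl⟩ := List.mem_map.mp hx
      exact hc.1 q (List.mem_filter.mp hq).1
    rw [wordGL_cons, ih hc.2]
    by_cases hP : P p = true
    · rw [List.filter_cons_of_pos hP, List.filter_cons_of_neg (by simp [hP]), wordGL_cons, mul_assoc]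
    · rw [List.filter_cons_of_neg hP, List.filter_cons_of_pos (by simp [hP]), wordGL_cons,
        ← mul_assoc, hcomm.eq, mul_assoc]

/-- Conjugating a word. -/
theorem conj_wordGL (y : GL D.Idx F) (φ : ℕ × F → ℕ × F)
    (hφ : ∀ p : ℕ × F, p.1 < D.nroots → y * xU D hD p.1 p.2 * y⁻¹ = xU D hD (φ p).1 (φ p).2)
    (L : List (ℕ × F)) (hL : ∀ p ∈ L, p.1 < D.nroots) :
    y * wordGL D hD L * y⁻¹ = wordGL D hD (L.map φ) := by
  induction L with
  | nil => simp [wordGL_nil]
  | cons p L ih =>
    rw [List.map_cons, wordGL_cons, wordGL_cons, ← hφ p (hL p List.mem_cons_self),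
      ← ih (fun q hq => hL q (List.mem_cons_of_mem _ hq))]
    group

/-- The coefficient function of a word of commuting root elements over positive roots is determined by the
element. -/
theorem tOf_unique {f : ℕ → ℤ} (hUP : UProdData D f) (L L' : List (ℕ × F))
    (hnd : (L.map Prod.fst).Nodup) (hnd' : (L'.map Prod.fst).Nodup)
    (hr : ∀ p ∈ L, D.IsPosRoot p.1) (hr' : ∀ p ∈ L', D.IsPosRoot p.1)
    (hc : L.Pairwise fun p q => Commute (xU D hD p.1 p.2) (xU D hD q.1 q.2))
    (hc' : L'.Pairwise fun p q => Commute (xU D hD p.1 p.2) (xU D hD q.1 q.2))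
    (heq : wordGL D hD L = wordGL D hD L') (r : ℕ) (hrp : D.IsPosRoot r) : tOf L r = tOf L' r := by
  have hsum : D.nroots / 2 + (D.nroots - D.nroots / 2) = D.nroots := by omega
  have hrange : ∀ M : List (ℕ × F), (∀ p ∈ M, D.IsPosRoot p.1) →
      ∀ p ∈ M, D.nroots / 2 ≤ p.1 ∧ p.1 < D.nroots / 2 + (D.nroots - D.nroots / 2) := by
    intro M hM p hp
    have := (hUP.hposiff p.1).mp (hM p hp)
    exact ⟨this.1, by omega⟩
  rw [wordGL_eq_W D hD _ _ L hnd (hrange L hr) hc, wordGL_eq_W D hD _ _ L' hnd' (hrange L' hr') hc'] at heq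
  have h2 := congrArg (fun g : GL D.Idx F => (g : Matrix D.Idx D.Idx F)) heq
  simp only [W, wordGL_val] at h2
  obtain ⟨h3, h4⟩ := (hUP.hposiff r).mp hrp
  exact Uge_unique D hD hUP _ _ le_rfl hsum _ _ h2 r h3 h4

/-- If a monomial element conjugates a word of commuting root elements over positive roots to another such word,
then it maps the roots with non-zero coefficient of the first to roots of the second. -/
theorem transfer {f : ℕ → ℤ} (hUP : UProdData D f)
    (hUV : ∀ g : GL D.Idx F, g ∈ D.posUnipotent F → g ∈ D.negUnipotent F → g = 1)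
    (hpn : ∀ s < D.nroots, D.IsPosRoot s ∨ D.IsNegRoot s)
    (y : GL D.Idx F) (π : ℕ → ℕ) (φ : ℕ × F → ℕ × F)
    (hφ1 : ∀ p, (φ p).1 = π p.1)
    (hφ : ∀ p : ℕ × F, p.1 < D.nroots → y * xU D hD p.1 p.2 * y⁻¹ = xU D hD (φ p).1 (φ p).2)
    (hφ0 : ∀ p : ℕ × F, p.1 < D.nroots → p.2 ≠ 0 → (φ p).2 ≠ 0)
    (hπ : ∀ s < D.nroots, π s < D.nroots)
    (L L' : List (ℕ × F))
    (hnd : (L.map Prod.fst).Nodup) (hnd' : (L'.map Prod.fst).Nodup)
    (hπinj : ((L.map Prod.fst).map π).Nodup)
    (hr : ∀ p ∈ L, D.IsPosRoot p.1) (hr' : ∀ p ∈ L', D.IsPosRoot p.1)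
    (hc : L.Pairwise fun p q => Commute (xU D hD p.1 p.2) (xU D hD q.1 q.2))
    (hc' : L'.Pairwise fun p q => Commute (xU D hD p.1 p.2) (xU D hD q.1 q.2))
    (heq : y * wordGL D hD L * y⁻¹ = wordGL D hD L') :
    ∀ p ∈ L, p.2 ≠ 0 → π p.1 ∈ L'.map Prod.fst := by
  classical
  have hxU : ∀ (r : ℕ) (c : F), D.IsPosRoot r → xU D hD r c ∈ D.posUnipotent F :=
    fun r c h => Subgroup.subset_closure ⟨r, c, h, rfl⟩
  have hxV : ∀ (r : ℕ) (c : F), D.IsNegRoot r → xU D hD r c ∈ D.negUnipotent F :=
    fun r c h => Subgroup.subset_closure ⟨r, c, h, rfl⟩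
  have hwU : ∀ M : List (ℕ × F), (∀ p ∈ M, D.IsPosRoot p.1) → wordGL D hD M ∈ D.posUnipotent F := by
    intro M hM
    unfold wordGL
    apply Subgroup.list_prod_mem
    intro x hx
    obtain ⟨q, hq, rfl⟩ := List.mem_map.mp hx
    exact hxU _ _ (hM q hq)
  have hwV : ∀ M : List (ℕ × F), (∀ p ∈ M, D.IsNegRoot p.1) → wordGL D hD M ∈ D.negUnipotent F := by
    intro M hM
    unfold wordGL
    apply Subgroup.list_prod_mem
    intro x hx
    obtain ⟨q, hq, rfl⟩ := List.mem_map.mp hx
    exact hxV _ _ (hM q hq)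
  -- the conjugated word
  have hLlt : ∀ p ∈ L, p.1 < D.nroots := fun p hp => (hr p hp).1
  have hM : wordGL D hD (L.map φ) = wordGL D hD L' := by
    rw [← conj_wordGL D hD y φ hφ L hLlt, heq]
  have hcM : (L.map φ).Pairwise fun p q => Commute (xU D hD p.1 p.2) (xU D hD q.1 q.2) := by
    rw [List.pairwise_map]
    have hc2 : L.Pairwise fun p q => (p.1 < D.nroots ∧ q.1 < D.nroots) ∧
        Commute (xU D hD p.1 p.2) (xU D hD q.1 q.2) := by
      have h1 : L.Pairwise fun p q => p.1 < D.nroots ∧ q.1 < D.nroots :=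
        List.Pairwise.imp_of_mem (R := fun _ _ => True) (fun hp hq _ => ⟨hLlt _ hp, hLlt _ hq⟩)
          (List.pairwise_of_forall fun _ _ => trivial)
      exact h1.and hc
    refine hc2.imp ?_
    rintro p q ⟨⟨hp, hq⟩, hpq⟩
    rw [← hφ p hp, ← hφ q hq]
    have e := hpq.eq
    unfold Commute SemiconjBy
    calc y * xU D hD p.1 p.2 * y⁻¹ * (y * xU D hD q.1 q.2 * y⁻¹)
        = y * (xU D hD p.1 p.2 * xU D hD q.1 q.2) * y⁻¹ := by group
      _ = y * (xU D hD q.1 q.2 * xU D hD p.1 p.2) * y⁻¹ := by rw [e]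
      _ = _ := by group
  let Pneg : ℕ × F → Bool := fun q => decide (D.IsNegRoot q.1)
  have hsplit := wordGL_filter D hD Pneg (L.map φ) hcM
  have hnegpart : ∀ p ∈ (L.map φ).filter Pneg, D.IsNegRoot p.1 := by
    intro p hp
    have := (List.mem_filter.mp hp).2
    simpa [Pneg] using this
  have hMlt : ∀ p ∈ L.map φ, p.1 < D.nroots := by
    intro p hp
    obtain ⟨q, hq, rfl⟩ := List.mem_map.mp hp
    rw [hφ1]
    exact hπ _ (hr q hq).1
  have hpospart : ∀ p ∈ (L.map φ).filter (fun p => !Pneg p), D.IsPosRoot p.1 := by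
    intro p hp
    obtain ⟨h1, h2⟩ := List.mem_filter.mp hp
    have h3 : ¬ D.IsNegRoot p.1 := by simpa [Pneg] using h2
    exact (hpn _ (hMlt p h1)).resolve_right h3
  -- the negative part is trivial
  have hA : wordGL D hD ((L.map φ).filter Pneg) = 1 := by
    apply hUV _ _ (hwV _ hnegpart)
    have e : wordGL D hD ((L.map φ).filter Pneg) =
        wordGL D hD L' * (wordGL D hD ((L.map φ).filter fun p => !Pneg p))⁻¹ := by
      rw [← hM, hsplit]
      group
    rw [e]
    exact mul_mem (hwU _ hr') (inv_mem (hwU _ hpospart))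
  have hLneg : wordGL D hD (L.filter (Pneg ∘ φ)) = 1 := by
    rw [List.filter_map, ← conj_wordGL D hD y φ hφ _
      (fun q hq => hLlt q (List.mem_of_mem_filter hq))] at hA
    have : wordGL D hD (L.filter (Pneg ∘ φ)) = y⁻¹ * (y * wordGL D hD (L.filter (Pneg ∘ φ)) * y⁻¹) * y := by
      group
    rw [this, hA]
    group
  have hsub : (L.filter (Pneg ∘ φ)).Sublist L := List.filter_sublist
  have hzero : ∀ p ∈ L.filter (Pneg ∘ φ), p.2 = 0 := by
    intro p hp
    have hnd1 : ((L.filter (Pneg ∘ φ)).map Prod.fst).Nodup := hnd.sublist (hsub.map _)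
    have h1 := tOf_unique D hD hUP (L.filter (Pneg ∘ φ)) [] hnd1 (by simp)
      (fun q hq => hr q (hsub.subset hq)) (by simp) (hc.sublist hsub) (by simp)
      (by rw [hLneg, wordGL_nil]) p.1 (hr p (hsub.subset hp))
    rw [tOf_mem _ hnd1 p hp, tOf_nil] at h1
    exact h1
  -- the positive part
  have hB : wordGL D hD ((L.map φ).filter fun p => !Pneg p) = wordGL D hD L' := by
    rw [← hM, hsplit, hA, one_mul]
  have hsub2 : ((L.map φ).filter fun p => !Pneg p).Sublist (L.map φ) := List.filter_sublist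
  have hndM : ((L.map φ).map Prod.fst).Nodup := by
    have : (L.map φ).map Prod.fst = (L.map Prod.fst).map π := by
      rw [List.map_map, List.map_map]
      apply List.map_congr_left
      intro p _
      exact hφ1 p
    rw [this]
    exact hπinj
  have hnd2 : (((L.map φ).filter fun p => !Pneg p).map Prod.fst).Nodup := hndM.sublist (hsub2.map _)
  intro p hp hp0
  have hpnotneg : ¬ D.IsNegRoot (φ p).1 := by
    intro hn
    apply hp0
    apply hzero p
    rw [List.mem_filter]
    refine ⟨hp, ?_⟩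
    simp [Pneg, hn]
  have hmem : φ p ∈ (L.map φ).filter fun p => !Pneg p := by
    rw [List.mem_filter]
    refine ⟨List.mem_map_of_mem hp, ?_⟩
    simp [Pneg, hpnotneg]
  have hposp : D.IsPosRoot (φ p).1 := hpospart _ hmem
  have h1 := tOf_unique D hD hUP _ L' hnd2 hnd' hpospart hr' (hcM.sublist hsub2) hc' hB (φ p).1 hposp
  rw [tOf_mem _ hnd2 _ hmem] at h1
  by_contra hnot
  rw [← hφ1] at hnot
  rw [tOf_not_mem L' _ hnot] at h1
  exact hφ0 p (hLlt p hp) hp0 h1

end

end Cfsg.Agent.Helper36.Sort
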