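import Cfsg.Agent.Lib.Helper18.ChevRootCent

/-!
# A torus element whose coordinates outside a set of fundamental roots are trivial lies in the subgroup
generated by the root subgroups of these fundamental roots and their negatives.
-/

set_option autoImplicit false

namespace Cfsg.Agent.Helper36.TorusMem

open Cfsg.Lie Cfsg.Agent.S1043 Cfsg.Agent.Helper17 Cfsg.Agent.Helper18

section

variable {F : Type*} [Field F] (D : ChevalleyDatum) (hD : Good D)

include hD in
theorem torus_mem {tbl : List ℕ} (hT : TorusData D tbl) (K : Subgroup (GL D.Idx F))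
    (c : ℕ → F) (hc : ∀ i, c i ≠ 0) (hh : GL D.Idx F)
    (hhc : ((hh : GL D.Idx F) : Matrix D.Idx D.Idx F) = torMat D c)
    (hK : ∀ i < D.rank, c i = 1 ∨
      ∀ t : F, xU D hD (D.simple i) t ∈ K ∧ xU D hD (D.neg (D.simple i)) t ∈ K) :
    hh ∈ K := by
  classical
  let uu : ℕ → GL D.Idx F := fun i =>
    if c i = 1 then 1 else wordGL D hD (D.hWord (D.simple i) (c i))
  have huv : ∀ i ∈ List.range D.rank, ((uu i : GL D.Idx F) : Matrix D.Idx D.Idx F) =
      diagMat D (fun s => D.cartan i s) (c i) := by
    intro i hi
    rw [List.mem_range] at hi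
    by_cases hik : c i = 1
    · simp only [uu, hik, if_true]
      rw [diagMat, Units.val_one, ← Matrix.diagonal_one]
      congr 1
      funext x
      rcases x with x | x
      · rfl
      · simp
    · simp only [uu, hik, if_false]
      rw [wordGL_val]
      exact hMat_simple_of_check D i (hT.simp i hi) (c i) (hc i)
  have hprod : hh = ((List.range D.rank).map uu).prod := by
    apply Units.ext
    rw [hhc, torMat_eq_prod, val_list_prod]
    congr 1
    apply List.map_congr_left
    intro i hi
    exact (huv i hi).symm
  rw [hprod]
  apply Subgroup.list_prod_mem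
  intro x hx
  obtain ⟨i, hi, rfl⟩ := List.mem_map.mp hx
  rw [List.mem_range] at hi
  by_cases hik : c i = 1
  · simp only [uu, hik, if_true]
    exact one_mem _
  · simp only [uu, hik, if_false]
    have hKi := (hK i hi).resolve_left hik
    apply wordGL_mem
    intro p hp
    have hp' : p.1 = D.simple i ∨ p.1 = D.neg (D.simple i) := by
      simp only [ChevalleyDatum.hWord, ChevalleyDatum.nWord, List.cons_append, List.nil_append,
        List.mem_cons, List.not_mem_nil, or_false] at hp
      rcases hp with rfl | rfl | rfl | rfl | rfl | rfl <;> simp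
    rcases hp' with e | e
    · rw [e]
      exact (hKi _).1
    · rw [e]
      exact (hKi _).2

end

end Cfsg.Agent.Helper36.TorusMem
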