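import Cfsg.Agent.Lib.Helper18.ChevUProd

/-!
# The filtration of `U` by the subgroups `Uge k` (generated by the root subgroups of index `≥ k`):
normality in `U`, and conjugation of a root element by an element of `U`.
-/

set_option autoImplicit false

namespace Cfsg.Agent.Helper36.Uge

open Cfsg.Lie Cfsg.Agent.S1043 Cfsg.Agent.Helper18

section

variable {F : Type*} [Field F] (D : ChevalleyDatum) (hD : Good D)

include hD

/-- Conjugating the root element `x_s(u)` by `x_k(a)` (both roots positive) changes it by an element of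
`Uge (s+1)`. -/
theorem conj_xU_xU {f : ℕ → ℤ} (hT : UProdData D f)
    (hcomm : ∀ r < D.nroots, ∀ s < D.nroots, s ≠ r → s ≠ D.neg r → CommOK F D r s)
    (k : ℕ) (hk1 : D.nroots / 2 ≤ k) (hk : k < D.nroots) (a : F)
    (s : ℕ) (hs1 : D.nroots / 2 ≤ s) (hs : s < D.nroots) (u : F) :
    ∃ W ∈ Uge F D (s + 1), (xU D hD k a)⁻¹ * xU D hD s u * xU D hD k a = xU D hD s u * W := by
  rcases Nat.lt_trichotomy k s with hks | hks | hks
  · have hnk := (hT.hneg k hk1 hk).1
    have H := hcomm k hk s hs (by omega) (by omega) a u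
    obtain ⟨W, hW, hWv⟩ := wordMat_mem_Uge D hD (s + 1) (D.commWord F k s a u) (by
      intro p hp
      simp only [ChevalleyDatum.commWord, List.mem_map] at hp
      obtain ⟨c, hc, rfl⟩ := hp
      have := hT.hord k s hk1 hks hs c hc
      exact ⟨by simp only; omega, this.2⟩)
    have hGL : xU D hD s u * xU D hD k a = xU D hD k a * xU D hD s u * W := by
      apply Units.ext
      rw [Units.val_mul, Units.val_mul, Units.val_mul, xU_val, xU_val, hWv]
      exact H
    refine ⟨W, hW, ?_⟩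
    rw [mul_assoc, hGL]
    group
  · subst hks
    refine ⟨1, one_mem _, ?_⟩
    rw [mul_one, mul_assoc, xU_add', add_comm, ← xU_add', ← mul_assoc, inv_mul_cancel, one_mul]
  · have hns := (hT.hneg s hs1 hs).1
    have H := hcomm s hs k hk (by omega) (by omega) u a
    obtain ⟨W, hW, hWv⟩ := wordMat_mem_Uge D hD (k + 1) (D.commWord F s k u a) (by
      intro p hp
      simp only [ChevalleyDatum.commWord, List.mem_map] at hp
      obtain ⟨c, hc, rfl⟩ := hp
      have := hT.hord s k hs1 hks hk c hc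
      exact ⟨by simp only; omega, this.2⟩)
    have hGL : xU D hD k a * xU D hD s u = xU D hD s u * xU D hD k a * W := by
      apply Units.ext
      rw [Units.val_mul, Units.val_mul, Units.val_mul, xU_val, xU_val, hWv]
      exact H
    refine ⟨W⁻¹, inv_mem (Uge_mono D (s + 1) (k + 1) (by omega) hW), ?_⟩
    have e : xU D hD s u = (xU D hD k a)⁻¹ * (xU D hD k a * xU D hD s u) := by group
    rw [hGL] at e
    calc (xU D hD k a)⁻¹ * xU D hD s u * xU D hD k a
        = ((xU D hD k a)⁻¹ * (xU D hD s u * xU D hD k a * W)) * W⁻¹ := by group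
      _ = xU D hD s u * W⁻¹ := by rw [← e]

/-- `x_k(a)` (`k` positive) normalises every `Uge m`, `m` in the positive range. -/
theorem conj_xU_mem_Uge {f : ℕ → ℤ} (hT : UProdData D f)
    (hcomm : ∀ r < D.nroots, ∀ s < D.nroots, s ≠ r → s ≠ D.neg r → CommOK F D r s)
    (k : ℕ) (hk1 : D.nroots / 2 ≤ k) (hk : k < D.nroots) (a : F) (m : ℕ) (hm : D.nroots / 2 ≤ m)
    (g : GL D.Idx F) (hg : g ∈ Uge F D m) : (xU D hD k a)⁻¹ * g * xU D hD k a ∈ Uge F D m := by
  unfold Uge at hg
  induction hg using Subgroup.closure_induction with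
  | mem x hx =>
    obtain ⟨s, u, h1, h2, hx⟩ := hx
    have hxe : x = xU D hD s u := Units.ext hx
    subst hxe
    obtain ⟨W, hW, e⟩ := conj_xU_xU D hD hT hcomm k hk1 hk a s (by omega) h2 u
    rw [e]
    exact mul_mem (xU_mem_Uge D hD m s h1 h2 u) (Uge_mono D m (s + 1) (by omega) hW)
  | one =>
    rw [mul_one, inv_mul_cancel]
    exact one_mem _
  | mul x y _ _ hx hy =>
    have : (xU D hD k a)⁻¹ * (x * y) * xU D hD k a =
        ((xU D hD k a)⁻¹ * x * xU D hD k a) * ((xU D hD k a)⁻¹ * y * xU D hD k a) := by group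
    rw [this]
    exact mul_mem hx hy
  | inv x _ hx =>
    have : (xU D hD k a)⁻¹ * x⁻¹ * xU D hD k a = ((xU D hD k a)⁻¹ * x * xU D hD k a)⁻¹ := by group
    rw [this]
    exact inv_mem hx

/-- `Uge m` is normalised by `U`. -/
theorem conj_mem_Uge {f : ℕ → ℤ} (hT : UProdData D f)
    (hcomm : ∀ r < D.nroots, ∀ s < D.nroots, s ≠ r → s ≠ D.neg r → CommOK F D r s)
    (m : ℕ) (hm : D.nroots / 2 ≤ m) (y : GL D.Idx F) (hy : y ∈ D.posUnipotent F) :
    ∀ g ∈ Uge F D m, y⁻¹ * g * y ∈ Uge F D m ∧ y * g * y⁻¹ ∈ Uge F D m := by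
  unfold ChevalleyDatum.posUnipotent at hy
  induction hy using Subgroup.closure_induction with
  | mem x hx =>
    obtain ⟨k, a, hk, hx⟩ := hx
    have hxe : x = xU D hD k a := Units.ext hx
    subst hxe
    obtain ⟨hk1, hk2⟩ := (hT.hposiff k).mp hk
    intro g hg
    refine ⟨conj_xU_mem_Uge D hD hT hcomm k hk1 hk2 a m hm g hg, ?_⟩
    have := conj_xU_mem_Uge D hD hT hcomm k hk1 hk2 (-a) m hm g hg
    rwa [← xU_inv, inv_inv] at this
  | one =>
    intro g hg
    simpa using hg
  | mul x y _ _ hx hy =>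
    intro g hg
    constructor
    · have : (x * y)⁻¹ * g * (x * y) = y⁻¹ * (x⁻¹ * g * x) * y := by group
      rw [this]
      exact (hy _ (hx g hg).1).1
    · have : (x * y) * g * (x * y)⁻¹ = x * (y * g * y⁻¹) * x⁻¹ := by group
      rw [this]
      exact (hx _ (hy g hg).2).2
  | inv x _ hx =>
    intro g hg
    constructor
    · have := (hx g hg).2
      rwa [inv_inv]
    · have := (hx g hg).1
      rwa [inv_inv]

/-- Conjugating a positive root element `x_s(u)` by an element of `U` changes it by an element of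
`Uge (s+1)`. -/
theorem conj_xU_of_mem {f : ℕ → ℤ} (hT : UProdData D f)
    (hcomm : ∀ r < D.nroots, ∀ s < D.nroots, s ≠ r → s ≠ D.neg r → CommOK F D r s)
    (s : ℕ) (hs1 : D.nroots / 2 ≤ s) (hs : s < D.nroots) (u : F)
    (y : GL D.Idx F) (hy : y ∈ D.posUnipotent F) :
    (∃ W ∈ Uge F D (s + 1), y⁻¹ * xU D hD s u * y = xU D hD s u * W) ∧
    (∃ W ∈ Uge F D (s + 1), y * xU D hD s u * y⁻¹ = xU D hD s u * W) := by
  have hy0 := hy
  unfold ChevalleyDatum.posUnipotent at hy
  induction hy using Subgroup.closure_induction with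
  | mem x hx =>
    obtain ⟨k, a, hk, hx⟩ := hx
    have hxe : x = xU D hD k a := Units.ext hx
    subst hxe
    obtain ⟨hk1, hk2⟩ := (hT.hposiff k).mp hk
    refine ⟨conj_xU_xU D hD hT hcomm k hk1 hk2 a s hs1 hs u, ?_⟩
    have := conj_xU_xU D hD hT hcomm k hk1 hk2 (-a) s hs1 hs u
    rwa [← xU_inv, inv_inv] at this
  | one =>
    exact ⟨⟨1, one_mem _, by group⟩, ⟨1, one_mem _, by group⟩⟩
  | mul x y hxm hym hx hy =>
    have hxU : x ∈ D.posUnipotent F := hxm
    have hyU : y ∈ D.posUnipotent F := hym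
    obtain ⟨⟨W1, hW1, e1⟩, ⟨W2, hW2, e2⟩⟩ := hx hxU
    obtain ⟨⟨W3, hW3, e3⟩, ⟨W4, hW4, e4⟩⟩ := hy hyU
    constructor
    · refine ⟨W3 * (y⁻¹ * W1 * y), mul_mem hW3
        (conj_mem_Uge D hD hT hcomm (s + 1) (by omega) y hyU W1 hW1).1, ?_⟩
      calc (x * y)⁻¹ * xU D hD s u * (x * y) = y⁻¹ * (x⁻¹ * xU D hD s u * x) * y := by group
        _ = (y⁻¹ * xU D hD s u * y) * (y⁻¹ * W1 * y) := by rw [e1]; group
        _ = _ := by rw [e3]; group
    · refine ⟨W2 * (x * W4 * x⁻¹), mul_mem hW2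
        (conj_mem_Uge D hD hT hcomm (s + 1) (by omega) x hxU W4 hW4).2, ?_⟩
      calc (x * y) * xU D hD s u * (x * y)⁻¹ = x * (y * xU D hD s u * y⁻¹) * x⁻¹ := by group
        _ = (x * xU D hD s u * x⁻¹) * (x * W4 * x⁻¹) := by rw [e4]; group
        _ = _ := by rw [e2]; group
  | inv x hxm hx =>
    have hxU : x ∈ D.posUnipotent F := hxm
    obtain ⟨h1, h2⟩ := hx hxU
    refine ⟨?_, ?_⟩
    · rw [inv_inv]; exact h2
    · rw [inv_inv]; exact h1

end

end Cfsg.Agent.Helper36.Uge
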