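import Mathlib
import Cfsg.Agent.Lib.Helper36.OmegaTrans

set_option autoImplicit false

/-!
# The Dickson invariant via maximal totally singular subspaces, any characteristic

For a quadratic form of maximal Witt index on a space of dimension `2n` and a maximal totally
singular subspace `L`, the parity of `n - dim (L ∩ gL)` is a homomorphism which is non-trivial
on reflections.  In odd characteristic it is the determinant.
-/

namespace Cfsg.Agent.Helper36.DicksonDet

open Matrix Module QuadraticMap Cfsg.Agent.Helper36.QuadInv Cfsg.Agent.Helper36.TotSing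
  Cfsg.Agent.Helper36.OmegaTrans Cfsg.Agent.Helper43

universe u

section genericRefl

variable {F : Type u} [Field F] {Vt : Type*} [AddCommGroup Vt] [Module F Vt]
  [FiniteDimensional F Vt]
variable {Qt : Vt → F} {Bt : LinearMap.BilinForm F Vt}
variable {G : Type*} [Group G]

/-- a reflection (in any characteristic) moves the reference subspace to an adjacent one -/
theorem dnatG_refl_gen (hQt : IsQF Qt Bt) (hndt : Bt.Nondegenerate) {n : ℕ}
    (hVt : finrank F Vt = 2 * n) {Lt : Submodule F Vt} (hLt : IsMTS Qt n Lt)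
    (ε : G →* (Vt ≃ₗ[F] Vt)) (g : G) (a : Vt) (ha : Qt a ≠ 0) (c : Vt → F)
    (hc : ∀ x, c x = 0 ↔ Bt a x = 0)
    (hg : ∀ x, ε g x = x + c x • a) : dnatG n Lt ε g = 1 := by
  have haL : a ∉ Lt := fun hc => ha (hLt.2 a hc)
  have hex : ∃ u ∈ Lt, Bt a u ≠ 0 := by
    by_contra hcon
    push Not at hcon
    apply haL
    apply hQt.mem_of_ortho hndt hVt hLt
    intro u hu
    rw [hQt.symm]
    exact hcon u hu
  have h1 := finrank_inf_ker (Bt a) Lt hex
  rw [hLt.1] at h1
  have hle : Lt ⊓ LinearMap.ker (Bt a) ≤ Lt ⊓ Lt.map (ε g).toLinearMap := by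
    intro x hx
    refine ⟨hx.1, ?_⟩
    refine ⟨x, hx.1, ?_⟩
    rw [LinearEquiv.coe_coe, hg]
    have : Bt a x = 0 := hx.2
    rw [(hc x).mpr this, zero_smul, add_zero]
  have h2 := Submodule.finrank_mono hle
  have h3 : finrank F ↥(Lt ⊓ Lt.map (ε g).toLinearMap) ≤ n := IsQF.finrank_inf_le n hLt.1
  have h4 : finrank F ↥(Lt ⊓ Lt.map (ε g).toLinearMap) ≠ n := by
    intro heq
    have hLle : Lt.map (ε g).toLinearMap ≤ Lt := by
      have hmapfr : finrank F ↥(Lt.map (ε g).toLinearMap) = n := by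
        rw [LinearEquiv.finrank_map_eq]
        exact hLt.1
      have : Lt ⊓ Lt.map (ε g).toLinearMap = Lt.map (ε g).toLinearMap :=
        Submodule.eq_of_le_of_finrank_eq inf_le_right (by rw [heq, hmapfr])
      intro x hx
      have hx' : x ∈ Lt ⊓ Lt.map (ε g).toLinearMap := by rw [this]; exact hx
      exact hx'.1
    obtain ⟨u, hu, hne⟩ := hex
    have hv : ε g u ∈ Lt := hLle ⟨u, hu, rfl⟩
    rw [hg] at hv
    have h5 := Lt.sub_mem hv hu
    rw [add_sub_cancel_left] at h5
    have hcu : c u ≠ 0 := fun h0 => hne ((hc u).mp h0)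
    have h6 := Lt.smul_mem (c u)⁻¹ h5
    rw [smul_smul, inv_mul_cancel₀ hcu, one_smul] at h6
    exact haL h6
  unfold dnatG
  omega

end genericRefl

section matrices

variable {F : Type u} [Field F] {ι : Type} [Fintype ι] [DecidableEq ι]
variable (Q : QuadraticForm F (ι → F))

omit [Fintype ι] [DecidableEq ι] in
theorem isQF_of : IsQF (⇑Q) (polarBilin Q) where
  add u v := by
    rw [polarBilin_apply_apply]
    unfold polar
    ring
  smul c v := by rw [QuadraticMap.map_smul, smul_eq_mul]

theorem dnat_reflIso (hQ : (polarBilin Q).Nondegenerate) {n : ℕ}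
    (hV : finrank F (ι → F) = 2 * n) {L : Submodule F (ι → F)} (hL : IsMTS (⇑Q) n L)
    {a : ι → F} (ha : Q a ≠ 0) : dnatG n L (actHom (⇑Q)) (reflIso Q ha) = 1 := by
  apply dnatG_refl_gen (isQF_of Q) hQ hV hL (actHom (⇑Q)) (reflIso Q ha) a ha
    (fun x => -((Q a)⁻¹ * polar Q a x))
  · intro x
    rw [neg_eq_zero, mul_eq_zero, polarBilin_apply_apply]
    constructor
    · rintro (h | h)
      · exact absurd (inv_eq_zero.mp h) ha
      · exact h
    · intro h
      exact Or.inr h
  · intro x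
    rw [act_reflIso, neg_smul, sub_eq_add_neg]

/-- the Dickson homomorphism attached to a maximal totally singular subspace -/
noncomputable def dickson (hQ : (polarBilin Q).Nondegenerate) {n : ℕ}
    (hV : finrank F (ι → F) = 2 * n) {L : Submodule F (ι → F)} (hL : IsMTS (⇑Q) n L) :
    OG F ⇑Q →* Multiplicative (ZMod 2) :=
  deltaG (isQF_of Q) hQ hV hL (actHom (⇑Q)) (fun g x => Q_act g x)

theorem dickson_apply (hQ : (polarBilin Q).Nondegenerate) {n : ℕ}
    (hV : finrank F (ι → F) = 2 * n) {L : Submodule F (ι → F)} (hL : IsMTS (⇑Q) n L)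
    (g : OG F ⇑Q) :
    dickson Q hQ hV hL g = Multiplicative.ofAdd
      (((n - finrank F ↥(L ⊓ L.map (Matrix.mulVecLin ((g : GL ι F) : Matrix ι ι F))) : ℕ) :
        ZMod 2)) := by
  unfold dickson
  rw [deltaG_apply]
  unfold dnatG
  rw [mulVecLin_eq]

theorem dickson_reflIso (hQ : (polarBilin Q).Nondegenerate) {n : ℕ}
    (hV : finrank F (ι → F) = 2 * n) {L : Submodule F (ι → F)} (hL : IsMTS (⇑Q) n L)
    {a : ι → F} (ha : Q a ≠ 0) :
    dickson Q hQ hV hL (reflIso Q ha) = Multiplicative.ofAdd 1 := by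
  unfold dickson
  rw [deltaG_apply, dnat_reflIso Q hQ hV hL ha, Nat.cast_one]

theorem dickson_list (hQ : (polarBilin Q).Nondegenerate) {n : ℕ}
    (hV : finrank F (ι → F) = 2 * n) {L : Submodule F (ι → F)} (hL : IsMTS (⇑Q) n L) :
    ∀ (l : List (ι → F)), (∀ v ∈ l, Q v ≠ 0) → ∀ g : OG F ⇑Q,
      ((g : GL ι F) : Matrix ι ι F) = (l.map (fun v => Cfsg.reflectionMatrix (⇑Q) v)).prod →
      dickson Q hQ hV hL g = Multiplicative.ofAdd ((l.length : ℕ) : ZMod 2) := by
  intro l
  induction l with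
  | nil =>
    intro _ g hg
    have : g = 1 := by
      apply isoGroup_ext
      rw [hg]
      rfl
    rw [this, map_one]
    rfl
  | cons a l ih =>
    intro hl g hg
    have ha : Q a ≠ 0 := hl a (List.mem_cons_self ..)
    have hl' : ∀ v ∈ l, Q v ≠ 0 := fun v hv => hl v (List.mem_cons_of_mem _ hv)
    have hg' : (((reflIso Q ha * g : OG F ⇑Q) : GL ι F) : Matrix ι ι F) =
        (l.map (fun v => Cfsg.reflectionMatrix (⇑Q) v)).prod := by
      rw [Subgroup.coe_mul, Units.val_mul, hg, List.map_cons, List.prod_cons, ← mul_assoc,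
        reflIso_coe, reflectionMatrix_mul_self Q ha, one_mul]
    have h1 := ih hl' (reflIso Q ha * g) hg'
    have h2 : g = reflIso Q ha * (reflIso Q ha * g) := by
      rw [← mul_assoc, reflIso_mul_self, one_mul]
    rw [h2, map_mul, h1, dickson_reflIso, ← ofAdd_add, List.length_cons]
    congr 1
    push_cast
    ring

/-- odd characteristic: the Dickson invariant is the determinant -/
theorem even_dnat_iff_det [Fintype F] (h2 : (2 : F) ≠ 0) (hQ : (polarBilin Q).Nondegenerate)
    {n : ℕ} (hV : finrank F (ι → F) = 2 * n) {L : Submodule F (ι → F)} (hL : IsMTS (⇑Q) n L)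
    (g : OG F ⇑Q) :
    Even (n - finrank F ↥(L ⊓ L.map (Matrix.mulVecLin ((g : GL ι F) : Matrix ι ι F)))) ↔
      ((g : GL ι F) : Matrix ι ι F).det = 1 := by
  classical
  have hexc : Fintype.card F ≠ 2 ∨ Fintype.card ι ≠ 4 := by
    left
    intro h
    have : ringChar F = 2 := FiniteField.even_card_iff_char_two.2 (by rw [h])
    apply h2
    have hc := ringChar.Nat.cast_ringChar (R := F)
    rw [this] at hc
    exact_mod_cast hc
  obtain ⟨l, hl, hMl⟩ := Cfsg.Agent.S0786.matrix_cd_all Q hQ hexc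
    ((g : GL ι F) : Matrix ι ι F) (fun u => g.2 u u)
  have hMl' : ((g : GL ι F) : Matrix ι ι F) =
      (l.map (fun v => Cfsg.reflectionMatrix (⇑Q) v)).prod := hMl
  have h1 := dickson_list Q hQ hV hL l hl g hMl'
  rw [dickson_apply] at h1
  have h3 : ((n - finrank F ↥(L ⊓ L.map (Matrix.mulVecLin ((g : GL ι F) : Matrix ι ι F))) : ℕ) :
      ZMod 2) = ((l.length : ℕ) : ZMod 2) := Multiplicative.ofAdd.injective h1
  have h4 : Even (n - finrank F ↥(L ⊓ L.map (Matrix.mulVecLin ((g : GL ι F) : Matrix ι ι F)))) ↔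
      Even l.length := by
    rw [← ZMod.natCast_eq_zero_iff_even, ← ZMod.natCast_eq_zero_iff_even, h3]
  have hneg : (-1 : F) ≠ 1 := by
    intro h
    apply h2
    have : (1 : F) + 1 = 0 := by
      nth_rewrite 1 [← h]
      exact neg_add_cancel 1
    rw [← one_add_one_eq_two]
    exact this
  rw [h4, hMl', det_list_reflection Q l hl]
  exact (neg_one_pow_eq_one_iff_even hneg).symm

end matrices

end Cfsg.Agent.Helper36.DicksonDet
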