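import Mathlib
import Cfsg.Agent.S0789

set_option autoImplicit false

/-!
# Characteristic two: membership in `Ω` is the parity of `rank (g - 1)`

For a finite field `F` of characteristic two and a quadratic form `Q` on `F^n` with
non-degenerate polar form, `(|F|, n) ≠ (2, 4)`, an isometry `g` lies in the commutator subgroup
`Ω` of the isometry group if and only if `rank (g - 1)` is even.
-/

namespace Cfsg.Agent.Helper36.EvenRank

open Matrix Module QuadraticMap Cfsg.Agent.Helper44 Cfsg.Agent.S2635 Cfsg.Agent.S0789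

universe u

variable {F : Type u} [Field F]

/-- fixed space of the linear map of a matrix versus the rank of `M - 1` -/
theorem finrank_fixSp_toLin' {ι : Type} [Fintype ι] [DecidableEq ι] (M : Matrix ι ι F) :
    finrank F (fixSp (Matrix.toLin' M)) + (M - 1).rank = Fintype.card ι := by
  have h := LinearMap.finrank_range_add_finrank_ker (Matrix.toLin' (M - 1))
  rw [Module.finrank_fintype_fun_eq_card] at h
  have h1 : Matrix.toLin' (M - 1) = Matrix.toLin' M - LinearMap.id := by
    rw [map_sub, Matrix.toLin'_one]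
  have h2 : (M - 1).rank = finrank F (LinearMap.range (Matrix.toLin' (M - 1))) := by
    unfold Matrix.rank
    rw [Matrix.toLin'_apply']
  unfold fixSp
  rw [h2, ← h1]
  omega

/-- In characteristic two, an isometry lies in `Ω` iff `rank (g - 1)` is even. -/
theorem mem_Omega_iff_even_rank [Fintype F] [CharP F 2] {n : ℕ} (hn : 2 ≤ n)
    (Q : QuadraticForm F (Fin n → F)) (hQ : (QuadraticMap.polarBilin Q).Nondegenerate)
    (h : Fintype.card F ≠ 2 ∨ n ≠ 4) (g : ↥(Cfsg.isometryGroup F (⇑Q))) :
    g ∈ Cfsg.Omega F ⇑Q ↔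
      Even (((g : Matrix.GeneralLinearGroup (Fin n) F) : Matrix (Fin n) (Fin n) F) - 1).rank := by
  have hexc : Fintype.card F ≠ 2 ∨ Fintype.card (Fin n) ≠ 4 := by rw [Fintype.card_fin]; exact h
  have hOm : Cfsg.Omega F ⇑Q = Rplus Q := S2635.result hn h Q hQ
  obtain ⟨l, hl, hMl⟩ := S0786.matrix_cd_all Q hQ hexc
    ((g : Matrix.GeneralLinearGroup (Fin n) F) : Matrix (Fin n) (Fin n) F) (fun u => g.2 u u)
  rw [hOm, mem_Rplus_iff Q hQ g l hl hMl]
  have h1 := fix_parity Q hQ l hl
  have h2 : reflProd Q l = Matrix.toLin'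
      ((g : Matrix.GeneralLinearGroup (Fin n) F) : Matrix (Fin n) (Fin n) F) := by
    apply LinearMap.ext
    intro x
    rw [Matrix.toLin'_apply, hMl, list_prod_mulVec]
  rw [h2] at h1
  have h3 := finrank_fixSp_toLin'
    ((g : Matrix.GeneralLinearGroup (Fin n) F) : Matrix (Fin n) (Fin n) F)
  rw [Module.finrank_fintype_fun_eq_card] at h1
  rw [Nat.even_iff, Nat.even_iff]
  omega

end Cfsg.Agent.Helper36.EvenRank
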