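import Cfsg.Agent.Lib.Helper36.F4Orb

/-!
# Type `F₄`: Weyl group words and the orbit list.
-/

set_option autoImplicit false
set_option maxRecDepth 100000

namespace Cfsg.Agent.Helper36.F4

open Cfsg.Lie Cfsg.Agent.S1043 Cfsg.Agent.Helper17 Cfsg.Agent.Helper18

theorem not_pos_neg : ∀ s < 48, ¬ (chevF4.IsPosRoot s ∧ chevF4.IsNegRoot s) := by decide +kernel

theorem posOfRange' (s : ℕ) (h1 : 24 ≤ s) (h2 : s < 48) : chevF4.IsPosRoot s :=
  posOfRange s h2 h1

theorem inOrb_iff (t : List ℕ) : InOrb t ↔ ∃ b ∈ orbB, t ∈ b := by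
  constructor
  · intro h
    unfold InOrb at h
    by_cases hk : t.headD 0 < orbB.length
    · rw [List.getD_eq_getElem _ _ hk] at h
      exact ⟨_, List.getElem_mem hk, h⟩
    · rw [List.getD_eq_default _ _ (by omega)] at h
      exact absurd h List.not_mem_nil
  · rintro ⟨b, hb, ht⟩
    exact orb_head b hb t ht

theorem track_nil : track [] = List.range' 24 24 := by
  unfold track
  conv_rhs => rw [← List.map_id (List.range' 24 24)]
  apply List.map_congr_left
  intro s _
  rfl

theorem track_cons (i : ℕ) (hi : i < 4) (l : List ℕ) (hl : ∀ s ∈ track l, s < 48) :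
    track (i :: l) = stepT i (track l) := by
  unfold track stepT at *
  rw [List.map_map]
  apply List.map_congr_left
  intro s hs
  have h1 : permW chevF4 l s < 48 := hl _ (List.mem_map_of_mem hs)
  change chevF4.reflectRoot i (permW chevF4 l s) = rf i (permW chevF4 l s)
  exact rf_ok i hi _ h1

theorem inOrb_lt (t : List ℕ) (h : InOrb t) : ∀ s ∈ t, s < 48 := by
  obtain ⟨b, hb, ht⟩ := (inOrb_iff t).mp h
  exact orb_lt b hb t ht

theorem track_mem (l : List ℕ) (hl : ∀ i ∈ l, i < 4) : InOrb (track l) := by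
  induction l with
  | nil => rw [track_nil]; exact orb_base
  | cons i l ih =>
    have h1 := ih (fun j hj => hl j (List.mem_cons_of_mem _ hj))
    rw [track_cons i (hl i List.mem_cons_self) l (inOrb_lt _ h1)]
    obtain ⟨b, hb, ht⟩ := (inOrb_iff _).mp h1
    exact orb_closed b hb _ ht i (hl i List.mem_cons_self)

theorem track_append (l' l : List ℕ) (hl' : ∀ i ∈ l', i < 4) (hl : ∀ i ∈ l, i < 4) :
    track (l' ++ l) = applyW l' (track l) := by
  induction l' with
  | nil => rfl
  | cons i l' ih =>
    have h1 : ∀ j ∈ l' ++ l, j < 4 := by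
      intro j hj
      rcases List.mem_append.mp hj with h | h
      · exact hl' j (List.mem_cons_of_mem _ h)
      · exact hl j h
    rw [List.cons_append, track_cons i (hl' i List.mem_cons_self) _ (inOrb_lt _ (track_mem _ h1)),
      ih (fun j hj => hl' j (List.mem_cons_of_mem _ hj))]
    rfl

theorem img_track (l : List ℕ) (s : ℕ) (h1 : 24 ≤ s) (h2 : s < 48) :
    img (track l) s = permW chevF4 l s := by
  unfold img track
  rw [List.getD_eq_getElem _ _ (by simp; omega), List.getElem_map, List.getElem_range']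
  congr 1
  omega

theorem getD_track (l : List ℕ) (j : ℕ) (hj : j < 24) :
    (track l).getD j 0 = permW chevF4 l (24 + j) := by
  unfold track
  rw [List.getD_eq_getElem _ _ (by simp; omega), List.getElem_map, List.getElem_range']
  congr 1
  omega

theorem wordsJ2_lt : ∀ l' ∈ wordsJ2, ∀ i ∈ l', i < 4 := by decide
theorem wordsJ1_lt : ∀ l' ∈ wordsJ1, ∀ i ∈ l', i < 4 := by decide

/-- From the positivity of a tuple to the positivity of the permutation. -/
theorem pos_of_all (l : List ℕ) (hl : ∀ i ∈ l, i < 4)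
    (h : (track l).all (fun s => decide (24 ≤ s)) = true) :
    ∀ s, chevF4.IsPosRoot s → chevF4.IsPosRoot (permW chevF4 l s) := by
  intro s hs
  obtain ⟨h1, h2⟩ := posRangeF4 s hs
  rw [List.all_eq_true] at h
  have hm : permW chevF4 l s ∈ track l := by
    unfold track
    exact List.mem_map_of_mem (by rw [List.mem_range'_1]; omega)
  have h3 := h _ hm
  rw [decide_eq_true_eq] at h3
  exact posOfRange' _ h3 (inOrb_lt _ (track_mem l hl) _ hm)

/-- A word whose Weyl group element maps the roots `39` and `45` into the set `{39, 40, 44, 45, 46, 47}` lies in the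
parabolic subgroup `⟨s₁, s₄⟩`. -/
theorem word_fix2 (l : List ℕ) (hl : ∀ i ∈ l, i < 4)
    (h39 : permW chevF4 l 39 ∈ [39, 40, 44, 45, 46, 47])
    (h45 : permW chevF4 l 45 ∈ [39, 40, 44, 45, 46, 47]) :
    (∃ l' ∈ wordsJ2, ∀ s, chevF4.IsPosRoot s → chevF4.IsPosRoot (permW chevF4 (l' ++ l) s)) ∧
      (∀ r, chevF4.IsPosRoot r → chevF4.IsNegRoot (permW chevF4 l r) → r = 33 ∨ r = 24) := by
  obtain ⟨b, hb, ht⟩ := (inOrb_iff _).mp (track_mem l hl)
  have H := prop2 b hb _ ht (by
    rw [img_track l 39 (by omega) (by omega), img_track l 45 (by omega) (by omega)]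
    exact ⟨h39, h45⟩)
  obtain ⟨⟨l', hl', hall⟩, hneg⟩ := H
  constructor
  · refine ⟨l', hl', ?_⟩
    have hl'4 := wordsJ2_lt l' hl'
    have hll : ∀ i ∈ l' ++ l, i < 4 := by
      intro j hj
      rcases List.mem_append.mp hj with h | h
      · exact hl'4 j h
      · exact hl j h
    apply pos_of_all (l' ++ l) hll
    rw [track_append l' l hl'4 hl]
    exact hall
  · intro r hr hn
    obtain ⟨h1, h2⟩ := posRangeF4 r hr
    have hj : r - 24 < 24 := by omega
    have h3 := hneg (r - 24) hj (by
      rw [getD_track l _ hj]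
      have e : 24 + (r - 24) = r := by omega
      rw [e]
      by_contra hge
      have hlt : permW chevF4 l r < 48 := by
        have : permW chevF4 l r ∈ track l := by
          unfold track
          exact List.mem_map_of_mem (by rw [List.mem_range'_1]; omega)
        exact inOrb_lt _ (track_mem l hl) _ this
      have hp := posOfRange' _ (by omega) hlt
      exact not_pos_neg _ hlt ⟨hp, hn⟩)
    omega

/-- A word whose Weyl group element maps the roots `44` and `47` into `{44, 47}` lies in the parabolic subgroup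
`⟨s₂, s₃⟩`. -/
theorem word_fix1 (l : List ℕ) (hl : ∀ i ∈ l, i < 4)
    (h44 : permW chevF4 l 44 ∈ [44, 47]) (h47 : permW chevF4 l 47 ∈ [44, 47]) :
    ∃ l' ∈ wordsJ1, ∀ s, chevF4.IsPosRoot s → chevF4.IsPosRoot (permW chevF4 (l' ++ l) s) := by
  obtain ⟨b, hb, ht⟩ := (inOrb_iff _).mp (track_mem l hl)
  have H := prop1 b hb _ ht (by
    rw [img_track l 44 (by omega) (by omega), img_track l 47 (by omega) (by omega)]
    exact ⟨h44, h47⟩)
  obtain ⟨l', hl', hall⟩ := H
  refine ⟨l', hl', ?_⟩
  have hl'4 := wordsJ1_lt l' hl'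
  have hll : ∀ i ∈ l' ++ l, i < 4 := by
    intro j hj
    rcases List.mem_append.mp hj with h | h
    · exact hl'4 j h
    · exact hl j h
  apply pos_of_all (l' ++ l) hll
  rw [track_append l' l hl'4 hl]
  exact hall

end Cfsg.Agent.Helper36.F4
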