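import Cfsg.Agent.Lib.Helper36.F4Rel
import Cfsg.Agent.Lib.Helper36.F4Track

/-!
# Type `F₄`, characteristic two: the abelian subgroup `X₃₉ X₄₀ X₄₄ X₄₅ X₄₆ X₄₇` and the action of `U` on it.
-/

set_option autoImplicit false
set_option maxRecDepth 100000

namespace Cfsg.Agent.Helper36.F4

open Cfsg.Lie Cfsg.Agent.S1043 Cfsg.Agent.Helper17 Cfsg.Agent.Helper18 Cfsg.Agent.Helper36.Sort

/-- The root element `x_r(c)` of `F₄` as a unit. -/
local notation "X" => xU chevF4 goodF4

theorem conj_mul {G : Type*} [Group G] (x a b : G) : x * (a * b) * x⁻¹ = (x * a * x⁻¹) * (x * b * x⁻¹) := by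
  group

theorem conj_comm {G : Type*} [Group G] {x a : G} (h : Commute x a) : x * a * x⁻¹ = a := by
  rw [h.eq, mul_inv_cancel_right]

theorem mul6 {G : Type*} [Group G] (a1 a2 a3 a4 a5 a6 b1 b2 b3 b4 b5 b6 : G)
    (h21 : Commute a2 b1) (h31 : Commute a3 b1) (h41 : Commute a4 b1) (h51 : Commute a5 b1)
    (h61 : Commute a6 b1) (h32 : Commute a3 b2) (h42 : Commute a4 b2) (h52 : Commute a5 b2)
    (h62 : Commute a6 b2) (h43 : Commute a4 b3) (h53 : Commute a5 b3) (h63 : Commute a6 b3)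
    (h54 : Commute a5 b4) (h64 : Commute a6 b4) (h65 : Commute a6 b5) :
    (a1 * (a2 * (a3 * (a4 * (a5 * a6))))) * (b1 * (b2 * (b3 * (b4 * (b5 * b6))))) =
      (a1 * b1) * ((a2 * b2) * ((a3 * b3) * ((a4 * b4) * ((a5 * b5) * (a6 * b6))))) := by
  rw [Commute.mul_mul_mul_comm (h21.mul_left (h31.mul_left (h41.mul_left (h51.mul_left h61)))),
    Commute.mul_mul_mul_comm (h32.mul_left (h42.mul_left (h52.mul_left h62))),
    Commute.mul_mul_mul_comm (h43.mul_left (h53.mul_left h63)),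
    Commute.mul_mul_mul_comm (h54.mul_left h64),
    Commute.mul_mul_mul_comm h65]

section

variable {F : Type*} [Field F]

/-- The list of the root elements of an element of `X₃₉ X₄₀ X₄₄ X₄₅ X₄₆ X₄₇`. -/
def LA (s a c t b d : F) : List (ℕ × F) := [(39, s), (40, a), (44, c), (45, t), (46, b), (47, d)]

/-- The element `x₃₉(s) x₄₀(a) x₄₄(c) x₄₅(t) x₄₆(b) x₄₇(d)`. -/
noncomputable def A (s a c t b d : F) : GL chevF4.Idx F := wordGL chevF4 goodF4 (LA s a c t b d)

theorem A_eq (s a c t b d : F) :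
    A s a c t b d = X 39 s * (X 40 a * (X 44 c * (X 45 t * (X 46 b * X 47 d)))) := by
  unfold A LA
  rw [wordGL_cons, wordGL_cons, wordGL_cons, wordGL_cons, wordGL_cons, wordGL_cons, wordGL_nil, mul_one]

end

section

variable {F : Type*} [Field F] [CharP F 2]

/-- The root subgroups of `39, 40, 44, 45, 46, 47` commute pairwise. -/
theorem XC6 (r s : ℕ) (hr : r ∈ [39, 40, 44, 45, 46, 47]) (hs : s ∈ [39, 40, 44, 45, 46, 47])
    (a b : F) : Commute (X r a) (X s b) := by
  have H : ∀ r ∈ [39, 40, 44, 45, 46, 47], ∀ s ∈ [39, 40, 44, 45, 46, 47],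
      r < 48 ∧ s < 48 ∧ (r, s) ∉ oddList := by decide +kernel
  obtain ⟨h1, h2, h3⟩ := H r hr s hs
  exact XC r s h1 h2 h3 a b

theorem A_mul (s a c t b d s' a' c' t' b' d' : F) :
    A s a c t b d * A s' a' c' t' b' d' = A (s + s') (a + a') (c + c') (t + t') (b + b') (d + d') := by
  rw [A_eq, A_eq, A_eq, mul6 _ _ _ _ _ _ _ _ _ _ _ _
    (XC6 40 39 (by simp) (by simp) _ _) (XC6 44 39 (by simp) (by simp) _ _)
    (XC6 45 39 (by simp) (by simp) _ _) (XC6 46 39 (by simp) (by simp) _ _)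
    (XC6 47 39 (by simp) (by simp) _ _) (XC6 44 40 (by simp) (by simp) _ _)
    (XC6 45 40 (by simp) (by simp) _ _) (XC6 46 40 (by simp) (by simp) _ _)
    (XC6 47 40 (by simp) (by simp) _ _) (XC6 45 44 (by simp) (by simp) _ _)
    (XC6 46 44 (by simp) (by simp) _ _) (XC6 47 44 (by simp) (by simp) _ _)
    (XC6 46 45 (by simp) (by simp) _ _) (XC6 47 45 (by simp) (by simp) _ _)
    (XC6 47 46 (by simp) (by simp) _ _),
    xU_add', xU_add', xU_add', xU_add', xU_add', xU_add']

theorem LA_nodup (s a c t b d : F) : ((LA s a c t b d).map Prod.fst).Nodup := by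
  unfold LA
  simp

theorem LA_pos (s a c t b d : F) : ∀ p ∈ LA s a c t b d, chevF4.IsPosRoot p.1 := by
  intro p hp
  unfold LA at hp
  simp only [List.mem_cons, List.not_mem_nil, or_false] at hp
  rcases hp with rfl | rfl | rfl | rfl | rfl | rfl <;> exact posOfRange' _ (by norm_num) (by norm_num)

theorem LA_mem (s a c t b d : F) : ∀ p ∈ LA s a c t b d, p.1 ∈ [39, 40, 44, 45, 46, 47] := by
  intro p hp
  unfold LA at hp
  simp only [List.mem_cons, List.not_mem_nil, or_false] at hp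
  rcases hp with rfl | rfl | rfl | rfl | rfl | rfl <;> simp

theorem LA_comm (s a c t b d : F) :
    (LA s a c t b d).Pairwise fun p q => Commute (X p.1 p.2) (X q.1 q.2) := by
  apply List.Pairwise.imp_of_mem (R := fun _ _ => True)
  · intro p q hp hq _
    exact XC6 p.1 q.1 (LA_mem _ _ _ _ _ _ p hp) (LA_mem _ _ _ _ _ _ q hq) _ _
  · exact List.pairwise_of_forall fun _ _ => trivial

/-- The coordinates of an element of `X₃₉ X₄₀ X₄₄ X₄₅ X₄₆ X₄₇` are unique. -/
theorem A_inj (s a c t b d s' a' c' t' b' d' : F)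
    (h : A s a c t b d = A s' a' c' t' b' d') :
    s = s' ∧ a = a' ∧ c = c' ∧ t = t' ∧ b = b' ∧ d = d' := by
  have key : ∀ r, chevF4.IsPosRoot r → tOf (LA s a c t b d) r = tOf (LA s' a' c' t' b' d') r :=
    fun r hr => tOf_unique chevF4 goodF4 uProdData _ _ (LA_nodup _ _ _ _ _ _) (LA_nodup _ _ _ _ _ _)
      (LA_pos _ _ _ _ _ _) (LA_pos _ _ _ _ _ _) (LA_comm _ _ _ _ _ _) (LA_comm _ _ _ _ _ _) h r hr
  have ev : ∀ (s a c t b d : F) (p : ℕ × F), p ∈ LA s a c t b d → tOf (LA s a c t b d) p.1 = p.2 :=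
    fun s a c t b d p hp => tOf_mem _ (LA_nodup _ _ _ _ _ _) p hp
  have k39 := key 39 (posOfRange' _ (by norm_num) (by norm_num))
  have k40 := key 40 (posOfRange' _ (by norm_num) (by norm_num))
  have k44 := key 44 (posOfRange' _ (by norm_num) (by norm_num))
  have k45 := key 45 (posOfRange' _ (by norm_num) (by norm_num))
  have k46 := key 46 (posOfRange' _ (by norm_num) (by norm_num))
  have k47 := key 47 (posOfRange' _ (by norm_num) (by norm_num))
  rw [ev s a c t b d (39, s) (by simp [LA]), ev s' a' c' t' b' d' (39, s') (by simp [LA])] at k39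
  rw [ev s a c t b d (40, a) (by simp [LA]), ev s' a' c' t' b' d' (40, a') (by simp [LA])] at k40
  rw [ev s a c t b d (44, c) (by simp [LA]), ev s' a' c' t' b' d' (44, c') (by simp [LA])] at k44
  rw [ev s a c t b d (45, t) (by simp [LA]), ev s' a' c' t' b' d' (45, t') (by simp [LA])] at k45
  rw [ev s a c t b d (46, b) (by simp [LA]), ev s' a' c' t' b' d' (46, b') (by simp [LA])] at k46
  rw [ev s a c t b d (47, d) (by simp [LA]), ev s' a' c' t' b' d' (47, d') (by simp [LA])] at k47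
  exact ⟨k39, k40, k44, k45, k46, k47⟩

end

end Cfsg.Agent.Helper36.F4
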