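import Cfsg.Agent.Lib.Helper36.F4Tw
import Cfsg.Agent.Lib.Helper36.F4N
import Cfsg.Agent.Lib.Helper59.F4Core
import Cfsg.Agent.Lib.Helper18.UCardData

set_option autoImplicit false
set_option linter.unusedSectionVars false
set_option linter.unusedVariables false
set_option maxRecDepth 100000

namespace Cfsg.Agent.Helper36.F4Asm

open Cfsg Cfsg.Lie Cfsg.Agent.Helper18 Cfsg.Agent.Helper15.Ree4 Cfsg.Agent.Helper6
open Cfsg.Agent.Helper6.ChevGraph Cfsg.Agent.Helper6.ChevGraph.F4 Cfsg.Agent.S1043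
open Cfsg.Agent.Helper59.F4Suz Cfsg.Agent.Helper59.TwFix Cfsg.Agent.Helper17
open Cfsg.Agent.Helper36.F4Tw

section

variable {K : Type*} [Field K]

theorem rootSubgroup_le_pos (r : ℕ) (hr : chevF4.IsPosRoot r) :
    chevF4.rootSubgroup K r ≤ chevF4.posUnipotent K := by
  unfold ChevalleyDatum.rootSubgroup ChevalleyDatum.posUnipotent
  apply Subgroup.closure_mono
  rintro g ⟨t, hg⟩
  exact ⟨r, t, hr, hg⟩

/-- `U_{w₀}⁻ = U` -/
theorem Uw_n0 : Uw chevF4 (n0 : GL chevF4.Idx K) = chevF4.posUnipotent K := by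
  apply le_antisymm (Uw_le_pos chevF4 _)
  unfold Uw
  conv_lhs => unfold ChevalleyDatum.posUnipotent
  apply Subgroup.closure_mono
  rintro g ⟨r, t, hr, hg⟩
  refine ⟨r, t, hr, ?_, hg⟩
  rw [← n0_conj]
  exact Subgroup.map_mono (rootSubgroup_le_pos r hr)

variable [Fintype K]

theorem card_U_F4 : Nat.card ↥(chevF4.posUnipotent K) = Fintype.card K ^ 24 := by
  obtain ⟨tbls, l, hperm, hred, hw0, hlen⟩ := w0Data_all chevF4 goodF4
  have hl : l.length = 24 := by
    rw [hlen]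
    decide +kernel
  have C := hypF4 (K := K)
  rw [← hl, ← Nat.card_eq_fintype_card]
  exact posUnipotent_card chevF4 goodF4 C.hB C.hU C.hT C.hTri C.hNeg C.hconj C.hS C.hNH tbls hperm l
    hred hw0

end

/-- transfer of cardinalities from the subtype to the general linear group -/
theorem card_inf_subgroupOf {G : Type*} [Group G] (Γ S S' : Subgroup G) (h : S ⊓ S' ≤ Γ) :
    Nat.card ↥(S.subgroupOf Γ ⊓ S'.subgroupOf Γ) = Nat.card ↥(S ⊓ S') := by
  apply Nat.card_congr
  exact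
    { toFun := fun x => ⟨((x : ↥Γ) : G), x.2⟩
      invFun := fun y => ⟨⟨(y : G), h y.2⟩, y.2⟩
      left_inv := fun x => rfl
      right_inv := fun y => rfl }

section

variable {K : Type*} [Field K] [Fintype K] [CharP K 2] {e : ℕ} (FD : FieldData K e)
  (α : ↥(chevF4.group K) ≃* ↥(chevF4.group K))
  (hα : ∀ (r : Fin chevF4.nroots) (t : K),
      α (xG goodF4 r.val t) = xG goodF4 (sig r.val) (if isShort r.val then t ^ 2 else t))
  {ι : Type*} (R : Rec (twF4 FD α hα) ι)
  (hd : ∀ j, Nat.card ↥(R.FixX j) ^ 2 = Nat.card ↥(R.XJ j))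

/-- the longest element in the subtype -/
noncomputable def n0' : ↥(chevF4.group K) := ⟨n0, N_le_group n0_mem_N⟩

include R hd

/-- the `σ`-fixed elements of `U` lie in `²F₄` -/
theorem fixU_mem (u : ↥(chevF4.group K)) (hu : (u : GL chevF4.Idx K) ∈ chevF4.posUnipotent K)
    (hfix : sigma FD α u = u) : (u : GL chevF4.Idx K) ∈ twistedF4 K e := by
  have h := (R.fixUw_and_card 2 hd (n0' (K := K)) n0_mem_N (n0_mem_G FD)).1 u ?_ hfix
  · exact h
  · show (u : GL chevF4.Idx K) ∈ Uw chevF4 (n0 : GL chevF4.Idx K)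
    rw [Uw_n0]
    exact hu

theorem card_U1_sq :
    Nat.card ↥(chevF4.posUnipotent K ⊓ twistedF4 K e) ^ 2 = Fintype.card K ^ 24 := by
  have h := (R.fixUw_and_card 2 hd (n0' (K := K)) n0_mem_N (n0_mem_G FD)).2
  have e1 : Nat.card ↥((ambΓ (K := K)).Uw (n0' (K := K))) = Fintype.card K ^ 24 := by
    rw [← card_U_F4 (K := K)]
    apply Nat.card_congr
    exact
      { toFun := fun x => ⟨((x : ↥(chevF4.group K)) : GL chevF4.Idx K), by
          have : ((x : ↥(chevF4.group K)) : GL chevF4.Idx K) ∈ Uw chevF4 (n0 : GL chevF4.Idx K) := x.2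
          rwa [Uw_n0] at this⟩
        invFun := fun y => ⟨⟨(y : GL chevF4.Idx K), U_le_group y.2⟩, by
          show (y : GL chevF4.Idx K) ∈ Uw chevF4 (n0 : GL chevF4.Idx K)
          rw [Uw_n0]
          exact y.2⟩
        left_inv := fun x => rfl
        right_inv := fun y => rfl }
  have e2 : Nat.card ↥((twF4 FD α hα).FixUw (n0' (K := K))) =
      Nat.card ↥(chevF4.posUnipotent K ⊓ twistedF4 K e) := by
    apply Nat.card_congr
    exact
      { toFun := fun x => ⟨((x : ↥(chevF4.group K)) : GL chevF4.Idx K), by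
          have h1 : ((x : ↥(chevF4.group K)) : GL chevF4.Idx K) ∈ Uw chevF4 (n0 : GL chevF4.Idx K) :=
            x.2.1
          rw [Uw_n0] at h1
          exact ⟨h1, fixU_mem FD α hα R hd _ h1 x.2.2⟩⟩
        invFun := fun y => ⟨⟨(y : GL chevF4.Idx K), U_le_group y.2.1⟩, by
          refine ⟨?_, (twisted_fixed FD α hα _ y.2.2).2⟩
          show (y : GL chevF4.Idx K) ∈ Uw chevF4 (n0 : GL chevF4.Idx K)
          rw [Uw_n0]
          exact y.2.1⟩
        left_inv := fun x => rfl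
        right_inv := fun y => rfl }
  rw [← e2, h, e1]

/-- `|U¹| = q¹²` -/
theorem card_U1 {q : ℕ} (hq : Fintype.card K = q) :
    Nat.card ↥(chevF4.posUnipotent K ⊓ twistedF4 K e) = q ^ 12 := by
  have h := card_U1_sq FD α hα R hd
  rw [hq] at h
  have h2 : Nat.card ↥(chevF4.posUnipotent K ⊓ twistedF4 K e) ^ 2 = (q ^ 12) ^ 2 := by
    rw [h, ← pow_mul]
  exact Nat.pow_left_injective (n := 2) (by norm_num) h2

/-- `|B¹| = |U¹| |H¹|` -/
theorem card_B1 :
    Nat.card ↥(chevF4.borelSubgroup K ⊓ twistedF4 K e) =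
      Nat.card ↥(chevF4.posUnipotent K ⊓ twistedF4 K e) *
        Nat.card ↥(chevF4.diagonalSubgroup K ⊓ twistedF4 K e) := by
  have hG1le : twistedF4 K e ≤ chevF4.group K := fun g hg => (twisted_fixed FD α hα g hg).1
  have hfixU : ∀ u ∈ (ambΓ (K := K)).U, (twF4 FD α hα).τ u = u → u ∈ (twF4 FD α hα).G1 :=
    fun u hu hfix => fixU_mem FD α hα R hd u hu hfix
  have hB := (twF4 FD α hα).card_B1 hfixU
  have c1 : Nat.card ↥((ambΓ (K := K)).B ⊓ (twF4 FD α hα).G1) =
      Nat.card ↥(chevF4.borelSubgroup K ⊓ twistedF4 K e) :=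
    card_inf_subgroupOf _ _ _ (le_trans inf_le_right hG1le)
  have c2 : Nat.card ↥((ambΓ (K := K)).U ⊓ (twF4 FD α hα).G1) =
      Nat.card ↥(chevF4.posUnipotent K ⊓ twistedF4 K e) :=
    card_inf_subgroupOf _ _ _ (le_trans inf_le_right hG1le)
  have c3 : Nat.card ↥((ambΓ (K := K)).H ⊓ (twF4 FD α hα).G1) =
      Nat.card ↥(chevF4.diagonalSubgroup K ⊓ twistedF4 K e) :=
    card_inf_subgroupOf _ _ _ (le_trans inf_le_right hG1le)
  rw [c1, c2, c3] at hB
  exact hB

end

end Cfsg.Agent.Helper36.F4Asm
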