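import Cfsg.Agent.Lib.Helper18.CommCertSmall
import Cfsg.Agent.Lib.Helper18.CommAll
import Cfsg.Agent.Lib.Helper18.UProdSmall
import Cfsg.Agent.Lib.Helper18.ChevRootCentEven
import Cfsg.Agent.Lib.Helper18.LongestData
import Cfsg.Agent.Lib.Helper18.TorusAll
import Cfsg.Agent.Lib.Helper18.ConjAll
import Cfsg.Agent.Lib.Helper18.BNData
import Cfsg.Agent.S1038
import Cfsg.Agent.S1100

/-!
# Type `F₄`: the basic facts, collected from the general library (helper18), without the large
tables of the types `E₆`, `E₇`, `E₈`.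
-/

set_option autoImplicit false
set_option maxRecDepth 100000

namespace Cfsg.Agent.Helper36.F4

open Cfsg.Lie Cfsg.Agent.S1043 Cfsg.Agent.Helper17 Cfsg.Agent.Helper18

theorem goodF4 : Good chevF4 := by simp [Good]

theorem posOfRange : ∀ s < chevF4.nroots, chevF4.nroots / 2 ≤ s → chevF4.IsPosRoot s := by
  decide +kernel

theorem negOfRange : ∀ s < chevF4.nroots / 2, chevF4.IsNegRoot s := by
  decide +kernel

theorem commOK {F : Type*} [Field F] :
    ∀ r < chevF4.nroots, ∀ s < chevF4.nroots, s ≠ r → s ≠ chevF4.neg r → CommOK F chevF4 r s := by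
  have hD : Good chevF4 := goodF4
  refine commOK_of_cert chevF4 etaTabF4 certF4 etaTabF4_cases
    (fun i _ => ⟨nGL chevF4 hD i, nGL_val chevF4 hD i⟩)
    (fun i hi s hs t => conjExplF4 i hi s hs t) posOfRange (fun i hi s hs => commAllF4 i hi s hs) ?_
  intro r hr s hs h1 h2
  exact pairOK_of_rowOK chevF4 etaTabF4 certF4 r (rowOKF4_from0 r (by omega) hr) s hs h1 h2

theorem wtAll (s : ℕ) (h1 : 24 ≤ s) (h2 : s < 48) : wtCheck chevF4 fwF4 s = true := by
  by_cases h36 : s < 36
  · have h := wtChkF4_24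
    rw [wtRangeCheck, List.all_eq_true] at h
    exact h s (by rw [List.mem_range'_1]; omega)
  have h := wtChkF4_36
  rw [wtRangeCheck, List.all_eq_true] at h
  exact h s (by rw [List.mem_range'_1]; omega)

theorem posRoots_eq :
    chevF4.posRoots = List.range' (chevF4.nroots / 2) (chevF4.nroots - chevF4.nroots / 2) := by
  decide +kernel

theorem uProdData : UProdData chevF4 fwF4 := by
  refine uProdData_of_checks chevF4 fwF4 (fun s h1 h2 => wtAll s h1 h2) arithChkF4
    (fun k h1 h2 => ordChkF4_from24 k h1 h2) ?_ posRoots_eq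
  intro s
  constructor
  · intro hs
    exact posRangeF4 s hs
  · rintro ⟨h1, h2⟩
    exact posOfRange s h2 h1

/-- The standard facts for `F₄`, bundled. -/
structure Facts (F : Type*) [Field F] : Prop where
  hB : BNFacts chevF4
  hT : ∃ tbl : List ℕ, TorusData chevF4 tbl
  hTri : TriOK chevF4
  hNeg : NegTriOK chevF4
  hconj : ∀ i < chevF4.rank, ∀ s < chevF4.nroots, ConjGoal' F chevF4 i s
  hS : ∀ i < chevF4.rank, ConjGoalS' F chevF4 i
  hNH : chevF4.monomialSubgroup F ≤
    Subgroup.normalizer (chevF4.diagonalSubgroup F : Set (GL chevF4.Idx F))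
  hBr : ∀ g ∈ chevF4.group F, ∃ b ∈ chevF4.borelSubgroup F, ∃ n ∈ chevF4.monomialSubgroup F,
      ∃ u ∈ chevF4.posUnipotent F, g = b * n * u

theorem facts (F : Type*) [Field F] : Facts F := by
  have hD : Good chevF4 := goodF4
  have hHN : chevF4.diagonalSubgroup F ≤ chevF4.monomialSubgroup F := le_sup_left
  refine ⟨bnFacts_all chevF4 hD, torusData_all chevF4 hD, triOK_of_mem chevF4 hD,
    negTriOK_of_mem chevF4 hD, fun i hi s hs => conjGoal_all chevF4 hD i s hi hs,
    fun i hi => conjGoalS_all chevF4 hD i hi,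
    (Subgroup.normal_subgroupOf_iff_le_normalizer hHN).mp
      (Cfsg.Agent.S1038.result (F := F) chevF4 hD), ?_⟩
  intro g hg
  obtain ⟨b, hb, n, hn, u, hu, e⟩ := (Cfsg.Agent.S1100.result (F := F) chevF4 hD).1 g hg
  refine ⟨b, hb, n, hn, u, ?_, e⟩
  refine Subgroup.closure_mono ?_ hu
  rintro x ⟨r, t, hr, -, hx⟩
  exact ⟨r, t, hr, hx⟩

end Cfsg.Agent.Helper36.F4
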