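import Cfsg.Agent.Lib.Helper36.F4Conj

/-!
# Type `F₄`, characteristic two: the centraliser of the involution `x₃₉(1) x₄₅(1)`.
-/

set_option autoImplicit false
set_option maxRecDepth 100000

namespace Cfsg.Agent.Helper36.F4

open Cfsg.Lie Cfsg.Agent.S1043 Cfsg.Agent.Helper17 Cfsg.Agent.Helper18 Cfsg.Agent.Helper36.Sort

open scoped Pointwise

/-- The root element `x_r(c)` of `F₄` as a unit. -/
local notation "X" => xU chevF4 goodF4

theorem simple_tab : chevF4.simple 0 = 33 ∧ chevF4.simple 1 = 27 ∧ chevF4.simple 2 = 25 ∧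
    chevF4.simple 3 = 24 := by decide +kernel

theorem cartan_39 : chevF4.cartan 0 39 = 0 ∧ chevF4.cartan 1 39 = -1 ∧ chevF4.cartan 2 39 = 1 ∧
    chevF4.cartan 3 39 = 0 := by decide +kernel

theorem cartan_45 : chevF4.cartan 0 45 = 0 ∧ chevF4.cartan 1 45 = 2 ∧ chevF4.cartan 2 45 = -1 ∧
    chevF4.cartan 3 45 = 0 := by decide +kernel

theorem good_tab : ∀ r ∈ [24, 28, 29, 30, 31, 32, 33, 35, 36, 37, 38, 39, 40, 41, 42, 43, 44, 45, 46, 47,
    14, 23], r < 48 ∧ (r, 39) ∉ oddList ∧ (r, 45) ∉ oddList := by decide +kernel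

section

variable {F : Type*} [Field F] [CharP F 2]

/-- The involution `x₃₉(1) x₄₅(1)`. -/
noncomputable def V0 : GL chevF4.Idx F := X 39 1 * X 45 1

omit [CharP F 2] in
theorem V0_eq : (V0 : GL chevF4.Idx F) = A 1 0 0 1 0 0 := by
  rw [A_eq, X_zero, X_zero, X_zero, X_zero]
  unfold V0
  group

/-- The subgroup `⟨X₃₃, X₁₄, X₂₄, X₂₃⟩`. -/
def KV (F : Type*) [Field F] : Subgroup (GL chevF4.Idx F) :=
  chevF4.rootSubgroup F 33 ⊔ chevF4.rootSubgroup F 14 ⊔ chevF4.rootSubgroup F 24 ⊔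
    chevF4.rootSubgroup F 23

/-- The subgroup claimed to be the centraliser of `x₃₉(1) x₄₅(1)`. -/
def RV (F : Type*) [Field F] : Subgroup (GL chevF4.Idx F) :=
  chevF4.rootSubgroup F 33 ⊔ chevF4.rootSubgroup F 14 ⊔ chevF4.rootSubgroup F 24 ⊔
    chevF4.rootSubgroup F 23 ⊔
    Subgroup.closure {g : GL chevF4.Idx F | ∃ (r : ℕ) (c : F), chevF4.IsPosRoot r ∧
      r ∉ [27, 25, 34, 26] ∧ (g : Matrix chevF4.Idx chevF4.Idx F) = chevF4.x F r c}

omit [CharP F 2] in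
theorem KV_le_RV : KV F ≤ RV F := le_sup_left

omit [CharP F 2] in
theorem X_mem_KV (r : ℕ) (hr : r ∈ [33, 14, 24, 23]) (c : F) : X r c ∈ KV F := by
  have h := xU_mem_rootSubgroup chevF4 goodF4 r c
  simp only [List.mem_cons, List.not_mem_nil, or_false] at hr
  unfold KV
  rcases hr with rfl | rfl | rfl | rfl
  · exact Subgroup.mem_sup_left (Subgroup.mem_sup_left (Subgroup.mem_sup_left h))
  · exact Subgroup.mem_sup_left (Subgroup.mem_sup_left (Subgroup.mem_sup_right h))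
  · exact Subgroup.mem_sup_left (Subgroup.mem_sup_right h)
  · exact Subgroup.mem_sup_right h

omit [CharP F 2] in
theorem X_mem_RV (r : ℕ) (hr : chevF4.IsPosRoot r) (hn : r ∉ [27, 25, 34, 26]) (c : F) :
    X r c ∈ RV F :=
  Subgroup.mem_sup_right (Subgroup.subset_closure ⟨r, c, hr, hn, rfl⟩)

/-- The good root elements centralise `V0`. -/
theorem X_comm_V0 (r : ℕ) (hr : r ∈ [24, 28, 29, 30, 31, 32, 33, 35, 36, 37, 38, 39, 40, 41, 42, 43, 44,
    45, 46, 47, 14, 23]) (c : F) : X r c * V0 = V0 * X r c := by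
  obtain ⟨h1, h2, h3⟩ := good_tab r hr
  unfold V0
  rw [← mul_assoc, X_comm r 39 h1 (by norm_num) h2, mul_assoc, X_comm r 45 h1 (by norm_num) h3,
    mul_assoc]

theorem rootSubgroup_le_cent (r : ℕ) (hr : r ∈ [24, 28, 29, 30, 31, 32, 33, 35, 36, 37, 38, 39, 40, 41,
    42, 43, 44, 45, 46, 47, 14, 23]) :
    chevF4.rootSubgroup F r ≤ Subgroup.centralizer {(V0 : GL chevF4.Idx F)} := by
  unfold ChevalleyDatum.rootSubgroup
  rw [Subgroup.closure_le]
  rintro x ⟨t, hx⟩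
  have hxe : x = X r t := Units.ext hx
  rw [SetLike.mem_coe, Subgroup.mem_centralizer_iff]
  intro z hz
  rw [Set.mem_singleton_iff] at hz
  rw [hz, hxe]
  exact (X_comm_V0 r hr t).symm

theorem KV_le_cent : KV F ≤ Subgroup.centralizer {(V0 : GL chevF4.Idx F)} := by
  unfold KV
  exact sup_le (sup_le (sup_le (rootSubgroup_le_cent 33 (by simp)) (rootSubgroup_le_cent 14 (by simp)))
    (rootSubgroup_le_cent 24 (by simp))) (rootSubgroup_le_cent 23 (by simp))

theorem pos_good (r : ℕ) (hr : chevF4.IsPosRoot r) (hn : r ∉ [27, 25, 34, 26]) :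
    r ∈ [24, 28, 29, 30, 31, 32, 33, 35, 36, 37, 38, 39, 40, 41, 42, 43, 44, 45, 46, 47, 14, 23] := by
  obtain ⟨h1, h2⟩ := posRangeF4 r hr
  simp only [List.mem_cons, List.not_mem_nil, or_false] at hn ⊢
  omega

/-- The claimed subgroup lies in the centraliser. -/
theorem RV_le : RV F ≤ chevF4.group F ⊓ Subgroup.centralizer {(V0 : GL chevF4.Idx F)} := by
  have hrs : ∀ r, chevF4.rootSubgroup F r ≤ chevF4.group F := by
    intro r
    unfold ChevalleyDatum.rootSubgroup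
    rw [Subgroup.closure_le]
    rintro x ⟨t, hx⟩
    have hxe : x = X r t := Units.ext hx
    rw [hxe]
    exact xU_mem_group chevF4 goodF4 r t
  apply le_inf
  · unfold RV
    refine sup_le (sup_le (sup_le (sup_le (hrs _) (hrs _)) (hrs _)) (hrs _)) ?_
    rw [Subgroup.closure_le]
    rintro x ⟨r, c, _, _, hx⟩
    have hxe : x = X r c := Units.ext hx
    rw [hxe]
    exact xU_mem_group chevF4 goodF4 r c
  · unfold RV
    refine sup_le (KV_le_cent (F := F)) ?_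
    rw [Subgroup.closure_le]
    rintro x ⟨r, c, hr, hn, hx⟩
    have hxe : x = X r c := Units.ext hx
    rw [SetLike.mem_coe, Subgroup.mem_centralizer_iff]
    intro z hz
    rw [Set.mem_singleton_iff] at hz
    rw [hz, hxe]
    exact (X_comm_V0 r (pos_good r hr hn) c).symm

theorem conj_step {G : Type*} [Group G] (x y v : G) : (x * y) * v * (x * y)⁻¹ = x * (y * v * y⁻¹) * x⁻¹ := by
  group

/-- The tail of an ordered word centralises `V0` and lies in the claimed subgroup. -/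
theorem W_tail (t : ℕ → F) : ∀ m k : ℕ, 35 ≤ k → k + m = 48 →
    (W chevF4 goodF4 t k m ∈ RV F ∧ W chevF4 goodF4 t k m * V0 = V0 * W chevF4 goodF4 t k m) := by
  intro m
  induction m with
  | zero =>
    intro k _ _
    rw [W_zero]
    exact ⟨one_mem _, by rw [one_mul, mul_one]⟩
  | succ m ih =>
    intro k hk hkm
    rw [W_succ]
    obtain ⟨h1, h2⟩ := ih (k + 1) (by omega) (by omega)
    have hgood : k ∈ [24, 28, 29, 30, 31, 32, 33, 35, 36, 37, 38, 39, 40, 41, 42, 43, 44, 45, 46, 47,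
        14, 23] := by
      simp only [List.mem_cons, List.not_mem_nil, or_false]
      omega
    have hpos : chevF4.IsPosRoot k := posOfRange' k (by omega) (by omega)
    have hnb : k ∉ [27, 25, 34, 26] := by
      simp only [List.mem_cons, List.not_mem_nil, or_false]
      omega
    refine ⟨mul_mem (X_mem_RV k hpos hnb _) h1, ?_⟩
    rw [mul_assoc, h2, ← mul_assoc, X_comm_V0 k hgood, mul_assoc]

/-- The centraliser of `V0` in `U`. -/
theorem cent_U (u : GL chevF4.Idx F) (hu : u ∈ chevF4.posUnipotent F) (hc : u * V0 * u⁻¹ = V0) :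
    u ∈ RV F := by
  have hu' : u ∈ Uge F chevF4 24 := by
    have := posUnipotent_eq_Uge (F := F) chevF4 uProdData
    rw [this] at hu
    exact hu
  obtain ⟨t, ht⟩ := Uge_exists chevF4 goodF4 uProdData commOK 24 24 (by decide) (by decide) u hu'
  have hW : u = W chevF4 goodF4 t 24 24 := by
    apply Units.ext
    rw [ht]
    unfold W
    rw [wordGL_val]
  have e24 : W chevF4 goodF4 t 24 24 = X 24 (t 24) * W chevF4 goodF4 t 25 23 :=
    W_succ chevF4 goodF4 t 24 23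
  have e25 : W chevF4 goodF4 t 25 23 = X 25 (t 25) * W chevF4 goodF4 t 26 22 :=
    W_succ chevF4 goodF4 t 25 22
  have e26 : W chevF4 goodF4 t 26 22 = X 26 (t 26) * W chevF4 goodF4 t 27 21 :=
    W_succ chevF4 goodF4 t 26 21
  have e27 : W chevF4 goodF4 t 27 21 = X 27 (t 27) * W chevF4 goodF4 t 28 20 :=
    W_succ chevF4 goodF4 t 27 20
  have e28 : W chevF4 goodF4 t 28 20 = X 28 (t 28) * W chevF4 goodF4 t 29 19 :=
    W_succ chevF4 goodF4 t 28 19
  have e29 : W chevF4 goodF4 t 29 19 = X 29 (t 29) * W chevF4 goodF4 t 30 18 :=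
    W_succ chevF4 goodF4 t 29 18
  have e30 : W chevF4 goodF4 t 30 18 = X 30 (t 30) * W chevF4 goodF4 t 31 17 :=
    W_succ chevF4 goodF4 t 30 17
  have e31 : W chevF4 goodF4 t 31 17 = X 31 (t 31) * W chevF4 goodF4 t 32 16 :=
    W_succ chevF4 goodF4 t 31 16
  have e32 : W chevF4 goodF4 t 32 16 = X 32 (t 32) * W chevF4 goodF4 t 33 15 :=
    W_succ chevF4 goodF4 t 32 15
  have e33 : W chevF4 goodF4 t 33 15 = X 33 (t 33) * W chevF4 goodF4 t 34 14 :=
    W_succ chevF4 goodF4 t 33 14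
  have e34 : W chevF4 goodF4 t 34 14 = X 34 (t 34) * W chevF4 goodF4 t 35 13 :=
    W_succ chevF4 goodF4 t 34 13
  obtain ⟨hT1, hT2⟩ := W_tail t 13 35 le_rfl rfl
  have c35 : W chevF4 goodF4 t 35 13 * A 1 0 0 1 0 0 * (W chevF4 goodF4 t 35 13)⁻¹ = A 1 0 0 1 0 0 := by
    rw [← V0_eq, hT2]
    group
  have c34 : W chevF4 goodF4 t 34 14 * A 1 0 0 1 0 0 * (W chevF4 goodF4 t 34 14)⁻¹ =
      A 1 0 (0 + t 34 * 1) 1 0 0 := by
    rw [e34, conj_step, c35, conj_A_34]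
  have c33 : W chevF4 goodF4 t 33 15 * A 1 0 0 1 0 0 * (W chevF4 goodF4 t 33 15)⁻¹ =
      A 1 0 (0 + t 34 * 1 + t 33 * 0) 1 0 0 := by
    rw [e33, conj_step, c34, conj_A_33]
  have c32 : W chevF4 goodF4 t 32 16 * A 1 0 0 1 0 0 * (W chevF4 goodF4 t 32 16)⁻¹ =
      A 1 0 (0 + t 34 * 1 + t 33 * 0) 1 0 0 := by
    rw [e32, conj_step, c33, conj_A_triv 32 (by norm_num) (triv_tab 32 (by simp))]
  have c31 : W chevF4 goodF4 t 31 17 * A 1 0 0 1 0 0 * (W chevF4 goodF4 t 31 17)⁻¹ =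
      A 1 0 (0 + t 34 * 1 + t 33 * 0) 1 0 0 := by
    rw [e31, conj_step, c32, conj_A_triv 31 (by norm_num) (triv_tab 31 (by simp))]
  have c30 : W chevF4 goodF4 t 30 18 * A 1 0 0 1 0 0 * (W chevF4 goodF4 t 30 18)⁻¹ =
      A 1 0 (0 + t 34 * 1 + t 33 * 0) 1 0 0 := by
    rw [e30, conj_step, c31, conj_A_triv 30 (by norm_num) (triv_tab 30 (by simp))]
  have c29 : W chevF4 goodF4 t 29 19 * A 1 0 0 1 0 0 * (W chevF4 goodF4 t 29 19)⁻¹ =
      A 1 0 (0 + t 34 * 1 + t 33 * 0) 1 0 0 := by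
    rw [e29, conj_step, c30, conj_A_triv 29 (by norm_num) (triv_tab 29 (by simp))]
  have c28 : W chevF4 goodF4 t 28 20 * A 1 0 0 1 0 0 * (W chevF4 goodF4 t 28 20)⁻¹ =
      A 1 0 (0 + t 34 * 1 + t 33 * 0) 1 0 0 := by
    rw [e28, conj_step, c29, conj_A_triv 28 (by norm_num) (triv_tab 28 (by simp))]
  have c27 : W chevF4 goodF4 t 27 21 * A 1 0 0 1 0 0 * (W chevF4 goodF4 t 27 21)⁻¹ =
      A 1 (0 + t 27 * 1) (0 + t 34 * 1 + t 33 * 0) 1 0 0 := by
    rw [e27, conj_step, c28, conj_A_27]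
  have c26 : W chevF4 goodF4 t 26 22 * A 1 0 0 1 0 0 * (W chevF4 goodF4 t 26 22)⁻¹ =
      A 1 (0 + t 27 * 1) (0 + t 34 * 1 + t 33 * 0) 1 0 (0 + t 26 * 1) := by
    rw [e26, conj_step, c27, conj_A_26]
  have c25 : W chevF4 goodF4 t 25 23 * A 1 0 0 1 0 0 * (W chevF4 goodF4 t 25 23)⁻¹ =
      A 1 (0 + t 27 * 1) (0 + t 34 * 1 + t 33 * 0) 1 (0 + t 25 * 1) (0 + t 26 * 1) := by
    rw [e25, conj_step, c26, conj_A_25]
  have c24 : W chevF4 goodF4 t 24 24 * A 1 0 0 1 0 0 * (W chevF4 goodF4 t 24 24)⁻¹ =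
      A 1 (0 + t 27 * 1) (0 + t 34 * 1 + t 33 * 0) 1 (0 + t 25 * 1)
        (0 + t 26 * 1 + t 24 * (0 + t 25 * 1)) := by
    rw [e24, conj_step, c25, conj_A_24]
  rw [hW, V0_eq, c24] at hc
  obtain ⟨-, h27, h34, -, h25, h26⟩ := A_inj _ _ _ _ _ _ _ _ _ _ _ _ hc
  have k27 : t 27 = 0 := by linear_combination h27
  have k34 : t 34 = 0 := by linear_combination h34
  have k25 : t 25 = 0 := by linear_combination h25
  have k26 : t 26 = 0 := by linear_combination h26 - t 24 * h25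
  have hg : ∀ r, 24 ≤ r → r < 48 → r ∉ [27, 25, 34, 26] → X r (t r) ∈ RV F := by
    intro r h1 h2 hn
    exact X_mem_RV r (posOfRange' r h1 h2) hn _
  rw [hW, e24, e25, e26, e27, e28, e29, e30, e31, e32, e33, e34, k25, k26, k27, k34, X_zero, X_zero,
    X_zero, X_zero]
  refine mul_mem (hg 24 (by norm_num) (by norm_num) (by simp)) (mul_mem (one_mem _) (mul_mem (one_mem _)
    (mul_mem (one_mem _) (mul_mem (hg 28 (by norm_num) (by norm_num) (by simp))
    (mul_mem (hg 29 (by norm_num) (by norm_num) (by simp))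
    (mul_mem (hg 30 (by norm_num) (by norm_num) (by simp))
    (mul_mem (hg 31 (by norm_num) (by norm_num) (by simp))
    (mul_mem (hg 32 (by norm_num) (by norm_num) (by simp))
    (mul_mem (hg 33 (by norm_num) (by norm_num) (by simp)) (mul_mem (one_mem _) hT1))))))))))

theorem neg_33 : chevF4.neg 33 = 14 ∧ chevF4.neg 24 = 23 := by decide +kernel

/-- The centraliser of `V0` in the Borel subgroup lies in the claimed subgroup. -/
theorem borel_centV (u1 h' : GL chevF4.Idx F) (hu1 : u1 ∈ chevF4.posUnipotent F)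
    (hh' : h' ∈ chevF4.diagonalSubgroup F) (hc : (u1 * h') * V0 = V0 * (u1 * h')) :
    u1 * h' ∈ RV F := by
  obtain ⟨tbl, hT⟩ := (facts F).hT
  obtain ⟨c', hc', hhc', hcc'⟩ := torus_conj h' hh'
  have e1 : h' * V0 * h'⁻¹ = A (chi chevF4 c' 39 * 1) 0 0 (chi chevF4 c' 45 * 1) 0 0 := by
    unfold V0
    rw [conj_mul, hcc' 39 (by decide) 1, hcc' 45 (by decide) 1, A_eq, X_zero, X_zero, X_zero, X_zero]
    simp only [mul_one, one_mul]
  have e2 : u1 * (h' * V0 * h'⁻¹) * u1⁻¹ = V0 := by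
    calc u1 * (h' * V0 * h'⁻¹) * u1⁻¹ = ((u1 * h') * V0) * (u1 * h')⁻¹ := by group
      _ = V0 := by rw [hc]; group
  obtain ⟨a, c, b, d, e3⟩ := (orbit_U u1 hu1 (chi chevF4 c' 39 * 1) 0 0 (chi chevF4 c' 45 * 1) 0 0).1
  rw [e1, e3, V0_eq] at e2
  obtain ⟨h39, -, -, h45, -, -⟩ := A_inj _ _ _ _ _ _ _ _ _ _ _ _ e2
  have hx : c' 1 ≠ 0 := hc' 1
  have hy : c' 2 ≠ 0 := hc' 2
  have hchi39 : chi chevF4 c' 39 = (c' 1)⁻¹ * c' 2 := by
    rw [chi_eq, cartan_39.1, cartan_39.2.1, cartan_39.2.2.1, cartan_39.2.2.2]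
    simp only [zpow_zero, zpow_neg_one, zpow_one, one_mul, mul_one]
  have hchi45 : chi chevF4 c' 45 = (c' 1) ^ 2 * (c' 2)⁻¹ := by
    rw [chi_eq, cartan_45.1, cartan_45.2.1, cartan_45.2.2.1, cartan_45.2.2.2]
    simp only [zpow_zero, zpow_neg_one, one_mul, mul_one]
    rw [zpow_two, sq]
  rw [mul_one, hchi39] at h39
  rw [mul_one, hchi45] at h45
  have hxy : c' 2 = c' 1 := by
    field_simp at h39
    exact h39
  have h1 : c' 1 = 1 := by
    rw [hxy, sq, mul_assoc, mul_inv_cancel₀ hx, mul_one] at h45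
    exact h45
  have h2 : c' 2 = 1 := by rw [hxy, h1]
  have hh'K : h' ∈ KV F := by
    apply Cfsg.Agent.Helper36.TorusMem.torus_mem chevF4 goodF4 hT (KV F) c' hc' h' hhc'
    intro i hi
    have hi4 : i < 4 := hi
    interval_cases i
    · right
      intro t
      rw [simple_tab.1, neg_33.1]
      exact ⟨X_mem_KV 33 (by simp) t, X_mem_KV 14 (by simp) t⟩
    · left; exact h1
    · left; exact h2
    · right
      intro t
      rw [simple_tab.2.2.2, neg_33.2]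
      exact ⟨X_mem_KV 24 (by simp) t, X_mem_KV 23 (by simp) t⟩
  have hh'c : h' * V0 = V0 * h' :=
    (Subgroup.mem_centralizer_iff.mp (KV_le_cent hh'K) _ (Set.mem_singleton _)).symm
  have hu1c : u1 * V0 * u1⁻¹ = V0 := by
    have : u1 * V0 = V0 * u1 := by
      have e : u1 * V0 = ((u1 * h') * V0) * h'⁻¹ := by
        rw [mul_assoc u1 h', hh'c]
        group
      rw [e, hc]
      group
    rw [this]
    group
  exact mul_mem (cent_U u1 hu1 hu1c) (KV_le_RV hh'K)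

/-- The centraliser of `x₃₉(1) x₄₅(1)` lies in the claimed subgroup. -/
theorem centV_le :
    chevF4.group F ⊓ Subgroup.centralizer {(V0 : GL chevF4.Idx F)} ≤ RV F := by
  obtain ⟨hB, ⟨tbl, hT⟩, hTri, hNeg, hconj, hS, hNH, -⟩ := facts F
  have hD := goodF4
  rintro g ⟨hgG, hgC⟩
  have hgt : V0 * g = g * V0 := Subgroup.mem_centralizer_iff.mp hgC _ (Set.mem_singleton _)
  obtain ⟨b, hb, n, hn, u, hu, rfl⟩ :=
    (Cfsg.Agent.S1100.result (F := F) chevF4 hD).1 g hgG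
  have hBs : ((chevF4.borelSubgroup F : Subgroup (GL chevF4.Idx F)) : Set (GL chevF4.Idx F)) =
      (chevF4.posUnipotent F : Set (GL chevF4.Idx F)) *
        (chevF4.diagonalSubgroup F : Set (GL chevF4.Idx F)) :=
    Subgroup.coe_mul_of_right_le_normalizer_left _ _ (diag_le_normalizer chevF4 hT)
  have hb' : b ∈ ((chevF4.borelSubgroup F : Subgroup (GL chevF4.Idx F)) : Set (GL chevF4.Idx F)) := hb
  rw [hBs] at hb'
  obtain ⟨u1, hu1, h1, hh1, rfl⟩ := Set.mem_mul.mp hb'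
  obtain ⟨h2, hh2, l, hl, rfl⟩ := mem_monomial_decomp chevF4 hD hB hS hNH n hn
  have hl4 : ∀ i ∈ l, i < 4 := hl
  have hhh : h1 * h2 ∈ chevF4.diagonalSubgroup F := mul_mem hh1 hh2
  have huU : u ∈ chevF4.posUnipotent F := by
    refine Subgroup.closure_mono ?_ hu
    rintro x ⟨r, t, hr, -, hx⟩
    exact ⟨r, t, hr, hx⟩
  obtain ⟨y, hy⟩ : ∃ y, y = h1 * h2 * nWordGL chevF4 hD l := ⟨_, rfl⟩
  have hc1 : y * (u * V0 * u⁻¹) * y⁻¹ = u1⁻¹ * V0 * u1 := by
    have e : u1 * h1 * (h2 * nWordGL chevF4 hD l) * u = u1 * y * u := by rw [hy]; group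
    rw [e] at hgt
    calc y * (u * V0 * u⁻¹) * y⁻¹ = u1⁻¹ * ((u1 * y * u) * V0) * (u⁻¹ * y⁻¹) := by group
      _ = u1⁻¹ * (V0 * (u1 * y * u)) * (u⁻¹ * y⁻¹) := by rw [hgt]
      _ = _ := by group
  obtain ⟨a, c, b', d, ea⟩ := (orbit_U u huU (1 : F) 0 0 1 0 0).1
  obtain ⟨a', c', b'', d', eb⟩ := (orbit_U u1 hu1 (1 : F) 0 0 1 0 0).2
  rw [V0_eq, ea, eb, hy] at hc1
  obtain ⟨hf39, hf45⟩ := fix_of_conj (h1 * h2) hhh l hl4 a c b' d a' c' b'' d' hc1
  obtain ⟨⟨l', hl', hpos⟩, hnegs⟩ := word_fix2 l hl4 hf39 hf45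
  have hl'4 : ∀ i ∈ l', i < 4 := wordsJ2_lt l' hl'
  have hll : ∀ i ∈ l' ++ l, i < chevF4.rank := by
    intro j hj
    rcases List.mem_append.mp hj with h | h
    · exact hl'4 j h
    · exact hl j h
  -- the word lies in `H ⟨n₁, n₄⟩`
  have hdiag : nWordGL (F := F) chevF4 hD (l' ++ l) ∈ chevF4.diagonalSubgroup F :=
    nWordGL_mem_diag chevF4 hD hB hT hTri hNeg hconj hS hNH (l' ++ l).length (l' ++ l) le_rfl hll hpos
  rw [nWordGL_append] at hdiag
  -- the generators `n₁`, `n₄` lie in `KV`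
  have hnK : ∀ j ∈ [0, 3], nGL (F := F) chevF4 hD j ∈ KV F := by
    intro j hj
    simp only [List.mem_cons, List.not_mem_nil, or_false] at hj
    rcases hj with rfl | rfl
    · rw [nGL, simple_tab.1, neg_33.1]
      exact mul_mem (mul_mem (X_mem_KV 33 (by simp) _) (X_mem_KV 14 (by simp) _)) (X_mem_KV 33 (by simp) _)
    · rw [nGL, simple_tab.2.2.2, neg_33.2]
      exact mul_mem (mul_mem (X_mem_KV 24 (by simp) _) (X_mem_KV 23 (by simp) _)) (X_mem_KV 24 (by simp) _)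
  have hl'03 : ∀ i ∈ l', i ∈ [0, 3] := by
    have : ∀ w ∈ wordsJ2, ∀ i ∈ w, i ∈ [0, 3] := by decide
    exact this l' hl'
  have hmK : nWordGL (F := F) chevF4 hD l' ∈ KV F := by
    have : ∀ w : List ℕ, (∀ i ∈ w, i ∈ [0, 3]) → nWordGL (F := F) chevF4 hD w ∈ KV F := by
      intro w
      induction w with
      | nil => intro _; exact one_mem _
      | cons i w ih =>
        intro hw
        rw [nWordGL_cons]
        exact mul_mem (hnK i (hw i List.mem_cons_self)) (ih fun k hk => hw k (List.mem_cons_of_mem _ hk))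
    exact this l' hl'03
  -- `U_w⁻ ≤ KV`
  have huK : u ∈ KV F := by
    refine (Subgroup.closure_le (KV F)).mpr ?_ hu
    rintro x ⟨r, t, hr, hle, hx⟩
    have hxe : x = X r t := Units.ext hx
    have hnp := (map_rootSubgroup_le_neg_iff chevF4 hD hB hT hTri hNeg hconj h2 hh2 l hl r hr.1).mp hle
    have hneg : chevF4.IsNegRoot (permW chevF4 l r) :=
      (hB.hpn _ (permW_lt hB l hl r hr.1)).resolve_left hnp
    rw [SetLike.mem_coe, hxe]
    rcases hnegs r hr hneg with rfl | rfl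
    · exact X_mem_KV 33 (by simp) t
    · exact X_mem_KV 24 (by simp) t
  -- assemble
  obtain ⟨m, hm⟩ : ∃ m, m = (nWordGL (F := F) chevF4 hD l')⁻¹ := ⟨_, rfl⟩
  have hmK' : m ∈ KV F := by rw [hm]; exact inv_mem hmK
  obtain ⟨h3, hh3⟩ : ∃ h3, h3 = nWordGL (F := F) chevF4 hD l' * nWordGL chevF4 hD l := ⟨_, rfl⟩
  rw [← hh3] at hdiag
  have hnl : nWordGL (F := F) chevF4 hD l = m * h3 := by rw [hm, hh3]; group
  have hmN : m ∈ chevF4.monomialSubgroup F := by
    rw [hm]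
    apply inv_mem
    exact nWordGL_mem chevF4 hD l' (fun i hi => hB.hsimp i (hl'4 i hi))
  have hh3' : m * h3 * m⁻¹ ∈ chevF4.diagonalSubgroup F :=
    (Subgroup.mem_normalizer_iff.mp (hNH hmN) h3).mp hdiag
  have hk : m * u ∈ KV F := mul_mem hmK' huK
  have hkc : (m * u) * V0 = V0 * (m * u) :=
    (Subgroup.mem_centralizer_iff.mp (KV_le_cent hk) _ (Set.mem_singleton _)).symm
  have hgeq : u1 * h1 * (h2 * nWordGL chevF4 hD l) * u =
      (u1 * (h1 * h2 * (m * h3 * m⁻¹))) * (m * u) := by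
    rw [hnl]; group
  rw [hgeq] at hgt ⊢
  refine mul_mem ?_ (KV_le_RV hk)
  apply borel_centV u1 _ hu1 (mul_mem hhh hh3')
  set b0 := u1 * (h1 * h2 * (m * h3 * m⁻¹)) with hb0
  calc b0 * V0 = (b0 * (m * u) * V0) * (m * u)⁻¹ := by
        rw [mul_assoc b0, hkc]; group
    _ = (V0 * (b0 * (m * u))) * (m * u)⁻¹ := by rw [hgt]
    _ = V0 * b0 := by group

end

end Cfsg.Agent.Helper36.F4
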