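import Cfsg.Agent.Lib.Helper36.F4Conj

/-!
# Type `F₄`, characteristic two: the centraliser of the involution `x₄₇(1) x₄₄(1)`.
-/

set_option autoImplicit false
set_option maxRecDepth 100000

namespace Cfsg.Agent.Helper36.F4

open Cfsg.Lie Cfsg.Agent.S1043 Cfsg.Agent.Helper17 Cfsg.Agent.Helper18 Cfsg.Agent.Helper36.Sort

open scoped Pointwise

/-- The root element `x_r(c)` of `F₄` as a unit. -/
local notation "X" => xU chevF4 goodF4

theorem simple_tabW : chevF4.simple 0 = 33 ∧ chevF4.simple 1 = 27 ∧ chevF4.simple 2 = 25 ∧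
    chevF4.simple 3 = 24 := by decide +kernel

theorem neg_tabW : chevF4.neg 27 = 20 ∧ chevF4.neg 25 = 22 := by decide +kernel

theorem cartan_47 : chevF4.cartan 0 47 = 0 ∧ chevF4.cartan 1 47 = 0 ∧ chevF4.cartan 2 47 = 0 ∧
    chevF4.cartan 3 47 = 1 := by decide +kernel

theorem cartan_44 : chevF4.cartan 0 44 = 1 ∧ chevF4.cartan 1 44 = 0 ∧ chevF4.cartan 2 44 = 0 ∧
    chevF4.cartan 3 44 = 0 := by decide +kernel

theorem goodW_tab : ∀ r ∈ [24, 25, 26, 27, 28, 29, 30, 31, 32, 33, 34, 35, 36, 37, 38, 39, 40, 41, 42, 43,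
    44, 45, 46, 47, 20, 22], r < 48 ∧ (r, 44) ∉ oddList ∧ (r, 47) ∉ oddList := by decide +kernel

section

variable {F : Type*} [Field F] [CharP F 2]

/-- The involution `x₄₇(1) x₄₄(1)`. -/
noncomputable def W0 : GL chevF4.Idx F := X 47 1 * X 44 1

/-- The list of the root elements of an element of `X₄₄ X₄₇`. -/
def LB (p q : F) : List (ℕ × F) := [(44, p), (47, q)]

theorem X_comm_44_47 (p q : F) : X 44 p * X 47 q = X 47 q * X 44 p :=
  X_comm 44 47 (by norm_num) (by norm_num) (goodW_tab 44 (by simp)).2.2 p q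

omit [CharP F 2] in
theorem wordGL_LB (p q : F) : wordGL chevF4 goodF4 (LB p q) = X 44 p * X 47 q := by
  unfold LB
  rw [wordGL_cons, wordGL_cons, wordGL_nil, mul_one]

theorem W0_eq : (W0 : GL chevF4.Idx F) = wordGL chevF4 goodF4 (LB 1 1) := by
  rw [wordGL_LB, X_comm_44_47]
  rfl

omit [CharP F 2] in
theorem LB_nodup (p q : F) : ((LB p q).map Prod.fst).Nodup := by
  unfold LB
  simp

omit [CharP F 2] in
theorem LB_pos (p q : F) : ∀ x ∈ LB p q, chevF4.IsPosRoot x.1 := by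
  intro x hx
  unfold LB at hx
  simp only [List.mem_cons, List.not_mem_nil, or_false] at hx
  rcases hx with rfl | rfl <;> exact posOfRange' _ (by norm_num) (by norm_num)

theorem LB_comm (p q : F) : (LB p q).Pairwise fun x y => Commute (X x.1 x.2) (X y.1 y.2) := by
  unfold LB
  rw [List.pairwise_cons]
  refine ⟨?_, List.pairwise_singleton _ _⟩
  intro y hy
  simp only [List.mem_cons, List.not_mem_nil, or_false] at hy
  subst hy
  exact X_comm_44_47 p q

theorem LB_inj (p q p' q' : F)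
    (h : wordGL chevF4 goodF4 (LB p q) = wordGL chevF4 goodF4 (LB p' q')) : p = p' ∧ q = q' := by
  have key : ∀ r, chevF4.IsPosRoot r → tOf (LB p q) r = tOf (LB p' q') r :=
    fun r hr => tOf_unique chevF4 goodF4 uProdData _ _ (LB_nodup _ _) (LB_nodup _ _)
      (LB_pos _ _) (LB_pos _ _) (LB_comm _ _) (LB_comm _ _) h r hr
  have k44 := key 44 (posOfRange' _ (by norm_num) (by norm_num))
  have k47 := key 47 (posOfRange' _ (by norm_num) (by norm_num))
  rw [tOf_mem _ (LB_nodup p q) (44, p) (by simp [LB]), tOf_mem _ (LB_nodup p' q') (44, p') (by simp [LB])]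
    at k44
  rw [tOf_mem _ (LB_nodup p q) (47, q) (by simp [LB]), tOf_mem _ (LB_nodup p' q') (47, q') (by simp [LB])]
    at k47
  exact ⟨k44, k47⟩

/-- The subgroup `⟨X₂₇, X₂₀, X₂₅, X₂₂⟩`. -/
def KW (F : Type*) [Field F] : Subgroup (GL chevF4.Idx F) :=
  chevF4.rootSubgroup F 27 ⊔ chevF4.rootSubgroup F 20 ⊔ chevF4.rootSubgroup F 25 ⊔
    chevF4.rootSubgroup F 22

/-- The subgroup claimed to be the centraliser of `x₄₇(1) x₄₄(1)`. -/
def RW (F : Type*) [Field F] : Subgroup (GL chevF4.Idx F) :=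
  chevF4.posUnipotent F ⊔ chevF4.rootSubgroup F 20 ⊔ chevF4.rootSubgroup F 22

omit [CharP F 2] in
theorem X_mem_KW (r : ℕ) (hr : r ∈ [27, 20, 25, 22]) (c : F) : X r c ∈ KW F := by
  have h := xU_mem_rootSubgroup chevF4 goodF4 r c
  simp only [List.mem_cons, List.not_mem_nil, or_false] at hr
  unfold KW
  rcases hr with rfl | rfl | rfl | rfl
  · exact Subgroup.mem_sup_left (Subgroup.mem_sup_left (Subgroup.mem_sup_left h))
  · exact Subgroup.mem_sup_left (Subgroup.mem_sup_left (Subgroup.mem_sup_right h))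
  · exact Subgroup.mem_sup_left (Subgroup.mem_sup_right h)
  · exact Subgroup.mem_sup_right h

omit [CharP F 2] in
theorem rootSubgroup_le_U (r : ℕ) (hr : chevF4.IsPosRoot r) :
    chevF4.rootSubgroup F r ≤ chevF4.posUnipotent F := by
  unfold ChevalleyDatum.rootSubgroup ChevalleyDatum.posUnipotent
  apply Subgroup.closure_mono
  rintro x ⟨t, hx⟩
  exact ⟨r, t, hr, hx⟩

omit [CharP F 2] in
theorem KW_le_RW : KW F ≤ RW F := by
  unfold KW RW
  refine sup_le (sup_le (sup_le ?_ ?_) ?_) ?_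
  · exact le_sup_of_le_left (le_sup_of_le_left
      (rootSubgroup_le_U 27 (posOfRange' _ (by norm_num) (by norm_num))))
  · exact le_sup_of_le_left le_sup_right
  · exact le_sup_of_le_left (le_sup_of_le_left
      (rootSubgroup_le_U 25 (posOfRange' _ (by norm_num) (by norm_num))))
  · exact le_sup_right

theorem X_comm_W0 (r : ℕ) (hr : r ∈ [24, 25, 26, 27, 28, 29, 30, 31, 32, 33, 34, 35, 36, 37, 38, 39, 40,
    41, 42, 43, 44, 45, 46, 47, 20, 22]) (c : F) : X r c * W0 = W0 * X r c := by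
  obtain ⟨h1, h2, h3⟩ := goodW_tab r hr
  unfold W0
  rw [← mul_assoc, X_comm r 47 h1 (by norm_num) h3, mul_assoc, X_comm r 44 h1 (by norm_num) h2,
    mul_assoc]

theorem rootSubgroup_le_centW (r : ℕ) (hr : r ∈ [24, 25, 26, 27, 28, 29, 30, 31, 32, 33, 34, 35, 36, 37,
    38, 39, 40, 41, 42, 43, 44, 45, 46, 47, 20, 22]) :
    chevF4.rootSubgroup F r ≤ Subgroup.centralizer {(W0 : GL chevF4.Idx F)} := by
  unfold ChevalleyDatum.rootSubgroup
  rw [Subgroup.closure_le]
  rintro x ⟨t, hx⟩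
  have hxe : x = X r t := Units.ext hx
  rw [SetLike.mem_coe, Subgroup.mem_centralizer_iff]
  intro z hz
  rw [Set.mem_singleton_iff] at hz
  rw [hz, hxe]
  exact (X_comm_W0 r hr t).symm

theorem U_le_centW : chevF4.posUnipotent F ≤ Subgroup.centralizer {(W0 : GL chevF4.Idx F)} := by
  unfold ChevalleyDatum.posUnipotent
  rw [Subgroup.closure_le]
  rintro x ⟨r, t, hr, hx⟩
  have hxe : x = X r t := Units.ext hx
  obtain ⟨h1, h2⟩ := posRangeF4 r hr
  rw [SetLike.mem_coe, Subgroup.mem_centralizer_iff]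
  intro z hz
  rw [Set.mem_singleton_iff] at hz
  rw [hz, hxe]
  refine (X_comm_W0 r ?_ t).symm
  simp only [List.mem_cons, List.not_mem_nil, or_false]
  omega

theorem KW_le_centW : KW F ≤ Subgroup.centralizer {(W0 : GL chevF4.Idx F)} := by
  unfold KW
  exact sup_le (sup_le (sup_le (rootSubgroup_le_centW 27 (by simp)) (rootSubgroup_le_centW 20 (by simp)))
    (rootSubgroup_le_centW 25 (by simp))) (rootSubgroup_le_centW 22 (by simp))

/-- The claimed subgroup lies in the centraliser. -/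
theorem RW_le : RW F ≤ chevF4.group F ⊓ Subgroup.centralizer {(W0 : GL chevF4.Idx F)} := by
  have hrs : ∀ r, chevF4.rootSubgroup F r ≤ chevF4.group F := by
    intro r
    unfold ChevalleyDatum.rootSubgroup
    rw [Subgroup.closure_le]
    rintro x ⟨t, hx⟩
    have hxe : x = X r t := Units.ext hx
    rw [hxe]
    exact xU_mem_group chevF4 goodF4 r t
  unfold RW
  apply le_inf
  · exact sup_le (sup_le (le_trans le_sup_left (borel_le chevF4 goodF4)) (hrs _)) (hrs _)
  · exact sup_le (sup_le U_le_centW (rootSubgroup_le_centW 20 (by simp)))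
      (rootSubgroup_le_centW 22 (by simp))

/-- If `h n_w` centralises `x₄₇(1) x₄₄(1)` then `w` maps the roots `44` and `47` into `{44, 47}`. -/
theorem fix_of_conjW (h : GL chevF4.Idx F) (hh : h ∈ chevF4.diagonalSubgroup F) (l : List ℕ)
    (hl : ∀ i ∈ l, i < 4)
    (heq : (h * nWordGL chevF4 goodF4 l) * W0 * (h * nWordGL chevF4 goodF4 l)⁻¹ = W0) :
    permW chevF4 l 44 ∈ [44, 47] ∧ permW chevF4 l 47 ∈ [44, 47] := by
  obtain ⟨hB, ⟨tbl, hT⟩, hTri, hNeg, hconj, hS, hNH, hBr⟩ := facts F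
  have H : ∀ s : ℕ, ∃ cs : F, s < chevF4.nroots → (cs ≠ 0 ∧ ∀ t : F,
      (h * nWordGL chevF4 goodF4 l) * X s t * (h * nWordGL chevF4 goodF4 l)⁻¹ =
        X (permW chevF4 l s) (cs * t)) := by
    intro s
    by_cases hs : s < chevF4.nroots
    · obtain ⟨cs, h1, h2⟩ := conj_N_xU chevF4 goodF4 hB hT hconj h hh l hl s hs
      exact ⟨cs, fun _ => ⟨h1, h2⟩⟩
    · exact ⟨0, fun h' => absurd h' hs⟩
  choose cf hcf using H
  rw [W0_eq] at heq
  have key := transfer chevF4 goodF4 uProdData U_inf_V hB.hpn (h * nWordGL chevF4 goodF4 l)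
    (permW chevF4 l) (fun p => (permW chevF4 l p.1, cf p.1 * p.2)) (fun _ => rfl)
    (fun p hp => (hcf p.1 hp).2 p.2) (fun p hp h0 => mul_ne_zero (hcf p.1 hp).1 h0)
    (fun s hs => permW_lt hB l hl s hs) (LB 1 1) (LB 1 1)
    (LB_nodup _ _) (LB_nodup _ _)
    (List.Nodup.map_on (fun x hx y hy hxy => by
      have hx' : x < 48 := by
        obtain ⟨p, hp, rfl⟩ := List.mem_map.mp hx
        exact (LB_pos _ _ p hp).1
      have hy' : y < 48 := by
        obtain ⟨p, hp, rfl⟩ := List.mem_map.mp hy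
        exact (LB_pos _ _ p hp).1
      exact permW_inj l hl x y hx' hy' hxy) (LB_nodup _ _))
    (LB_pos _ _) (LB_pos _ _) (LB_comm _ _) (LB_comm _ _) heq
  constructor
  · have := key (44, 1) (by simp [LB]) one_ne_zero
    simpa [LB] using this
  · have := key (47, 1) (by simp [LB]) one_ne_zero
    simpa [LB] using this

/-- A torus element centralising `x₄₇(1) x₄₄(1)` lies in `⟨X₂₇, X₂₀, X₂₅, X₂₂⟩`. -/
theorem torus_centW (h' : GL chevF4.Idx F) (hh' : h' ∈ chevF4.diagonalSubgroup F)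
    (hc : h' * W0 * h'⁻¹ = W0) : h' ∈ KW F := by
  obtain ⟨tbl, hT⟩ := (facts F).hT
  obtain ⟨c', hc', hhc', hcc'⟩ := torus_conj h' hh'
  have e1 : h' * W0 * h'⁻¹ =
      wordGL chevF4 goodF4 (LB (chi chevF4 c' 44 * 1) (chi chevF4 c' 47 * 1)) := by
    rw [W0_eq, wordGL_LB, wordGL_LB, conj_mul, hcc' 44 (by decide) 1, hcc' 47 (by decide) 1]
  rw [e1, W0_eq] at hc
  obtain ⟨h44, h47⟩ := LB_inj _ _ _ _ hc
  have hchi44 : chi chevF4 c' 44 = c' 0 := by
    rw [chi_eq, cartan_44.1, cartan_44.2.1, cartan_44.2.2.1, cartan_44.2.2.2]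
    simp only [zpow_zero, zpow_one, one_mul, mul_one]
  have hchi47 : chi chevF4 c' 47 = c' 3 := by
    rw [chi_eq, cartan_47.1, cartan_47.2.1, cartan_47.2.2.1, cartan_47.2.2.2]
    simp only [zpow_zero, zpow_one, one_mul, mul_one]
  rw [mul_one, hchi44] at h44
  rw [mul_one, hchi47] at h47
  apply Cfsg.Agent.Helper36.TorusMem.torus_mem chevF4 goodF4 hT (KW F) c' hc' h' hhc'
  intro i hi
  have hi4 : i < 4 := hi
  interval_cases i
  · left; exact h44
  · right
    intro t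
    rw [simple_tabW.2.1, neg_tabW.1]
    exact ⟨X_mem_KW 27 (by simp) t, X_mem_KW 20 (by simp) t⟩
  · right
    intro t
    rw [simple_tabW.2.2.1, neg_tabW.2]
    exact ⟨X_mem_KW 25 (by simp) t, X_mem_KW 22 (by simp) t⟩
  · left; exact h47

/-- The centraliser of `x₄₇(1) x₄₄(1)` lies in the claimed subgroup. -/
theorem centW_le :
    chevF4.group F ⊓ Subgroup.centralizer {(W0 : GL chevF4.Idx F)} ≤ RW F := by
  obtain ⟨hB, ⟨tbl, hT⟩, hTri, hNeg, hconj, hS, hNH, -⟩ := facts F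
  have hD := goodF4
  rintro g ⟨hgG, hgC⟩
  obtain ⟨b, hb, n, hn, u, hu, rfl⟩ :=
    (Cfsg.Agent.S1100.result (F := F) chevF4 hD).1 g hgG
  have hBs : ((chevF4.borelSubgroup F : Subgroup (GL chevF4.Idx F)) : Set (GL chevF4.Idx F)) =
      (chevF4.posUnipotent F : Set (GL chevF4.Idx F)) *
        (chevF4.diagonalSubgroup F : Set (GL chevF4.Idx F)) :=
    Subgroup.coe_mul_of_right_le_normalizer_left _ _ (diag_le_normalizer chevF4 hT)
  have hb' : b ∈ ((chevF4.borelSubgroup F : Subgroup (GL chevF4.Idx F)) : Set (GL chevF4.Idx F)) := hb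
  rw [hBs] at hb'
  obtain ⟨u1, hu1, h1, hh1, rfl⟩ := Set.mem_mul.mp hb'
  obtain ⟨h2, hh2, l, hl, rfl⟩ := mem_monomial_decomp chevF4 hD hB hS hNH n hn
  have hl4 : ∀ i ∈ l, i < 4 := hl
  have hhh : h1 * h2 ∈ chevF4.diagonalSubgroup F := mul_mem hh1 hh2
  have huU : u ∈ chevF4.posUnipotent F := by
    refine Subgroup.closure_mono ?_ hu
    rintro x ⟨r, t, hr, -, hx⟩
    exact ⟨r, t, hr, hx⟩
  have hu1C := U_le_centW hu1
  have huC := U_le_centW huU
  obtain ⟨y, hy⟩ : ∃ y, y = h1 * h2 * nWordGL chevF4 hD l := ⟨_, rfl⟩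
  have hyC : y ∈ Subgroup.centralizer {(W0 : GL chevF4.Idx F)} := by
    have e : y = u1⁻¹ * (u1 * h1 * (h2 * nWordGL chevF4 hD l) * u) * u⁻¹ := by rw [hy]; group
    rw [e]
    exact mul_mem (mul_mem (inv_mem hu1C) hgC) (inv_mem huC)
  have hc1 : y * W0 * y⁻¹ = W0 := by
    have := Subgroup.mem_centralizer_iff.mp hyC _ (Set.mem_singleton _)
    rw [← this]
    group
  rw [hy] at hc1
  obtain ⟨hf44, hf47⟩ := fix_of_conjW (h1 * h2) hhh l hl4 hc1
  obtain ⟨l', hl', hpos⟩ := word_fix1 l hl4 hf44 hf47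
  have hl'4 : ∀ i ∈ l', i < 4 := wordsJ1_lt l' hl'
  have hll : ∀ i ∈ l' ++ l, i < chevF4.rank := by
    intro j hj
    rcases List.mem_append.mp hj with h | h
    · exact hl'4 j h
    · exact hl j h
  have hdiag : nWordGL (F := F) chevF4 hD (l' ++ l) ∈ chevF4.diagonalSubgroup F :=
    nWordGL_mem_diag chevF4 hD hB hT hTri hNeg hconj hS hNH (l' ++ l).length (l' ++ l) le_rfl hll hpos
  rw [nWordGL_append] at hdiag
  have hnK : ∀ j ∈ [1, 2], nGL (F := F) chevF4 hD j ∈ KW F := by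
    intro j hj
    simp only [List.mem_cons, List.not_mem_nil, or_false] at hj
    rcases hj with rfl | rfl
    · rw [nGL, simple_tabW.2.1, neg_tabW.1]
      exact mul_mem (mul_mem (X_mem_KW 27 (by simp) _) (X_mem_KW 20 (by simp) _)) (X_mem_KW 27 (by simp) _)
    · rw [nGL, simple_tabW.2.2.1, neg_tabW.2]
      exact mul_mem (mul_mem (X_mem_KW 25 (by simp) _) (X_mem_KW 22 (by simp) _)) (X_mem_KW 25 (by simp) _)
  have hl'12 : ∀ i ∈ l', i ∈ [1, 2] := by
    have : ∀ w ∈ wordsJ1, ∀ i ∈ w, i ∈ [1, 2] := by decide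
    exact this l' hl'
  have hmK : nWordGL (F := F) chevF4 hD l' ∈ KW F := by
    have : ∀ w : List ℕ, (∀ i ∈ w, i ∈ [1, 2]) → nWordGL (F := F) chevF4 hD w ∈ KW F := by
      intro w
      induction w with
      | nil => intro _; exact one_mem _
      | cons i w ih =>
        intro hw
        rw [nWordGL_cons]
        exact mul_mem (hnK i (hw i List.mem_cons_self)) (ih fun k hk => hw k (List.mem_cons_of_mem _ hk))
    exact this l' hl'12
  obtain ⟨m, hm⟩ : ∃ m, m = (nWordGL (F := F) chevF4 hD l')⁻¹ := ⟨_, rfl⟩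
  have hmK' : m ∈ KW F := by rw [hm]; exact inv_mem hmK
  obtain ⟨h3, hh3⟩ : ∃ h3, h3 = nWordGL (F := F) chevF4 hD l' * nWordGL chevF4 hD l := ⟨_, rfl⟩
  rw [← hh3] at hdiag
  have hnl : nWordGL (F := F) chevF4 hD l = m * h3 := by rw [hm, hh3]; group
  have hmN : m ∈ chevF4.monomialSubgroup F := by
    rw [hm]
    apply inv_mem
    exact nWordGL_mem chevF4 hD l' (fun i hi => hB.hsimp i (hl'4 i hi))
  have hh3' : m * h3 * m⁻¹ ∈ chevF4.diagonalSubgroup F :=
    (Subgroup.mem_normalizer_iff.mp (hNH hmN) h3).mp hdiag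
  obtain ⟨hh, hhe⟩ : ∃ hh, hh = h1 * h2 * (m * h3 * m⁻¹) := ⟨_, rfl⟩
  have hhH : hh ∈ chevF4.diagonalSubgroup F := by rw [hhe]; exact mul_mem hhh hh3'
  have hhC : hh ∈ Subgroup.centralizer {(W0 : GL chevF4.Idx F)} := by
    have e : hh = y * m⁻¹ := by rw [hhe, hy, hnl]; group
    rw [e]
    exact mul_mem hyC (inv_mem (KW_le_centW hmK'))
  have hhK : hh ∈ KW F := by
    apply torus_centW hh hhH
    have := Subgroup.mem_centralizer_iff.mp hhC _ (Set.mem_singleton _)
    rw [← this]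
    group
  have hgeq : u1 * h1 * (h2 * nWordGL chevF4 hD l) * u = u1 * hh * m * u := by
    rw [hhe, hnl]; group
  rw [hgeq]
  have hU : chevF4.posUnipotent F ≤ RW F := by
    unfold RW
    exact le_sup_of_le_left le_sup_left
  exact mul_mem (mul_mem (mul_mem (hU hu1) (KW_le_RW hhK)) (KW_le_RW hmK')) (hU huU)

end

end Cfsg.Agent.Helper36.F4
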