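import Cfsg.Agent.Lib.Helper36.F4Orbit
import Cfsg.Agent.Lib.Helper36.ChevTorusMem
import Cfsg.Agent.Lib.Helper18.ChevBruhatNF

/-!
# Type `F₄`: conjugation by the elements `h n_w`, injectivity of the Weyl group permutations, and the transfer of
supports.
-/

set_option autoImplicit false
set_option maxRecDepth 100000

namespace Cfsg.Agent.Helper36.F4

open Cfsg.Lie Cfsg.Agent.S1043 Cfsg.Agent.Helper17 Cfsg.Agent.Helper18 Cfsg.Agent.Helper36.Sort

/-- The root element `x_r(c)` of `F₄` as a unit. -/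
local notation "X" => xU chevF4 goodF4

theorem rf_invol : ∀ i < 4, ∀ s < 48, rf i (rf i s) = s := by decide +kernel

theorem rf_lt : ∀ i < 4, ∀ s < 48, rf i s < 48 := by decide +kernel

theorem refl_invol (i : ℕ) (hi : i < 4) (s : ℕ) (hs : s < 48) :
    chevF4.reflectRoot i (chevF4.reflectRoot i s) = s := by
  rw [rf_ok i hi s hs, rf_ok i hi _ (rf_lt i hi s hs), rf_invol i hi s hs]

theorem permW_lt' (l : List ℕ) (hl : ∀ i ∈ l, i < 4) (s : ℕ) (hs : s < 48) : permW chevF4 l s < 48 := by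
  induction l with
  | nil => exact hs
  | cons i l ih =>
    have h1 := ih (fun j hj => hl j (List.mem_cons_of_mem _ hj))
    change chevF4.reflectRoot i (permW chevF4 l s) < 48
    rw [rf_ok i (hl i List.mem_cons_self) _ h1]
    exact rf_lt i (hl i List.mem_cons_self) _ h1

theorem permW_left_inv (l : List ℕ) (hl : ∀ i ∈ l, i < 4) (s : ℕ) (hs : s < 48) :
    permW chevF4 l.reverse (permW chevF4 l s) = s := by
  induction l with
  | nil => rfl
  | cons i l ih =>
    have hl' : ∀ j ∈ l, j < 4 := fun j hj => hl j (List.mem_cons_of_mem _ hj)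
    rw [List.reverse_cons, permW_append]
    change permW chevF4 l.reverse (chevF4.reflectRoot i (chevF4.reflectRoot i (permW chevF4 l s))) = s
    rw [refl_invol i (hl i List.mem_cons_self) _ (permW_lt' l hl' s hs)]
    exact ih hl'

theorem permW_inj (l : List ℕ) (hl : ∀ i ∈ l, i < 4) (a b : ℕ) (ha : a < 48) (hb : b < 48)
    (h : permW chevF4 l a = permW chevF4 l b) : a = b := by
  rw [← permW_left_inv l hl a ha, ← permW_left_inv l hl b hb, h]

section

variable {F : Type*} [Field F]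

/-- The action of the torus on the root elements. -/
theorem torus_conj (hh : GL chevF4.Idx F) (hhm : hh ∈ chevF4.diagonalSubgroup F) :
    ∃ c : ℕ → F, (∀ i, c i ≠ 0) ∧
      ((hh : GL chevF4.Idx F) : Matrix chevF4.Idx chevF4.Idx F) = torMat chevF4 c ∧
      ∀ s < chevF4.nroots, ∀ v : F, hh * X s v * hh⁻¹ = X s (chi chevF4 c s * v) := by
  obtain ⟨tbl, hT⟩ := (facts F).hT
  obtain ⟨c, hc, hhc⟩ := mem_diag_eq_torMat chevF4 hT hh hhm
  refine ⟨c, hc, hhc, fun s hs v => ?_⟩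
  apply Units.ext
  rw [Units.val_mul, Units.val_mul, hhc, xU_val,
    torMat_mul_x chevF4 s (fun i hi => hT.addOK chevF4 i hi s hs) c hc v, mul_assoc, ← hhc,
    Units.mul_inv, mul_one]
  rfl

theorem chi_eq (c : ℕ → F) (s : ℕ) :
    chi chevF4 c s = c 0 ^ chevF4.cartan 0 s * (c 1 ^ chevF4.cartan 1 s *
      (c 2 ^ chevF4.cartan 2 s * (c 3 ^ chevF4.cartan 3 s * 1))) := by
  unfold chi
  rfl

theorem U_inf_V (g : GL chevF4.Idx F) (h1 : g ∈ chevF4.posUnipotent F)
    (h2 : g ∈ chevF4.negUnipotent F) : g = 1 := by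
  obtain ⟨tbl, hT⟩ := (facts F).hT
  have hbot := (borel_inf_neg (F := F) chevF4 hT (facts F).hTri (facts F).hNeg).1
  rw [← Subgroup.mem_bot, ← hbot]
  exact ⟨Subgroup.mem_sup_left h1, h2⟩

end

section

variable {F : Type*} [Field F] [CharP F 2]

/-- If `h n_w` conjugates `x₃₉(1) x₄₀(a) x₄₄(c) x₄₅(1) x₄₆(b) x₄₇(d)` to an element of the same shape, then
`w` maps the roots `39` and `45` into the set `{39, 40, 44, 45, 46, 47}`. -/
theorem fix_of_conj (h : GL chevF4.Idx F) (hh : h ∈ chevF4.diagonalSubgroup F) (l : List ℕ)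
    (hl : ∀ i ∈ l, i < 4) (a c b d a' c' b' d' : F)
    (heq : (h * nWordGL chevF4 goodF4 l) * A 1 a c 1 b d * (h * nWordGL chevF4 goodF4 l)⁻¹ =
      A 1 a' c' 1 b' d') :
    permW chevF4 l 39 ∈ [39, 40, 44, 45, 46, 47] ∧ permW chevF4 l 45 ∈ [39, 40, 44, 45, 46, 47] := by
  obtain ⟨hB, ⟨tbl, hT⟩, hTri, hNeg, hconj, hS, hNH, hBr⟩ := facts F
  have H : ∀ s : ℕ, ∃ cs : F, s < chevF4.nroots → (cs ≠ 0 ∧ ∀ t : F,
      (h * nWordGL chevF4 goodF4 l) * X s t * (h * nWordGL chevF4 goodF4 l)⁻¹ =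
        X (permW chevF4 l s) (cs * t)) := by
    intro s
    by_cases hs : s < chevF4.nroots
    · obtain ⟨cs, h1, h2⟩ := conj_N_xU chevF4 goodF4 hB hT hconj h hh l hl s hs
      exact ⟨cs, fun _ => ⟨h1, h2⟩⟩
    · exact ⟨0, fun h' => absurd h' hs⟩
  choose cf hcf using H
  have key := transfer chevF4 goodF4 uProdData U_inf_V hB.hpn (h * nWordGL chevF4 goodF4 l)
    (permW chevF4 l) (fun p => (permW chevF4 l p.1, cf p.1 * p.2)) (fun _ => rfl)
    (fun p hp => (hcf p.1 hp).2 p.2) (fun p hp h0 => mul_ne_zero (hcf p.1 hp).1 h0)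
    (fun s hs => permW_lt hB l hl s hs) (LA 1 a c 1 b d) (LA 1 a' c' 1 b' d')
    (LA_nodup _ _ _ _ _ _) (LA_nodup _ _ _ _ _ _)
    (List.Nodup.map_on (fun x hx y hy hxy => by
      have hx' : x < 48 := by
        obtain ⟨p, hp, rfl⟩ := List.mem_map.mp hx
        exact (LA_pos _ _ _ _ _ _ p hp).1
      have hy' : y < 48 := by
        obtain ⟨p, hp, rfl⟩ := List.mem_map.mp hy
        exact (LA_pos _ _ _ _ _ _ p hp).1
      exact permW_inj l hl x y hx' hy' hxy) (LA_nodup _ _ _ _ _ _))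
    (LA_pos _ _ _ _ _ _) (LA_pos _ _ _ _ _ _) (LA_comm _ _ _ _ _ _) (LA_comm _ _ _ _ _ _) heq
  constructor
  · have := key (39, 1) (by simp [LA]) one_ne_zero
    simpa [LA] using this
  · have := key (45, 1) (by simp [LA]) one_ne_zero
    simpa [LA] using this

end

end Cfsg.Agent.Helper36.F4
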