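import Cfsg.Agent.Lib.Helper36.F4A6

/-!
# Type `F₄`, characteristic two: conjugation of the elements of `X₃₉ X₄₀ X₄₄ X₄₅ X₄₆ X₄₇` by the elements
of `U`.
-/

set_option autoImplicit false
set_option maxRecDepth 100000

namespace Cfsg.Agent.Helper36.F4

open Cfsg.Lie Cfsg.Agent.S1043 Cfsg.Agent.Helper17 Cfsg.Agent.Helper18 Cfsg.Agent.Helper36.Sort

/-- The root element `x_r(c)` of `F₄` as a unit. -/
local notation "X" => xU chevF4 goodF4

theorem triv_tab : ∀ r ∈ [28, 29, 30, 31, 32, 35, 36, 37, 38, 39, 40, 41, 42, 43, 44, 45, 46, 47],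
    ∀ s ∈ [39, 40, 44, 45, 46, 47], (r, s) ∉ oddList := by decide +kernel

theorem spec_tab : ∀ p ∈ [(27, 40), (27, 44), (27, 45), (27, 46), (27, 47),
    (34, 40), (34, 44), (34, 45), (34, 46), (34, 47),
    (33, 39), (33, 44), (33, 45), (33, 46), (33, 47),
    (25, 39), (25, 40), (25, 44), (25, 46), (25, 47),
    (26, 39), (26, 40), (26, 44), (26, 46), (26, 47),
    (24, 39), (24, 40), (24, 44), (24, 45), (24, 47)], p ∉ oddList := by decide +kernel

section

variable {F : Type*} [Field F] [CharP F 2]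

theorem XS (r s : ℕ) (h : (r, s) ∈ [(27, 40), (27, 44), (27, 45), (27, 46), (27, 47),
    (34, 40), (34, 44), (34, 45), (34, 46), (34, 47),
    (33, 39), (33, 44), (33, 45), (33, 46), (33, 47),
    (25, 39), (25, 40), (25, 44), (25, 46), (25, 47),
    (26, 39), (26, 40), (26, 44), (26, 46), (26, 47),
    (24, 39), (24, 40), (24, 44), (24, 45), (24, 47)]) (a b : F) : Commute (X r a) (X s b) := by
  have h1 := spec_tab _ h
  have h2 : r < 48 ∧ s < 48 := by
    simp only [List.mem_cons, Prod.mk.injEq, List.not_mem_nil, or_false] at h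
    omega
  exact XC r s h2.1 h2.2 h1 a b

/-- A root element commuting with the six root subgroups centralises their product. -/
theorem conj_A_triv (r : ℕ) (hr : r < 48) (h : ∀ s ∈ [39, 40, 44, 45, 46, 47], (r, s) ∉ oddList)
    (e s a c t b d : F) : X r e * A s a c t b d * (X r e)⁻¹ = A s a c t b d := by
  apply conj_comm
  rw [A_eq]
  exact (XC r 39 hr (by norm_num) (h 39 (by simp)) _ _).mul_right
    ((XC r 40 hr (by norm_num) (h 40 (by simp)) _ _).mul_right
    ((XC r 44 hr (by norm_num) (h 44 (by simp)) _ _).mul_right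
    ((XC r 45 hr (by norm_num) (h 45 (by simp)) _ _).mul_right
    ((XC r 46 hr (by norm_num) (h 46 (by simp)) _ _).mul_right
    (XC r 47 hr (by norm_num) (h 47 (by simp)) _ _)))))

theorem conj_A_27 (e s a c t b d : F) :
    X 27 e * A s a c t b d * (X 27 e)⁻¹ = A s (a + e * s) c t b d := by
  rw [A_eq, A_eq, conj_mul, rel_27_39,
    conj_comm ((XS 27 40 (by simp) _ _).mul_right ((XS 27 44 (by simp) _ _).mul_right
      ((XS 27 45 (by simp) _ _).mul_right ((XS 27 46 (by simp) _ _).mul_right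
      (XS 27 47 (by simp) _ _))))),
    mul_assoc, ← mul_assoc (X 40 _), xU_add', add_comm]

theorem conj_A_34 (e s a c t b d : F) :
    X 34 e * A s a c t b d * (X 34 e)⁻¹ = A s a (c + e * s) t b d := by
  rw [A_eq, A_eq, conj_mul, rel_34_39,
    conj_comm ((XS 34 40 (by simp) _ _).mul_right ((XS 34 44 (by simp) _ _).mul_right
      ((XS 34 45 (by simp) _ _).mul_right ((XS 34 46 (by simp) _ _).mul_right
      (XS 34 47 (by simp) _ _))))),
    mul_assoc, ← mul_assoc (X 44 _), (XC6 44 40 (by simp) (by simp) _ _).eq, mul_assoc,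
    ← mul_assoc (X 44 _), xU_add', add_comm]

theorem conj_A_33 (e s a c t b d : F) :
    X 33 e * A s a c t b d * (X 33 e)⁻¹ = A s a (c + e * a) t b d := by
  rw [A_eq, A_eq, conj_mul, conj_comm (XS 33 39 (by simp) _ _), conj_mul, rel_33_40,
    conj_comm ((XS 33 44 (by simp) _ _).mul_right
      ((XS 33 45 (by simp) _ _).mul_right ((XS 33 46 (by simp) _ _).mul_right
      (XS 33 47 (by simp) _ _)))),
    mul_assoc (X 40 _), ← mul_assoc (X 44 _), xU_add', add_comm]

theorem conj_A_25 (e s a c t b d : F) :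
    X 25 e * A s a c t b d * (X 25 e)⁻¹ = A s a c t (b + e * t) d := by
  rw [A_eq, A_eq, conj_mul, conj_comm (XS 25 39 (by simp) _ _), conj_mul,
    conj_comm (XS 25 40 (by simp) _ _), conj_mul, conj_comm (XS 25 44 (by simp) _ _), conj_mul,
    rel_25_45, conj_comm ((XS 25 46 (by simp) _ _).mul_right (XS 25 47 (by simp) _ _)),
    mul_assoc (X 45 _), ← mul_assoc (X 46 _), xU_add', add_comm]

theorem conj_A_26 (e s a c t b d : F) :
    X 26 e * A s a c t b d * (X 26 e)⁻¹ = A s a c t b (d + e * t) := by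
  rw [A_eq, A_eq, conj_mul, conj_comm (XS 26 39 (by simp) _ _), conj_mul,
    conj_comm (XS 26 40 (by simp) _ _), conj_mul, conj_comm (XS 26 44 (by simp) _ _), conj_mul,
    rel_26_45, conj_comm ((XS 26 46 (by simp) _ _).mul_right (XS 26 47 (by simp) _ _)),
    mul_assoc (X 45 _), ← mul_assoc (X 47 _), (XC6 47 46 (by simp) (by simp) _ _).eq, mul_assoc (X 46 _),
    xU_add', add_comm]

theorem conj_A_24 (e s a c t b d : F) :
    X 24 e * A s a c t b d * (X 24 e)⁻¹ = A s a c t b (d + e * b) := by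
  rw [A_eq, A_eq, conj_mul, conj_comm (XS 24 39 (by simp) _ _), conj_mul,
    conj_comm (XS 24 40 (by simp) _ _), conj_mul, conj_comm (XS 24 44 (by simp) _ _), conj_mul,
    conj_comm (XS 24 45 (by simp) _ _), conj_mul, rel_24_46, conj_comm (XS 24 47 (by simp) _ _),
    mul_assoc (X 46 _), xU_add', add_comm]

/-- Conjugation by a positive root element preserves the set of the elements `A s ⋯ t ⋯`. -/
theorem conj_A_exists (r : ℕ) (hr : chevF4.IsPosRoot r) (e s a c t b d : F) :
    ∃ a' c' b' d' : F, X r e * A s a c t b d * (X r e)⁻¹ = A s a' c' t b' d' := by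
  obtain ⟨h1, h2⟩ := posRangeF4 r hr
  by_cases hsp : r ∈ [27, 34, 25, 26, 33, 24]
  · simp only [List.mem_cons, List.not_mem_nil, or_false] at hsp
    rcases hsp with rfl | rfl | rfl | rfl | rfl | rfl
    · exact ⟨_, _, _, _, conj_A_27 e s a c t b d⟩
    · exact ⟨_, _, _, _, conj_A_34 e s a c t b d⟩
    · exact ⟨_, _, _, _, conj_A_25 e s a c t b d⟩
    · exact ⟨_, _, _, _, conj_A_26 e s a c t b d⟩
    · exact ⟨_, _, _, _, conj_A_33 e s a c t b d⟩
    · exact ⟨_, _, _, _, conj_A_24 e s a c t b d⟩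
  · have hmem : r ∈ [28, 29, 30, 31, 32, 35, 36, 37, 38, 39, 40, 41, 42, 43, 44, 45, 46, 47] := by
      simp only [List.mem_cons, List.not_mem_nil, or_false] at hsp ⊢
      omega
    exact ⟨a, c, b, d, conj_A_triv r h2 (triv_tab r hmem) e s a c t b d⟩

/-- The orbit of `A s ⋯ t ⋯` under `U`. -/
theorem orbit_U (u : GL chevF4.Idx F) (hu : u ∈ chevF4.posUnipotent F) :
    ∀ s a c t b d : F, (∃ a' c' b' d' : F, u * A s a c t b d * u⁻¹ = A s a' c' t b' d') ∧
      (∃ a' c' b' d' : F, u⁻¹ * A s a c t b d * u = A s a' c' t b' d') := by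
  unfold ChevalleyDatum.posUnipotent at hu
  induction hu using Subgroup.closure_induction with
  | mem x hx =>
    obtain ⟨r, e, hr, hx⟩ := hx
    have hxe : x = X r e := Units.ext hx
    subst hxe
    intro s a c t b d
    refine ⟨conj_A_exists r hr e s a c t b d, ?_⟩
    have := conj_A_exists r hr (-e) s a c t b d
    rw [← xU_inv, inv_inv] at this
    exact this
  | one =>
    intro s a c t b d
    exact ⟨⟨a, c, b, d, by group⟩, ⟨a, c, b, d, by group⟩⟩
  | mul x y _ _ hx hy =>
    intro s a c t b d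
    constructor
    · obtain ⟨a1, c1, b1, d1, h1⟩ := (hy s a c t b d).1
      obtain ⟨a2, c2, b2, d2, h2⟩ := (hx s a1 c1 t b1 d1).1
      refine ⟨a2, c2, b2, d2, ?_⟩
      rw [← h2, ← h1]
      group
    · obtain ⟨a1, c1, b1, d1, h1⟩ := (hx s a c t b d).2
      obtain ⟨a2, c2, b2, d2, h2⟩ := (hy s a1 c1 t b1 d1).2
      refine ⟨a2, c2, b2, d2, ?_⟩
      rw [← h2, ← h1]
      group
  | inv x _ hx =>
    intro s a c t b d
    obtain ⟨h1, h2⟩ := hx s a c t b d
    refine ⟨?_, ?_⟩
    · obtain ⟨a', c', b', d', h⟩ := h2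
      exact ⟨a', c', b', d', by rw [inv_inv]; exact h⟩
    · obtain ⟨a', c', b', d', h⟩ := h1
      exact ⟨a', c', b', d', by rw [inv_inv]; exact h⟩

end

end Cfsg.Agent.Helper36.F4
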