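import Cfsg.Agent.Lib.Helper36.F4Tw
import Cfsg.Agent.Lib.Helper36.F4N
import Cfsg.Agent.Lib.Helper18.UCardData

set_option autoImplicit false
set_option linter.unusedSectionVars false
set_option linter.unusedVariables false
set_option maxRecDepth 100000

namespace Cfsg.Agent.Helper36.F4Ord

open Cfsg Cfsg.Lie Cfsg.Agent.Helper18 Cfsg.Agent.Helper15.Ree4 Cfsg.Agent.Helper6
open Cfsg.Agent.Helper6.ChevGraph Cfsg.Agent.Helper6.ChevGraph.F4 Cfsg.Agent.S1043
open Cfsg.Agent.Helper59.F4Suz Cfsg.Agent.Helper59.TwFix Cfsg.Agent.Helper17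
open Cfsg.Agent.Helper36.F4Tw

/-- the two classes of fundamental reflections -/
def J : Bool → List ℕ
  | false => [0, 3]
  | true => [1, 2, 1, 2]

/-- the alternating word with `k` syllables ending in the syllable `s` -/
def alt : Bool → ℕ → List ℕ
  | _, 0 => []
  | s, k + 1 => alt (!s) k ++ J s

/-- the 16 words -/
def wd (k : ℕ) : List ℕ := alt (decide (k % 2 = 0)) ((k + 1) / 2)

/-- the multiplication table -/
def tab (k : ℕ) (t : Bool) : ℕ :=
  if k = 0 then (if t then 2 else 1)
  else if k % 2 = 1 then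
    (if t then (if k = 13 then 15 else if k = 15 then 13 else k + 3) else k - 1)
  else (if t then (if k ≤ 2 then 0 else k - 3) else k + 1)

theorem wd_lt : ∀ k < 16, ∀ i ∈ wd k, i < 4 := by decide +kernel

theorem tab_lt : ∀ k < 16, ∀ t, tab k t < 16 := by decide +kernel

theorem wd_even : ∀ k < 16, (wd k).length = 2 * ((wd k).length / 2) := by decide +kernel

theorem half_lens : (List.range 16).map (fun k => (wd k).length / 2) =
    [0, 1, 2, 3, 3, 4, 5, 6, 6, 7, 8, 9, 9, 10, 11, 12] := by decide +kernel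

theorem redChk : ∀ k < 16, redAux chevF4 permTblF4 [] (wd k) = true := by decide +kernel

/-- the set of positive roots kept positive -/
def sgn (k : ℕ) : List Bool :=
  (List.range 48).map fun r => decide (chevF4.IsPosRoot (pPermW permTblF4 (wd k) r))

theorem sgn_inj : ∀ k < 16, ∀ k' < 16, sgn k = sgn k' → k = k' := by decide +kernel

/-- the word keeps every positive root positive (packed tables) -/
def posChk (L : List ℕ) : Bool :=
  (List.range 48).all fun s =>
    !(decide (chevF4.IsPosRoot s)) || decide (chevF4.IsPosRoot (pPermW permTblF4 L s))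

theorem J_lt : ∀ t, ∀ i ∈ J t, i < 4 := by decide +kernel

theorem tabChk : ∀ k < 16, ∀ t, posChk ((wd k ++ J t) ++ (wd (tab k t)).reverse) = true ∧
    posChk (wd (tab k t) ++ (wd (tab k t)).reverse) = true := by decide +kernel

section

variable {K : Type*} [Field K]

/-- the representative of a word -/
noncomputable def nW (L : List ℕ) : GL chevF4.Idx K := nWordGL chevF4 goodF4 L

theorem nW_append (L L' : List ℕ) : (nW (L ++ L') : GL chevF4.Idx K) = nW L * nW L' :=
  nWordGL_append chevF4 goodF4 L L'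

theorem nW_mem_N (L : List ℕ) (hL : ∀ i ∈ L, i < 4) :
    (nW L : GL chevF4.Idx K) ∈ chevF4.monomialSubgroup K :=
  nWordGL_mem chevF4 goodF4 L (fun i hi => (hypF4 (K := K)).hB.hsimp i (hL i hi))

theorem nW_mem_H_of_chk (L : List ℕ) (hL : ∀ i ∈ L, i < 4) (h : posChk L = true) :
    (nW L : GL chevF4.Idx K) ∈ chevF4.diagonalSubgroup K := by
  have C := hypF4 (K := K)
  apply nWordGL_mem_diag chevF4 goodF4 C.hB C.hT C.hTri C.hNeg C.hconj C.hS C.hNH L.length L le_rfl hL
  intro s hs
  rw [← pPermW_eq_permW chevF4 C.hB permTblF4 permTblF4_ok L hL s hs.1]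
  rw [posChk, List.all_eq_true] at h
  have h1 := h s (List.mem_range.mpr hs.1)
  rw [Bool.or_eq_true, Bool.not_eq_true', decide_eq_false_iff_not, decide_eq_true_eq] at h1
  exact h1.resolve_left (fun hc => hc hs)

theorem cong_of_chk (L1 L2 : List ℕ) (h1L : ∀ i ∈ L1, i < 4) (h2L : ∀ i ∈ L2, i < 4)
    (h1 : posChk (L1 ++ L2.reverse) = true) (h2 : posChk (L2 ++ L2.reverse) = true) :
    ∃ h ∈ chevF4.diagonalSubgroup K, (nW L1 : GL chevF4.Idx K) = h * nW L2 := by
  have hr : ∀ i ∈ L2.reverse, i < 4 := fun i hi => h2L i (List.mem_reverse.mp hi)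
  have m1 := nW_mem_H_of_chk (K := K) (L1 ++ L2.reverse)
    (fun i hi => (List.mem_append.mp hi).elim (h1L i) (hr i)) h1
  have m2 := nW_mem_H_of_chk (K := K) (L2 ++ L2.reverse)
    (fun i hi => (List.mem_append.mp hi).elim (h2L i) (hr i)) h2
  rw [nW_append] at m1 m2
  refine ⟨(nW L1 * nW L2.reverse) * (nW L2 * nW L2.reverse)⁻¹, mul_mem m1 (inv_mem m2), ?_⟩
  group

/-- the multiplication table modulo `H` -/
theorem table (k : ℕ) (hk : k < 16) (t : Bool) :
    ∃ h ∈ chevF4.diagonalSubgroup K, (nW (wd k) * nW (J t) : GL chevF4.Idx K) = h * nW (wd (tab k t)) := by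
  obtain ⟨c1, c2⟩ := tabChk k hk t
  rw [← nW_append]
  exact cong_of_chk _ _ (fun i hi => (List.mem_append.mp hi).elim (wd_lt k hk i) (J_lt t i))
    (wd_lt _ (tab_lt k hk t)) c1 c2

/-- the representatives of distinct words are not congruent modulo `H` -/
theorem coset_inj (k k' : ℕ) (hk : k < 16) (hk' : k' < 16) (h : GL chevF4.Idx K)
    (hh : h ∈ chevF4.diagonalSubgroup K) (e : (nW (wd k') : GL chevF4.Idx K) = h * nW (wd k)) :
    k = k' := by
  have C := hypF4 (K := K)
  apply sgn_inj k hk k' hk'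
  unfold sgn
  apply List.map_congr_left
  intro r hr
  have hr' : r < chevF4.nroots := List.mem_range.mp hr
  have i1 := map_rootSubgroup_le_neg_iff (F := K) chevF4 goodF4 C.hB C.hT C.hTri C.hNeg C.hconj h hh
    (wd k) (wd_lt k hk) r hr'
  have i2 := map_rootSubgroup_le_neg_iff (F := K) chevF4 goodF4 C.hB C.hT C.hTri C.hNeg C.hconj 1
    (one_mem _) (wd k') (wd_lt k' hk') r hr'
  rw [one_mul] at i2
  change (chevF4.rootSubgroup K r).map (MulAut.conj (h * nW (wd k))).toMonoidHom ≤ _ ↔ _ at i1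
  change (chevF4.rootSubgroup K r).map (MulAut.conj (nW (wd k'))).toMonoidHom ≤ _ ↔ _ at i2
  rw [← e] at i1
  rw [pPermW_eq_permW chevF4 C.hB permTblF4 permTblF4_ok (wd k) (wd_lt k hk) r hr',
    pPermW_eq_permW chevF4 C.hB permTblF4 permTblF4_ok (wd k') (wd_lt k' hk') r hr']
  have := i1.symm.trans i2
  by_cases hp : chevF4.IsPosRoot (permW chevF4 (wd k) r)
  · have hp' : chevF4.IsPosRoot (permW chevF4 (wd k') r) := by
      by_contra hc
      exact (this.2 hc) hp
    rw [decide_eq_true hp, decide_eq_true hp']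
  · have hp' : ¬ chevF4.IsPosRoot (permW chevF4 (wd k') r) := this.1 hp
    rw [decide_eq_false hp, decide_eq_false hp']

variable [Fintype K]

theorem card_Uw_wd (k : ℕ) (hk : k < 16) :
    Nat.card ↥(Uw chevF4 (nW (wd k) : GL chevF4.Idx K)) = Fintype.card K ^ (wd k).length := by
  have C := hypF4 (K := K)
  have h := Uw_card_word chevF4 goodF4 C.hB C.hU C.hT C.hTri C.hNeg C.hconj C.hS C.hNH permTblF4
    permTblF4_ok (1 : GL chevF4.Idx K) (one_mem _) (wd k) [] (fun i hi => absurd hi List.not_mem_nil)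
    (redChk k hk)
  rw [List.nil_append, one_mul, nWordGL_nil, one_mul] at h
  rw [← Nat.card_eq_fintype_card]
  have h0 : Nat.card ↥(Uw chevF4 (1 : GL chevF4.Idx K)) = 1 := by
    rw [Cfsg.Agent.Helper59.TwFix.Uw_one goodF4 C]
    exact Subgroup.card_bot
  rw [h0, one_mul] at h
  exact h

end

end Cfsg.Agent.Helper36.F4Ord
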