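import Cfsg.Agent.Lib.Helper36.F4Ord
import Cfsg.Agent.Lib.Helper36.F4Asm

/-!
# `²F₄`: the order, from the recursion data (`Helper59.TwFix.Rec`) over the 16 alternating words
-/

set_option autoImplicit false
set_option linter.unusedSectionVars false
set_option linter.unusedVariables false
set_option maxRecDepth 100000

namespace Cfsg.Agent.Helper36.F4Ord

open Cfsg Cfsg.Lie Cfsg.Agent.Helper18 Cfsg.Agent.Helper15.Ree4 Cfsg.Agent.Helper6
open Cfsg.Agent.Helper6.ChevGraph Cfsg.Agent.Helper6.ChevGraph.F4 Cfsg.Agent.S1043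
open Cfsg.Agent.Helper59.F4Suz Cfsg.Agent.Helper59.TwFix Cfsg.Agent.Helper17
open Cfsg.Agent.Helper36.F4Tw Cfsg.Agent.Helper36.F4Asm

theorem half_vals : (wd 0).length / 2 = 0 ∧ (wd 1).length / 2 = 1 ∧ (wd 2).length / 2 = 2 ∧
    (wd 3).length / 2 = 3 ∧ (wd 4).length / 2 = 3 ∧ (wd 5).length / 2 = 4 ∧ (wd 6).length / 2 = 5 ∧
    (wd 7).length / 2 = 6 ∧ (wd 8).length / 2 = 6 ∧ (wd 9).length / 2 = 7 ∧ (wd 10).length / 2 = 8 ∧
    (wd 11).length / 2 = 9 ∧ (wd 12).length / 2 = 9 ∧ (wd 13).length / 2 = 10 ∧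
    (wd 14).length / 2 = 11 ∧ (wd 15).length / 2 = 12 := by decide +kernel

theorem sum16 (q : ℕ) : ∑ k : Fin 16, q ^ ((wd (k : ℕ)).length / 2) =
    (1 + q) * (1 + q ^ 2) * (1 + q ^ 3) * (1 + q ^ 6) := by
  obtain ⟨h0, h1, h2, h3, h4, h5, h6, h7, h8, h9, h10, h11, h12, h13, h14, h15⟩ := half_vals
  rw [Fin.sum_univ_eq_sum_range (fun k => q ^ ((wd k).length / 2)) 16]
  simp only [Finset.sum_range_succ, Finset.sum_range_zero, h0, h1, h2, h3, h4, h5, h6, h7, h8, h9,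
    h10, h11, h12, h13, h14, h15]
  ring

section

variable {K : Type*} [Field K] [CharP K 2] {e : ℕ} (FD : FieldData K e)

include FD

theorem nJ_mem_twisted (s : Bool) : (nW (J s) : GL chevF4.Idx K) ∈ twistedF4 K e := by
  cases s
  · exact Cfsg.Agent.Helper36.F4N.nJ1_mem_twisted FD
  · exact Cfsg.Agent.Helper36.F4N.nJ2_mem_twisted FD

theorem alt_mem_twisted : ∀ (k : ℕ) (s : Bool), (nW (alt s k) : GL chevF4.Idx K) ∈ twistedF4 K e
  | 0, s => by
    have : (nW (alt s 0) : GL chevF4.Idx K) = 1 := rfl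
    rw [this]
    exact one_mem _
  | k + 1, s => by
    have : alt s (k + 1) = alt (!s) k ++ J s := rfl
    rw [this, nW_append]
    exact mul_mem (alt_mem_twisted k (!s)) (nJ_mem_twisted FD s)

theorem wd_mem_twisted (k : ℕ) : (nW (wd k) : GL chevF4.Idx K) ∈ twistedF4 K e :=
  alt_mem_twisted FD _ _

end

section

variable {K : Type*} [Field K] [Fintype K] [CharP K 2] {e : ℕ} (FD : FieldData K e)
  (α : ↥(chevF4.group K) ≃* ↥(chevF4.group K))
  (hα : ∀ (r : Fin chevF4.nroots) (t : K),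
      α (xG goodF4 r.val t) = xG goodF4 (sig r.val) (if isShort r.val then t ^ 2 else t))
  {ι : Type*} (R : Rec (twF4 FD α hα) ι)
  (hd : ∀ j, Nat.card ↥(R.FixX j) ^ 2 = Nat.card ↥(R.XJ j))
  (t : ι → Bool)
  (hnJ : ∀ j, ((R.nJ j : ↥(chevF4.group K)) : GL chevF4.Idx K) = nW (J (t j)))

include R hnJ

/-- every element of `N¹` is congruent modulo `H` to one of the 16 representatives -/
theorem exhaust : ∀ n : ↥(chevF4.group K), n ∈ (ambΓ (K := K)).N → n ∈ (twF4 FD α hα).G1 →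
    ∃ k < 16, ∃ h ∈ chevF4.diagonalSubgroup K, (n : GL chevF4.Idx K) = h * nW (wd k) := by
  have hfin : Finite ↥(chevF4.group K) := inferInstance
  have key : ∀ c : ℕ, ∀ n : ↥(chevF4.group K), n ∈ (ambΓ (K := K)).N → n ∈ (twF4 FD α hα).G1 →
      Nat.card ↥((ambΓ (K := K)).Uw n) = c →
      ∃ k < 16, ∃ h ∈ chevF4.diagonalSubgroup K, (n : GL chevF4.Idx K) = h * nW (wd k) := by
    intro c
    induction c using Nat.strong_induction_on with
    | _ c ih =>
      intro n hn hnG hc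
      by_cases hnH : n ∈ (ambΓ (K := K)).H
      · refine ⟨0, by norm_num, (n : GL chevF4.Idx K), hnH, ?_⟩
        have : (nW (wd 0) : GL chevF4.Idx K) = 1 := rfl
        rw [this, mul_one]
      · have hτ : n⁻¹ * (twF4 FD α hα).τ n ∈ (ambΓ (K := K)).H := by
          rw [(twF4 FD α hα).fix n hnG, inv_mul_cancel]
          exact Subgroup.one_mem _
        obtain ⟨j, n', hn', rfl, hτ', hpos⟩ := R.exists_desc hn hnH hτ
        have hn'G : n' ∈ (twF4 FD α hα).G1 := by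
          have : n' = n' * R.nJ j * (R.nJ j)⁻¹ := by group
          rw [this]
          exact Subgroup.mul_mem _ hnG (Subgroup.inv_mem _ (R.nJ_G1 j))
        have hcs := R.card_step hn' j hpos
        have hlt : Nat.card ↥((ambΓ (K := K)).Uw n') < c := by
          rw [← hc, hcs]
          have h2 := R.card_XJ_ge j
          have h1 : 0 < Nat.card ↥((ambΓ (K := K)).Uw n') := Nat.card_pos
          nlinarith
        obtain ⟨k, hk, h, hh, e1⟩ := ih _ hlt n' hn' hn'G rfl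
        obtain ⟨h', hh', e2⟩ := table (K := K) k hk (t j)
        refine ⟨tab k (t j), tab_lt k hk _, h * h', mul_mem hh hh', ?_⟩
        rw [Subgroup.coe_mul, e1, hnJ j, mul_assoc, e2, mul_assoc]
  intro n hn hnG
  exact key _ n hn hnG rfl

include hd

/-- the number of fixed points of `U_w⁻` for the 16 representatives -/
theorem card_FixUw_wd (k : ℕ) (hk : k < 16) (nk : ↥(chevF4.group K))
    (hnk : (nk : GL chevF4.Idx K) = nW (wd k)) :
    Nat.card ↥((twF4 FD α hα).FixUw nk) = Fintype.card K ^ ((wd k).length / 2) := by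
  have hfin : Finite ↥(chevF4.group K) := inferInstance
  have hN : nk ∈ (ambΓ (K := K)).N := by
    show (nk : GL chevF4.Idx K) ∈ chevF4.monomialSubgroup K
    rw [hnk]
    exact nW_mem_N _ (wd_lt k hk)
  have hG : nk ∈ (twF4 FD α hα).G1 := by
    show (nk : GL chevF4.Idx K) ∈ twistedF4 K e
    rw [hnk]
    exact wd_mem_twisted FD k
  have h := (R.fixUw_and_card 2 hd nk hN hG).2
  have e1 : Nat.card ↥((ambΓ (K := K)).Uw nk) = Fintype.card K ^ (wd k).length := by
    rw [← card_Uw_wd (K := K) k hk, ← hnk]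
    apply Nat.card_congr
    exact
      { toFun := fun x => ⟨((x : ↥(chevF4.group K)) : GL chevF4.Idx K), x.2⟩
        invFun := fun y => ⟨⟨(y : GL chevF4.Idx K), U_le_group (Uw_le_pos chevF4 _ y.2)⟩, y.2⟩
        left_inv := fun x => rfl
        right_inv := fun y => rfl }
  rw [e1, wd_even k hk, pow_mul'] at h
  have h' : Nat.card ↥((twF4 FD α hα).FixUw nk) ^ 2 =
      (Fintype.card K ^ ((2 * ((wd k).length / 2)) / 2)) ^ 2 := by
    rw [h]
    congr 2
    omega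
  have := Nat.pow_left_injective (n := 2) (by norm_num) h'
  rw [this]
  congr 1
  omega

set_option maxHeartbeats 1600000 in
/-- the order of `²F₄` in terms of `B¹` -/
theorem card_twistedF4 :
    Nat.card ↥(twistedF4 K e) = Nat.card ↥(chevF4.borelSubgroup K ⊓ twistedF4 K e) *
      ((1 + Fintype.card K) * (1 + Fintype.card K ^ 2) * (1 + Fintype.card K ^ 3) *
        (1 + Fintype.card K ^ 6)) := by
  classical
  have hfin : Finite ↥(chevF4.group K) := inferInstance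
  have hG1le : twistedF4 K e ≤ chevF4.group K := fun g hg => (twisted_fixed FD α hα g hg).1
  have lift' := R.lift
  have fixUw' : ∀ n ∈ (ambΓ (K := K)).N, n ∈ (twF4 FD α hα).G1 → ∀ u ∈ (ambΓ (K := K)).Uw n,
      (twF4 FD α hα).τ u = u → u ∈ (twF4 FD α hα).G1 :=
    fun n hn hnG => (R.fixUw_and_card 2 hd n hn hnG).1
  have ex : ∀ n : ↥((ambΓ (K := K)).N ⊓ (twF4 FD α hα).G1), ∃ k : Fin 16,
      ∃ h ∈ chevF4.diagonalSubgroup K,
        (((n : ↥(chevF4.group K)) : GL chevF4.Idx K)) = h * nW (wd (k : ℕ)) := by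
    intro n
    obtain ⟨k, hk, h, hh, e⟩ := exhaust FD α hα R t hnJ n n.2.1 n.2.2
    exact ⟨⟨k, hk⟩, h, hh, e⟩
  choose ψ hψ1 using ex
  -- the representatives as elements of `N ⊓ G1`
  have hrepN : ∀ k : Fin 16, (nW (wd (k : ℕ)) : GL chevF4.Idx K) ∈ chevF4.monomialSubgroup K :=
    fun k => nW_mem_N _ (wd_lt k k.2)
  let rep : Fin 16 → ↥((ambΓ (K := K)).N ⊓ (twF4 FD α hα).G1) := fun k =>
    ⟨⟨nW (wd (k : ℕ)), N_le_group (hrepN k)⟩, hrepN k, wd_mem_twisted FD k⟩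
  have hψs : Function.Surjective ψ := by
    intro k
    refine ⟨rep k, ?_⟩
    obtain ⟨h, hh, e⟩ := hψ1 (rep k)
    have e' : (nW (wd (k : ℕ)) : GL chevF4.Idx K) = h * nW (wd ((ψ (rep k) : Fin 16) : ℕ)) := e
    exact Fin.ext (coset_inj _ _ (ψ (rep k)).2 k.2 h hh e')
  have hψ : ∀ n n' : ↥((ambΓ (K := K)).N ⊓ (twF4 FD α hα).G1), ψ n = ψ n' ↔
      ((n : ↥(chevF4.group K)))⁻¹ * (n' : ↥(chevF4.group K)) ∈ (ambΓ (K := K)).H := by
    intro n n'
    obtain ⟨h, hh, e1⟩ := hψ1 n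
    obtain ⟨h', hh', e2⟩ := hψ1 n'
    change _ ↔ (((n : ↥(chevF4.group K)) : GL chevF4.Idx K))⁻¹ *
      ((n' : ↥(chevF4.group K)) : GL chevF4.Idx K) ∈ chevF4.diagonalSubgroup K
    constructor
    · intro heq
      rw [e1, e2, heq]
      have hw := hrepN (ψ n')
      have e3 : (h * nW (wd ((ψ n' : Fin 16) : ℕ)))⁻¹ * (h' * nW (wd ((ψ n' : Fin 16) : ℕ))) =
          (nW (wd ((ψ n' : Fin 16) : ℕ)) : GL chevF4.Idx K)⁻¹ * (h⁻¹ * h') *
            nW (wd ((ψ n' : Fin 16) : ℕ)) := by group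
      rw [e3]
      exact (ambGL (K := K)).H_normal' hw (mul_mem (inv_mem hh) hh')
    · intro hm
      set m := (((n : ↥(chevF4.group K)) : GL chevF4.Idx K))⁻¹ *
        ((n' : ↥(chevF4.group K)) : GL chevF4.Idx K) with hmdef
      have hw := hrepN (ψ n)
      have hc : (nW (wd ((ψ n : Fin 16) : ℕ)) : GL chevF4.Idx K) * m *
          (nW (wd ((ψ n : Fin 16) : ℕ)))⁻¹ ∈ chevF4.diagonalSubgroup K :=
        (ambGL (K := K)).H_normal _ hw _ hm
      have e3 : (nW (wd ((ψ n' : Fin 16) : ℕ)) : GL chevF4.Idx K) =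
          (h'⁻¹ * h * (nW (wd ((ψ n : Fin 16) : ℕ)) * m * (nW (wd ((ψ n : Fin 16) : ℕ)))⁻¹)) *
            nW (wd ((ψ n : Fin 16) : ℕ)) := by
        have e4 : ((n' : ↥(chevF4.group K)) : GL chevF4.Idx K) =
            ((n : ↥(chevF4.group K)) : GL chevF4.Idx K) * m := by
          rw [hmdef]; group
        have e5 : (nW (wd ((ψ n' : Fin 16) : ℕ)) : GL chevF4.Idx K) =
            h'⁻¹ * ((n' : ↥(chevF4.group K)) : GL chevF4.Idx K) := by
          rw [e2]; group
        rw [e5, e4, e1]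
        group
      exact Fin.ext (coset_inj _ _ (ψ n).2 (ψ n').2 _
        (mul_mem (mul_mem (inv_mem hh') hh) hc) e3)
  let F : Fin 16 → ℕ := fun k => Fintype.card K ^ ((wd (k : ℕ)).length / 2)
  have hF : ∀ n : ↥((ambΓ (K := K)).N ⊓ (twF4 FD α hα).G1),
      Nat.card ↥((twF4 FD α hα).FixUw (n : ↥(chevF4.group K))) = F (ψ n) := by
    intro n
    obtain ⟨h, hh, e1⟩ := hψ1 n
    have hrep := card_FixUw_wd FD α hα R hd t hnJ _ (ψ n).2 (rep (ψ n) : ↥(chevF4.group K)) rfl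
    show _ = Fintype.card K ^ ((wd ((ψ n : Fin 16) : ℕ)).length / 2)
    rw [← hrep]
    have e2 : (n : ↥(chevF4.group K)) =
        (⟨h, H_le_group hh⟩ : ↥(chevF4.group K)) * (rep (ψ n) : ↥(chevF4.group K)) :=
      Subtype.ext e1
    have e3 : (ambΓ (K := K)).Uw (n : ↥(chevF4.group K)) =
        (ambΓ (K := K)).Uw (rep (ψ n) : ↥(chevF4.group K)) := by
      rw [e2]
      exact (ambΓ (K := K)).Uw_H _ _ hh
    have e4 : (twF4 FD α hα).FixUw (n : ↥(chevF4.group K)) =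
        (twF4 FD α hα).FixUw (rep (ψ n) : ↥(chevF4.group K)) := by
      ext u
      rw [Twist.mem_FixUw, Twist.mem_FixUw, e3]
    rw [e4]
  have hG := (twF4 FD α hα).card_G1 lift' fixUw' ψ hψs hψ F hF
  have c1 : Nat.card ↥(twF4 FD α hα).G1 = Nat.card ↥(twistedF4 K e) :=
    Nat.card_congr (Subgroup.subgroupOfEquivOfLe hG1le).toEquiv
  have c2 : Nat.card ↥((ambΓ (K := K)).B ⊓ (twF4 FD α hα).G1) =
      Nat.card ↥(chevF4.borelSubgroup K ⊓ twistedF4 K e) :=
    card_inf_subgroupOf _ _ _ (le_trans inf_le_right hG1le)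
  rw [c1, c2] at hG
  rw [hG]
  congr 1
  exact sum16 (Fintype.card K)

end

end Cfsg.Agent.Helper36.F4Ord
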