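import Cfsg.Agent.Lib.Helper36.F4Base
import Cfsg.Agent.Lib.Helper36.ChevSort

/-!
# Type `F₄`, characteristic two: commuting root subgroups and some explicit conjugation relations.
-/

set_option autoImplicit false
set_option maxRecDepth 100000

namespace Cfsg.Agent.Helper36.F4

open Cfsg.Lie Cfsg.Agent.S1043 Cfsg.Agent.Helper17 Cfsg.Agent.Helper18 Cfsg.Agent.Helper36.Sort

/-- The root element `x_r(c)` of `F₄` as a unit. -/
local notation "X" => xU chevF4 goodF4

/-- The pairs of distinct roots whose root subgroups do not commute in characteristic two. -/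
def oddList : List (ℕ × ℕ) :=
  [(0, 24), (0, 26), (0, 29), (0, 31), (0, 32), (0, 36), (0, 38), (0, 39), (0, 40), (0, 42), (0,
   43), (0, 44), (0, 45), (0, 46), (0, 47), (1, 23), (1, 25), (1, 28), (1, 30), (1, 32), (1, 35),
   (1, 37), (1, 39), (1, 40), (1, 41), (1, 43), (1, 44), (1, 45), (1, 46), (1, 47), (2, 21), (2,
   22), (2, 27), (2, 30), (2, 31), (2, 34), (2, 37), (2, 38), (2, 40), (2, 41), (2, 42), (2, 44),
   (2, 45), (2, 46), (2, 47), (3, 33), (3, 34), (3, 35), (3, 36), (3, 37), (3, 38), (3, 39), (3,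
   40), (3, 41), (3, 42), (3, 43), (3, 44), (3, 45), (3, 46), (3, 47), (4, 16), (4, 17), (4, 20),
   (4, 25), (4, 26), (4, 33), (4, 35), (4, 36), (4, 39), (4, 41), (4, 42), (4, 43), (4, 44), (4,
   46), (4, 47), (5, 15), (5, 17), (5, 19), (5, 22), (5, 24), (5, 33), (5, 34), (5, 36), (5, 38),
   (5, 41), (5, 42), (5, 43), (5, 44), (5, 45), (5, 47), (6, 15), (6, 16), (6, 18), (6, 21), (6,
   23), (6, 33), (6, 34), (6, 35), (6, 37), (6, 41), (6, 42), (6, 43), (6, 44), (6, 45), (6, 46),
   (7, 14), (7, 27), (7, 28), (7, 29), (7, 30), (7, 31), (7, 32), (7, 37), (7, 38), (7, 39), (7,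
   40), (7, 44), (7, 45), (7, 46), (7, 47), (8, 13), (8, 20), (8, 25), (8, 26), (8, 28), (8, 29),
   (8, 32), (8, 35), (8, 36), (8, 39), (8, 40), (8, 43), (8, 44), (8, 46), (8, 47), (9, 12), (9,
   19), (9, 22), (9, 24), (9, 27), (9, 29), (9, 31), (9, 34), (9, 36), (9, 38), (9, 40), (9, 42),
   (9, 44), (9, 45), (9, 47), (10, 11), (10, 18), (10, 21), (10, 23), (10, 27), (10, 28), (10, 30),
   (10, 34), (10, 35), (10, 37), (10, 40), (10, 41), (10, 44), (10, 45), (10, 46), (11, 10), (11,
   17), (11, 19), (11, 20), (11, 24), (11, 26), (11, 29), (11, 33), (11, 36), (11, 38), (11, 39),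
   (11, 42), (11, 43), (11, 44), (11, 47), (12, 9), (12, 16), (12, 18), (12, 20), (12, 23), (12,
   25), (12, 28), (12, 33), (12, 35), (12, 37), (12, 39), (12, 41), (12, 43), (12, 44), (12, 46),
   (13, 8), (13, 15), (13, 18), (13, 19), (13, 21), (13, 22), (13, 27), (13, 33), (13, 34), (13,
   37), (13, 38), (13, 41), (13, 42), (13, 44), (13, 45), (14, 7), (14, 15), (14, 16), (14, 17),
   (14, 18), (14, 19), (14, 20), (14, 33), (14, 34), (14, 35), (14, 36), (14, 41), (14, 42), (14,
   43), (14, 44), (15, 5), (15, 6), (15, 13), (15, 14), (15, 25), (15, 26), (15, 28), (15, 29), (15,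
   30), (15, 31), (15, 32), (15, 39), (15, 40), (15, 46), (15, 47), (16, 4), (16, 6), (16, 12), (16,
   14), (16, 22), (16, 24), (16, 27), (16, 29), (16, 30), (16, 31), (16, 32), (16, 38), (16, 40),
   (16, 45), (16, 47), (17, 4), (17, 5), (17, 11), (17, 14), (17, 21), (17, 23), (17, 27), (17, 28),
   (17, 30), (17, 31), (17, 32), (17, 37), (17, 40), (17, 45), (17, 46), (18, 6), (18, 10), (18,
   12), (18, 13), (18, 14), (18, 24), (18, 26), (18, 29), (18, 31), (18, 32), (18, 36), (18, 38),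
   (18, 39), (18, 40), (18, 47), (19, 5), (19, 9), (19, 11), (19, 13), (19, 14), (19, 23), (19, 25),
   (19, 28), (19, 30), (19, 32), (19, 35), (19, 37), (19, 39), (19, 40), (19, 46), (20, 4), (20, 8),
   (20, 11), (20, 12), (20, 14), (20, 21), (20, 22), (20, 27), (20, 30), (20, 31), (20, 34), (20,
   37), (20, 38), (20, 40), (20, 45), (21, 2), (21, 6), (21, 10), (21, 13), (21, 17), (21, 20), (21,
   24), (21, 25), (21, 26), (21, 29), (21, 32), (21, 36), (21, 39), (21, 43), (21, 47), (22, 2),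
   (22, 5), (22, 9), (22, 13), (22, 16), (22, 20), (22, 23), (22, 25), (22, 26), (22, 28), (22, 32),
   (22, 35), (22, 39), (22, 43), (22, 46), (23, 1), (23, 6), (23, 10), (23, 12), (23, 17), (23, 19),
   (23, 22), (23, 24), (23, 26), (23, 29), (23, 31), (23, 36), (23, 38), (23, 42), (23, 47), (24,
   0), (24, 5), (24, 9), (24, 11), (24, 16), (24, 18), (24, 21), (24, 23), (24, 25), (24, 28), (24,
   30), (24, 35), (24, 37), (24, 41), (24, 46), (25, 1), (25, 4), (25, 8), (25, 12), (25, 15), (25,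
   19), (25, 21), (25, 22), (25, 24), (25, 27), (25, 31), (25, 34), (25, 38), (25, 42), (25, 45),
   (26, 0), (26, 4), (26, 8), (26, 11), (26, 15), (26, 18), (26, 21), (26, 22), (26, 23), (26, 27),
   (26, 30), (26, 34), (26, 37), (26, 41), (26, 45), (27, 2), (27, 7), (27, 9), (27, 10), (27, 13),
   (27, 16), (27, 17), (27, 20), (27, 25), (27, 26), (27, 33), (27, 35), (27, 36), (27, 39), (27,
   43), (28, 1), (28, 7), (28, 8), (28, 10), (28, 12), (28, 15), (28, 17), (28, 19), (28, 22), (28,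
   24), (28, 33), (28, 34), (28, 36), (28, 38), (28, 42), (29, 0), (29, 7), (29, 8), (29, 9), (29,
   11), (29, 15), (29, 16), (29, 18), (29, 21), (29, 23), (29, 33), (29, 34), (29, 35), (29, 37),
   (29, 41), (30, 1), (30, 2), (30, 7), (30, 10), (30, 15), (30, 16), (30, 17), (30, 19), (30, 20),
   (30, 24), (30, 26), (30, 33), (30, 36), (30, 42), (30, 43), (31, 0), (31, 2), (31, 7), (31, 9),
   (31, 15), (31, 16), (31, 17), (31, 18), (31, 20), (31, 23), (31, 25), (31, 33), (31, 35), (31,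
   41), (31, 43), (32, 0), (32, 1), (32, 7), (32, 8), (32, 15), (32, 16), (32, 17), (32, 18), (32,
   19), (32, 21), (32, 22), (32, 33), (32, 34), (32, 41), (32, 42), (33, 3), (33, 4), (33, 5), (33,
   6), (33, 11), (33, 12), (33, 13), (33, 14), (33, 27), (33, 28), (33, 29), (33, 30), (33, 31),
   (33, 32), (33, 40), (34, 2), (34, 3), (34, 5), (34, 6), (34, 9), (34, 10), (34, 13), (34, 14),
   (34, 20), (34, 25), (34, 26), (34, 28), (34, 29), (34, 32), (34, 39), (35, 1), (35, 3), (35, 4),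
   (35, 6), (35, 8), (35, 10), (35, 12), (35, 14), (35, 19), (35, 22), (35, 24), (35, 27), (35, 29),
   (35, 31), (35, 38), (36, 0), (36, 3), (36, 4), (36, 5), (36, 8), (36, 9), (36, 11), (36, 14),
   (36, 18), (36, 21), (36, 23), (36, 27), (36, 28), (36, 30), (36, 37), (37, 1), (37, 2), (37, 3),
   (37, 6), (37, 7), (37, 10), (37, 12), (37, 13), (37, 17), (37, 19), (37, 20), (37, 24), (37, 26),
   (37, 29), (37, 36), (38, 0), (38, 2), (38, 3), (38, 5), (38, 7), (38, 9), (38, 11), (38, 13),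
   (38, 16), (38, 18), (38, 20), (38, 23), (38, 25), (38, 28), (38, 35), (39, 0), (39, 1), (39, 3),
   (39, 4), (39, 7), (39, 8), (39, 11), (39, 12), (39, 15), (39, 18), (39, 19), (39, 21), (39, 22),
   (39, 27), (39, 34), (40, 0), (40, 1), (40, 2), (40, 3), (40, 7), (40, 8), (40, 9), (40, 10), (40,
   15), (40, 16), (40, 17), (40, 18), (40, 19), (40, 20), (40, 33), (41, 1), (41, 2), (41, 3), (41,
   4), (41, 5), (41, 6), (41, 10), (41, 12), (41, 13), (41, 14), (41, 24), (41, 26), (41, 29), (41,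
   31), (41, 32), (42, 0), (42, 2), (42, 3), (42, 4), (42, 5), (42, 6), (42, 9), (42, 11), (42, 13),
   (42, 14), (42, 23), (42, 25), (42, 28), (42, 30), (42, 32), (43, 0), (43, 1), (43, 3), (43, 4),
   (43, 5), (43, 6), (43, 8), (43, 11), (43, 12), (43, 14), (43, 21), (43, 22), (43, 27), (43, 30),
   (43, 31), (44, 0), (44, 1), (44, 2), (44, 3), (44, 4), (44, 5), (44, 6), (44, 7), (44, 8), (44,
   9), (44, 10), (44, 11), (44, 12), (44, 13), (44, 14), (45, 0), (45, 1), (45, 2), (45, 3), (45,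
   5), (45, 6), (45, 7), (45, 9), (45, 10), (45, 13), (45, 16), (45, 17), (45, 20), (45, 25), (45,
   26), (46, 0), (46, 1), (46, 2), (46, 3), (46, 4), (46, 6), (46, 7), (46, 8), (46, 10), (46, 12),
   (46, 15), (46, 17), (46, 19), (46, 22), (46, 24), (47, 0), (47, 1), (47, 2), (47, 3), (47, 4),
   (47, 5), (47, 7), (47, 8), (47, 9), (47, 11), (47, 15), (47, 16), (47, 18), (47, 21), (47, 23)]

theorem evenP_all : ∀ r < 48, ∀ s < 48, (r, s) ∉ oddList → evenP chevF4 r s = true := by
  decide +kernel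

theorem commTerms_27_39 : chevF4.commTerms 27 39 = [(40, 1, 1, 1)] := by decide +kernel
theorem commTerms_34_39 : chevF4.commTerms 34 39 = [(44, 1, 1, 1)] := by decide +kernel
theorem commTerms_25_45 : chevF4.commTerms 25 45 = [(46, 1, 1, 1)] := by decide +kernel
theorem commTerms_26_45 : chevF4.commTerms 26 45 = [(47, 1, 1, 1)] := by decide +kernel
theorem commTerms_33_40 : chevF4.commTerms 33 40 = [(44, 1, 1, 1)] := by decide +kernel
theorem commTerms_24_46 : chevF4.commTerms 24 46 = [(47, 1, 1, 1)] := by decide +kernel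

theorem neg_tab : ∀ r < 48, chevF4.neg r = 47 - r := by decide +kernel

section

variable {F : Type*} [Field F]

theorem X_zero (r : ℕ) : X r (0 : F) = 1 := xU_zero chevF4 goodF4 r

/-- From the commutator formula to a conjugation formula. -/
theorem conj_of_commOK (k s : ℕ) (hk : k < 48) (hs : s < 48) (h1 : s ≠ k) (h2 : s ≠ chevF4.neg k)
    (t u : F) :
    (X k t)⁻¹ * X s u * X k t = X s u * wordGL chevF4 goodF4 (chevF4.commWord F k s t u) := by
  have H := commOK (F := F) k hk s hs h1 h2 t u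
  have hGL : X s u * X k t = X k t * X s u * wordGL chevF4 goodF4 (chevF4.commWord F k s t u) := by
    apply Units.ext
    rw [Units.val_mul, Units.val_mul, Units.val_mul, xU_val, xU_val, wordGL_val]
    exact H
  rw [mul_assoc, hGL]
  group

end

section

variable {F : Type*} [Field F] [CharP F 2]

theorem neg_eq_self (a : F) : -a = a := by
  have h2 : (2 : F) = 0 := CharTwo.two_eq_zero
  linear_combination (-a) * h2

theorem X_inv_self (r : ℕ) (c : F) : (X r c)⁻¹ = X r c := by
  rw [xU_inv, neg_eq_self]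

theorem X_sq (r : ℕ) (c : F) : X r c * X r c = 1 := by
  rw [xU_add']
  have : c + c = 0 := by
    have h2 : (2 : F) = 0 := CharTwo.two_eq_zero
    linear_combination c * h2
  rw [this, X_zero]

theorem X_comm (r s : ℕ) (hr : r < 48) (hs : s < 48) (h : (r, s) ∉ oddList) (a b : F) :
    X r a * X s b = X s b * X r a := by
  have he := evenP_all r hr s hs h
  have hc : Comm2 F chevF4 r s :=
    comm2_of_evenP chevF4 goodF4 r s (fun h1 h2 => commOK r hr s hs h1 h2) he
  exact (comm2_iff chevF4 goodF4 r s).mp hc a b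

theorem XC (r s : ℕ) (hr : r < 48) (hs : s < 48) (h : (r, s) ∉ oddList) (a b : F) :
    Commute (X r a) (X s b) := X_comm r s hr hs h a b

/-- A commutator relation with a single term of coefficient one, as a conjugation formula. -/
theorem rel_of_terms (k s ρ : ℕ) (hk : k < 48) (hs : s < 48) (h1 : s ≠ k) (h2 : s ≠ chevF4.neg k)
    (hct : chevF4.commTerms k s = [(ρ, 1, 1, 1)]) (t u : F) :
    X k t * X s u * (X k t)⁻¹ = X s u * X ρ (t * u) := by
  have h := conj_of_commOK k s hk hs h1 h2 t u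
  rw [ChevalleyDatum.commWord, hct] at h
  simp only [List.map_cons, List.map_nil] at h
  rw [wordGL_cons, wordGL_nil, mul_one] at h
  rw [X_inv_self] at h ⊢
  rw [h]
  congr 2
  push_cast
  rw [neg_eq_self]
  ring

theorem rel_27_39 (t u : F) : X 27 t * X 39 u * (X 27 t)⁻¹ = X 39 u * X 40 (t * u) :=
  rel_of_terms 27 39 40 (by omega) (by omega) (by omega) (by rw [neg_tab 27 (by omega)]; omega)
    commTerms_27_39 t u

theorem rel_34_39 (t u : F) : X 34 t * X 39 u * (X 34 t)⁻¹ = X 39 u * X 44 (t * u) :=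
  rel_of_terms 34 39 44 (by omega) (by omega) (by omega) (by rw [neg_tab 34 (by omega)]; omega)
    commTerms_34_39 t u

theorem rel_25_45 (t u : F) : X 25 t * X 45 u * (X 25 t)⁻¹ = X 45 u * X 46 (t * u) :=
  rel_of_terms 25 45 46 (by omega) (by omega) (by omega) (by rw [neg_tab 25 (by omega)]; omega)
    commTerms_25_45 t u

theorem rel_26_45 (t u : F) : X 26 t * X 45 u * (X 26 t)⁻¹ = X 45 u * X 47 (t * u) :=
  rel_of_terms 26 45 47 (by omega) (by omega) (by omega) (by rw [neg_tab 26 (by omega)]; omega)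
    commTerms_26_45 t u

theorem rel_33_40 (t u : F) : X 33 t * X 40 u * (X 33 t)⁻¹ = X 40 u * X 44 (t * u) :=
  rel_of_terms 33 40 44 (by omega) (by omega) (by omega) (by rw [neg_tab 33 (by omega)]; omega)
    commTerms_33_40 t u

theorem rel_24_46 (t u : F) : X 24 t * X 46 u * (X 24 t)⁻¹ = X 46 u * X 47 (t * u) :=
  rel_of_terms 24 46 47 (by omega) (by omega) (by omega) (by rw [neg_tab 24 (by omega)]; omega)
    commTerms_24_46 t u

end

end Cfsg.Agent.Helper36.F4
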