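import Cfsg.Agent.Lib.Helper59.F4SuzCard

/-!
# `²F₄`: a torus element of `H¹` centralising the Suzuki class subgroup `X_a X_b X_{a+b}` and scaling
`x₃₅ x₃₁ x₄₀`  (piece (TZ) of helper6's plan for the 2-generation of `²F₄`)
-/

set_option autoImplicit false
set_option linter.unusedSectionVars false
set_option linter.unusedVariables false
set_option linter.unusedSimpArgs false
set_option maxRecDepth 100000

namespace Cfsg.Agent.Helper36.F4ZS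

open Cfsg Cfsg.Lie Cfsg.Agent.Helper18 Cfsg.Agent.Helper15.Ree4 Cfsg.Agent.Helper6
open Cfsg.Agent.Helper6.ChevGraph Cfsg.Agent.Helper6.ChevGraph.F4 Cfsg.Agent.S1043
open Cfsg.Agent.Helper59.F4Suz

section

variable {K : Type*} [Field K]

theorem cartan_rows :
    (chevF4.cartan 0 27 = -1 ∧ chevF4.cartan 1 27 = 2 ∧ chevF4.cartan 2 27 = -1 ∧ chevF4.cartan 3 27 = 0) ∧
    (chevF4.cartan 0 25 = 0 ∧ chevF4.cartan 1 25 = -2 ∧ chevF4.cartan 2 25 = 2 ∧ chevF4.cartan 3 25 = -1) ∧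
    (chevF4.cartan 0 28 = -1 ∧ chevF4.cartan 1 28 = 0 ∧ chevF4.cartan 2 28 = 1 ∧ chevF4.cartan 3 28 = -1) ∧
    (chevF4.cartan 0 35 = 1 ∧ chevF4.cartan 1 35 = -1 ∧ chevF4.cartan 2 35 = 1 ∧ chevF4.cartan 3 35 = -1) ∧
    (chevF4.cartan 0 31 = -2 ∧ chevF4.cartan 1 31 = 2 ∧ chevF4.cartan 2 31 = -1 ∧ chevF4.cartan 3 31 = 1) ∧
    (chevF4.cartan 0 40 = -1 ∧ chevF4.cartan 1 40 = 1 ∧ chevF4.cartan 2 40 = 0 ∧ chevF4.cartan 3 40 = 0) := by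
  decide

/-- the character of a root on a torus element, from its Cartan row -/
theorem chi_row (c : ℕ → K) (r : ℕ) (a0 a1 a2 a3 : ℤ) (h0 : chevF4.cartan 0 r = a0)
    (h1 : chevF4.cartan 1 r = a1) (h2 : chevF4.cartan 2 r = a2) (h3 : chevF4.cartan 3 r = a3) :
    Cfsg.Agent.Helper18.chi chevF4 c r = c 0 ^ a0 * (c 1 ^ a1 * (c 2 ^ a2 * c 3 ^ a3)) := by
  have h4 : chevF4.rank = 4 := rfl
  simp only [Cfsg.Agent.Helper18.chi, h4, List.range_succ, List.range_zero, List.nil_append,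
    List.cons_append, List.map_cons, List.map_nil, List.prod_cons, List.prod_nil, h0, h1, h2, h3, mul_one]

/-- the torus element `h(ζ)` -/
noncomputable def zS (e : ℕ) (ζ : Kˣ) : GL chevF4.Idx K :=
  Twist.torHom chevF4 (cLS e (ζ ^ 2 * (ζ ^ e) ^ 2) (ζ ^ 3 * (ζ ^ e) ^ 4))

end

section

variable {K : Type*} [Field K] [CharP K 2] {e : ℕ} (FD : FieldData K e)

include FD

theorem zS_mem {tbl : List ℕ} (hT : TorusData chevF4 tbl) (ζ : Kˣ) :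
    (zS e ζ : GL chevF4.Idx K) ∈ twistedF4 K e := torLS_mem FD hT _ _

/-- the coordinates of `zS ζ` in terms of `z = ζ` and `b = ζ^e` -/
theorem zS_coords (ζ : Kˣ) :
    ((cLS e (ζ ^ 2 * (ζ ^ e) ^ 2) (ζ ^ 3 * (ζ ^ e) ^ 4) 0 : Kˣ) : K) = ((ζ : K) ^ e) ^ 2 * (ζ : K) ∧
    ((cLS e (ζ ^ 2 * (ζ ^ e) ^ 2) (ζ ^ 3 * (ζ ^ e) ^ 4) 1 : Kˣ) : K) = ((ζ : K) ^ e) ^ 3 * (ζ : K) ^ 2 ∧
    ((cLS e (ζ ^ 2 * (ζ ^ e) ^ 2) (ζ ^ 3 * (ζ ^ e) ^ 4) 2 : Kˣ) : K) = (ζ : K) ^ 3 * ((ζ : K) ^ e) ^ 4 ∧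
    ((cLS e (ζ ^ 2 * (ζ ^ e) ^ 2) (ζ ^ 3 * (ζ ^ e) ^ 4) 3 : Kˣ) : K) = (ζ : K) ^ 2 * ((ζ : K) ^ e) ^ 2 := by
  have hb : ((((ζ : K) ^ e) ^ e) ^ 2) = (ζ : K) := FD.sq _
  have k1 : ((ζ : K) ^ 2 * ((ζ : K) ^ e) ^ 2) ^ e = ((ζ : K) ^ e) ^ 2 * (ζ : K) := by
    have e1 : ((ζ : K) ^ 2) ^ e = ((ζ : K) ^ e) ^ 2 := pow_right_comm _ _ _
    have e2 : (((ζ : K) ^ e) ^ 2) ^ e = (((ζ : K) ^ e) ^ e) ^ 2 := pow_right_comm _ _ _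
    rw [mul_pow, e1, e2, hb]
  have k2 : ((ζ : K) ^ 3 * ((ζ : K) ^ e) ^ 4) ^ e = ((ζ : K) ^ e) ^ 3 * (ζ : K) ^ 2 := by
    have e1 : ((ζ : K) ^ 3) ^ e = ((ζ : K) ^ e) ^ 3 := pow_right_comm _ _ _
    have e2 : (((ζ : K) ^ e) ^ 4) ^ e = ((((ζ : K) ^ e) ^ e) ^ 2) ^ 2 := by
      rw [pow_right_comm, ← pow_mul (((ζ : K) ^ e) ^ e) 2 2]
    rw [mul_pow, e1, e2, hb]
  refine ⟨?_, ?_, ?_, ?_⟩
  · simp only [cLS, if_true, Units.val_pow_eq_pow_val, Units.val_mul]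
    exact k1
  · simp only [cLS, if_true, one_ne_zero, if_false, Units.val_pow_eq_pow_val, Units.val_mul]
    exact k2
  · simp [cLS]
  · simp [cLS]

/-- conjugation by `zS ζ`: trivial on `x₂₇ x₂₅ x₂₈`, scaling on `x₃₅ x₃₁ x₄₀` -/
theorem zS_conj {tbl : List ℕ} (hT : TorusData chevF4 tbl) (ζ : Kˣ) (t : K) :
    zS e ζ * xg 27 t * (zS e ζ)⁻¹ = xg 27 t ∧
    zS e ζ * xg 25 t * (zS e ζ)⁻¹ = xg 25 t ∧
    zS e ζ * xg 28 t * (zS e ζ)⁻¹ = xg 28 t ∧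
    zS e ζ * xg 35 t * (zS e ζ)⁻¹ = xg 35 ((ζ : K) ^ e * t) ∧
    zS e ζ * xg 31 t * (zS e ζ)⁻¹ = xg 31 ((ζ : K) * t) ∧
    zS e ζ * xg 40 t * (zS e ζ)⁻¹ = xg 40 ((ζ : K) ^ e * (ζ : K) * t) := by
  obtain ⟨⟨a0, a1, a2, a3⟩, ⟨b0, b1, b2, b3⟩, ⟨c0, c1, c2, c3⟩, ⟨d0, d1, d2, d3⟩, ⟨f0, f1, f2, f3⟩,
    ⟨g0, g1, g2, g3⟩⟩ := cartan_rows
  obtain ⟨q0, q1, q2, q3⟩ := zS_coords FD ζ
  have hz : (ζ : K) ≠ 0 := ζ.ne_zero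
  have hbz : (ζ : K) ^ e ≠ 0 := pow_ne_zero _ hz
  have key : ∀ r < 48, zS e ζ * xg r t * (zS e ζ)⁻¹ =
      xg r (Cfsg.Agent.Helper18.chi chevF4
        (fun i => ((cLS e (ζ ^ 2 * (ζ ^ e) ^ 2) (ζ ^ 3 * (ζ ^ e) ^ 4) i : Kˣ) : K)) r * t) := by
    intro r hr
    have h := Twist.torHom_conj_xg chevF4 hT (Chev.nData_F4 (F := K))
      (cLS e (ζ ^ 2 * (ζ ^ e) ^ 2) (ζ ^ 3 * (ζ ^ e) ^ 4)) r hr t
    rw [xg_eq, xg_eq] at h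
    exact h
  refine ⟨?_, ?_, ?_, ?_, ?_, ?_⟩
  · rw [key 27 (by norm_num), chi_row _ 27 _ _ _ _ a0 a1 a2 a3, q0, q1, q2, q3]
    congr 1
    simp only [zpow_neg, zpow_ofNat, zpow_zero, zpow_one, zpow_two]
    field_simp
  · rw [key 25 (by norm_num), chi_row _ 25 _ _ _ _ b0 b1 b2 b3, q0, q1, q2, q3]
    congr 1
    simp only [zpow_neg, zpow_ofNat, zpow_zero, zpow_one, zpow_two]
    field_simp
  · rw [key 28 (by norm_num), chi_row _ 28 _ _ _ _ c0 c1 c2 c3, q0, q1, q2, q3]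
    congr 1
    simp only [zpow_neg, zpow_ofNat, zpow_zero, zpow_one, zpow_two]
    field_simp
  · rw [key 35 (by norm_num), chi_row _ 35 _ _ _ _ d0 d1 d2 d3, q0, q1, q2, q3]
    congr 1
    simp only [zpow_neg, zpow_ofNat, zpow_zero, zpow_one, zpow_two]
    field_simp
  · rw [key 31 (by norm_num), chi_row _ 31 _ _ _ _ f0 f1 f2 f3, q0, q1, q2, q3]
    congr 1
    simp only [zpow_neg, zpow_ofNat, zpow_zero, zpow_one, zpow_two]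
    field_simp
  · rw [key 40 (by norm_num), chi_row _ 40 _ _ _ _ g0 g1 g2 g3, q0, q1, q2, q3]
    congr 1
    simp only [zpow_neg, zpow_ofNat, zpow_zero, zpow_one, zpow_two]
    field_simp

end

end Cfsg.Agent.Helper36.F4ZS
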