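import Mathlib
import Cfsg.Prelude.Def_ChevStructure

/-!
# Shared definitions for the REE lemma server (helper36): S1091 / S1069 / S1073
-/

set_option autoImplicit false

namespace Cfsg.Agent.Helper36.REE

open Cfsg Cfsg.Lie

universe u

/-- the subgroup `U_n⁻` of the canonical form S1100: generated by the positive root elements whose
root subgroup is conjugated into `V` by `n`. -/
def Um (D : ChevalleyDatum) (F : Type u) [Field F] (n : GL D.Idx F) : Subgroup (GL D.Idx F) :=
  Subgroup.closure {x : GL D.Idx F | ∃ (r : ℕ) (t : F), D.IsPosRoot r ∧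
    (D.rootSubgroup F r).map (MulAut.conj n).toMonoidHom ≤ D.negUnipotent F ∧
    (x : Matrix D.Idx D.Idx F) = D.x F r t}

end Cfsg.Agent.Helper36.REE
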