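import Cfsg.Agent.Lib.Helper59.F4SuzMem
import Cfsg.Agent.Lib.Helper59.TwFixC
import Cfsg.Agent.Lib.Helper18.UiAll
import Cfsg.Agent.Lib.Helper18.TorusAll
import Cfsg.Agent.Lib.Helper18.ConjAll
import Cfsg.Agent.Lib.Helper18.BNData
import Cfsg.Agent.S1038
import Cfsg.Agent.Lib.Helper69.REESTAB
import Cfsg.Agent.Lib.Helper63.REESTABUM

/-!
# `²F₄`: the ambient group `F₄(K)` with its Bruhat normal form and the twist `σ`
(piece (T1) of the `²F₄` plan: the `F₄` port of helper6's `ReeL` / `ReeM` / `ReeN.twG2`)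
-/

set_option autoImplicit false
set_option linter.unusedSectionVars false
set_option linter.unusedVariables false
set_option maxRecDepth 100000

namespace Cfsg.Agent.Helper36.F4Tw

open Cfsg Cfsg.Lie Cfsg.Agent.Helper18 Cfsg.Agent.Helper15.Ree4 Cfsg.Agent.Helper6
open Cfsg.Agent.Helper6.ChevGraph Cfsg.Agent.Helper6.ChevGraph.F4 Cfsg.Agent.S1043
open Cfsg.Agent.Helper59.F4Suz Cfsg.Agent.Helper59.TwFix Cfsg.Agent.Helper17

section Transport

variable {G : Type*} [Group G]

/-- restriction of an ambient structure to its group `Γ` (copy of helper6's `ReeS.ambSub`) -/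
def ambSub (A : Amb G) (hU : A.U ≤ A.Γ) (hH : A.H ≤ A.Γ) (hN : A.N ≤ A.Γ) : Amb ↥A.Γ where
  Γ := ⊤
  U := A.U.subgroupOf A.Γ
  H := A.H.subgroupOf A.Γ
  N := A.N.subgroupOf A.Γ
  B := A.B.subgroupOf A.Γ
  Uw n := (A.Uw (n : G)).subgroupOf A.Γ
  U_le_B := fun x hx => A.U_le_B hx
  H_le_B := fun x hx => A.H_le_B hx
  B_decomp := by
    intro b hb
    obtain ⟨u, hu, h, hh, e⟩ := A.B_decomp (b : G) hb
    exact ⟨⟨u, hU hu⟩, hu, ⟨h, hH hh⟩, hh, Subtype.ext e⟩
  UH_bot := by
    intro x hxU hxH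
    exact Subtype.ext (A.UH_bot (x : G) hxU hxH)
  H_le_N := fun x hx => A.H_le_N hx
  H_normal := by
    intro n hn h hh
    exact A.H_normal (n : G) hn (h : G) hh
  BN := fun x hxB hxN => A.BN (x : G) hxB hxN
  Uw_le := fun n x hx => A.Uw_le (n : G) hx
  Uw_H := by
    intro n h hh
    show (A.Uw ((h * n : ↥A.Γ) : G)).subgroupOf A.Γ = _
    rw [Subgroup.coe_mul, A.Uw_H (n : G) (h : G) hh]
  Uw_one := by
    show (A.Uw ((1 : ↥A.Γ) : G)).subgroupOf A.Γ = ⊥
    rw [Subgroup.coe_one, A.Uw_one]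
    exact Subgroup.bot_subgroupOf A.Γ
  nf_exists := by
    intro g _
    obtain ⟨b, hb, n, hn, u, hu, e⟩ := A.nf_exists (g : G) g.2
    have hbΓ : b ∈ A.Γ := by
      obtain ⟨u', hu', h', hh', rfl⟩ := A.B_decomp b hb
      exact mul_mem (hU hu') (hH hh')
    exact ⟨⟨b, hbΓ⟩, hb, ⟨n, hN hn⟩, hn, ⟨u, hU (A.Uw_le n hu)⟩, hu, Subtype.ext e⟩
  nf_unique := by
    intro b b' n n' u u' hb hb' hn hn' hu hu' e
    have := A.nf_unique (b : G) b' n n' u u' hb hb' hn hn' hu hu' (congrArg Subtype.val e)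
    refine ⟨this.1, fun hnn => ?_⟩
    obtain ⟨h1, h2⟩ := this.2 (congrArg Subtype.val hnn)
    exact ⟨Subtype.ext h1, Subtype.ext h2⟩

end Transport

section

variable {K : Type*} [Field K]

/-- the exponent table of the torus -/
noncomputable def tblF4 : List ℕ := Classical.choose (torusData_all chevF4 (by simp))

theorem torusF4 : TorusData chevF4 tblF4 := Classical.choose_spec (torusData_all chevF4 (by simp))

theorem hypF4 : ChevHyp K chevF4 tblF4 where
  hB := bnFacts_all chevF4 goodF4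
  hU := uiFacts_all chevF4 goodF4
  hT := torusF4
  hTri := triOK_of_mem chevF4 goodF4
  hNeg := negTriOK_of_mem chevF4 goodF4
  hconj := fun i hi s hs => conjGoal_all chevF4 goodF4 i s hi hs
  hS := fun i hi => conjGoalS_all chevF4 goodF4 i hi
  hNH := (Subgroup.normal_subgroupOf_iff_le_normalizer
      (le_sup_left : chevF4.diagonalSubgroup K ≤ chevF4.monomialSubgroup K)).mp
    (Cfsg.Agent.S1038.result (F := K) chevF4 goodF4)

/-- `F₄(K)` inside the general linear group -/
noncomputable def ambGL : Amb (GL chevF4.Idx K) := chevAmb goodF4 (hypF4 (K := K))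

theorem B_le_group : chevF4.borelSubgroup K ≤ chevF4.group K := borel_le chevF4 goodF4

theorem N_le_group : chevF4.monomialSubgroup K ≤ chevF4.group K := monomial_le chevF4 goodF4

theorem U_le_group : chevF4.posUnipotent K ≤ chevF4.group K := le_trans le_sup_left B_le_group

theorem H_le_group : chevF4.diagonalSubgroup K ≤ chevF4.group K := le_trans le_sup_right B_le_group

/-- `F₄(K)` with its Bruhat normal form -/
noncomputable def ambΓ : Amb ↥(chevF4.group K) :=
  ambSub (ambGL (K := K)) U_le_group H_le_group N_le_group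

end

/-! ### the twist -/

section

variable {K : Type*} [Field K]

/-- a homomorphism of the Chevalley group extended by `1` to the general linear group -/
noncomputable def sExt (σ : ↥(chevF4.group K) →* ↥(chevF4.group K)) (g : GL chevF4.Idx K) :
    GL chevF4.Idx K := by
  classical
  exact if h : g ∈ chevF4.group K then ((σ ⟨g, h⟩ : ↥(chevF4.group K)) : GL chevF4.Idx K) else 1

variable (σ : ↥(chevF4.group K) →* ↥(chevF4.group K))

theorem sExt_of_mem {g : GL chevF4.Idx K} (hg : g ∈ chevF4.group K) :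
    sExt σ g = ((σ ⟨g, hg⟩ : ↥(chevF4.group K)) : GL chevF4.Idx K) := by
  unfold sExt
  exact dif_pos hg

theorem sExt_coe (g : ↥(chevF4.group K)) :
    sExt σ (g : GL chevF4.Idx K) = ((σ g : ↥(chevF4.group K)) : GL chevF4.Idx K) :=
  sExt_of_mem σ g.2

theorem sExt_mul : ∀ x ∈ chevF4.group K, ∀ y ∈ chevF4.group K, sExt σ (x * y) = sExt σ x * sExt σ y := by
  intro x hx y hy
  rw [sExt_of_mem σ hx, sExt_of_mem σ hy, sExt_of_mem σ (mul_mem hx hy), ← Subgroup.coe_mul, ← map_mul]
  rfl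

theorem sExt_one : sExt σ 1 = 1 := by
  rw [sExt_of_mem σ (one_mem _)]
  have : (⟨1, one_mem _⟩ : ↥(chevF4.group K)) = 1 := rfl
  rw [this, map_one]
  rfl

theorem sig_lt48 : ∀ r < 48, sig r < 48 := by decide +kernel

theorem sig_posRoot : ∀ r, chevF4.IsPosRoot r → chevF4.IsPosRoot (sig r) := by
  intro r hr
  have : ∀ r < 48, chevF4.IsPosRoot r → chevF4.IsPosRoot (sig r) := by decide +kernel
  exact this r hr.1 hr

theorem sig_negRoot : ∀ r, chevF4.IsNegRoot r → chevF4.IsNegRoot (sig r) := by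
  intro r hr
  have : ∀ r < 48, chevF4.IsNegRoot r → chevF4.IsNegRoot (sig r) := by decide +kernel
  exact this r hr.1 hr

theorem sig_neg48 : ∀ r < 48, chevF4.neg r < 48 ∧ sig (chevF4.neg r) = chevF4.neg (sig r) ∧
    isShort (chevF4.neg r) = isShort r := by decide +kernel

end

section

variable {K : Type*} [Field K] [CharP K 2] {e : ℕ} (FD : FieldData K e)
  (α : ↥(chevF4.group K) ≃* ↥(chevF4.group K))
  (hα : ∀ (r : Fin chevF4.nroots) (t : K),
      α (xG goodF4 r.val t) = xG goodF4 (sig r.val) (if isShort r.val then t ^ 2 else t))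

/-- `x ↦ (x ^ θ) ^ 2` -/
noncomputable def psi : K →+* K where
  toFun x := (x ^ e) ^ 2
  map_one' := by simp
  map_mul' x y := by ring
  map_zero' := by rw [zero_pow FD.epos, zero_pow two_ne_zero]
  map_add' x y := by
    rw [FD.add]
    have h2 := FD.h2
    linear_combination (x ^ e * y ^ e) * h2

theorem psi_apply (x : K) : psi FD x = (x ^ e) ^ 2 := rfl

/-- the parameter map of the root `r` -/
noncomputable def lam (r : ℕ) : K →+* K := if isShort r then psi FD else phi FD

theorem lam_surj (r : ℕ) : Function.Surjective (lam FD r) := by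
  intro x
  unfold lam
  split_ifs
  · refine ⟨x ^ e, ?_⟩
    rw [psi_apply]
    exact FD.sq x
  · refine ⟨(x ^ e) ^ 2, ?_⟩
    rw [phi_apply]
    have : ((x ^ e) ^ 2) ^ e = ((x ^ e) ^ e) ^ 2 := by ring
    rw [this]
    exact FD.sq x

theorem xg_mem_group (r : ℕ) (t : K) : (xg r t : GL chevF4.Idx K) ∈ chevF4.group K := by
  rw [← XG_val]
  exact (XG r t).2

include hα

theorem sExt_xg (r : ℕ) (hr : r < 48) (t : K) :
    sExt (sigma FD α) (xg r t) = xg (sig r) (lam FD r t) := by
  rw [sExt_of_mem _ (xg_mem_group r t)]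
  have h1 : (⟨xg r t, xg_mem_group r t⟩ : ↥(chevF4.group K)) = XG r t := Subtype.ext (XG_val r t).symm
  rw [h1, sigma_XG FD α hα r hr, XG_val]
  unfold lam
  split_ifs <;> rfl

/-- `σ` preserves `U`, `V`, `H`, `N`, `B` -/
theorem stab_all :
    (∀ g ∈ chevF4.posUnipotent K, sExt (sigma FD α) g ∈ chevF4.posUnipotent K) ∧
    (∀ g ∈ chevF4.negUnipotent K, sExt (sigma FD α) g ∈ chevF4.negUnipotent K) ∧
    (∀ g ∈ chevF4.diagonalSubgroup K, sExt (sigma FD α) g ∈ chevF4.diagonalSubgroup K) ∧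
    (∀ g ∈ chevF4.monomialSubgroup K, sExt (sigma FD α) g ∈ chevF4.monomialSubgroup K) ∧
    (∀ g ∈ chevF4.borelSubgroup K, sExt (sigma FD α) g ∈ chevF4.borelSubgroup K) := by
  refine Cfsg.Agent.Helper69.REE.sigma_stable chevF4 (fun r t => xg r t) (fun r t => rfl)
    (sExt (sigma FD α)) (sExt_mul _) (sExt_one _) sig (lam FD) sig_lt48 sig_posRoot sig_negRoot ?_
    (fun r hr t => sExt_xg FD α hα r hr t)
  intro r hr
  obtain ⟨h1, h2, h3⟩ := sig_neg48 r hr
  refine ⟨h1, h2, ?_⟩
  unfold lam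
  rw [h3]

theorem um_stab (n : GL chevF4.Idx K) (hn : n ∈ chevF4.group K) :
    ∀ x ∈ Uw chevF4 n, sExt (sigma FD α) x ∈ Uw chevF4 (sExt (sigma FD α) n) :=
  Cfsg.Agent.Helper63.REE.Um_stable chevF4 (fun r t => xg r t) (fun r t => rfl) (sExt (sigma FD α))
    (sExt_mul _) (sExt_one _) sig (lam FD) sig_posRoot (fun r hr t => sExt_xg FD α hα r hr t)
    (fun r _ => lam_surj FD r) (stab_all FD α hα).2.1 n hn

/-- the twist of `F₄(K)` defining `²F₄` -/
noncomputable def twF4 : Twist (ambΓ (K := K)) where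
  τ := sigma FD α
  G1 := (twistedF4 K e).subgroupOf (chevF4.group K)
  G1_le := fun _ _ => Subgroup.mem_top _
  fix := by
    intro g hg
    obtain ⟨hg', hfix⟩ := twisted_fixed FD α hα (g : GL chevF4.Idx K) hg
    exact hfix
  τU := fun u hu => by
    show ((sigma FD α u : ↥(chevF4.group K)) : GL chevF4.Idx K) ∈ chevF4.posUnipotent K
    rw [← sExt_coe]
    exact (stab_all FD α hα).1 _ hu
  τH := fun u hu => by
    show ((sigma FD α u : ↥(chevF4.group K)) : GL chevF4.Idx K) ∈ chevF4.diagonalSubgroup K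
    rw [← sExt_coe]
    exact (stab_all FD α hα).2.2.1 _ hu
  τN := fun u hu => by
    show ((sigma FD α u : ↥(chevF4.group K)) : GL chevF4.Idx K) ∈ chevF4.monomialSubgroup K
    rw [← sExt_coe]
    exact (stab_all FD α hα).2.2.2.1 _ hu
  τUw := fun n u hu => by
    show ((sigma FD α u : ↥(chevF4.group K)) : GL chevF4.Idx K) ∈
      Uw chevF4 ((sigma FD α n : ↥(chevF4.group K)) : GL chevF4.Idx K)
    rw [← sExt_coe, ← sExt_coe]
    exact um_stab FD α hα _ n.2 _ hu

end

end Cfsg.Agent.Helper36.F4Tw
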