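import Cfsg.Agent.Lib.Helper18.CommCertSmall
import Cfsg.Agent.Lib.Helper18.CommAll
import Cfsg.Agent.Lib.Helper18.UProdSmall
import Cfsg.Agent.Lib.Helper18.ChevRootCentEven
import Cfsg.Agent.Lib.Helper18.LongestData
import Cfsg.Agent.Lib.Helper18.TorusAll
import Cfsg.Agent.Lib.Helper18.ConjAll
import Cfsg.Agent.Lib.Helper18.BNData
import Cfsg.Agent.S1038
import Cfsg.Agent.S1100

/-!
# Type `G₂`: the basic facts, collected from the general library (helper18), without the large
tables of the types `E₆`, `E₇`, `E₈`.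
-/

set_option autoImplicit false
set_option maxRecDepth 100000

namespace Cfsg.Agent.Helper36.G2

open Cfsg.Lie Cfsg.Agent.S1043 Cfsg.Agent.Helper17 Cfsg.Agent.Helper18

theorem goodG2 : Good chevG2 := by simp [Good]

theorem posOfRange : ∀ s < chevG2.nroots, chevG2.nroots / 2 ≤ s → chevG2.IsPosRoot s := by
  decide +kernel

theorem commOK {F : Type*} [Field F] :
    ∀ r < chevG2.nroots, ∀ s < chevG2.nroots, s ≠ r → s ≠ chevG2.neg r → CommOK F chevG2 r s := by
  have hD : Good chevG2 := goodG2
  refine commOK_of_cert chevG2 etaTabG2 certG2 etaTabG2_cases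
    (fun i _ => ⟨nGL chevG2 hD i, nGL_val chevG2 hD i⟩)
    (fun i hi s hs t => conjExplG2 i hi s hs t) posOfRange (fun i hi s hs => commAllG2 i hi s hs) ?_
  intro r hr s hs h1 h2
  exact pairOK_of_rowOK chevG2 etaTabG2 certG2 r (rowOKG2_from0 r (by omega) hr) s hs h1 h2

theorem wtAll (s : ℕ) (h1 : 6 ≤ s) (h2 : s < 12) : wtCheck chevG2 fwG2 s = true := by
  have h := wtChkG2_6
  rw [wtRangeCheck, List.all_eq_true] at h
  exact h s (by rw [List.mem_range'_1]; omega)

theorem posRoots_eq :
    chevG2.posRoots = List.range' (chevG2.nroots / 2) (chevG2.nroots - chevG2.nroots / 2) := by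
  decide +kernel

theorem uProdData : UProdData chevG2 fwG2 := by
  refine uProdData_of_checks chevG2 fwG2 (fun s h1 h2 => wtAll s h1 h2) arithChkG2
    (fun k h1 h2 => ordChkG2_from6 k h1 h2) ?_ posRoots_eq
  intro s
  constructor
  · intro hs
    exact posRangeG2 s hs
  · rintro ⟨h1, h2⟩
    exact posOfRange s h2 h1

end Cfsg.Agent.Helper36.G2
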