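import Cfsg.Agent.Lib.Helper36.G2Base

/-!
# Type `G₂`, characteristic two: the centraliser of the long root involution `x_11(1)`.
-/

set_option autoImplicit false
set_option maxRecDepth 100000

namespace Cfsg.Agent.Helper36.G2

open Cfsg.Lie Cfsg.Agent.S1043 Cfsg.Agent.Helper17 Cfsg.Agent.Helper18

theorem rcInv : evenInvCheck chevG2 permTblG2 = true := by
  decide +kernel

def rcCert11 : List (List ℕ × ℕ) :=
  [([], 0), ([], 0), ([], 0), ([], 0), ([], 0), ([], 0), ([], 0), ([], 0), ([], 0), ([], 0), ([], 0),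
    ([], 0)]

theorem rcEven11 : evenCheck chevG2 permTblG2 11 [0] rcCert11 = true := by
  decide +kernel

theorem rcChi11 : evenChiCheck chevG2 11 [0] [4] 1 = true := by
  decide +kernel

/-- The standard facts for `G₂`, bundled. -/
structure Facts (F : Type*) [Field F] : Prop where
  hB : BNFacts chevG2
  hT : ∃ tbl : List ℕ, TorusData chevG2 tbl
  hTri : TriOK chevG2
  hNeg : NegTriOK chevG2
  hconj : ∀ i < chevG2.rank, ∀ s < chevG2.nroots, ConjGoal' F chevG2 i s
  hS : ∀ i < chevG2.rank, ConjGoalS' F chevG2 i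
  hNH : chevG2.monomialSubgroup F ≤
    Subgroup.normalizer (chevG2.diagonalSubgroup F : Set (GL chevG2.Idx F))
  hBr : ∀ g ∈ chevG2.group F, ∃ b ∈ chevG2.borelSubgroup F, ∃ n ∈ chevG2.monomialSubgroup F,
      ∃ u ∈ chevG2.posUnipotent F, g = b * n * u

theorem facts (F : Type*) [Field F] : Facts F := by
  have hD : Good chevG2 := goodG2
  have hHN : chevG2.diagonalSubgroup F ≤ chevG2.monomialSubgroup F := le_sup_left
  refine ⟨bnFacts_all chevG2 hD, torusData_all chevG2 hD, triOK_of_mem chevG2 hD,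
    negTriOK_of_mem chevG2 hD, fun i hi s hs => conjGoal_all chevG2 hD i s hi hs,
    fun i hi => conjGoalS_all chevG2 hD i hi,
    (Subgroup.normal_subgroupOf_iff_le_normalizer hHN).mp
      (Cfsg.Agent.S1038.result (F := F) chevG2 hD), ?_⟩
  intro g hg
  obtain ⟨b, hb, n, hn, u, hu, e⟩ := (Cfsg.Agent.S1100.result (F := F) chevG2 hD).1 g hg
  refine ⟨b, hb, n, hn, u, ?_, e⟩
  refine Subgroup.closure_mono ?_ hu
  rintro x ⟨r, t, hr, -, hx⟩
  exact ⟨r, t, hr, hx⟩

/-- The centraliser of the long root involution `x_11(1)` of `G₂` in characteristic two. -/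
theorem rootCent11 {F : Type*} [Field F] [CharP F 2]
    (t : GL chevG2.Idx F) (ht : (t : Matrix chevG2.Idx chevG2.Idx F) = chevG2.x F 11 1) :
    chevG2.group F ⊓ Subgroup.centralizer {t} =
      chevG2.posUnipotent F ⊔ chevG2.rootSubgroup F 4 := by
  have hD : Good chevG2 := goodG2
  obtain ⟨hB, ⟨tbl, hT⟩, hTri, hNeg, hconj, hS, hNH, hBr⟩ := facts F
  have h := rootCentEven_of_checks chevG2 hD hB hT hTri hNeg hconj hS hNH uProdData hBr commOK
    permTblG2 permTblG2_ok rcInv 11 [0] [4] rcCert11 1 rcEven11 rcChi11 t ht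
  rw [h]
  congr 1
  unfold ChevalleyDatum.rootSubgroup
  congr 1
  ext g
  simp only [List.mem_cons, List.not_mem_nil, or_false, Set.mem_ofPred_eq]
  constructor
  · rintro ⟨s, rfl, c, h⟩
    exact ⟨c, h⟩
  · rintro ⟨c, h⟩
    exact ⟨4, rfl, c, h⟩

end Cfsg.Agent.Helper36.G2
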