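import Cfsg.Agent.Lib.Helper36.G2Data9

/-!
# Type `G₂`, characteristic two: the centraliser of the short root involution `x_9(1)`.
-/

set_option autoImplicit false
set_option maxRecDepth 100000

namespace Cfsg.Agent.Helper36.G2

open Cfsg.Lie Cfsg.Agent.S1043 Cfsg.Agent.Helper17 Cfsg.Agent.Helper18 Cfsg.Agent.Helper36.Uge
open scoped Pointwise

/-- The root element `x_r(c)` of `G₂` as a unit. -/
local notation "X" => xU chevG2 goodG2

section

variable {F : Type*} [Field F]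


theorem X_mem_U (r : ℕ) (h1 : 6 ≤ r) (h2 : r < 12) (c : F) : X r c ∈ chevG2.posUnipotent F :=
  Subgroup.subset_closure ⟨r, c, posOfRange r h2 h1, rfl⟩

theorem X_mem_V (r : ℕ) (h1 : r < 6) (c : F) : X r c ∈ chevG2.negUnipotent F :=
  Subgroup.subset_closure ⟨r, c, negOfRange r h1, rfl⟩

theorem U_eq_Uge : chevG2.posUnipotent F = Uge F chevG2 6 :=
  posUnipotent_eq_Uge chevG2 uProdData

theorem Uge_le_U (k : ℕ) (hk : 6 ≤ k) : Uge F chevG2 k ≤ chevG2.posUnipotent F := by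
  rw [U_eq_Uge]
  exact Uge_mono chevG2 6 k hk

theorem X_zero (r : ℕ) : X r (0 : F) = 1 := by
  apply Units.ext
  rw [xU_val, x_zero]
  rfl

/-- `X_k ∩ Uge (k+1) = 1`. -/
theorem lead_zero (k : ℕ) (h1 : 6 ≤ k) (h2 : k < 12) (a : F) (h : X k a ∈ Uge F chevG2 (k + 1)) :
    a = 0 :=
  xU_mem_Uge_succ chevG2 goodG2 uProdData k h1 h2 a h

theorem X_ne_one (r : ℕ) (hr : r < 12) (c : F) (hc : c ≠ 0) : X r c ≠ 1 := fun h =>
  hc (xU_eq_one chevG2 goodG2 (facts F).hB r hr c h)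

/-- `B ∩ V = 1`. -/
theorem U_inf_V (g : GL chevG2.Idx F) (h1 : g ∈ chevG2.posUnipotent F)
    (h2 : g ∈ chevG2.negUnipotent F) : g = 1 := by
  obtain ⟨tbl, hT⟩ := (facts F).hT
  have hbot := (borel_inf_neg (F := F) chevG2 hT (facts F).hTri (facts F).hNeg).1
  rw [← Subgroup.mem_bot, ← hbot]
  exact ⟨(le_sup_left : chevG2.posUnipotent F ≤ chevG2.borelSubgroup F) h1, h2⟩

/-- No element `x_9(1) v`, `v ∈ Uge 10`, is trivial. -/
theorem t_mul_ne_one (v : GL chevG2.Idx F) (hv : v ∈ Uge F chevG2 10) : X 9 (1 : F) * v ≠ 1 := by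
  intro h
  have : X 9 (1 : F) = v⁻¹ := eq_inv_of_mul_eq_one_left h
  exact one_ne_zero (lead_zero 9 (by omega) (by omega) (1 : F) (by rw [this]; exact inv_mem hv))

end

section

variable {F : Type*} [Field F] [CharP F 2]

theorem X_comm_of_evenP (r s : ℕ) (hr : r < 12) (hs : s < 12) (h : evenP chevG2 r s = true)
    (a b : F) : X r a * X s b = X s b * X r a := by
  have hc : Comm2 F chevG2 r s :=
    comm2_of_evenP chevG2 goodG2 r s (fun h1 h2 => commOK r hr s hs h1 h2) h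
  exact (comm2_iff chevG2 goodG2 r s).mp hc a b

omit [CharP F 2] in
theorem neg_first_absurd (a1 a2 a3 A : GL chevG2.Idx F) (hA : a1 * a2 * a3 = A)
    (hAU : A ∈ chevG2.posUnipotent F) (c12 : a1 * a2 = a2 * a1)
    (h1V : a1 ∈ chevG2.negUnipotent F)
    (h2 : a2 ∈ chevG2.posUnipotent F ∨ a2 ∈ chevG2.negUnipotent F)
    (h3 : a3 ∈ chevG2.posUnipotent F ∨ a3 ∈ chevG2.negUnipotent F)
    (p1 : a1 ≠ 1) (p12 : a1 * a2 ≠ 1) (p13 : a1 * a3 ≠ 1) (p123 : a1 * a2 * a3 ≠ 1) : False := by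
  rcases h2 with h2 | h2 <;> rcases h3 with h3 | h3
  · apply p1
    apply U_inf_V _ _ h1V
    have : a1 = A * a3⁻¹ * a2⁻¹ := by rw [← hA]; group
    rw [this]
    exact mul_mem (mul_mem hAU (inv_mem h3)) (inv_mem h2)
  · apply p13
    apply U_inf_V _ _ (mul_mem h1V h3)
    have : a1 * a3 = a2⁻¹ * A := by
      rw [← hA, c12]; group
    rw [this]
    exact mul_mem (inv_mem h2) hAU
  · apply p12
    apply U_inf_V _ _ (mul_mem h1V h2)
    have : a1 * a2 = A * a3⁻¹ := by rw [← hA]; group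
    rw [this]
    exact mul_mem hAU (inv_mem h3)
  · apply p123
    rw [hA]
    apply U_inf_V _ hAU
    rw [← hA]
    exact mul_mem (mul_mem h1V h2) h3

/-- If `h n_w` conjugates an element `x_9(1) x_10(c₁) x_11(c₂)` to an element of `x_9(1) Uge 10`, then `w` fixes
the root `9`. -/
theorem triple_fix (y : GL chevG2.Idx F) (c1 c2 : F) (r1 r2 r3 : ℕ) (e0 e1 e2 : F)
    (hT : (r1, r2, r3) ∈ orbT)
    (h1 : y * X 9 1 * y⁻¹ = X r1 e0) (h2 : y * X 10 c1 * y⁻¹ = X r2 e1)
    (h3 : y * X 11 c2 * y⁻¹ = X r3 e2)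
    (Wb : GL chevG2.Idx F) (hWb : Wb ∈ Uge F chevG2 10)
    (heq : y * (X 9 1 * (X 10 c1 * X 11 c2)) * y⁻¹ = X 9 1 * Wb) : r1 = 9 := by
  have hA : X r1 e0 * X r2 e1 * X r3 e2 = X 9 1 * Wb := by
    rw [← h1, ← h2, ← h3, ← heq]; group
  have hAU : X 9 (1 : F) * Wb ∈ chevG2.posUnipotent F :=
    mul_mem (X_mem_U 9 (by omega) (by omega) 1) (Uge_le_U 10 (by omega) hWb)
  have hA9 : X 9 (1 : F) * Wb ∈ Uge F chevG2 9 :=
    mul_mem (xU_mem_Uge chevG2 goodG2 9 9 le_rfl (by decide) 1) (Uge_mono chevG2 9 10 (by omega) hWb)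
  have c12 : X r1 e0 * X r2 e1 = X r2 e1 * X r1 e0 := by
    rw [← h1, ← h2]
    have := X_comm_of_evenP 9 10 (by omega) (by omega) (evenP_9 10 (by simp)) (1 : F) c1
    calc y * X 9 1 * y⁻¹ * (y * X 10 c1 * y⁻¹) = y * (X 9 1 * X 10 c1) * y⁻¹ := by group
      _ = y * (X 10 c1 * X 9 1) * y⁻¹ := by rw [this]
      _ = _ := by group
  have p1 : X r1 e0 ≠ 1 := by
    rw [← h1]
    intro h
    exact X_ne_one 9 (by omega) (1 : F) one_ne_zero (conj_eq_one_iff.mp h)
  have p12 : X r1 e0 * X r2 e1 ≠ 1 := by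
    rw [← h1, ← h2]
    intro h
    have h' : y * (X 9 1 * X 10 c1) * y⁻¹ = 1 := by rw [← h]; group
    exact t_mul_ne_one _ (xU_mem_Uge chevG2 goodG2 10 10 le_rfl (by decide) c1) (conj_eq_one_iff.mp h')
  have p13 : X r1 e0 * X r3 e2 ≠ 1 := by
    rw [← h1, ← h3]
    intro h
    have h' : y * (X 9 1 * X 11 c2) * y⁻¹ = 1 := by rw [← h]; group
    exact t_mul_ne_one _ (xU_mem_Uge chevG2 goodG2 10 11 (by omega) (by decide) c2)
      (conj_eq_one_iff.mp h')
  have p123 : X r1 e0 * X r2 e1 * X r3 e2 ≠ 1 := by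
    rw [hA]
    exact t_mul_ne_one _ hWb
  have hU : ∀ r, 6 ≤ r → r < 12 → ∀ c : F, X r c ∈ chevG2.posUnipotent F ∨ X r c ∈ chevG2.negUnipotent F :=
    fun r h1 h2 c => Or.inl (X_mem_U r h1 h2 c)
  have hV : ∀ r, r < 6 → ∀ c : F, X r c ∈ chevG2.posUnipotent F ∨ X r c ∈ chevG2.negUnipotent F :=
    fun r h1 c => Or.inr (X_mem_V r h1 c)
  simp only [orbT, List.mem_cons, Prod.mk.injEq, List.not_mem_nil, or_false] at hT
  rcases hT with ⟨rfl, rfl, rfl⟩ | ⟨rfl, rfl, rfl⟩ | ⟨rfl, rfl, rfl⟩ | ⟨rfl, rfl, rfl⟩ | ⟨rfl, rfl, rfl⟩ |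
    ⟨rfl, rfl, rfl⟩ | ⟨rfl, rfl, rfl⟩ | ⟨rfl, rfl, rfl⟩ | ⟨rfl, rfl, rfl⟩ | ⟨rfl, rfl, rfl⟩ |
    ⟨rfl, rfl, rfl⟩ | ⟨rfl, rfl, rfl⟩
  · exact (neg_first_absurd _ _ _ _ hA hAU c12 (X_mem_V 2 (by omega) _) (hV 0 (by omega) _)
      (hV 1 (by omega) _) p1 p12 p13 p123).elim
  · exact (neg_first_absurd _ _ _ _ hA hAU c12 (X_mem_V 2 (by omega) _) (hV 1 (by omega) _)
      (hV 0 (by omega) _) p1 p12 p13 p123).elim
  · exact (neg_first_absurd _ _ _ _ hA hAU c12 (X_mem_V 3 (by omega) _) (hV 0 (by omega) _)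
      (hV 5 (by omega) _) p1 p12 p13 p123).elim
  · exact (neg_first_absurd _ _ _ _ hA hAU c12 (X_mem_V 3 (by omega) _) (hV 5 (by omega) _)
      (hV 0 (by omega) _) p1 p12 p13 p123).elim
  · exact (neg_first_absurd _ _ _ _ hA hAU c12 (X_mem_V 4 (by omega) _) (hV 1 (by omega) _)
      (hU 6 (by omega) (by omega) _) p1 p12 p13 p123).elim
  · exact (neg_first_absurd _ _ _ _ hA hAU c12 (X_mem_V 4 (by omega) _) (hU 6 (by omega) (by omega) _)
      (hV 1 (by omega) _) p1 p12 p13 p123).elim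
  · -- (7, 5, 10)
    exfalso
    have hx5 : X 5 e1 = 1 := by
      apply U_inf_V _ _ (X_mem_V 5 (by omega) _)
      have : X 5 e1 = (X 7 e0)⁻¹ * (X 9 1 * Wb) * (X 10 e2)⁻¹ := by rw [← hA]; group
      rw [this]
      exact mul_mem (mul_mem (inv_mem (X_mem_U 7 (by omega) (by omega) _)) hAU)
        (inv_mem (X_mem_U 10 (by omega) (by omega) _))
    rw [hx5, mul_one] at hA
    have h7 : X 7 e0 ∈ Uge F chevG2 (7 + 1) := by
      have : X 7 e0 = (X 9 1 * Wb) * (X 10 e2)⁻¹ := by rw [← hA]; group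
      rw [this]
      exact mul_mem (Uge_mono chevG2 8 9 (by omega) hA9)
        (inv_mem (xU_mem_Uge chevG2 goodG2 8 10 (by omega) (by decide) _))
    have := lead_zero 7 (by omega) (by omega) e0 h7
    subst this
    exact p1 (X_zero 7)
  · -- (7, 10, 5)
    exfalso
    have hx5 : X 5 e2 = 1 := by
      apply U_inf_V _ _ (X_mem_V 5 (by omega) _)
      have : X 5 e2 = (X 7 e0 * X 10 e1)⁻¹ * (X 9 1 * Wb) := by rw [← hA]; group
      rw [this]
      exact mul_mem (inv_mem (mul_mem (X_mem_U 7 (by omega) (by omega) _)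
        (X_mem_U 10 (by omega) (by omega) _))) hAU
    rw [hx5, mul_one] at hA
    have h7 : X 7 e0 ∈ Uge F chevG2 (7 + 1) := by
      have : X 7 e0 = (X 9 1 * Wb) * (X 10 e1)⁻¹ := by rw [← hA]; group
      rw [this]
      exact mul_mem (Uge_mono chevG2 8 9 (by omega) hA9)
        (inv_mem (xU_mem_Uge chevG2 goodG2 8 10 (by omega) (by decide) _))
    have := lead_zero 7 (by omega) (by omega) e0 h7
    subst this
    exact p1 (X_zero 7)
  · -- (8, 6, 11)
    exfalso
    have h6 : X 6 e1 ∈ Uge F chevG2 (6 + 1) := by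
      have : X 6 e1 = (X 8 e0)⁻¹ * (X 9 1 * Wb) * (X 11 e2)⁻¹ := by rw [← hA]; group
      rw [this]
      exact mul_mem (mul_mem (inv_mem (xU_mem_Uge chevG2 goodG2 7 8 (by omega) (by decide) _))
        (Uge_mono chevG2 7 9 (by omega) hA9))
        (inv_mem (xU_mem_Uge chevG2 goodG2 7 11 (by omega) (by decide) _))
    have := lead_zero 6 (by omega) (by omega) e1 h6
    subst this
    rw [X_zero, mul_one] at hA
    have h8 : X 8 e0 ∈ Uge F chevG2 (8 + 1) := by
      have : X 8 e0 = (X 9 1 * Wb) * (X 11 e2)⁻¹ := by rw [← hA]; group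
      rw [this]
      exact mul_mem hA9 (inv_mem (xU_mem_Uge chevG2 goodG2 9 11 (by omega) (by decide) _))
    have := lead_zero 8 (by omega) (by omega) e0 h8
    subst this
    exact p1 (X_zero 8)
  · -- (8, 11, 6)
    exfalso
    have h6 : X 6 e2 ∈ Uge F chevG2 (6 + 1) := by
      have : X 6 e2 = (X 8 e0 * X 11 e1)⁻¹ * (X 9 1 * Wb) := by rw [← hA]; group
      rw [this]
      exact mul_mem (inv_mem (mul_mem (xU_mem_Uge chevG2 goodG2 7 8 (by omega) (by decide) _)
        (xU_mem_Uge chevG2 goodG2 7 11 (by omega) (by decide) _)))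
        (Uge_mono chevG2 7 9 (by omega) hA9)
    have := lead_zero 6 (by omega) (by omega) e2 h6
    subst this
    rw [X_zero, mul_one] at hA
    have h8 : X 8 e0 ∈ Uge F chevG2 (8 + 1) := by
      have : X 8 e0 = (X 9 1 * Wb) * (X 11 e1)⁻¹ := by rw [← hA]; group
      rw [this]
      exact mul_mem hA9 (inv_mem (xU_mem_Uge chevG2 goodG2 9 11 (by omega) (by decide) _))
    have := lead_zero 8 (by omega) (by omega) e0 h8
    subst this
    exact p1 (X_zero 8)
  · rfl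
  · rfl

end

section

variable {F : Type*} [Field F]

/-- The action of the torus on the root elements. -/
theorem torus_conj (hh : GL chevG2.Idx F) (hhm : hh ∈ chevG2.diagonalSubgroup F) :
    ∃ c : ℕ → F, (∀ i, c i ≠ 0) ∧
      ((hh : GL chevG2.Idx F) : Matrix chevG2.Idx chevG2.Idx F) = torMat chevG2 c ∧
      ∀ s < chevG2.nroots, ∀ v : F, hh * X s v * hh⁻¹ = X s (chi chevG2 c s * v) := by
  obtain ⟨tbl, hT⟩ := (facts F).hT
  obtain ⟨c, hc, hhc⟩ := mem_diag_eq_torMat chevG2 hT hh hhm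
  refine ⟨c, hc, hhc, fun s hs v => ?_⟩
  apply Units.ext
  rw [Units.val_mul, Units.val_mul, hhc, xU_val,
    torMat_mul_x chevG2 s (fun i hi => hT.addOK chevG2 i hi s hs) c hc v, mul_assoc, ← hhc,
    Units.mul_inv, mul_one]
  rfl

/-- Conjugation of a root element by `h n_w`. -/
theorem conj_hn_X (h : GL chevG2.Idx F) (hh : h ∈ chevG2.diagonalSubgroup F) (l : List ℕ)
    (hl : ∀ i ∈ l, i < chevG2.rank) (s : ℕ) (hs : s < chevG2.nroots) (c : F) :
    ∃ e : F, (h * nWordGL chevG2 goodG2 l) * X s c * (h * nWordGL chevG2 goodG2 l)⁻¹ =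
      X (permW chevG2 l s) e := by
  obtain ⟨η, _, hcj⟩ := nWordGL_conj_unit chevG2 goodG2 (facts F).hB (facts F).hconj l hl s hs
  obtain ⟨c', _, _, hcc⟩ := torus_conj h hh
  have hwlt : permW chevG2 l s < chevG2.nroots := permW_lt (facts F).hB l hl s hs
  refine ⟨chi chevG2 c' (permW chevG2 l s) * (η * c), ?_⟩
  calc (h * nWordGL chevG2 goodG2 l) * X s c * (h * nWordGL chevG2 goodG2 l)⁻¹
      = h * (nWordGL chevG2 goodG2 l * X s c * (nWordGL chevG2 goodG2 l)⁻¹) * h⁻¹ := by group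
    _ = h * X (permW chevG2 l s) (η * c) * h⁻¹ := by rw [hcj]
    _ = _ := hcc _ hwlt _

/-- The subgroup claimed to be the centraliser of `x_9(1)`. -/
def R9 (F : Type*) [Field F] : Subgroup (GL chevG2.Idx F) :=
  chevG2.rootSubgroup F 9 ⊔ chevG2.rootSubgroup F 10 ⊔ chevG2.rootSubgroup F 11 ⊔
    chevG2.rootSubgroup F 6 ⊔ chevG2.rootSubgroup F 5

theorem X_mem_R9 (s : ℕ) (hs : s ∈ [9, 10, 11, 6, 5]) (c : F) : X s c ∈ R9 F := by
  have h := xU_mem_rootSubgroup chevG2 goodG2 s c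
  simp only [List.mem_cons, List.not_mem_nil, or_false] at hs
  unfold R9
  rcases hs with rfl | rfl | rfl | rfl | rfl
  · exact Subgroup.mem_sup_left (Subgroup.mem_sup_left (Subgroup.mem_sup_left (Subgroup.mem_sup_left h)))
  · exact Subgroup.mem_sup_left (Subgroup.mem_sup_left (Subgroup.mem_sup_left (Subgroup.mem_sup_right h)))
  · exact Subgroup.mem_sup_left (Subgroup.mem_sup_left (Subgroup.mem_sup_right h))
  · exact Subgroup.mem_sup_left (Subgroup.mem_sup_right h)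
  · exact Subgroup.mem_sup_right h

theorem Uge9_le_R9 : Uge F chevG2 9 ≤ R9 F := by
  unfold Uge
  rw [Subgroup.closure_le]
  rintro x ⟨r, c, h1, h2, hx⟩
  have hxe : x = X r c := Units.ext hx
  rw [SetLike.mem_coe, hxe]
  have h2' : r < 12 := h2
  have : r ∈ [9, 10, 11, 6, 5] := by
    interval_cases r <;> simp
  exact X_mem_R9 r this c

end

section

variable {F : Type*} [Field F] [CharP F 2]

theorem X_comm_t (s : ℕ) (hs : s ∈ [9, 10, 11, 6, 5]) (c : F) : X s c * X 9 1 = X 9 1 * X s c := by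
  have hs' : s < 12 := by
    simp only [List.mem_cons, List.not_mem_nil, or_false] at hs
    omega
  exact (X_comm_of_evenP 9 s (by omega) hs' (evenP_9 s hs) 1 c).symm

theorem X_mem_cent (s : ℕ) (hs : s ∈ [9, 10, 11, 6, 5]) (c : F) :
    X s c ∈ Subgroup.centralizer {X 9 (1 : F)} := by
  rw [Subgroup.mem_centralizer_iff]
  intro z hz
  rw [Set.mem_singleton_iff] at hz
  rw [hz]
  exact (X_comm_t s hs c).symm

theorem Uge9_le_cent : Uge F chevG2 9 ≤ Subgroup.centralizer {X 9 (1 : F)} := by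
  unfold Uge
  rw [Subgroup.closure_le]
  rintro x ⟨r, c, h1, h2, hx⟩
  have hxe : x = X r c := Units.ext hx
  rw [SetLike.mem_coe, hxe]
  have h2' : r < 12 := h2
  have : r ∈ [9, 10, 11, 6, 5] := by
    interval_cases r <;> simp
  exact X_mem_cent r this c

omit [CharP F 2] in
/-- `X_{-b}` normalises `Uge 7`. -/
theorem conj_X5_mem (c : F) (g : GL chevG2.Idx F) (hg : g ∈ Uge F chevG2 7) :
    X 5 c * g * (X 5 c)⁻¹ ∈ Uge F chevG2 7 := by
  unfold Uge at hg
  induction hg using Subgroup.closure_induction with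
  | mem x hx =>
    obtain ⟨s, u, h1, h2, hx⟩ := hx
    have hxe : x = X s u := Units.ext hx
    subst hxe
    have h2' : s < 12 := h2
    have hn5 : chevG2.neg 5 = 6 := by decide +kernel
    have H := commOK (F := F) 5 (by decide) s h2 (by omega) (by rw [hn5]; omega) (-c) u
    obtain ⟨W, hW, hWv⟩ := wordMat_mem_Uge chevG2 goodG2 7 (chevG2.commWord F 5 s (-c) u) (by
      intro p hp
      simp only [ChevalleyDatum.commWord, List.mem_map] at hp
      obtain ⟨q, hq, rfl⟩ := hp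
      exact commTerms_5_range s h2' h1 q hq)
    have hGL : X s u * X 5 (-c) = X 5 (-c) * X s u * W := by
      apply Units.ext
      rw [Units.val_mul, Units.val_mul, Units.val_mul, xU_val, xU_val, hWv]
      exact H
    have : X 5 c * X s u * (X 5 c)⁻¹ = X s u * W := by
      rw [xU_inv, mul_assoc, hGL, ← xU_inv]
      group
    rw [this]
    exact mul_mem (xU_mem_Uge chevG2 goodG2 7 s h1 h2 u) hW
  | one =>
    rw [mul_one, mul_inv_cancel]
    exact one_mem _
  | mul x y _ _ hx hy =>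
    have : X 5 c * (x * y) * (X 5 c)⁻¹ = (X 5 c * x * (X 5 c)⁻¹) * (X 5 c * y * (X 5 c)⁻¹) := by group
    rw [this]
    exact mul_mem hx hy
  | inv x _ hx =>
    have : X 5 c * x⁻¹ * (X 5 c)⁻¹ = (X 5 c * x * (X 5 c)⁻¹)⁻¹ := by group
    rw [this]
    exact inv_mem hx

omit [CharP F 2] in
theorem conj_X6_mem (c : F) (g : GL chevG2.Idx F) (hg : g ∈ Uge F chevG2 7) :
    X 6 c * g * (X 6 c)⁻¹ ∈ Uge F chevG2 7 := by
  have := conj_xU_mem_Uge chevG2 goodG2 uProdData commOK 6 (by decide) (by decide) (-c) 7 (by decide) g hg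
  rwa [← xU_inv, inv_inv] at this

omit [CharP F 2] in
theorem mem_normalizer_of_conj (s : ℕ) (h : ∀ (c : F) (g : GL chevG2.Idx F), g ∈ Uge F chevG2 7 →
    X s c * g * (X s c)⁻¹ ∈ Uge F chevG2 7) (c : F) :
    X s c ∈ Subgroup.normalizer (Uge F chevG2 7 : Set (GL chevG2.Idx F)) := by
  rw [Subgroup.mem_normalizer_iff]
  intro g
  constructor
  · exact h c g
  · intro hg
    have := h (-c) _ hg
    rw [← xU_inv] at this
    have e : (X s c)⁻¹ * (X s c * g * (X s c)⁻¹) * ((X s c)⁻¹)⁻¹ = g := by group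
    rwa [e] at this

/-- The subgroup in which we collect `⟨X_b, X_{-b}⟩`. -/
def K9 (F : Type*) [Field F] : Subgroup (GL chevG2.Idx F) :=
  R9 F ⊓ Subgroup.centralizer {X 9 (1 : F)} ⊓
    Subgroup.normalizer (Uge F chevG2 7 : Set (GL chevG2.Idx F))

theorem X6_mem_K9 (c : F) : X 6 c ∈ K9 F :=
  ⟨⟨X_mem_R9 6 (by simp) c, X_mem_cent 6 (by simp) c⟩, mem_normalizer_of_conj 6 conj_X6_mem c⟩

theorem X5_mem_K9 (c : F) : X 5 c ∈ K9 F :=
  ⟨⟨X_mem_R9 5 (by simp) c, X_mem_cent 5 (by simp) c⟩, mem_normalizer_of_conj 5 conj_X5_mem c⟩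

theorem three_eq_one : ((3 : ℤ) : F) = 1 := by
  have h2 : (2 : F) = 0 := CharTwo.two_eq_zero
  push_cast
  linear_combination h2

/-- An element `x_7(d₇) x_8(d₈)` commuting with `x_9(1)` is trivial. -/
theorem d78_zero (d7 d8 : F) (h : (X 7 d7 * X 8 d8) * X 9 1 = X 9 1 * (X 7 d7 * X 8 d8)) :
    d7 = 0 ∧ d8 = 0 := by
  -- the two commutator relations
  have r7 : X 9 (1 : F) * X 7 d7 = X 7 d7 * X 9 1 * X 10 (-d7) := by
    have H := commOK (F := F) 7 (by decide) 9 (by decide) (by decide) (by decide +kernel) d7 1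
    apply Units.ext
    rw [Units.val_mul, Units.val_mul, Units.val_mul, xU_val, xU_val, xU_val, H]
    congr 1
    rw [ChevalleyDatum.commWord, commTerms_7_9]
    simp only [List.map_cons, List.map_nil]
    rw [wordMat_cons, wordMat_nil, mul_one]
    congr 1
    rw [three_eq_one]
    ring
  have r8 : X 9 (1 : F) * X 8 d8 = X 8 d8 * X 9 1 * X 11 (-d8) := by
    have H := commOK (F := F) 8 (by decide) 9 (by decide) (by decide) (by decide +kernel) d8 1
    apply Units.ext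
    rw [Units.val_mul, Units.val_mul, Units.val_mul, xU_val, xU_val, xU_val, H]
    congr 1
    rw [ChevalleyDatum.commWord, commTerms_8_9]
    simp only [List.map_cons, List.map_nil]
    rw [wordMat_cons, wordMat_nil, mul_one]
    congr 1
    rw [three_eq_one]
    ring
  have c108 : X 10 (-d7) * X 8 d8 = X 8 d8 * X 10 (-d7) :=
    X_comm_of_evenP 10 8 (by omega) (by omega) evenP_10_8 _ _
  have key : X 11 (-d8) * X 10 (-d7) = 1 := by
    have e : X 9 (1 : F) * (X 7 d7 * X 8 d8) = (X 7 d7 * X 8 d8) * X 9 1 * (X 11 (-d8) * X 10 (-d7)) := by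
      calc X 9 (1 : F) * (X 7 d7 * X 8 d8) = (X 9 1 * X 7 d7) * X 8 d8 := by group
        _ = X 7 d7 * X 9 1 * (X 10 (-d7) * X 8 d8) := by rw [r7]; group
        _ = X 7 d7 * (X 9 1 * X 8 d8) * X 10 (-d7) := by rw [c108]; group
        _ = _ := by rw [r8]; group
    rw [← h] at e
    have := mul_left_cancel (e.symm.trans (mul_one _).symm)
    exact this
  have h10 : X 10 (-d7) ∈ Uge F chevG2 (10 + 1) := by
    have : X 10 (-d7) = (X 11 (-d8))⁻¹ := eq_inv_of_mul_eq_one_right key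
    rw [this]
    exact inv_mem (xU_mem_Uge chevG2 goodG2 11 11 le_rfl (by decide) _)
  have hd7 : -d7 = 0 := lead_zero 10 (by omega) (by omega) _ h10
  have hd7' : d7 = 0 := neg_eq_zero.mp hd7
  refine ⟨hd7', ?_⟩
  rw [hd7, X_zero, mul_one] at key
  by_contra hd8
  exact X_ne_one 11 (by omega) (-d8) (neg_ne_zero.mpr hd8) key

/-- The centraliser of `x_9(1)` in the Borel subgroup lies in `R9`. -/
theorem borel_cent9 (u4 h' : GL chevG2.Idx F) (hu4 : u4 ∈ chevG2.posUnipotent F)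
    (hh' : h' ∈ chevG2.diagonalSubgroup F) (hc : (u4 * h') * X 9 1 = X 9 1 * (u4 * h')) :
    u4 * h' ∈ R9 F := by
  obtain ⟨tbl, hT⟩ := (facts F).hT
  obtain ⟨c', hc', hhc', hcc'⟩ := torus_conj h' hh'
  have e1 : u4 * X 9 (chi chevG2 c' 9 * 1) * u4⁻¹ = X 9 1 := by
    rw [← hcc' 9 (by decide) 1]
    calc u4 * (h' * X 9 1 * h'⁻¹) * u4⁻¹ = ((u4 * h') * X 9 1) * (u4 * h')⁻¹ := by group
      _ = (X 9 1 * (u4 * h')) * (u4 * h')⁻¹ := by rw [hc]
      _ = X 9 1 := by group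
  obtain ⟨W, hW, e2⟩ := (conj_xU_of_mem chevG2 goodG2 uProdData commOK 9 (by decide) (by decide)
    (chi chevG2 c' 9 * 1) u4 hu4).2
  rw [e2] at e1
  have hχ : chi chevG2 c' 9 * 1 = 1 := by
    have hW' : W = X 9 (1 - chi chevG2 c' 9 * 1) := by
      have : W = (X 9 (chi chevG2 c' 9 * 1))⁻¹ * X 9 1 := by rw [← e1]; group
      rw [this, xU_inv, xU_add']
      congr 1
      ring
    have := lead_zero 9 (by omega) (by omega) _ (hW' ▸ hW)
    linear_combination -this
  rw [hχ] at e1 e2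
  have hW1 : W = 1 := mul_left_cancel (e1.trans (mul_one _).symm)
  rw [hW1, mul_one] at e2
  have hu4c : u4 ∈ Subgroup.centralizer {X 9 (1 : F)} := by
    rw [Subgroup.mem_centralizer_iff]
    intro z hz
    rw [Set.mem_singleton_iff] at hz
    rw [hz]
    calc X 9 1 * u4 = (u4 * X 9 1 * u4⁻¹) * u4 := by rw [e2]
      _ = u4 * X 9 1 := by group
  -- the torus part
  rw [mul_one] at hχ
  have hc0 : c' 0 = 1 := by
    have h := hχ
    rw [chi, prod_range_single chevG2.rank 0 _ (by decide) (fun i hi hik => by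
      have hi' : i < 2 := hi
      have : i = 1 := by omega
      subst this
      rw [cartan_1_9, zpow_zero]), cartan_0_9, zpow_one] at h
    exact h
  have hhR : h' ∈ R9 F := by
    let uu : ℕ → GL chevG2.Idx F := fun i =>
      if i = 0 then 1 else wordGL chevG2 goodG2 (chevG2.hWord (chevG2.simple i) (c' i))
    have huv : ∀ i ∈ List.range chevG2.rank,
        ((uu i : GL chevG2.Idx F) : Matrix chevG2.Idx chevG2.Idx F) =
          diagMat chevG2 (fun s => chevG2.cartan i s) (c' i) := by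
      intro i hi
      rw [List.mem_range] at hi
      by_cases hik : i = 0
      · simp only [uu, hik, if_true]
        rw [hc0, diagMat, Units.val_one, ← Matrix.diagonal_one]
        congr 1
        funext x
        rcases x with x | x
        · rfl
        · simp
      · simp only [uu, hik, if_false]
        rw [wordGL_val]
        exact hMat_simple_of_check chevG2 i (hT.simp i hi) (c' i) (hc' i)
    have hprod : h' = ((List.range chevG2.rank).map uu).prod := by
      apply Units.ext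
      rw [hhc', torMat_eq_prod, val_list_prod]
      congr 1
      apply List.map_congr_left
      intro i hi
      exact (huv i hi).symm
    rw [hprod]
    apply Subgroup.list_prod_mem
    intro x hx
    obtain ⟨i, hi, rfl⟩ := List.mem_map.mp hx
    rw [List.mem_range] at hi
    by_cases hik : i = 0
    · simp only [uu, hik, if_true]
      exact one_mem _
    · simp only [uu, hik, if_false]
      have hi' : i < 2 := hi
      have hi1 : i = 1 := by omega
      subst hi1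
      apply wordGL_mem
      intro p hp
      have hp' : p.1 = 6 ∨ p.1 = 5 := by
        rw [simple_1] at hp
        simp only [ChevalleyDatum.hWord, ChevalleyDatum.nWord, neg_6, List.cons_append,
          List.nil_append, List.mem_cons, List.not_mem_nil, or_false] at hp
        rcases hp with rfl | rfl | rfl | rfl | rfl | rfl <;> simp
      rcases hp' with e | e <;> rw [e] <;> exact X_mem_R9 _ (by simp) _
  -- the unipotent part
  have hu4R : u4 ∈ R9 F := by
    have hu6 : u4 ∈ Uge F chevG2 6 := by rw [← U_eq_Uge]; exact hu4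
    obtain ⟨d6, v7, hv7, rfl⟩ :=
      Uge_decomp chevG2 goodG2 uProdData commOK 6 (by decide) (by decide) u4 hu6
    obtain ⟨d7, v8, hv8, rfl⟩ :=
      Uge_decomp chevG2 goodG2 uProdData commOK 7 (by decide) (by decide) v7 hv7
    obtain ⟨d8, v9, hv9, rfl⟩ :=
      Uge_decomp chevG2 goodG2 uProdData commOK 8 (by decide) (by decide) v8 hv8
    have h78 : X 7 d7 * X 8 d8 ∈ Subgroup.centralizer {X 9 (1 : F)} := by
      have : X 7 d7 * X 8 d8 = (X 6 d6)⁻¹ * (X 6 d6 * (X 7 d7 * (X 8 d8 * v9))) * v9⁻¹ := by group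
      rw [this]
      exact mul_mem (mul_mem (inv_mem (X_mem_cent 6 (by simp) d6)) hu4c) (inv_mem (Uge9_le_cent hv9))
    have h78' := (Subgroup.mem_centralizer_iff.mp h78 _ (Set.mem_singleton _)).symm
    obtain ⟨rfl, rfl⟩ := d78_zero d7 d8 h78'
    rw [X_zero, X_zero, one_mul, one_mul]
    exact mul_mem (X_mem_R9 6 (by simp) d6) (Uge9_le_R9 hv9)
  exact mul_mem hu4R hhR

end

section

variable {F : Type*} [Field F] [CharP F 2]

theorem cent9_le : chevG2.group F ⊓ Subgroup.centralizer {X 9 (1 : F)} ≤ R9 F := by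
  obtain ⟨hB, ⟨tbl, hT⟩, hTri, hNeg, hconj, hS, hNH, hBr⟩ := facts F
  have hD := goodG2
  rintro g ⟨hgG, hgC⟩
  have hgt : X 9 1 * g = g * X 9 1 := Subgroup.mem_centralizer_iff.mp hgC _ (Set.mem_singleton _)
  obtain ⟨b, hb, n, hn, u, hu, rfl⟩ := hBr g hgG
  have hBs : ((chevG2.borelSubgroup F : Subgroup (GL chevG2.Idx F)) : Set (GL chevG2.Idx F)) =
      (chevG2.posUnipotent F : Set (GL chevG2.Idx F)) *
        (chevG2.diagonalSubgroup F : Set (GL chevG2.Idx F)) :=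
    Subgroup.coe_mul_of_right_le_normalizer_left _ _ (diag_le_normalizer chevG2 hT)
  have hb' : b ∈ ((chevG2.borelSubgroup F : Subgroup (GL chevG2.Idx F)) : Set (GL chevG2.Idx F)) := hb
  rw [hBs] at hb'
  obtain ⟨u1, hu1, h1, hh1, rfl⟩ := Set.mem_mul.mp hb'
  obtain ⟨h2, hh2, l, hl, rfl⟩ := mem_monomial_decomp chevG2 hD hB hS hNH n hn
  have hhh : h1 * h2 ∈ chevG2.diagonalSubgroup F := mul_mem hh1 hh2
  obtain ⟨y, hy⟩ : ∃ y, y = h1 * h2 * nWordGL chevG2 hD l := ⟨_, rfl⟩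
  have hc1 : y * (u * X 9 1 * u⁻¹) * y⁻¹ = u1⁻¹ * X 9 1 * u1 := by
    have e : u1 * h1 * (h2 * nWordGL chevG2 hD l) * u = u1 * y * u := by rw [hy]; group
    rw [e] at hgt
    calc y * (u * X 9 1 * u⁻¹) * y⁻¹ = u1⁻¹ * ((u1 * y * u) * X 9 1) * (u⁻¹ * y⁻¹) := by group
      _ = u1⁻¹ * (X 9 1 * (u1 * y * u)) * (u⁻¹ * y⁻¹) := by rw [hgt]
      _ = _ := by group
  obtain ⟨Wa, hWa, ea⟩ := (conj_xU_of_mem chevG2 hD uProdData commOK 9 (by decide) (by decide)
    (1 : F) u hu).2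
  obtain ⟨Wb, hWb, eb⟩ := (conj_xU_of_mem chevG2 hD uProdData commOK 9 (by decide) (by decide)
    (1 : F) u1 hu1).1
  obtain ⟨c1, v, hv, rfl⟩ :=
    Uge_decomp chevG2 hD uProdData commOK 10 (by decide) (by decide) Wa hWa
  obtain ⟨c2, v', hv', rfl⟩ :=
    Uge_decomp chevG2 hD uProdData commOK 11 (by decide) (by decide) v hv
  have hv'1 : v' = 1 := by
    rw [Uge_top chevG2 12 (le_refl _)] at hv'
    exact Subgroup.mem_bot.mp hv'
  subst hv'1
  rw [mul_one] at ea
  obtain ⟨e0, he0⟩ := conj_hn_X (h1 * h2) hhh l hl 9 (by decide) (1 : F)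
  obtain ⟨e1, he1⟩ := conj_hn_X (h1 * h2) hhh l hl 10 (by decide) c1
  obtain ⟨e2, he2⟩ := conj_hn_X (h1 * h2) hhh l hl 11 (by decide) c2
  rw [← hy] at he0 he1 he2
  have hfix : permW chevG2 l 9 = 9 := by
    apply triple_fix y c1 c2 _ _ _ e0 e1 e2 (permW_triple l hl) he0 he1 he2 Wb hWb
    rw [← ea, hc1, eb]
  obtain ⟨h3, hh3, m, hm, em⟩ := stab_word_mem chevG2 hD hB hT hTri hNeg hconj hS hNH 9 (by decide)
    (posOfRange 9 (by decide) (by decide)) (fun r s => dom r s = true) (dom_conj hB)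
    (fun s hs => dom_cent s (posRangeG2 s hs).2 (posRangeG2 s hs).1) [1]
    (by intro j hj; simp only [List.mem_cons, List.not_mem_nil, or_false] at hj; subst hj; decide)
    (fun i hi ρ hρ => dom_T2 i hi ρ hρ)
    (fun s hs hne hd => ⟨[], by simp, 1, by simp, by
      have := dom_T3 s (posRangeG2 s hs).2 (posRangeG2 s hs).1 hne hd
      rw [this]
      exact simple_1⟩)
    l.length l le_rfl hl hfix
  have hmK : m ∈ K9 F := by
    have hle : nJ F chevG2 hD [1] ≤ K9 F := by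
      rw [nJ, Subgroup.closure_le]
      rintro x ⟨j, hj, rfl⟩
      simp only [List.mem_cons, List.not_mem_nil, or_false] at hj
      subst hj
      rw [SetLike.mem_coe, nGL, simple_1, neg_6]
      exact mul_mem (mul_mem (X6_mem_K9 1) (X5_mem_K9 (-1))) (X6_mem_K9 1)
    exact hle hm
  have hu6 : u ∈ Uge F chevG2 6 := by rw [← U_eq_Uge]; exact hu
  obtain ⟨c6, u'', hu'', rfl⟩ :=
    Uge_decomp chevG2 hD uProdData commOK 6 (by decide) (by decide) u hu6
  obtain ⟨y2, hy2⟩ : ∃ y2, y2 = m * X 6 c6 := ⟨_, rfl⟩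
  have hy2K : y2 ∈ K9 F := by rw [hy2]; exact mul_mem hmK (X6_mem_K9 c6)
  obtain ⟨⟨hy2R, hy2C⟩, hy2N⟩ := hy2K
  have hu3 : y2 * u'' * y2⁻¹ ∈ Uge F chevG2 7 := (Subgroup.mem_normalizer_iff.mp hy2N u'').mp hu''
  have hu3U : y2 * u'' * y2⁻¹ ∈ chevG2.posUnipotent F := Uge_le_U 7 (by omega) hu3
  have hh' : h1 * h2 * h3 ∈ chevG2.diagonalSubgroup F := mul_mem hhh hh3
  have hu4 : (h1 * h2 * h3) * (y2 * u'' * y2⁻¹) * (h1 * h2 * h3)⁻¹ ∈ chevG2.posUnipotent F :=
    (Subgroup.mem_normalizer_iff.mp (diag_le_normalizer chevG2 hT hh') _).mp hu3U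
  have hg_eq : u1 * h1 * (h2 * nWordGL chevG2 hD l) * (X 6 c6 * u'') =
      ((u1 * ((h1 * h2 * h3) * (y2 * u'' * y2⁻¹) * (h1 * h2 * h3)⁻¹)) * (h1 * h2 * h3)) * y2 := by
    rw [em, hy2]; group
  rw [hg_eq] at hgt ⊢
  refine mul_mem ?_ hy2R
  apply borel_cent9 _ _ (mul_mem hu1 hu4) hh'
  have hy2c : y2 * X 9 1 = X 9 1 * y2 :=
    (Subgroup.mem_centralizer_iff.mp hy2C _ (Set.mem_singleton _)).symm
  set b' := (u1 * ((h1 * h2 * h3) * (y2 * u'' * y2⁻¹) * (h1 * h2 * h3)⁻¹)) * (h1 * h2 * h3) with hb'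
  calc b' * X 9 1 = (b' * y2 * X 9 1) * y2⁻¹ := by
        rw [mul_assoc b', hy2c]; group
    _ = (X 9 1 * (b' * y2)) * y2⁻¹ := by rw [hgt]
    _ = X 9 1 * b' := by group

/-- The centraliser of the short root involution `x_9(1)` of `G₂` in characteristic two. -/
theorem rootCent9 (t : GL chevG2.Idx F)
    (ht : (t : Matrix chevG2.Idx chevG2.Idx F) = chevG2.x F 9 1) :
    chevG2.group F ⊓ Subgroup.centralizer {t} =
      chevG2.rootSubgroup F 9 ⊔ chevG2.rootSubgroup F 10 ⊔ chevG2.rootSubgroup F 11 ⊔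
        chevG2.rootSubgroup F 6 ⊔ chevG2.rootSubgroup F 5 := by
  have htU : t = X 9 1 := Units.ext ht
  subst htU
  apply le_antisymm cent9_le
  have hle : ∀ s ∈ [9, 10, 11, 6, 5], chevG2.rootSubgroup F s ≤
      chevG2.group F ⊓ Subgroup.centralizer {X 9 (1 : F)} := by
    intro s hs
    unfold ChevalleyDatum.rootSubgroup
    rw [Subgroup.closure_le]
    rintro x ⟨c, hx⟩
    have hxe : x = X s c := Units.ext hx
    rw [SetLike.mem_coe, hxe]
    exact ⟨xU_mem_group chevG2 goodG2 s c, X_mem_cent s hs c⟩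
  exact sup_le (sup_le (sup_le (sup_le (hle 9 (by simp)) (hle 10 (by simp))) (hle 11 (by simp)))
    (hle 6 (by simp))) (hle 5 (by simp))

end

end Cfsg.Agent.Helper36.G2
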