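import Cfsg.Agent.Lib.Helper36.G2Inv
import Cfsg.Agent.S2326

/-!
# Type `G₂`, characteristic two: the two classes of involutions.
-/

set_option autoImplicit false
set_option maxRecDepth 100000

namespace Cfsg.Agent.Helper36.G2

open Cfsg.Lie Cfsg.Agent.S1043 Cfsg.Agent.Helper17 Cfsg.Agent.Helper18 Cfsg.Agent.Helper36.Uge
open scoped Pointwise

/-- The root element `x_r(c)` of `G₂` as a unit. -/
local notation "X" => xU chevG2 goodG2

section

variable {F : Type*} [Field F]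

/-- `x_11(1)` and `x_9(1)` are not conjugate in the group. -/
theorem not_conj_11_9 (h : GL chevG2.Idx F) (hh : h ∈ chevG2.group F)
    (e : h * X 11 1 * h⁻¹ = X 9 1) : False := by
  obtain ⟨hB, ⟨tbl, hT⟩, hTri, hNeg, hconj, hS, hNH, hBr⟩ := facts F
  have hD := goodG2
  obtain ⟨b, hb, n, hn, u, hu, rfl⟩ := hBr h hh
  have hBs : ((chevG2.borelSubgroup F : Subgroup (GL chevG2.Idx F)) : Set (GL chevG2.Idx F)) =
      (chevG2.posUnipotent F : Set (GL chevG2.Idx F)) *
        (chevG2.diagonalSubgroup F : Set (GL chevG2.Idx F)) :=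
    Subgroup.coe_mul_of_right_le_normalizer_left _ _ (diag_le_normalizer chevG2 hT)
  have hb' : b ∈ ((chevG2.borelSubgroup F : Subgroup (GL chevG2.Idx F)) : Set (GL chevG2.Idx F)) := hb
  rw [hBs] at hb'
  obtain ⟨u1, hu1, h1, hh1, rfl⟩ := Set.mem_mul.mp hb'
  obtain ⟨h2, hh2, l, hl, rfl⟩ := mem_monomial_decomp chevG2 hD hB hS hNH n hn
  have hhh : h1 * h2 ∈ chevG2.diagonalSubgroup F := mul_mem hh1 hh2
  -- `x_11(1)` is central in `U`
  obtain ⟨Wa, hWa, ea⟩ := (conj_xU_of_mem chevG2 hD uProdData commOK 11 (by decide) (by decide)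
    (1 : F) u hu).2
  have hWa1 : Wa = 1 := by
    rw [Uge_top chevG2 12 (le_refl _)] at hWa
    exact Subgroup.mem_bot.mp hWa
  rw [hWa1, mul_one] at ea
  obtain ⟨Wb, hWb, eb⟩ := (conj_xU_of_mem chevG2 hD uProdData commOK 9 (by decide) (by decide)
    (1 : F) u1 hu1).1
  obtain ⟨e0, he0⟩ := conj_hn_X (h1 * h2) hhh l hl 11 (by decide) (1 : F)
  have key : X (permW chevG2 l 11) e0 = X 9 1 * Wb := by
    rw [← he0, ← eb, ← e]
    calc h1 * h2 * nWordGL chevG2 hD l * X 11 1 * (h1 * h2 * nWordGL chevG2 hD l)⁻¹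
        = h1 * h2 * nWordGL chevG2 hD l * (u * X 11 1 * u⁻¹) * (h1 * h2 * nWordGL chevG2 hD l)⁻¹ := by
          rw [ea]
      _ = _ := by group
  have hAU : X 9 (1 : F) * Wb ∈ chevG2.posUnipotent F :=
    mul_mem (X_mem_U 9 (by omega) (by omega) 1) (Uge_le_U 10 (by omega) hWb)
  have hA9 : X 9 (1 : F) * Wb ∈ Uge F chevG2 9 :=
    mul_mem (xU_mem_Uge chevG2 goodG2 9 9 le_rfl (by decide) 1) (Uge_mono chevG2 9 10 (by omega) hWb)
  have hne : X 9 (1 : F) * Wb ≠ 1 := t_mul_ne_one Wb hWb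
  have hmem := permW_long l hl
  simp only [orbL, List.mem_cons, List.not_mem_nil, or_false] at hmem
  have hneg : ∀ r, r < 6 → X r e0 = X 9 1 * Wb → False := by
    intro r hr h
    apply hne
    rw [← h]
    apply U_inf_V _ _ (X_mem_V r hr e0)
    rw [h]
    exact hAU
  rcases hmem with h | h | h | h | h | h <;> rw [h] at key
  · exact hneg 0 (by omega) key
  · exact hneg 1 (by omega) key
  · exact hneg 5 (by omega) key
  · have h6 : X 6 e0 ∈ Uge F chevG2 (6 + 1) := by
      rw [key]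
      exact Uge_mono chevG2 7 9 (by omega) hA9
    have := lead_zero 6 (by omega) (by omega) e0 h6
    subst this
    rw [X_zero] at key
    exact hne key.symm
  · have h9 : X 9 (1 : F) ∈ Uge F chevG2 (9 + 1) := by
      have : X 9 (1 : F) = X 10 e0 * Wb⁻¹ := by rw [key]; group
      rw [this]
      exact mul_mem (xU_mem_Uge chevG2 goodG2 10 10 le_rfl (by decide) _) (inv_mem hWb)
    exact one_ne_zero (lead_zero 9 (by omega) (by omega) (1 : F) h9)
  · have h9 : X 9 (1 : F) ∈ Uge F chevG2 (9 + 1) := by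
      have : X 9 (1 : F) = X 11 e0 * Wb⁻¹ := by rw [key]; group
      rw [this]
      exact mul_mem (xU_mem_Uge chevG2 goodG2 10 11 (by omega) (by decide) _) (inv_mem hWb)
    exact one_ne_zero (lead_zero 9 (by omega) (by omega) (1 : F) h9)

end

section

variable {F : Type*} [Field F] [Fintype F] [CharP F 2]

/-- Every involution of the group is conjugate into `U`. -/
theorem exists_conj_mem_U (g : GL chevG2.Idx F) (hg : g ∈ chevG2.group F) (ho : orderOf g = 2) :
    ∃ k ∈ chevG2.group F, k * g * k⁻¹ ∈ chevG2.posUnipotent F := by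
  have : Fact (Nat.Prime 2) := ⟨Nat.prime_two⟩
  obtain ⟨P, hP⟩ := Cfsg.Agent.S2326.result (F := F) 2 chevG2 (by simp)
  let gG : ↥(chevG2.group F) := ⟨g, hg⟩
  have hord : orderOf gG = 2 := by rw [← ho]; exact Subgroup.orderOf_mk g hg
  have hpg : IsPGroup 2 (Subgroup.zpowers gG) :=
    IsPGroup.of_card (n := 1) (by rw [Nat.card_zpowers, hord, pow_one])
  obtain ⟨Q, hQ⟩ := hpg.exists_le_sylow
  obtain ⟨k, hk⟩ := MulAction.exists_smul_eq ↥(chevG2.group F) Q P
  have hgQ : gG ∈ (Q : Subgroup ↥(chevG2.group F)) := hQ (Subgroup.mem_zpowers gG)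
  have hmem : k * gG * k⁻¹ ∈ (P : Subgroup ↥(chevG2.group F)) := by
    rw [← hk, Sylow.coe_subgroup_smul]
    exact Subgroup.smul_mem_pointwise_smul gG (MulAut.conj k) _ hgQ
  rw [hP, Subgroup.mem_subgroupOf] at hmem
  exact ⟨k.1, k.2, by simpa using hmem⟩

end

end Cfsg.Agent.Helper36.G2
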