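import Cfsg.Agent.Lib.Helper36.G2Cent11
import Cfsg.Agent.Lib.Helper36.ChevUge

/-!
# Type `G₂`: table facts for the short root `9 = 2a + b` (orbit of the triple `(9, 10, 11)` under the
Weyl group, the relation "the pairing is non-negative", some commutator terms).
-/

set_option autoImplicit false
set_option maxRecDepth 100000

namespace Cfsg.Agent.Helper36.G2

open Cfsg.Lie Cfsg.Agent.S1043 Cfsg.Agent.Helper17 Cfsg.Agent.Helper18

theorem negOfRange : ∀ s < chevG2.nroots / 2, chevG2.IsNegRoot s := by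
  decide +kernel

/-- The orbit of the triple `(2a+b, 3a+b, 3a+2b)` under the Weyl group. -/
def orbT : List (ℕ × ℕ × ℕ) :=
  [(2, 0, 1), (2, 1, 0), (3, 0, 5), (3, 5, 0), (4, 1, 6), (4, 6, 1), (7, 5, 10), (7, 10, 5),
    (8, 6, 11), (8, 11, 6), (9, 10, 11), (9, 11, 10)]

theorem orbT_closed : ∀ i < 2, ∀ p ∈ orbT,
    (chevG2.reflectRoot i p.1, chevG2.reflectRoot i p.2.1, chevG2.reflectRoot i p.2.2) ∈ orbT := by
  decide +kernel

theorem permW_triple (l : List ℕ) (hl : ∀ i ∈ l, i < 2) :
    (permW chevG2 l 9, permW chevG2 l 10, permW chevG2 l 11) ∈ orbT := by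
  induction l with
  | nil => decide
  | cons i l ih =>
    exact orbT_closed i (hl i List.mem_cons_self) _ (ih fun j hj => hl j (List.mem_cons_of_mem _ hj))

/-- The orbit of the long root `3a+2b`. -/
def orbL : List ℕ := [0, 1, 5, 6, 10, 11]

theorem orbL_closed : ∀ i < 2, ∀ p ∈ orbL, chevG2.reflectRoot i p ∈ orbL := by
  decide +kernel

theorem permW_long (l : List ℕ) (hl : ∀ i ∈ l, i < 2) : permW chevG2 l 11 ∈ orbL := by
  induction l with
  | nil => decide
  | cons i l ih =>
    exact orbL_closed i (hl i List.mem_cons_self) _ (ih fun j hj => hl j (List.mem_cons_of_mem _ hj))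

/-- `⟨r, s^∨⟩ ≥ 0`. -/
def dom (r s : ℕ) : Bool :=
  decide (0 ≤ (chevG2.coroot.getD s #[]).getD 0 0 * chevG2.cartan 0 r +
    (chevG2.coroot.getD s #[]).getD 1 0 * chevG2.cartan 1 r)

theorem dom_inv : ∀ i < 2, ∀ r < 12, ∀ s < 12,
    dom r s = dom (chevG2.reflectRoot i r) (chevG2.reflectRoot i s) := by
  decide +kernel

theorem dom_cent : ∀ s < 12, 6 ≤ s → dom 9 s = true := by
  decide +kernel

theorem dom_T2_chk : ((List.range 2).all fun i => (List.range 12).all fun ρ =>
    (ρ == chevG2.simple i) || (ρ == chevG2.neg (chevG2.simple i)) ||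
      !(dom ρ (chevG2.simple i)) || !(dom ρ (chevG2.neg (chevG2.simple i))) ||
      (chevG2.reflectRoot i ρ == ρ)) = true := by
  decide +kernel

theorem dom_T2 : ∀ i < 2, ∀ ρ < 12, ρ ≠ chevG2.simple i → ρ ≠ chevG2.neg (chevG2.simple i) →
    dom ρ (chevG2.simple i) = true → dom ρ (chevG2.neg (chevG2.simple i)) = true →
    chevG2.reflectRoot i ρ = ρ := by
  intro i hi ρ hρ h1 h2 h3 h4
  have h := dom_T2_chk
  rw [List.all_eq_true] at h
  have h := h i (List.mem_range.mpr hi)
  rw [List.all_eq_true] at h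
  have h := h ρ (List.mem_range.mpr hρ)
  simp only [Bool.or_eq_true, beq_iff_eq, Bool.not_eq_true', h3, h4] at h
  rcases h with ((h | h) | h) | h
  · rcases h with h | h
    · exact absurd h h1
    · exact absurd h h2
  · exact absurd h (by simp)
  · exact absurd h (by simp)
  · exact h

theorem dom_T3 : ∀ s < 12, 6 ≤ s → s ≠ 9 → dom 9 (chevG2.neg s) = true → s = 6 := by
  decide +kernel

theorem dom_conj (hB : BNFacts chevG2) :
    ∀ l : List ℕ, (∀ i ∈ l, i < chevG2.rank) → ∀ r s, r < chevG2.nroots → s < chevG2.nroots →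
      (dom r s = true ↔ dom (permW chevG2 l r) (permW chevG2 l s) = true) := by
  intro l
  induction l with
  | nil => intro _ r s _ _; rfl
  | cons i l ih =>
    intro hl r s hr hs
    have hl' : ∀ j ∈ l, j < chevG2.rank := fun j hj => hl j (List.mem_cons_of_mem _ hj)
    have hi : i < chevG2.rank := hl i List.mem_cons_self
    have h1 := permW_lt hB l hl' r hr
    have h2 := permW_lt hB l hl' s hs
    rw [ih hl' r s hr hs]
    change _ ↔ dom (chevG2.reflectRoot i (permW chevG2 l r)) (chevG2.reflectRoot i (permW chevG2 l s)) = true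
    rw [dom_inv i hi _ h1 _ h2]

theorem commTerms_7_9 : chevG2.commTerms 7 9 = [(10, 3, 1, 1)] := by decide +kernel
theorem commTerms_8_9 : chevG2.commTerms 8 9 = [(11, 3, 1, 1)] := by decide +kernel
theorem commTerms_6_10 : chevG2.commTerms 6 10 = [(11, 1, 1, 1)] := by decide +kernel

theorem commTerms_5_range : ∀ s < 12, 7 ≤ s → ∀ c ∈ chevG2.commTerms 5 s, 7 ≤ c.1 ∧ c.1 < 12 := by
  decide +kernel

theorem evenP_9 : ∀ s ∈ [9, 10, 11, 6, 5], evenP chevG2 9 s = true := by decide +kernel
theorem evenP_10_11 : evenP chevG2 10 11 = true := by decide +kernel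
theorem evenP_10_8 : evenP chevG2 10 8 = true := by decide +kernel
theorem evenP_11_7 : evenP chevG2 11 7 = true := by decide +kernel
theorem evenP_11_8 : evenP chevG2 11 8 = true := by decide +kernel
theorem evenP_10_7 : evenP chevG2 10 7 = true := by decide +kernel

theorem cartan_0_9 : chevG2.cartan 0 9 = 1 := by decide +kernel
theorem cartan_1_9 : chevG2.cartan 1 9 = 0 := by decide +kernel
theorem simple_1 : chevG2.simple 1 = 6 := by decide +kernel
theorem simple_0 : chevG2.simple 0 = 7 := by decide +kernel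
theorem neg_6 : chevG2.neg 6 = 5 := by decide +kernel
theorem neg_7 : chevG2.neg 7 = 4 := by decide +kernel

end Cfsg.Agent.Helper36.G2
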