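import Cfsg.Agent.Lib.Helper36.G2Rel

/-!
# Type `G₂`, characteristic two: every involution of `U` is conjugate in the group to `x_11(1)` or `x_9(1)`.
-/

set_option autoImplicit false
set_option maxRecDepth 100000

namespace Cfsg.Agent.Helper36.G2

open Cfsg.Lie Cfsg.Agent.S1043 Cfsg.Agent.Helper17 Cfsg.Agent.Helper18 Cfsg.Agent.Helper36.Uge

/-- The root element `x_r(c)` of `G₂` as a unit. -/
local notation "X" => xU chevG2 goodG2

theorem reflect_0 : chevG2.reflectRoot 0 8 = 9 ∧ chevG2.reflectRoot 0 6 = 10 ∧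
    chevG2.reflectRoot 0 9 = 8 ∧ chevG2.reflectRoot 0 11 = 11 := by decide +kernel

theorem reflect_1 : chevG2.reflectRoot 1 10 = 11 ∧ chevG2.reflectRoot 1 7 = 8 := by decide +kernel

theorem reflect_1_range : ∀ s < 12, 9 ≤ s → 9 ≤ chevG2.reflectRoot 1 s ∧ chevG2.reflectRoot 1 s < 12 := by
  decide +kernel

section

variable {F : Type*} [Field F]

/-- The torus element `h_{p_i}(d)`. -/
noncomputable def Hd (i : ℕ) (d : F) : GL chevG2.Idx F :=
  wordGL chevG2 goodG2 (chevG2.hWord (chevG2.simple i) d)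

theorem Hd_mem (i : ℕ) (d : F) : Hd i d ∈ chevG2.group F :=
  wordGL_mem chevG2 goodG2 _ _ fun p _ => xU_mem_group chevG2 goodG2 p.1 p.2

theorem Hd_conj (i : ℕ) (hi : i < 2) (d : F) (hd : d ≠ 0) (s : ℕ) (hs : s < 12) (v : F) :
    Hd i d * X s v * (Hd i d)⁻¹ = X s (d ^ chevG2.cartan i s * v) := by
  obtain ⟨tbl, hT⟩ := (facts F).hT
  have hval : ((Hd i d : GL chevG2.Idx F) : Matrix chevG2.Idx chevG2.Idx F) =
      diagMat chevG2 (fun s => chevG2.cartan i s) d := by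
    rw [Hd, wordGL_val]
    exact hMat_simple_of_check chevG2 i (hT.simp i hi) d hd
  have e : Hd i d * X s v = X s (d ^ chevG2.cartan i s * v) * Hd i d := by
    apply Units.ext
    rw [Units.val_mul, Units.val_mul, hval, xU_val, xU_val]
    exact diagMat_mul_x chevG2 (fun s => chevG2.cartan i s) s (hT.addOK chevG2 i hi s hs) d hd v
  rw [e]
  group

theorem nGL_mem_group (i : ℕ) : nGL (F := F) chevG2 goodG2 i ∈ chevG2.group F := by
  rw [nGL]
  exact mul_mem (mul_mem (xU_mem_group chevG2 goodG2 _ _) (xU_mem_group chevG2 goodG2 _ _))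
    (xU_mem_group chevG2 goodG2 _ _)

/-- Conjugation of a root element by `n_i`. -/
theorem nGL_conj (i : ℕ) (hi : i < 2) (s : ℕ) (hs : s < 12) :
    ∃ η : F, η * η = 1 ∧ ∀ v : F, nGL chevG2 goodG2 i * X s v * (nGL chevG2 goodG2 i)⁻¹ =
      X (chevG2.reflectRoot i s) (η * v) := by
  obtain ⟨η, hη, h⟩ := nWordGL_conj_unit chevG2 goodG2 (facts F).hB (facts F).hconj [i]
    (by intro j hj; simp only [List.mem_cons, List.not_mem_nil, or_false] at hj; subst hj; exact hi)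
    s hs
  refine ⟨η, hη, fun v => ?_⟩
  have := h v
  rw [nWordGL_cons, nWordGL_nil, mul_one] at this
  exact this

/-- Conjugate in the group to one of the two root involutions. -/
def Good (g : GL chevG2.Idx F) : Prop :=
  ∃ h ∈ chevG2.group F, h * g * h⁻¹ = X 11 1 ∨ h * g * h⁻¹ = X 9 1

theorem good_of_conj (k : GL chevG2.Idx F) (hk : k ∈ chevG2.group F) (g : GL chevG2.Idx F)
    (h : Good (k * g * k⁻¹)) : Good g := by
  obtain ⟨h', hh', e⟩ := h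
  refine ⟨h' * k, mul_mem hh' hk, ?_⟩
  have : h' * k * g * (h' * k)⁻¹ = h' * (k * g * k⁻¹) * h'⁻¹ := by group
  rw [this]
  exact e

theorem good_of_conj' (k : GL chevG2.Idx F) (hk : k ∈ chevG2.group F) (g : GL chevG2.Idx F)
    (h : Good (k⁻¹ * g * k)) : Good g := by
  apply good_of_conj k⁻¹ (inv_mem hk)
  rwa [inv_inv]

theorem good_11 (c : F) (hc : c ≠ 0) : Good (X 11 c) := by
  refine ⟨Hd 1 c⁻¹, Hd_mem 1 _, Or.inl ?_⟩
  rw [Hd_conj 1 (by omega) c⁻¹ (inv_ne_zero hc) 11 (by omega) c, cartan_1_11, zpow_one,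
    inv_mul_cancel₀ hc]

theorem good_9 (c : F) (hc : c ≠ 0) : Good (X 9 c) := by
  refine ⟨Hd 0 c⁻¹, Hd_mem 0 _, Or.inr ?_⟩
  rw [Hd_conj 0 (by omega) c⁻¹ (inv_ne_zero hc) 9 (by omega) c, cartan_0_9, zpow_one,
    inv_mul_cancel₀ hc]

theorem X_mem_group (r : ℕ) (c : F) : X r c ∈ chevG2.group F := xU_mem_group chevG2 goodG2 r c

/-- Elements of `Uge 11`. -/
theorem Uge11_eq (g : GL chevG2.Idx F) (hg : g ∈ Uge F chevG2 11) : ∃ c : F, g = X 11 c := by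
  obtain ⟨c, v, hv, rfl⟩ :=
    Uge_decomp chevG2 goodG2 uProdData commOK 11 (by decide) (by decide) g hg
  have hv1 : v = 1 := by
    rw [Uge_top chevG2 12 (le_refl _)] at hv
    exact Subgroup.mem_bot.mp hv
  exact ⟨c, by rw [hv1, mul_one]⟩

/-- Elements of `Uge 10`. -/
theorem Uge10_eq (g : GL chevG2.Idx F) (hg : g ∈ Uge F chevG2 10) :
    ∃ a b : F, g = X 10 a * X 11 b := by
  obtain ⟨a, v, hv, rfl⟩ :=
    Uge_decomp chevG2 goodG2 uProdData commOK 10 (by decide) (by decide) g hg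
  obtain ⟨b, rfl⟩ := Uge11_eq v hv
  exact ⟨a, b, rfl⟩

/-- Elements of `Uge 9`. -/
theorem Uge9_eq (g : GL chevG2.Idx F) (hg : g ∈ Uge F chevG2 9) :
    ∃ a b c : F, g = X 9 a * (X 10 b * X 11 c) := by
  obtain ⟨a, v, hv, rfl⟩ :=
    Uge_decomp chevG2 goodG2 uProdData commOK 9 (by decide) (by decide) g hg
  obtain ⟨b, c, rfl⟩ := Uge10_eq v hv
  exact ⟨a, b, c, rfl⟩

end

section

variable {F : Type*} [Field F] [CharP F 2]

theorem add_self_zero (a : F) : a + a = 0 := by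
  have h2 : (2 : F) = 0 := CharTwo.two_eq_zero
  linear_combination a * h2

/-- Level 10. -/
theorem good_Uge10 (g : GL chevG2.Idx F) (hg : g ∈ Uge F chevG2 10) (hne : g ≠ 1) : Good g := by
  obtain ⟨a, b, rfl⟩ := Uge10_eq g hg
  by_cases ha : a = 0
  · subst ha
    rw [X_zero, one_mul] at hne ⊢
    apply good_11
    rintro rfl
    exact hne (X_zero 11)
  · -- kill `b` by `x_6`
    apply good_of_conj' (X 6 (b / a)) (X_mem_group _ _)
    have e : (X 6 (b / a))⁻¹ * (X 10 a * X 11 b) * X 6 (b / a) = X 10 a := by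
      have c611 := X_comm 6 11 (by simp) (b / a) b
      calc (X 6 (b / a))⁻¹ * (X 10 a * X 11 b) * X 6 (b / a)
          = ((X 6 (b / a))⁻¹ * X 10 a * X 6 (b / a)) * ((X 6 (b / a))⁻¹ * (X 11 b * X 6 (b / a))) := by
            group
        _ = X 10 a * X 11 (b / a * a) * ((X 6 (b / a))⁻¹ * (X 6 (b / a) * X 11 b)) := by
            rw [rel_6_10, c611]
        _ = X 10 a * (X 11 (b / a * a) * X 11 b) := by group
        _ = X 10 a := by
            rw [xU_add', div_mul_cancel₀ b ha, add_self_zero, X_zero, mul_one]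
    rw [e]
    -- Weyl group
    obtain ⟨η, hη, hn⟩ := nGL_conj (F := F) 1 (by omega) 10 (by omega)
    apply good_of_conj (nGL chevG2 goodG2 1) (nGL_mem_group 1)
    rw [hn a, reflect_1.1]
    apply good_11
    intro h0
    rcases mul_eq_zero.mp h0 with h | h
    · rw [h, mul_zero] at hη
      exact zero_ne_one hη
    · exact ha h

/-- Level 9. -/
theorem good_Uge9 (g : GL chevG2.Idx F) (hg : g ∈ Uge F chevG2 9) (hne : g ≠ 1) : Good g := by
  obtain ⟨a, b, c, rfl⟩ := Uge9_eq g hg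
  by_cases ha : a = 0
  · subst ha
    rw [X_zero, one_mul] at hne ⊢
    exact good_Uge10 _ (mul_mem (xU_mem_Uge chevG2 goodG2 10 10 le_rfl (by decide) _)
      (xU_mem_Uge chevG2 goodG2 10 11 (by omega) (by decide) _)) hne
  · -- kill `b` by `x_7`, then `c` by `x_8`
    apply good_of_conj' (X 7 (b / a)) (X_mem_group _ _)
    have e1 : (X 7 (b / a))⁻¹ * (X 9 a * (X 10 b * X 11 c)) * X 7 (b / a) = X 9 a * X 11 c := by
      have c710 := X_comm 7 10 (by simp) (b / a) b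
      have c711 := X_comm 7 11 (by simp) (b / a) c
      calc (X 7 (b / a))⁻¹ * (X 9 a * (X 10 b * X 11 c)) * X 7 (b / a)
          = ((X 7 (b / a))⁻¹ * X 9 a * X 7 (b / a)) *
              ((X 7 (b / a))⁻¹ * (X 10 b * (X 11 c * X 7 (b / a)))) := by group
        _ = X 9 a * X 10 (b / a * a) * ((X 7 (b / a))⁻¹ * ((X 7 (b / a) * X 10 b) * X 11 c)) := by
            rw [rel_7_9, ← c711, ← mul_assoc (X 10 b), ← c710]
        _ = X 9 a * ((X 10 (b / a * a) * X 10 b) * X 11 c) := by group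
        _ = X 9 a * X 11 c := by
            rw [xU_add', div_mul_cancel₀ b ha, add_self_zero, X_zero, one_mul]
    rw [e1]
    apply good_of_conj' (X 8 (c / a)) (X_mem_group _ _)
    have e2 : (X 8 (c / a))⁻¹ * (X 9 a * X 11 c) * X 8 (c / a) = X 9 a := by
      have c811 := X_comm 8 11 (by simp) (c / a) c
      calc (X 8 (c / a))⁻¹ * (X 9 a * X 11 c) * X 8 (c / a)
          = ((X 8 (c / a))⁻¹ * X 9 a * X 8 (c / a)) * ((X 8 (c / a))⁻¹ * (X 11 c * X 8 (c / a))) := by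
            group
        _ = X 9 a * X 11 (c / a * a) * ((X 8 (c / a))⁻¹ * (X 8 (c / a) * X 11 c)) := by
            rw [rel_8_9, c811]
        _ = X 9 a * (X 11 (c / a * a) * X 11 c) := by group
        _ = X 9 a := by
            rw [xU_add', div_mul_cancel₀ c ha, add_self_zero, X_zero, mul_one]
    rw [e2]
    exact good_9 a ha

end

section

variable {F : Type*} [Field F] [Finite F] [CharP F 2]

theorem exists_sq (a : F) : ∃ t : F, t ^ 2 = a := by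
  have : Fact (Nat.Prime 2) := ⟨Nat.prime_two⟩
  obtain ⟨t, ht⟩ := surjective_frobenius F 2 a
  exact ⟨t, by rwa [frobenius_def] at ht⟩

omit [Finite F] in
/-- `Uge 10` commutes with `X_8` and `X_9`. -/
theorem Uge10_comm (w : GL chevG2.Idx F) (hw : w ∈ Uge F chevG2 10) (r : ℕ) (hr : r = 8 ∨ r = 9)
    (c : F) : w * X r c = X r c * w := by
  obtain ⟨a, b, rfl⟩ := Uge10_eq w hw
  have h10 : X r c * X 10 a = X 10 a * X r c := by
    rcases hr with rfl | rfl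
    · exact X_comm 8 10 (by simp) c a
    · exact X_comm 9 10 (by simp) c a
  have h11 : X r c * X 11 b = X 11 b * X r c := by
    rcases hr with rfl | rfl
    · exact X_comm 8 11 (by simp) c b
    · exact X_comm 9 11 (by simp) c b
  calc X 10 a * X 11 b * X r c = X 10 a * (X 11 b * X r c) := by group
    _ = X 10 a * (X r c * X 11 b) := by rw [h11]
    _ = (X 10 a * X r c) * X 11 b := by group
    _ = (X r c * X 10 a) * X 11 b := by rw [h10]
    _ = _ := by group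

omit [Finite F] in
theorem Uge10_sq (w : GL chevG2.Idx F) (hw : w ∈ Uge F chevG2 10) : w * w = 1 := by
  obtain ⟨a, b, rfl⟩ := Uge10_eq w hw
  have h := X_comm 10 11 (by simp) a b
  calc X 10 a * X 11 b * (X 10 a * X 11 b) = X 10 a * (X 11 b * X 10 a) * X 11 b := by group
    _ = X 10 a * (X 10 a * X 11 b) * X 11 b := by rw [h]
    _ = (X 10 a * X 10 a) * (X 11 b * X 11 b) := by group
    _ = 1 := by rw [X_sq, X_sq, one_mul]

/-- Level 8. -/
theorem good_Uge8 (g : GL chevG2.Idx F) (hg : g ∈ Uge F chevG2 8) (hsq : g * g = 1) (hne : g ≠ 1) :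
    Good g := by
  obtain ⟨c8, g9, hg9, rfl⟩ :=
    Uge_decomp chevG2 goodG2 uProdData commOK 8 (by decide) (by decide) g hg
  by_cases h8 : c8 = 0
  · subst h8
    rw [X_zero, one_mul] at hne ⊢
    exact good_Uge9 g9 hg9 hne
  obtain ⟨c9, w, hw, rfl⟩ :=
    Uge_decomp chevG2 goodG2 uProdData commOK 9 (by decide) (by decide) g9 hg9
  -- the involution condition: `c9 = 0`
  have h9 : c9 = 0 := by
    have hw8 := Uge10_comm w hw 8 (Or.inl rfl) c8
    have hw9 := Uge10_comm w hw 9 (Or.inr rfl) c9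
    have hww := Uge10_sq w hw
    have r : X 9 c9 * X 8 c8 = X 8 c8 * X 9 c9 * X 11 (c8 * c9) := by
      have := rel_8_9 c8 c9
      calc X 9 c9 * X 8 c8 = X 8 c8 * ((X 8 c8)⁻¹ * X 9 c9 * X 8 c8) := by group
        _ = _ := by rw [this]; group
    have c911 := X_comm 9 11 (by simp) c9 (c8 * c9)
    have e : X 8 c8 * (X 9 c9 * w) * (X 8 c8 * (X 9 c9 * w)) = X 11 (c8 * c9) := by
      calc X 8 c8 * (X 9 c9 * w) * (X 8 c8 * (X 9 c9 * w))
          = X 8 c8 * X 9 c9 * (w * X 8 c8) * (X 9 c9 * w) := by group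
        _ = X 8 c8 * X 9 c9 * (X 8 c8 * w) * (X 9 c9 * w) := by rw [hw8]
        _ = X 8 c8 * (X 9 c9 * X 8 c8) * (w * X 9 c9) * w := by group
        _ = X 8 c8 * (X 8 c8 * X 9 c9 * X 11 (c8 * c9)) * (X 9 c9 * w) * w := by rw [r, hw9]
        _ = (X 8 c8 * X 8 c8) * X 9 c9 * (X 11 (c8 * c9) * X 9 c9) * (w * w) := by group
        _ = X 9 c9 * (X 9 c9 * X 11 (c8 * c9)) := by rw [X_sq, hww, ← c911]; group
        _ = (X 9 c9 * X 9 c9) * X 11 (c8 * c9) := by group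
        _ = X 11 (c8 * c9) := by rw [X_sq, one_mul]
    rw [e] at hsq
    have := xU_eq_one chevG2 goodG2 (facts F).hB 11 (by decide) _ hsq
    rcases mul_eq_zero.mp this with h | h
    · exact absurd h h8
    · exact h
  subst h9
  rw [X_zero, one_mul] at hne hsq ⊢
  obtain ⟨a, b, rfl⟩ := Uge10_eq w hw
  -- kill `a` by `x_7`
  obtain ⟨t, ht⟩ := exists_sq (a / c8)
  apply good_of_conj' (X 7 t) (X_mem_group _ _)
  have e1 : (X 7 t)⁻¹ * (X 8 c8 * (X 10 a * X 11 b)) * X 7 t = X 8 c8 * X 11 (t * c8 ^ 2 + b) := by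
    have c710 := X_comm 7 10 (by simp) t a
    have c711 := X_comm 7 11 (by simp) t b
    have c1011 := X_comm 10 11 (by simp) a (t * c8 ^ 2)
    have hta : t ^ 2 * c8 = a := by rw [ht, div_mul_cancel₀ a h8]
    calc (X 7 t)⁻¹ * (X 8 c8 * (X 10 a * X 11 b)) * X 7 t
        = ((X 7 t)⁻¹ * X 8 c8 * X 7 t) * ((X 7 t)⁻¹ * (X 10 a * (X 11 b * X 7 t))) := by group
      _ = X 8 c8 * (X 10 (t ^ 2 * c8) * X 11 (t * c8 ^ 2)) *
            ((X 7 t)⁻¹ * ((X 7 t * X 10 a) * X 11 b)) := by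
          rw [rel_7_8, ← c711, ← mul_assoc (X 10 a), ← c710]
      _ = X 8 c8 * (X 10 a * (X 11 (t * c8 ^ 2) * X 10 a) * X 11 b) := by rw [hta]; group
      _ = X 8 c8 * (X 10 a * (X 10 a * X 11 (t * c8 ^ 2)) * X 11 b) := by rw [c1011]
      _ = X 8 c8 * ((X 10 a * X 10 a) * (X 11 (t * c8 ^ 2) * X 11 b)) := by group
      _ = _ := by rw [X_sq, one_mul, xU_add']
  rw [e1]
  -- kill the `x_11` term by `x_9`
  apply good_of_conj' (X 9 ((t * c8 ^ 2 + b) / c8)) (X_mem_group _ _)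
  have e2 : (X 9 ((t * c8 ^ 2 + b) / c8))⁻¹ * (X 8 c8 * X 11 (t * c8 ^ 2 + b)) *
      X 9 ((t * c8 ^ 2 + b) / c8) = X 8 c8 := by
    have c911 := X_comm 9 11 (by simp) ((t * c8 ^ 2 + b) / c8) (t * c8 ^ 2 + b)
    calc (X 9 ((t * c8 ^ 2 + b) / c8))⁻¹ * (X 8 c8 * X 11 (t * c8 ^ 2 + b)) *
          X 9 ((t * c8 ^ 2 + b) / c8)
        = ((X 9 ((t * c8 ^ 2 + b) / c8))⁻¹ * X 8 c8 * X 9 ((t * c8 ^ 2 + b) / c8)) *
            ((X 9 ((t * c8 ^ 2 + b) / c8))⁻¹ *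
              (X 11 (t * c8 ^ 2 + b) * X 9 ((t * c8 ^ 2 + b) / c8))) := by group
      _ = X 8 c8 * X 11 ((t * c8 ^ 2 + b) / c8 * c8) * ((X 9 ((t * c8 ^ 2 + b) / c8))⁻¹ *
              (X 9 ((t * c8 ^ 2 + b) / c8) * X 11 (t * c8 ^ 2 + b))) := by rw [rel_9_8, c911]
      _ = X 8 c8 * (X 11 ((t * c8 ^ 2 + b) / c8 * c8) * X 11 (t * c8 ^ 2 + b)) := by group
      _ = X 8 c8 := by
          rw [xU_add', div_mul_cancel₀ _ h8, add_self_zero, X_zero, mul_one]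
  rw [e2]
  -- Weyl group: `8 ↦ 9`
  obtain ⟨η, hη, hn⟩ := nGL_conj (F := F) 0 (by omega) 8 (by omega)
  apply good_of_conj (nGL chevG2 goodG2 0) (nGL_mem_group 0)
  rw [hn c8, reflect_0.1]
  apply good_9
  intro h0
  rcases mul_eq_zero.mp h0 with h | h
  · rw [h, mul_zero] at hη
    exact zero_ne_one hη
  · exact h8 h

end

section

variable {F : Type*} [Field F] [Finite F] [CharP F 2]

theorem good_of_conj_Uge8 (g : GL chevG2.Idx F) (hsq : g * g = 1) (hne : g ≠ 1)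
    (k : GL chevG2.Idx F) (hk : k ∈ chevG2.group F) (h : k * g * k⁻¹ ∈ Uge F chevG2 8) : Good g := by
  apply good_of_conj k hk
  apply good_Uge8 _ h
  · calc k * g * k⁻¹ * (k * g * k⁻¹) = k * (g * g) * k⁻¹ := by group
      _ = 1 := by rw [hsq]; group
  · intro h1
    exact hne (conj_eq_one_iff.mp h1)

omit [Finite F] [CharP F 2] in
theorem Uge9_conj (u : GL chevG2.Idx F) (hu : u ∈ chevG2.posUnipotent F) (w : GL chevG2.Idx F)
    (hw : w ∈ Uge F chevG2 9) : u⁻¹ * w * u ∈ Uge F chevG2 9 ∧ u * w * u⁻¹ ∈ Uge F chevG2 9 :=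
  conj_mem_Uge chevG2 goodG2 uProdData commOK 9 (by decide) u hu w hw

omit [Finite F] [CharP F 2] in
/-- `n_b` normalises `Uge 9`. -/
theorem nGL1_conj_Uge9 (w : GL chevG2.Idx F) (hw : w ∈ Uge F chevG2 9) :
    nGL chevG2 goodG2 1 * w * (nGL chevG2 goodG2 1)⁻¹ ∈ Uge F chevG2 9 := by
  unfold Uge at hw
  induction hw using Subgroup.closure_induction with
  | mem x hx =>
    obtain ⟨s, u, h1, h2, hx⟩ := hx
    have hxe : x = X s u := Units.ext hx
    subst hxe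
    have h2' : s < 12 := h2
    obtain ⟨η, _, hn⟩ := nGL_conj (F := F) 1 (by omega) s h2'
    rw [hn u]
    obtain ⟨h3, h4⟩ := reflect_1_range s h2' h1
    exact xU_mem_Uge chevG2 goodG2 9 _ h3 h4 _
  | one =>
    rw [mul_one, mul_inv_cancel]
    exact one_mem _
  | mul x y _ _ hx hy =>
    have : nGL chevG2 goodG2 1 * (x * y) * (nGL chevG2 goodG2 1)⁻¹ =
        (nGL chevG2 goodG2 1 * x * (nGL chevG2 goodG2 1)⁻¹) *
          (nGL chevG2 goodG2 1 * y * (nGL chevG2 goodG2 1)⁻¹) := by group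
    rw [this]
    exact mul_mem hx hy
  | inv x _ hx =>
    have : nGL chevG2 goodG2 1 * x⁻¹ * (nGL chevG2 goodG2 1)⁻¹ =
        (nGL chevG2 goodG2 1 * x * (nGL chevG2 goodG2 1)⁻¹)⁻¹ := by group
    rw [this]
    exact inv_mem hx

/-- Level 7. -/
theorem good_Uge7 (g : GL chevG2.Idx F) (hg : g ∈ Uge F chevG2 7) (hsq : g * g = 1) (hne : g ≠ 1) :
    Good g := by
  obtain ⟨c7, g8, hg8, e⟩ :=
    Uge_decomp chevG2 goodG2 uProdData commOK 7 (by decide) (by decide) g hg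
  by_cases h7 : c7 = 0
  · subst h7
    rw [X_zero, one_mul] at e
    subst e
    exact good_Uge8 g hg8 hsq hne
  obtain ⟨c8, g9, hg9, e8⟩ :=
    Uge_decomp chevG2 goodG2 uProdData commOK 8 (by decide) (by decide) g8 hg8
  -- conjugate by `x_6(c8/c7)` to kill the `x_8` coefficient
  obtain ⟨w1, hw1, r67⟩ := rel_6_7 (c8 / c7) c7
  have hX6U : X 6 (c8 / c7) ∈ chevG2.posUnipotent F := X_mem_U 6 (by omega) (by omega) _
  have hX8U : X 8 c8 ∈ chevG2.posUnipotent F := X_mem_U 8 (by omega) (by omega) _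
  have hg9' := (Uge9_conj _ hX6U g9 hg9).1
  have hw1' := (Uge9_conj _ hX8U w1 hw1).2
  have c68 := X_comm 6 8 (by simp) (c8 / c7) c8
  have e1 : (X 6 (c8 / c7))⁻¹ * g * X 6 (c8 / c7) =
      X 7 c7 * ((X 8 c8 * w1 * (X 8 c8)⁻¹) * ((X 6 (c8 / c7))⁻¹ * g9 * X 6 (c8 / c7))) := by
    rw [e, e8]
    calc (X 6 (c8 / c7))⁻¹ * (X 7 c7 * (X 8 c8 * g9)) * X 6 (c8 / c7)
        = ((X 6 (c8 / c7))⁻¹ * X 7 c7 * X 6 (c8 / c7)) * ((X 6 (c8 / c7))⁻¹ * (X 6 (c8 / c7) * X 8 c8)) *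
            ((X 6 (c8 / c7))⁻¹ * g9 * X 6 (c8 / c7)) := by rw [c68]; group
      _ = X 7 c7 * X 8 c8 * w1 * X 8 c8 * ((X 6 (c8 / c7))⁻¹ * g9 * X 6 (c8 / c7)) := by
          rw [r67, div_mul_cancel₀ c8 h7]; group
      _ = _ := by rw [X_inv_self 8 c8]; group
  -- now the Weyl group element `n_b`
  obtain ⟨η, hη, hn⟩ := nGL_conj (F := F) 1 (by omega) 7 (by omega)
  apply good_of_conj_Uge8 g hsq hne (nGL chevG2 goodG2 1 * (X 6 (c8 / c7))⁻¹)
    (mul_mem (nGL_mem_group 1) (inv_mem (X_mem_group _ _)))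
  have e2 : nGL chevG2 goodG2 1 * (X 6 (c8 / c7))⁻¹ * g * (nGL chevG2 goodG2 1 * (X 6 (c8 / c7))⁻¹)⁻¹ =
      nGL chevG2 goodG2 1 * ((X 6 (c8 / c7))⁻¹ * g * X 6 (c8 / c7)) * (nGL chevG2 goodG2 1)⁻¹ := by
    group
  rw [e2, e1]
  have e3 : nGL chevG2 goodG2 1 * (X 7 c7 * ((X 8 c8 * w1 * (X 8 c8)⁻¹) *
      ((X 6 (c8 / c7))⁻¹ * g9 * X 6 (c8 / c7)))) * (nGL chevG2 goodG2 1)⁻¹ =
      (nGL chevG2 goodG2 1 * X 7 c7 * (nGL chevG2 goodG2 1)⁻¹) *
        (nGL chevG2 goodG2 1 * ((X 8 c8 * w1 * (X 8 c8)⁻¹) *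
          ((X 6 (c8 / c7))⁻¹ * g9 * X 6 (c8 / c7))) * (nGL chevG2 goodG2 1)⁻¹) := by group
  rw [e3, hn c7, reflect_1.2]
  exact mul_mem (xU_mem_Uge chevG2 goodG2 8 8 le_rfl (by decide) _)
    (Uge_mono chevG2 8 9 (by omega) (nGL1_conj_Uge9 _ (mul_mem hw1' hg9')))

end

section

variable {F : Type*} [Field F] [CharP F 2]

omit [CharP F 2] in
/-- `Uge 8 / Uge 9` is central in `U / Uge 9`. -/
theorem cen8 (u : GL chevG2.Idx F) (hu : u ∈ chevG2.posUnipotent F) (m : GL chevG2.Idx F)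
    (hm : m ∈ Uge F chevG2 8) : ∃ w ∈ Uge F chevG2 9, m * u = u * m * w := by
  obtain ⟨c8, g9, hg9, rfl⟩ :=
    Uge_decomp chevG2 goodG2 uProdData commOK 8 (by decide) (by decide) m hm
  obtain ⟨W, hW, e⟩ := (conj_xU_of_mem chevG2 goodG2 uProdData commOK 8 (by decide) (by decide) c8 u hu).1
  have hg9' := (Uge9_conj u hu g9 hg9).1
  refine ⟨g9⁻¹ * W * (u⁻¹ * g9 * u), mul_mem (mul_mem (inv_mem hg9) hW) hg9', ?_⟩
  calc X 8 c8 * g9 * u = u * (u⁻¹ * X 8 c8 * u) * (u⁻¹ * g9 * u) := by group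
    _ = u * (X 8 c8 * W) * (u⁻¹ * g9 * u) := by rw [e]
    _ = _ := by group

theorem sq_mem_Uge9 (m : GL chevG2.Idx F) (hm : m ∈ Uge F chevG2 8) : m * m ∈ Uge F chevG2 9 := by
  obtain ⟨c8, g9, hg9, rfl⟩ :=
    Uge_decomp chevG2 goodG2 uProdData commOK 8 (by decide) (by decide) m hm
  have h := (Uge9_conj (X 8 c8) (X_mem_U 8 (by omega) (by omega) _) g9 hg9).1
  have e : X 8 c8 * g9 * (X 8 c8 * g9) = (X 8 c8 * X 8 c8) * ((X 8 c8)⁻¹ * g9 * X 8 c8) * g9 := by group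
  rw [e, X_sq, one_mul]
  exact mul_mem h hg9

/-- An involution `x_6(c₆) x_7(c₇) m`, `m ∈ Uge 8`, has `c₆ c₇ = 0`. -/
theorem c67_zero (c6 c7 : F) (m : GL chevG2.Idx F) (hm : m ∈ Uge F chevG2 8)
    (hsq : (X 6 c6 * (X 7 c7 * m)) * (X 6 c6 * (X 7 c7 * m)) = 1) : c6 * c7 = 0 := by
  have haU : X 6 c6 ∈ chevG2.posUnipotent F := X_mem_U 6 (by omega) (by omega) _
  have hbU : X 7 c7 ∈ chevG2.posUnipotent F := X_mem_U 7 (by omega) (by omega) _
  have hmU : m ∈ chevG2.posUnipotent F := Uge_le_U 8 (by omega) hm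
  obtain ⟨w, hw, e1⟩ := cen8 (X 6 c6 * X 7 c7) (mul_mem haU hbU) m hm
  obtain ⟨w1, hw1, r⟩ := rel_6_7 c6 c7
  have hz : X 8 (c6 * c7) * w1 ∈ Uge F chevG2 8 :=
    mul_mem (xU_mem_Uge chevG2 goodG2 8 8 le_rfl (by decide) _) (Uge_mono chevG2 8 9 (by omega) hw1)
  obtain ⟨w2, hw2, e2⟩ := cen8 (X 7 c7) hbU _ hz
  have r' : X 7 c7 * X 6 c6 = X 6 c6 * (X 7 c7 * (X 8 (c6 * c7) * w1)) := by
    calc X 7 c7 * X 6 c6 = X 6 c6 * ((X 6 c6)⁻¹ * X 7 c7 * X 6 c6) := by group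
      _ = _ := by rw [r]; group
  have hmwm : m * w * m ∈ Uge F chevG2 9 := by
    have : m * w * m = (m * w * m⁻¹) * (m * m) := by group
    rw [this]
    exact mul_mem (Uge9_conj m hmU w hw).2 (sq_mem_Uge9 m hm)
  have e : (X 6 c6 * (X 7 c7 * m)) * (X 6 c6 * (X 7 c7 * m)) =
      X 8 (c6 * c7) * (w1 * w2 * (m * w * m)) := by
    calc (X 6 c6 * (X 7 c7 * m)) * (X 6 c6 * (X 7 c7 * m))
        = X 6 c6 * X 7 c7 * (m * (X 6 c6 * X 7 c7)) * m := by group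
      _ = X 6 c6 * X 7 c7 * (X 6 c6 * X 7 c7 * m * w) * m := by rw [e1]
      _ = X 6 c6 * (X 7 c7 * X 6 c6) * X 7 c7 * (m * w * m) := by group
      _ = X 6 c6 * (X 6 c6 * (X 7 c7 * (X 8 (c6 * c7) * w1))) * X 7 c7 * (m * w * m) := by rw [r']
      _ = (X 6 c6 * X 6 c6) * X 7 c7 * ((X 8 (c6 * c7) * w1) * X 7 c7) * (m * w * m) := by group
      _ = X 7 c7 * (X 7 c7 * (X 8 (c6 * c7) * w1) * w2) * (m * w * m) := by rw [X_sq, one_mul, e2]
      _ = (X 7 c7 * X 7 c7) * X 8 (c6 * c7) * (w1 * w2 * (m * w * m)) := by group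
      _ = _ := by rw [X_sq, one_mul]
  rw [e] at hsq
  have h8 : X 8 (c6 * c7) ∈ Uge F chevG2 (8 + 1) := by
    have : X 8 (c6 * c7) = (w1 * w2 * (m * w * m))⁻¹ := eq_inv_of_mul_eq_one_left hsq
    rw [this]
    exact inv_mem (mul_mem (mul_mem hw1 hw2) hmwm)
  exact lead_zero 8 (by omega) (by omega) _ h8

/-- An involution `x_6(c₆) x_9(a) x_10(b) x_11(c)` with `c₆ ≠ 0` has `b = 0`. -/
theorem b_zero (c6 a b c : F) (h6 : c6 ≠ 0)
    (hsq : (X 6 c6 * (X 9 a * (X 10 b * X 11 c))) * (X 6 c6 * (X 9 a * (X 10 b * X 11 c))) = 1) :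
    b = 0 := by
  have c69 := X_comm 6 9 (by simp) c6 a
  have c611 := X_comm 6 11 (by simp) c6 c
  have c910 := X_comm 9 10 (by simp) a b
  have c911 := X_comm 9 11 (by simp) a c
  have c1011 := X_comm 10 11 (by simp) b c
  have c1011' := X_comm 10 11 (by simp) b (c6 * b)
  have hP6 : (X 9 a * X 11 c) * X 6 c6 = X 6 c6 * (X 9 a * X 11 c) := by
    calc (X 9 a * X 11 c) * X 6 c6 = X 9 a * (X 11 c * X 6 c6) := by group
      _ = X 9 a * (X 6 c6 * X 11 c) := by rw [c611]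
      _ = (X 9 a * X 6 c6) * X 11 c := by group
      _ = (X 6 c6 * X 9 a) * X 11 c := by rw [c69]
      _ = _ := by group
  have hP10 : (X 9 a * X 11 c) * X 10 b = X 10 b * (X 9 a * X 11 c) := by
    calc (X 9 a * X 11 c) * X 10 b = X 9 a * (X 11 c * X 10 b) := by group
      _ = X 9 a * (X 10 b * X 11 c) := by rw [c1011]
      _ = (X 9 a * X 10 b) * X 11 c := by group
      _ = (X 10 b * X 9 a) * X 11 c := by rw [c910]
      _ = _ := by group
  have hPP : (X 9 a * X 11 c) * (X 9 a * X 11 c) = 1 := by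
    calc (X 9 a * X 11 c) * (X 9 a * X 11 c) = X 9 a * (X 11 c * X 9 a) * X 11 c := by group
      _ = X 9 a * (X 9 a * X 11 c) * X 11 c := by rw [c911]
      _ = (X 9 a * X 9 a) * (X 11 c * X 11 c) := by group
      _ = 1 := by rw [X_sq, X_sq, one_mul]
  have r : X 10 b * X 6 c6 = X 6 c6 * X 10 b * X 11 (c6 * b) := by
    have := rel_6_10 c6 b
    calc X 10 b * X 6 c6 = X 6 c6 * ((X 6 c6)⁻¹ * X 10 b * X 6 c6) := by group
      _ = _ := by rw [this]; group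
  have eg : X 6 c6 * (X 9 a * (X 10 b * X 11 c)) = (X 6 c6 * X 10 b) * (X 9 a * X 11 c) := by
    calc X 6 c6 * (X 9 a * (X 10 b * X 11 c)) = X 6 c6 * ((X 9 a * X 10 b) * X 11 c) := by group
      _ = X 6 c6 * ((X 10 b * X 9 a) * X 11 c) := by rw [c910]
      _ = _ := by group
  have e : (X 6 c6 * (X 9 a * (X 10 b * X 11 c))) * (X 6 c6 * (X 9 a * (X 10 b * X 11 c))) =
      X 11 (c6 * b) := by
    rw [eg]
    calc (X 6 c6 * X 10 b) * (X 9 a * X 11 c) * ((X 6 c6 * X 10 b) * (X 9 a * X 11 c))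
        = X 6 c6 * X 10 b * ((X 9 a * X 11 c) * X 6 c6) * X 10 b * (X 9 a * X 11 c) := by group
      _ = X 6 c6 * X 10 b * X 6 c6 * ((X 9 a * X 11 c) * X 10 b) * (X 9 a * X 11 c) := by
          rw [hP6]; group
      _ = X 6 c6 * (X 10 b * X 6 c6) * X 10 b * ((X 9 a * X 11 c) * (X 9 a * X 11 c)) := by
          rw [hP10]; group
      _ = (X 6 c6 * X 6 c6) * X 10 b * (X 11 (c6 * b) * X 10 b) := by rw [r, hPP]; group
      _ = X 10 b * (X 10 b * X 11 (c6 * b)) := by rw [X_sq, one_mul, c1011']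
      _ = (X 10 b * X 10 b) * X 11 (c6 * b) := by group
      _ = _ := by rw [X_sq, one_mul]
  rw [e] at hsq
  have := xU_eq_one chevG2 goodG2 (facts F).hB 11 (by decide) _ hsq
  rcases mul_eq_zero.mp this with h | h
  · exact absurd h h6
  · exact h

end

section

variable {F : Type*} [Field F] [Finite F] [CharP F 2]

/-- Every involution of `U` is conjugate in the group to `x_11(1)` or to `x_9(1)`. -/
theorem good_U (g : GL chevG2.Idx F) (hg : g ∈ chevG2.posUnipotent F) (hsq : g * g = 1)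
    (hne : g ≠ 1) : Good g := by
  have hg6 : g ∈ Uge F chevG2 6 := by rw [← U_eq_Uge]; exact hg
  obtain ⟨c6, g7, hg7, e6⟩ :=
    Uge_decomp chevG2 goodG2 uProdData commOK 6 (by decide) (by decide) g hg6
  by_cases h6 : c6 = 0
  · subst h6
    rw [X_zero, one_mul] at e6
    subst e6
    exact good_Uge7 g hg7 hsq hne
  obtain ⟨c7, g8, hg8, e7⟩ :=
    Uge_decomp chevG2 goodG2 uProdData commOK 7 (by decide) (by decide) g7 hg7
  have h7 : c7 = 0 := by
    have h := c67_zero c6 c7 g8 hg8 (by rw [← e7, ← e6]; exact hsq)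
    rcases mul_eq_zero.mp h with h | h
    · exact absurd h h6
    · exact h
  subst h7
  rw [X_zero, one_mul] at e7
  subst e7
  obtain ⟨c8, g9, hg9, e8⟩ :=
    Uge_decomp chevG2 goodG2 uProdData commOK 8 (by decide) (by decide) g7 hg8
  -- conjugate by `x_7(c8/c6)`
  have hX7U : X 7 (c8 / c6) ∈ chevG2.posUnipotent F := X_mem_U 7 (by omega) (by omega) _
  have hX8U : X 8 c8 ∈ chevG2.posUnipotent F := X_mem_U 8 (by omega) (by omega) _
  obtain ⟨w1, hw1, r76⟩ := rel_7_6 (c8 / c6) c6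
  obtain ⟨W, hW, r78⟩ := (conj_xU_of_mem chevG2 goodG2 uProdData commOK 8 (by decide) (by decide)
    c8 (X 7 (c8 / c6)) hX7U).1
  have hg9' := (Uge9_conj _ hX7U g9 hg9).1
  have hw1' := (Uge9_conj _ hX8U w1 hw1).2
  obtain ⟨g9'', hg9'', hdef⟩ : ∃ g9'' ∈ Uge F chevG2 9, g9'' = (X 8 c8 * w1 * (X 8 c8)⁻¹) * W *
      ((X 7 (c8 / c6))⁻¹ * g9 * X 7 (c8 / c6)) := ⟨_, mul_mem (mul_mem hw1' hW) hg9', rfl⟩
  have e1 : (X 7 (c8 / c6))⁻¹ * g * X 7 (c8 / c6) = X 6 c6 * g9'' := by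
    rw [e6, e8, hdef]
    calc (X 7 (c8 / c6))⁻¹ * (X 6 c6 * (X 8 c8 * g9)) * X 7 (c8 / c6)
        = ((X 7 (c8 / c6))⁻¹ * X 6 c6 * X 7 (c8 / c6)) * ((X 7 (c8 / c6))⁻¹ * X 8 c8 * X 7 (c8 / c6)) *
            ((X 7 (c8 / c6))⁻¹ * g9 * X 7 (c8 / c6)) := by group
      _ = X 6 c6 * X 8 c8 * w1 * (X 8 c8 * W) * ((X 7 (c8 / c6))⁻¹ * g9 * X 7 (c8 / c6)) := by
          rw [r76, r78, div_mul_cancel₀ c8 h6]
      _ = _ := by rw [X_inv_self 8 c8]; group
  have hsq' : (X 6 c6 * g9'') * (X 6 c6 * g9'') = 1 := by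
    rw [← e1]
    calc (X 7 (c8 / c6))⁻¹ * g * X 7 (c8 / c6) * ((X 7 (c8 / c6))⁻¹ * g * X 7 (c8 / c6))
        = (X 7 (c8 / c6))⁻¹ * (g * g) * X 7 (c8 / c6) := by group
      _ = 1 := by rw [hsq]; group
  obtain ⟨a, b, c, rfl⟩ := Uge9_eq g9'' hg9''
  have hb : b = 0 := b_zero c6 a b c h6 hsq'
  subst hb
  rw [X_zero, one_mul] at e1
  -- the Weyl group element `n_a`
  obtain ⟨η1, _, hn1⟩ := nGL_conj (F := F) 0 (by omega) 6 (by omega)
  obtain ⟨η2, _, hn2⟩ := nGL_conj (F := F) 0 (by omega) 9 (by omega)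
  obtain ⟨η3, _, hn3⟩ := nGL_conj (F := F) 0 (by omega) 11 (by omega)
  apply good_of_conj_Uge8 g hsq hne (nGL chevG2 goodG2 0 * (X 7 (c8 / c6))⁻¹)
    (mul_mem (nGL_mem_group 0) (inv_mem (X_mem_group _ _)))
  have e2 : nGL chevG2 goodG2 0 * (X 7 (c8 / c6))⁻¹ * g * (nGL chevG2 goodG2 0 * (X 7 (c8 / c6))⁻¹)⁻¹ =
      nGL chevG2 goodG2 0 * ((X 7 (c8 / c6))⁻¹ * g * X 7 (c8 / c6)) * (nGL chevG2 goodG2 0)⁻¹ := by
    group
  rw [e2, e1]
  have e3 : nGL chevG2 goodG2 0 * (X 6 c6 * (X 9 a * X 11 c)) * (nGL chevG2 goodG2 0)⁻¹ =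
      (nGL chevG2 goodG2 0 * X 6 c6 * (nGL chevG2 goodG2 0)⁻¹) *
        ((nGL chevG2 goodG2 0 * X 9 a * (nGL chevG2 goodG2 0)⁻¹) *
          (nGL chevG2 goodG2 0 * X 11 c * (nGL chevG2 goodG2 0)⁻¹)) := by group
  rw [e3, hn1 c6, hn2 a, hn3 c, reflect_0.2.1, reflect_0.2.2.1, reflect_0.2.2.2]
  exact mul_mem (xU_mem_Uge chevG2 goodG2 8 10 (by omega) (by decide) _)
    (mul_mem (xU_mem_Uge chevG2 goodG2 8 8 le_rfl (by decide) _)
      (xU_mem_Uge chevG2 goodG2 8 11 (by omega) (by decide) _))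

end

end Cfsg.Agent.Helper36.G2
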