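import Cfsg.Agent.Lib.Helper36.G2Cent9

/-!
# Type `G₂`, characteristic two: explicit conjugation relations between positive root elements,
torus and Weyl group conjugation of root elements.
-/

set_option autoImplicit false
set_option maxRecDepth 100000

namespace Cfsg.Agent.Helper36.G2

open Cfsg.Lie Cfsg.Agent.S1043 Cfsg.Agent.Helper17 Cfsg.Agent.Helper18 Cfsg.Agent.Helper36.Uge

/-- The root element `x_r(c)` of `G₂` as a unit. -/
local notation "X" => xU chevG2 goodG2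

theorem commTerms_9_8 : chevG2.commTerms 9 8 = [(11, -3, 1, 1)] := by decide +kernel
theorem commTerms_7_8 : chevG2.commTerms 7 8 = [(9, -2, 1, 1), (10, -3, 2, 1), (11, 3, 1, 2)] := by
  decide +kernel
theorem commTerms_6_7 :
    chevG2.commTerms 6 7 = [(8, 1, 1, 1), (9, 1, 1, 2), (10, -1, 1, 3), (11, -2, 2, 3)] := by
  decide +kernel
theorem commTerms_7_6 :
    chevG2.commTerms 7 6 = [(8, -1, 1, 1), (9, 1, 2, 1), (10, 1, 3, 1), (11, 1, 3, 2)] := by
  decide +kernel

theorem evenP_tab : ∀ p ∈ [(6, 8), (6, 9), (6, 11), (7, 10), (7, 11), (8, 10), (8, 11), (9, 10),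
    (9, 11), (10, 11)], evenP chevG2 p.1 p.2 = true := by decide +kernel

theorem cartan_1_11 : chevG2.cartan 1 11 = 1 := by decide +kernel

section

variable {F : Type*} [Field F]

/-- From the commutator formula to a conjugation formula. -/
theorem conj_of_commOK (k s : ℕ) (hk : k < 12) (hs : s < 12) (h1 : s ≠ k) (h2 : s ≠ chevG2.neg k)
    (t u : F) :
    (X k t)⁻¹ * X s u * X k t = X s u * wordGL chevG2 goodG2 (chevG2.commWord F k s t u) := by
  have H := commOK (F := F) k hk s hs h1 h2 t u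
  have hGL : X s u * X k t = X k t * X s u * wordGL chevG2 goodG2 (chevG2.commWord F k s t u) := by
    apply Units.ext
    rw [Units.val_mul, Units.val_mul, Units.val_mul, xU_val, xU_val, wordGL_val]
    exact H
  rw [mul_assoc, hGL]
  group

theorem wordGL_cons' (p : ℕ × F) (w : List (ℕ × F)) :
    wordGL chevG2 goodG2 (p :: w) = X p.1 p.2 * wordGL chevG2 goodG2 w := by
  simp [wordGL]

theorem wordGL_nil' : wordGL chevG2 goodG2 ([] : List (ℕ × F)) = 1 := by
  simp [wordGL]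

end

section

variable {F : Type*} [Field F] [CharP F 2]

theorem neg_eq_self (a : F) : -a = a := by
  have h2 : (2 : F) = 0 := CharTwo.two_eq_zero
  linear_combination (-a) * h2

theorem X_inv_self (r : ℕ) (c : F) : (X r c)⁻¹ = X r c := by
  rw [xU_inv, neg_eq_self]

theorem X_sq (r : ℕ) (c : F) : X r c * X r c = 1 := by
  rw [xU_add']
  have : c + c = 0 := by
    have h2 : (2 : F) = 0 := CharTwo.two_eq_zero
    linear_combination c * h2
  rw [this, X_zero]

theorem X_comm (r s : ℕ) (h : (r, s) ∈ [(6, 8), (6, 9), (6, 11), (7, 10), (7, 11), (8, 10), (8, 11),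
    (9, 10), (9, 11), (10, 11)]) (a b : F) : X r a * X s b = X s b * X r a := by
  have he := evenP_tab (r, s) h
  have hr : r < 12 ∧ s < 12 := by
    simp only [List.mem_cons, Prod.mk.injEq, List.not_mem_nil, or_false] at h
    omega
  exact X_comm_of_evenP r s hr.1 hr.2 he a b

theorem rel_6_10 (t u : F) : (X 6 t)⁻¹ * X 10 u * X 6 t = X 10 u * X 11 (t * u) := by
  rw [conj_of_commOK 6 10 (by omega) (by omega) (by omega) (by decide +kernel) t u,
    ChevalleyDatum.commWord, commTerms_6_10]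
  simp only [List.map_cons, List.map_nil]
  rw [wordGL_cons', wordGL_nil', mul_one]
  congr 2
  push_cast
  rw [neg_eq_self]
  ring

theorem rel_7_9 (t u : F) : (X 7 t)⁻¹ * X 9 u * X 7 t = X 9 u * X 10 (t * u) := by
  rw [conj_of_commOK 7 9 (by omega) (by omega) (by omega) (by decide +kernel) t u,
    ChevalleyDatum.commWord, commTerms_7_9]
  simp only [List.map_cons, List.map_nil]
  rw [wordGL_cons', wordGL_nil', mul_one]
  congr 2
  rw [three_eq_one, neg_eq_self]
  ring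

theorem rel_8_9 (t u : F) : (X 8 t)⁻¹ * X 9 u * X 8 t = X 9 u * X 11 (t * u) := by
  rw [conj_of_commOK 8 9 (by omega) (by omega) (by omega) (by decide +kernel) t u,
    ChevalleyDatum.commWord, commTerms_8_9]
  simp only [List.map_cons, List.map_nil]
  rw [wordGL_cons', wordGL_nil', mul_one]
  congr 2
  rw [three_eq_one, neg_eq_self]
  ring

theorem rel_9_8 (t u : F) : (X 9 t)⁻¹ * X 8 u * X 9 t = X 8 u * X 11 (t * u) := by
  rw [conj_of_commOK 9 8 (by omega) (by omega) (by omega) (by decide +kernel) t u,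
    ChevalleyDatum.commWord, commTerms_9_8]
  simp only [List.map_cons, List.map_nil]
  rw [wordGL_cons', wordGL_nil', mul_one]
  congr 2
  have h3 : ((-3 : ℤ) : F) = 1 := by
    have h2 : (2 : F) = 0 := CharTwo.two_eq_zero
    push_cast
    linear_combination (-2 : F) * h2
  rw [h3, neg_eq_self]
  ring

theorem rel_7_8 (t u : F) :
    (X 7 t)⁻¹ * X 8 u * X 7 t = X 8 u * (X 10 (t ^ 2 * u) * X 11 (t * u ^ 2)) := by
  rw [conj_of_commOK 7 8 (by omega) (by omega) (by omega) (by decide +kernel) t u,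
    ChevalleyDatum.commWord, commTerms_7_8]
  simp only [List.map_cons, List.map_nil]
  rw [wordGL_cons', wordGL_cons', wordGL_cons', wordGL_nil', mul_one]
  have h2 : (2 : F) = 0 := CharTwo.two_eq_zero
  have e9 : ((-2 : ℤ) : F) * (-t) ^ 1 * u ^ 1 = 0 := by
    push_cast
    linear_combination (t * u) * h2
  have e10 : ((-3 : ℤ) : F) * (-t) ^ 2 * u ^ 1 = t ^ 2 * u := by
    push_cast
    linear_combination (-2 * t ^ 2 * u) * h2
  have e11 : ((3 : ℤ) : F) * (-t) ^ 1 * u ^ 2 = t * u ^ 2 := by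
    push_cast
    linear_combination (-2 * t * u ^ 2) * h2
  simp only [e9, e10, e11]
  rw [X_zero, one_mul]

/-- `x_6(t)⁻¹ x_7(u) x_6(t) ∈ x_7(u) x_8(tu) Uge 9`. -/
theorem rel_6_7 (t u : F) :
    ∃ w ∈ Uge F chevG2 9, (X 6 t)⁻¹ * X 7 u * X 6 t = X 7 u * X 8 (t * u) * w := by
  rw [conj_of_commOK 6 7 (by omega) (by omega) (by omega) (by decide +kernel) t u,
    ChevalleyDatum.commWord, commTerms_6_7]
  simp only [List.map_cons, List.map_nil]
  rw [wordGL_cons', wordGL_cons', wordGL_cons', wordGL_cons', wordGL_nil', mul_one]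
  refine ⟨X 9 (((1 : ℤ) : F) * (-t) ^ 1 * u ^ 2) * (X 10 (((-1 : ℤ) : F) * (-t) ^ 1 * u ^ 3) *
      X 11 (((-2 : ℤ) : F) * (-t) ^ 2 * u ^ 3)),
    mul_mem (xU_mem_Uge chevG2 goodG2 9 9 le_rfl (by decide) _)
    (mul_mem (xU_mem_Uge chevG2 goodG2 9 10 (by omega) (by decide) _)
      (xU_mem_Uge chevG2 goodG2 9 11 (by omega) (by decide) _)), ?_⟩
  have e8 : ((1 : ℤ) : F) * (-t) ^ 1 * u ^ 1 = t * u := by
    push_cast
    rw [neg_eq_self]
    ring
  show X 7 u * (X 8 (((1 : ℤ) : F) * (-t) ^ 1 * u ^ 1) * (X 9 (((1 : ℤ) : F) * (-t) ^ 1 * u ^ 2) *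
    (X 10 (((-1 : ℤ) : F) * (-t) ^ 1 * u ^ 3) * X 11 (((-2 : ℤ) : F) * (-t) ^ 2 * u ^ 3)))) = _
  rw [e8]
  simp only [mul_assoc]

omit [CharP F 2] in
/-- `x_7(t)⁻¹ x_6(u) x_7(t) ∈ x_6(u) x_8(tu) Uge 9`. -/
theorem rel_7_6 (t u : F) :
    ∃ w ∈ Uge F chevG2 9, (X 7 t)⁻¹ * X 6 u * X 7 t = X 6 u * X 8 (t * u) * w := by
  rw [conj_of_commOK 7 6 (by omega) (by omega) (by omega) (by decide +kernel) t u,
    ChevalleyDatum.commWord, commTerms_7_6]
  simp only [List.map_cons, List.map_nil]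
  rw [wordGL_cons', wordGL_cons', wordGL_cons', wordGL_cons', wordGL_nil', mul_one]
  refine ⟨X 9 (((1 : ℤ) : F) * (-t) ^ 2 * u ^ 1) * (X 10 (((1 : ℤ) : F) * (-t) ^ 3 * u ^ 1) *
      X 11 (((1 : ℤ) : F) * (-t) ^ 3 * u ^ 2)),
    mul_mem (xU_mem_Uge chevG2 goodG2 9 9 le_rfl (by decide) _)
    (mul_mem (xU_mem_Uge chevG2 goodG2 9 10 (by omega) (by decide) _)
      (xU_mem_Uge chevG2 goodG2 9 11 (by omega) (by decide) _)), ?_⟩
  have e8 : ((-1 : ℤ) : F) * (-t) ^ 1 * u ^ 1 = t * u := by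
    push_cast
    ring
  show X 6 u * (X 8 (((-1 : ℤ) : F) * (-t) ^ 1 * u ^ 1) * (X 9 (((1 : ℤ) : F) * (-t) ^ 2 * u ^ 1) *
    (X 10 (((1 : ℤ) : F) * (-t) ^ 3 * u ^ 1) * X 11 (((1 : ℤ) : F) * (-t) ^ 3 * u ^ 2)))) = _
  rw [e8]
  simp only [mul_assoc]

end

end Cfsg.Agent.Helper36.G2
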