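import Mathlib
import Cfsg.Agent.Lib.Helper36.Blk3

set_option autoImplicit false
set_option linter.unusedSectionVars false

/-!
# The centraliser of an involution in a characteristic-two symplectic group, in block form

In a basis `E₁ ⊕ M ⊕ F₁` the symplectic form is `J3 = [[0,0,1],[0,Jc,0],[1,0,0]]` and the
involution is `T3 = [[1,0,β],[0,1,0],[0,0,1]]` with `β` symmetric invertible.  The matrices
preserving `J3` and commuting with `T3` are in explicit bijection with
`O(β) × Sp(Jc) × Mat × Sym`.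
-/

namespace Cfsg.Agent.Helper36.InvCent

open Matrix Cfsg.Agent.Helper36.Blk3

universe u

variable {F : Type u} [Field F] [CharP F 2] {a c : Type} [Fintype a] [DecidableEq a]
  [Fintype c] [DecidableEq c]

omit [Fintype a] [DecidableEq a] [Fintype c] [DecidableEq c] in
theorem mat_add_self {m n : Type*} (M : Matrix m n F) : M + M = 0 := by
  ext i j
  exact CharTwo.add_self_eq_zero _

omit [Fintype a] [DecidableEq a] [Fintype c] [DecidableEq c] in
theorem mat_eq_of_add_eq_zero {m n : Type*} {M N : Matrix m n F} (h : M + N = 0) : M = N := by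
  have h1 : M = -N := eq_neg_of_add_eq_zero_left h
  rw [h1]
  ext i j
  exact CharTwo.neg_eq _

variable (β : Matrix a a F) (Jc : Matrix c c F)

/-- the symplectic form in the adapted basis -/
def J3 : Matrix (I3 a c a) (I3 a c a) F := mk3 0 0 1 0 Jc 0 1 0 0

/-- the involution in the adapted basis -/
def T3 : Matrix (I3 a c a) (I3 a c a) F := mk3 1 0 β 0 1 0 0 0 1

theorem mul_J3_mul_transpose (g11 : Matrix a a F) (g12 : Matrix a c F) (g13 : Matrix a a F)
    (g21 : Matrix c a F) (g22 : Matrix c c F) (g23 : Matrix c a F)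
    (g31 : Matrix a a F) (g32 : Matrix a c F) (g33 : Matrix a a F) :
    mk3 g11 g12 g13 g21 g22 g23 g31 g32 g33 * J3 Jc *
        (mk3 g11 g12 g13 g21 g22 g23 g31 g32 g33)ᵀ =
      mk3 (g13 * g11ᵀ + g12 * Jc * g12ᵀ + g11 * g13ᵀ) (g13 * g21ᵀ + g12 * Jc * g22ᵀ + g11 * g23ᵀ)
        (g13 * g31ᵀ + g12 * Jc * g32ᵀ + g11 * g33ᵀ)
        (g23 * g11ᵀ + g22 * Jc * g12ᵀ + g21 * g13ᵀ) (g23 * g21ᵀ + g22 * Jc * g22ᵀ + g21 * g23ᵀ)
        (g23 * g31ᵀ + g22 * Jc * g32ᵀ + g21 * g33ᵀ)
        (g33 * g11ᵀ + g32 * Jc * g12ᵀ + g31 * g13ᵀ) (g33 * g21ᵀ + g32 * Jc * g22ᵀ + g31 * g23ᵀ)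
        (g33 * g31ᵀ + g32 * Jc * g32ᵀ + g31 * g33ᵀ) := by
  unfold J3
  rw [mk3_mul, mk3_transpose, mk3_mul]
  simp

theorem mul_T3 (g11 : Matrix a a F) (g12 : Matrix a c F) (g13 : Matrix a a F)
    (g21 : Matrix c a F) (g22 : Matrix c c F) (g23 : Matrix c a F)
    (g31 : Matrix a a F) (g32 : Matrix a c F) (g33 : Matrix a a F) :
    mk3 g11 g12 g13 g21 g22 g23 g31 g32 g33 * T3 β =
      mk3 g11 g12 (g11 * β + g13) g21 g22 (g21 * β + g23) g31 g32 (g31 * β + g33) := by
  unfold T3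
  rw [mk3_mul]
  simp

theorem T3_mul (g11 : Matrix a a F) (g12 : Matrix a c F) (g13 : Matrix a a F)
    (g21 : Matrix c a F) (g22 : Matrix c c F) (g23 : Matrix c a F)
    (g31 : Matrix a a F) (g32 : Matrix a c F) (g33 : Matrix a a F) :
    T3 β * mk3 g11 g12 g13 g21 g22 g23 g31 g32 g33 =
      mk3 (g11 + β * g31) (g12 + β * g32) (g13 + β * g33) g21 g22 g23 g31 g32 g33 := by
  unfold T3
  rw [mk3_mul]
  simp

omit [Fintype a] [DecidableEq a] [DecidableEq c] in
theorem tau_transpose (P : Matrix a c F) (K : Matrix c c F) :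
    (P * K * Pᵀ)ᵀ = P * Kᵀ * Pᵀ := by
  rw [transpose_mul, transpose_mul, transpose_transpose, Matrix.mul_assoc]

omit [Fintype a] [DecidableEq a] [DecidableEq c] in
theorem tau_add (P : Matrix a c F) (K : Matrix c c F) :
    P * (K + Kᵀ) * Pᵀ = P * K * Pᵀ + P * Kᵀ * Pᵀ := by
  rw [Matrix.mul_add, Matrix.add_mul]

/-- the structure of a matrix preserving `J3` and commuting with `T3` -/
theorem structure_of_mem (βi : Matrix a a F) (hβi : β * βi = 1)
    (g11 : Matrix a a F) (g12 : Matrix a c F) (g13 : Matrix a a F)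
    (g21 : Matrix c a F) (g22 : Matrix c c F) (g23 : Matrix c a F)
    (g31 : Matrix a a F) (g32 : Matrix a c F) (g33 : Matrix a a F)
    (h1 : mk3 g11 g12 g13 g21 g22 g23 g31 g32 g33 * J3 Jc *
      (mk3 g11 g12 g13 g21 g22 g23 g31 g32 g33)ᵀ = J3 Jc)
    (h2 : mk3 g11 g12 g13 g21 g22 g23 g31 g32 g33 * T3 β =
      T3 β * mk3 g11 g12 g13 g21 g22 g23 g31 g32 g33) :
    g21 = 0 ∧ g31 = 0 ∧ g32 = 0 ∧ g11 * β = β * g33 ∧ g11 * g33ᵀ = 1 ∧
      g22 * Jc * g22ᵀ = Jc ∧ g12 * Jc * g22ᵀ + g11 * g23ᵀ = 0 ∧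
      g13 * g11ᵀ + g12 * Jc * g12ᵀ + g11 * g13ᵀ = 0 := by
  have hβi' : βi * β = 1 := mul_eq_one_comm.mp hβi
  rw [mul_T3, T3_mul] at h2
  obtain ⟨e11, e12, e13, -, -, e23, -, -, -⟩ := mk3_inj h2
  have h31 : g31 = 0 := by
    have : β * g31 = 0 := by
      have := e11
      rwa [left_eq_add] at this
    calc g31 = (βi * β) * g31 := by rw [hβi', Matrix.one_mul]
      _ = 0 := by rw [Matrix.mul_assoc, this, Matrix.mul_zero]
  have h32 : g32 = 0 := by
    have : β * g32 = 0 := by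
      have := e12
      rwa [left_eq_add] at this
    calc g32 = (βi * β) * g32 := by rw [hβi', Matrix.one_mul]
      _ = 0 := by rw [Matrix.mul_assoc, this, Matrix.mul_zero]
  have h21 : g21 = 0 := by
    have : g21 * β = 0 := by
      have := e23
      rwa [add_eq_right] at this
    calc g21 = g21 * (β * βi) := by rw [hβi, Matrix.mul_one]
      _ = 0 := by rw [← Matrix.mul_assoc, this, Matrix.zero_mul]
  have h13 : g11 * β = β * g33 := by
    have := e13
    rw [add_comm] at this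
    exact add_left_cancel this
  subst h31 h32 h21
  rw [mul_J3_mul_transpose] at h1
  unfold J3 at h1
  obtain ⟨f11, f12, f13, -, f22, -, -, -, -⟩ := mk3_inj h1
  refine ⟨rfl, rfl, rfl, h13, ?_, ?_, ?_, f11⟩
  · simpa using f13
  · simpa using f22
  · simpa using f12

section equiv

variable (βi : Matrix a a F) (K : Matrix c c F)

/-- matrices preserving `J3` and commuting with `T3` -/
abbrev Cset : Type u :=
  {g : Matrix (I3 a c a) (I3 a c a) F // g * J3 Jc * gᵀ = J3 Jc ∧ g * T3 β = T3 β * g}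

/-- the parameter space -/
abbrev Pset : Type u :=
  {X : Matrix a a F // X * β * Xᵀ = β} × {S : Matrix c c F // S * Jc * Sᵀ = Jc} ×
    Matrix a c F × {Y : Matrix a a F // Yᵀ = Y}

theorem inv_transpose (hβ : βᵀ = β) (hβi : β * βi = 1) : βiᵀ = βi := by
  have hβi' : βi * β = 1 := mul_eq_one_comm.mp hβi
  have h1 : βiᵀ * β = 1 := by
    have := congrArg Matrix.transpose hβi
    rwa [transpose_mul, hβ, transpose_one] at this
  calc βiᵀ = βiᵀ * (β * βi) := by rw [hβi, Matrix.mul_one]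
    _ = βi := by rw [← Matrix.mul_assoc, h1, Matrix.one_mul]

theorem X'_facts (hβ : βᵀ = β) (hβi : β * βi = 1) (X : Matrix a a F) (hX : X * β * Xᵀ = β) :
    X * (βi * X * β)ᵀ = 1 ∧ (βi * X * β) * Xᵀ = 1 ∧ β * (βi * X * β) = X * β := by
  have hβi' : βi * β = 1 := mul_eq_one_comm.mp hβi
  have hβiT := inv_transpose β βi hβ hβi
  refine ⟨?_, ?_, ?_⟩
  · rw [transpose_mul, transpose_mul, hβ, hβiT, ← Matrix.mul_assoc, ← Matrix.mul_assoc, hX, hβi]
  · rw [Matrix.mul_assoc, Matrix.mul_assoc, ← Matrix.mul_assoc X, hX, hβi']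
  · rw [← Matrix.mul_assoc, ← Matrix.mul_assoc, hβi, Matrix.one_mul]

/-- the element attached to parameters -/
def build (X : Matrix a a F) (S : Matrix c c F) (P : Matrix a c F) (Y : Matrix a a F) :
    Matrix (I3 a c a) (I3 a c a) F :=
  mk3 X P ((Y + P * K * Pᵀ) * (βi * X * β)) 0 S (S * Jc * Pᵀ * (βi * X * β)) 0 0 (βi * X * β)

theorem build_mem (hβ : βᵀ = β) (hβi : β * βi = 1) (hJK : Jc = K + Kᵀ)
    (X : Matrix a a F) (hX : X * β * Xᵀ = β) (S : Matrix c c F) (hS : S * Jc * Sᵀ = Jc)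
    (P : Matrix a c F) (Y : Matrix a a F) (hY : Yᵀ = Y) :
    build β Jc βi K X S P Y * J3 Jc * (build β Jc βi K X S P Y)ᵀ = J3 Jc ∧
      build β Jc βi K X S P Y * T3 β = T3 β * build β Jc βi K X S P Y := by
  obtain ⟨f1, f2, f3⟩ := X'_facts β βi hβ hβi X hX
  have hJT : Jcᵀ = Jc := by
    rw [hJK, transpose_add, transpose_transpose, add_comm]
  set X' := βi * X * β with hX'
  have hW1 : (Y + P * K * Pᵀ) * X' * Xᵀ = Y + P * K * Pᵀ := by
    rw [Matrix.mul_assoc, f2, Matrix.mul_one]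
  have hW2 : X * ((Y + P * K * Pᵀ) * X')ᵀ = Y + P * Kᵀ * Pᵀ := by
    rw [transpose_mul, ← Matrix.mul_assoc, f1, Matrix.one_mul, transpose_add, hY, tau_transpose]
  have hJ : P * Jc * Pᵀ = P * K * Pᵀ + P * Kᵀ * Pᵀ := by
    rw [hJK, tau_add]
  have hZ : X * (S * Jc * Pᵀ * X')ᵀ = P * Jc * Sᵀ := by
    rw [transpose_mul, ← Matrix.mul_assoc, f1, Matrix.one_mul, transpose_mul, transpose_mul,
      transpose_transpose, hJT, Matrix.mul_assoc]
  have hZ2 : S * Jc * Pᵀ * X' * Xᵀ = S * Jc * Pᵀ := by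
    rw [Matrix.mul_assoc (S * Jc * Pᵀ), f2, Matrix.mul_one]
  constructor
  · unfold build
    rw [mul_J3_mul_transpose]
    unfold J3
    congr 1
    · -- (1,1)
      rw [hW1, hW2, hJ]
      have e : Y + P * K * Pᵀ + (P * K * Pᵀ + P * Kᵀ * Pᵀ) + (Y + P * Kᵀ * Pᵀ) =
          (Y + Y) + (P * K * Pᵀ + P * K * Pᵀ) + (P * Kᵀ * Pᵀ + P * Kᵀ * Pᵀ) := by abel
      rw [e]
      simp only [mat_add_self, add_zero]
    · -- (1,2)
      simp only [transpose_zero, Matrix.mul_zero, zero_add]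
      rw [hZ, mat_add_self]
    · -- (1,3)
      simp only [transpose_zero, Matrix.mul_zero, zero_add]
      exact f1
    · -- (2,1)
      simp only [Matrix.zero_mul, add_zero]
      rw [hZ2, mat_add_self]
    · -- (2,2)
      simp only [transpose_zero, Matrix.mul_zero, Matrix.zero_mul, zero_add, add_zero]
      exact hS
    · -- (2,3)
      simp only [transpose_zero, Matrix.mul_zero, Matrix.zero_mul, zero_add, add_zero]
    · -- (3,1)
      simp only [Matrix.zero_mul, add_zero]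
      exact f2
    · -- (3,2)
      simp only [transpose_zero, Matrix.mul_zero, Matrix.zero_mul, zero_add, add_zero]
    · -- (3,3)
      simp only [transpose_zero, Matrix.mul_zero, Matrix.zero_mul, zero_add, add_zero]
  · unfold build
    rw [mul_T3, T3_mul]
    congr 1
    · simp only [Matrix.mul_zero, add_zero]
    · simp only [Matrix.mul_zero, add_zero]
    · rw [f3, add_comm]
    · simp only [Matrix.zero_mul, zero_add]
    · simp only [Matrix.zero_mul, zero_add]

/-- the centraliser in block form -/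
noncomputable def centEquiv (hβ : βᵀ = β) (hβi : β * βi = 1) (hJK : Jc = K + Kᵀ) :
    Cset β Jc ≃ Pset β Jc where
  toFun g :=
    have h := structure_of_mem β Jc βi hβi (b11 g.1) (b12 g.1) (b13 g.1) (b21 g.1) (b22 g.1)
      (b23 g.1) (b31 g.1) (b32 g.1) (b33 g.1) (by rw [mk3_blocks]; exact g.2.1)
      (by rw [mk3_blocks]; exact g.2.2)
    (⟨b11 g.1, by
        obtain ⟨-, -, -, h4, h5, -, -, -⟩ := h
        rw [h4, Matrix.mul_assoc]
        have : b33 g.1 * (b11 g.1)ᵀ = 1 := by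
          have := congrArg Matrix.transpose h5
          rwa [transpose_mul, transpose_transpose, transpose_one] at this
        rw [this, Matrix.mul_one]⟩,
      ⟨b22 g.1, h.2.2.2.2.2.1⟩, b12 g.1,
      ⟨b13 g.1 * (b11 g.1)ᵀ + b12 g.1 * K * (b12 g.1)ᵀ, by
        obtain ⟨-, -, -, -, -, -, -, h8⟩ := h
        apply mat_eq_of_add_eq_zero
        rw [transpose_add, transpose_mul, transpose_transpose, tau_transpose]
        have hJ : b12 g.1 * Jc * (b12 g.1)ᵀ =
            b12 g.1 * K * (b12 g.1)ᵀ + b12 g.1 * Kᵀ * (b12 g.1)ᵀ := by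
          rw [← tau_add, ← hJK]
        rw [hJ] at h8
        rw [← h8]
        abel⟩)
  invFun p := ⟨build β Jc βi K p.1.1 p.2.1.1 p.2.2.1 p.2.2.2.1,
    build_mem β Jc βi K hβ hβi hJK p.1.1 p.1.2 p.2.1.1 p.2.1.2 p.2.2.1 p.2.2.2.1 p.2.2.2.2⟩
  left_inv g := by
    apply Subtype.ext
    have h := structure_of_mem β Jc βi hβi (b11 g.1) (b12 g.1) (b13 g.1) (b21 g.1) (b22 g.1)
      (b23 g.1) (b31 g.1) (b32 g.1) (b33 g.1) (by rw [mk3_blocks]; exact g.2.1)
      (by rw [mk3_blocks]; exact g.2.2)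
    obtain ⟨h1, h2, h3, h4, h5, h6, h7, h8⟩ := h
    have hβi' : βi * β = 1 := mul_eq_one_comm.mp hβi
    have hJT : Jcᵀ = Jc := by
      rw [hJK, transpose_add, transpose_transpose, add_comm]
    have hX' : βi * b11 g.1 * β = b33 g.1 := by
      rw [Matrix.mul_assoc, h4, ← Matrix.mul_assoc, hβi', Matrix.one_mul]
    have h5a : b33 g.1 * (b11 g.1)ᵀ = 1 := by
      have := congrArg Matrix.transpose h5
      rwa [transpose_mul, transpose_transpose, transpose_one] at this
    have h5b : (b11 g.1)ᵀ * b33 g.1 = 1 := mul_eq_one_comm.mp h5a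
    have h5c : (b33 g.1)ᵀ * b11 g.1 = 1 := mul_eq_one_comm.mp h5
    show build β Jc βi K (b11 g.1) (b22 g.1) (b12 g.1)
      (b13 g.1 * (b11 g.1)ᵀ + b12 g.1 * K * (b12 g.1)ᵀ) = g.1
    unfold build
    rw [hX']
    conv_rhs => rw [← mk3_blocks g.1, h1, h2, h3]
    congr 1
    · rw [add_assoc, mat_add_self, add_zero, Matrix.mul_assoc, h5b, Matrix.mul_one]
    · -- g23
      have e : b11 g.1 * (b23 g.1)ᵀ = b12 g.1 * Jc * (b22 g.1)ᵀ := by
        apply mat_eq_of_add_eq_zero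
        rw [add_comm]
        exact h7
      have e2 : (b23 g.1)ᵀ = (b33 g.1)ᵀ * (b12 g.1 * Jc * (b22 g.1)ᵀ) := by
        rw [← e, ← Matrix.mul_assoc, h5c, Matrix.one_mul]
      have e3 := congrArg Matrix.transpose e2
      rw [transpose_transpose, transpose_mul, transpose_mul, transpose_mul, transpose_transpose,
        transpose_transpose, hJT] at e3
      rw [e3, Matrix.mul_assoc (b22 g.1)]
  right_inv p := by
    obtain ⟨⟨X, hX⟩, ⟨S, hS⟩, P, ⟨Y, hY⟩⟩ := p
    obtain ⟨f1, f2, f3⟩ := X'_facts β βi hβ hβi X hX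
    apply Prod.ext
    · rfl
    apply Prod.ext
    · rfl
    apply Prod.ext
    · rfl
    apply Subtype.ext
    show b13 (build β Jc βi K X S P Y) * (b11 (build β Jc βi K X S P Y))ᵀ +
      b12 (build β Jc βi K X S P Y) * K * (b12 (build β Jc βi K X S P Y))ᵀ = Y
    unfold build
    rw [b13_mk3, b11_mk3, b12_mk3, Matrix.mul_assoc (Y + P * K * Pᵀ), f2, Matrix.mul_one,
      add_assoc, mat_add_self, add_zero]

end equiv

end Cfsg.Agent.Helper36.InvCent
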