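import Mathlib
import Cfsg.Agent.Lib.Helper36.InvCent

set_option autoImplicit false
set_option linter.unusedSectionVars false

/-!
# The centraliser of an involution of type `a` in a characteristic-two orthogonal group

In the basis `E₁ ⊕ M ⊕ F₁` the quadratic form is `Q₃(e, μ, φ) = e·φ + μᵀ K μ`.  The matrices
preserving `Q₃` and commuting with `T3 β` are parametrised by
`O(β) × O(K) × Mat × {symmetric matrices with zero diagonal}`.
-/

namespace Cfsg.Agent.Helper36.InvCentO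

open Matrix Cfsg.Agent.Helper36.Blk3 Cfsg.Agent.Helper36.InvCent

universe u

section qf

variable {F : Type u} [Field F] {n n' : Type} [Fintype n] [Fintype n']

/-- the quadratic form attached to a matrix -/
def qf (A : Matrix n n F) (v : n → F) : F := v ⬝ᵥ (A *ᵥ v)

theorem dot_mulVec_comm (M : Matrix n n' F) (w : n' → F) (ψ : n → F) :
    (M *ᵥ w) ⬝ᵥ ψ = w ⬝ᵥ (Mᵀ *ᵥ ψ) := by
  rw [dotProduct_comm, dotProduct_mulVec, mulVec_transpose, dotProduct_comm]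

theorem qf_add_vec (A : Matrix n n F) (u v : n → F) :
    qf A (u + v) = qf A u + qf A v + u ⬝ᵥ ((A + Aᵀ) *ᵥ v) := by
  unfold qf
  have h : v ⬝ᵥ (A *ᵥ u) = u ⬝ᵥ (Aᵀ *ᵥ v) := by
    rw [← dot_mulVec_comm, dotProduct_comm]
  rw [mulVec_add, add_dotProduct, dotProduct_add, dotProduct_add, add_mulVec, dotProduct_add, h]
  ring

theorem qf_add_mat (A B : Matrix n n F) (v : n → F) : qf (A + B) v = qf A v + qf B v := by
  unfold qf
  rw [add_mulVec, dotProduct_add]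

theorem qf_zero_vec (A : Matrix n n F) : qf A 0 = 0 := by
  unfold qf
  rw [zero_dotProduct]

variable [DecidableEq n]

theorem matrix_ext_bilin (M₁ M₂ : Matrix n n F)
    (h : ∀ u v : n → F, u ⬝ᵥ (M₁ *ᵥ v) = u ⬝ᵥ (M₂ *ᵥ v)) : M₁ = M₂ := by
  ext i j
  have := h (Pi.single i 1) (Pi.single j 1)
  simpa using this

/-- a matrix preserving a quadratic form preserves its polar form -/
theorem preserves_of_qf (A g : Matrix n n F) (hJJ : (A + Aᵀ) * (A + Aᵀ) = 1)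
    (h : ∀ v, qf A (g *ᵥ v) = qf A v) : g * (A + Aᵀ) * gᵀ = A + Aᵀ := by
  have h1 : ∀ u v : n → F, (g *ᵥ u) ⬝ᵥ ((A + Aᵀ) *ᵥ (g *ᵥ v)) = u ⬝ᵥ ((A + Aᵀ) *ᵥ v) := by
    intro u v
    have e1 := qf_add_vec A (g *ᵥ u) (g *ᵥ v)
    rw [← mulVec_add, h, h, h, qf_add_vec] at e1
    exact (add_left_cancel e1).symm
  have h2 : gᵀ * (A + Aᵀ) * g = A + Aᵀ := by
    apply matrix_ext_bilin
    intro u v
    rw [← h1 u v, dot_mulVec_comm, mulVec_mulVec, mulVec_mulVec]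
  have h3 : ((A + Aᵀ) * gᵀ * (A + Aᵀ)) * g = 1 := by
    rw [Matrix.mul_assoc, Matrix.mul_assoc, ← Matrix.mul_assoc gᵀ, h2, hJJ]
  have h4 : g * ((A + Aᵀ) * gᵀ * (A + Aᵀ)) = 1 := mul_eq_one_comm.mp h3
  calc g * (A + Aᵀ) * gᵀ = g * (A + Aᵀ) * gᵀ * ((A + Aᵀ) * (A + Aᵀ)) := by
        rw [hJJ, Matrix.mul_one]
    _ = g * ((A + Aᵀ) * gᵀ * (A + Aᵀ)) * (A + Aᵀ) := by
        simp only [Matrix.mul_assoc]
    _ = A + Aᵀ := by rw [h4, Matrix.one_mul]

end qf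

section diag

variable {F : Type u} [Field F] [CharP F 2] {a : Type} [Fintype a] [DecidableEq a]

/-- a symmetric matrix in characteristic two is alternating iff its diagonal vanishes -/
theorem qf_symm_zero_iff (Y : Matrix a a F) (hY : Yᵀ = Y) :
    (∀ ψ, qf Y ψ = 0) ↔ ∀ i, Y i i = 0 := by
  constructor
  · intro h i
    have := h (Pi.single i 1)
    unfold qf at this
    simpa using this
  · intro h ψ
    unfold qf
    simp only [dotProduct, mulVec, Finset.mul_sum]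
    rw [← Finset.sum_product']
    apply Finset.sum_involution (fun p _ => (p.2, p.1))
    · intro p _
      have hsym : Y p.2 p.1 = Y p.1 p.2 := by
        have := congrFun (congrFun hY p.1) p.2
        rwa [transpose_apply] at this
      show ψ p.1 * (Y p.1 p.2 * ψ p.2) + ψ p.2 * (Y p.2 p.1 * ψ p.1) = 0
      rw [hsym]
      have : ψ p.2 * (Y p.1 p.2 * ψ p.1) = ψ p.1 * (Y p.1 p.2 * ψ p.2) := by ring
      rw [this]
      exact CharTwo.add_self_eq_zero _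
    · intro p _ hne hp
      apply hne
      have h12 : p.2 = p.1 := congrArg Prod.fst hp
      show ψ p.1 * (Y p.1 p.2 * ψ p.2) = 0
      rw [h12, h, zero_mul, mul_zero]
    · intro p _
      exact Finset.mem_univ _
    · intro p _
      rfl

end diag

section mulVec3

variable {R : Type u} [NonUnitalNonAssocSemiring R] {α β γ : Type} [Fintype α] [Fintype β]
  [Fintype γ]

theorem mk3_mulVec (a11 : Matrix α α R) (a12 : Matrix α β R) (a13 : Matrix α γ R)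
    (a21 : Matrix β α R) (a22 : Matrix β β R) (a23 : Matrix β γ R)
    (a31 : Matrix γ α R) (a32 : Matrix γ β R) (a33 : Matrix γ γ R)
    (e : α → R) (μ : β → R) (φ : γ → R) :
    mk3 a11 a12 a13 a21 a22 a23 a31 a32 a33 *ᵥ (Sum.elim e (Sum.elim μ φ)) =
      Sum.elim (a11 *ᵥ e + a12 *ᵥ μ + a13 *ᵥ φ)
        (Sum.elim (a21 *ᵥ e + a22 *ᵥ μ + a23 *ᵥ φ) (a31 *ᵥ e + a32 *ᵥ μ + a33 *ᵥ φ)) := by
  funext i
  rcases i with i | i | i <;>
    simp [mulVec, dotProduct, mk3, Fintype.sum_sum_type, add_assoc]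

theorem elim_eta (v : I3 α β γ → R) :
    Sum.elim (fun i => v (Sum.inl i))
      (Sum.elim (fun j => v (Sum.inr (Sum.inl j))) (fun i => v (Sum.inr (Sum.inr i)))) = v := by
  funext i
  rcases i with i | i | i <;> rfl

end mulVec3

section Q3

variable {F : Type u} [Field F] [CharP F 2] {a c : Type} [Fintype a] [DecidableEq a]
  [Fintype c] [DecidableEq c]

/-- the matrix of the quadratic form in the adapted basis -/
def K3 (K : Matrix c c F) : Matrix (I3 a c a) (I3 a c a) F := mk3 0 0 1 0 K 0 0 0 0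

/-- the quadratic form in the adapted basis -/
def Q3 (K : Matrix c c F) (v : I3 a c a → F) : F := qf (K3 (a := a) K) v

omit [CharP F 2] in
theorem Q3_elim (K : Matrix c c F) (e : a → F) (μ : c → F) (φ : a → F) :
    Q3 K (Sum.elim e (Sum.elim μ φ)) = e ⬝ᵥ φ + qf K μ := by
  unfold Q3 qf K3
  rw [mk3_mulVec, sumElim_dotProduct_sumElim, sumElim_dotProduct_sumElim]
  simp

omit [CharP F 2] in
theorem K3_add_transpose (K : Matrix c c F) :
    K3 (a := a) K + (K3 (a := a) K)ᵀ = J3 (K + Kᵀ) := by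
  unfold K3 J3
  rw [mk3_transpose, mk3_add]
  simp

omit [CharP F 2] in
theorem J3_mul_J3 (Jc : Matrix c c F) (hJJ : Jc * Jc = 1) :
    J3 (a := a) Jc * J3 Jc = 1 := by
  unfold J3
  rw [mk3_mul, mk3_one]
  simp [hJJ]

variable (β : Matrix a a F) (Jc : Matrix c c F) (βi : Matrix a a F) (K : Matrix c c F)

/-- the value of the quadratic form on the image of a vector under a built matrix -/
theorem Q3_build (hβ : βᵀ = β) (hβi : β * βi = 1) (hJK : Jc = K + Kᵀ) (hJJ : Jc * Jc = 1)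
    (X : Matrix a a F) (hX : X * β * Xᵀ = β) (S : Matrix c c F) (hS : S * Jc * Sᵀ = Jc)
    (P : Matrix a c F) (Y : Matrix a a F) (e : a → F) (μ : c → F) (φ : a → F) :
    Q3 K (build β Jc βi K X S P Y *ᵥ (Sum.elim e (Sum.elim μ φ))) =
      e ⬝ᵥ φ + qf K (S *ᵥ μ) + qf Y ((βi * X * β) *ᵥ φ) +
        qf K (Pᵀ *ᵥ ((βi * X * β) *ᵥ φ)) +
        qf K (S *ᵥ (Jc *ᵥ (Pᵀ *ᵥ ((βi * X * β) *ᵥ φ)))) := by
  obtain ⟨f1, f2, f3⟩ := X'_facts β βi hβ hβi X hX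
  unfold build
  obtain ⟨X', hX'⟩ : ∃ X' : Matrix a a F, X' = βi * X * β := ⟨_, rfl⟩
  rw [← hX'] at f1 f2 f3 ⊢
  have f4 : Xᵀ * X' = 1 := mul_eq_one_comm.mp f2
  have hS' : Sᵀ * Jc * S = Jc := by
    have h3 : S * (Jc * Sᵀ * Jc) = 1 := by
      rw [← Matrix.mul_assoc, ← Matrix.mul_assoc, hS, hJJ]
    have h4 : (Jc * Sᵀ * Jc) * S = 1 := mul_eq_one_comm.mp h3
    calc Sᵀ * Jc * S = Jc * (Jc * Sᵀ * Jc * S) := by
          simp only [← Matrix.mul_assoc]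
          rw [hJJ, Matrix.one_mul]
      _ = Jc := by rw [h4, Matrix.mul_one]
  obtain ⟨ψ, hψ⟩ : ∃ ψ : a → F, ψ = X' *ᵥ φ := ⟨_, rfl⟩
  obtain ⟨ν, hν⟩ : ∃ ν : c → F, ν = Pᵀ *ᵥ ψ := ⟨_, rfl⟩
  rw [mk3_mulVec, Q3_elim]
  simp only [zero_mulVec, zero_add]
  have hZ : ((Y + P * K * Pᵀ) * X') *ᵥ φ = Y *ᵥ ψ + P *ᵥ (K *ᵥ ν) := by
    rw [← mulVec_mulVec, ← hψ, add_mulVec, ← mulVec_mulVec, ← hν, ← mulVec_mulVec]
  have hW : (S * Jc * Pᵀ * X') *ᵥ φ = S *ᵥ (Jc *ᵥ ν) := by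
    rw [← mulVec_mulVec, ← hψ, ← mulVec_mulVec, ← hν, ← mulVec_mulVec]
  rw [hZ, hW, ← hψ, ← hν]
  have t1 : (X *ᵥ e) ⬝ᵥ ψ = e ⬝ᵥ φ := by
    rw [dot_mulVec_comm, hψ, mulVec_mulVec, f4, one_mulVec]
  have t2 : (P *ᵥ μ) ⬝ᵥ ψ = μ ⬝ᵥ ν := by
    rw [dot_mulVec_comm, hν]
  have t3 : (Y *ᵥ ψ) ⬝ᵥ ψ = qf Y ψ := by
    unfold qf
    rw [dotProduct_comm]
  have t4 : (P *ᵥ (K *ᵥ ν)) ⬝ᵥ ψ = qf K ν := by
    unfold qf
    rw [dot_mulVec_comm, ← hν, dotProduct_comm]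
  have t5 : (S *ᵥ μ) ⬝ᵥ ((K + Kᵀ) *ᵥ (S *ᵥ (Jc *ᵥ ν))) = μ ⬝ᵥ ν := by
    rw [← hJK, dot_mulVec_comm, mulVec_mulVec, mulVec_mulVec, hS',
      mulVec_mulVec, hJJ, one_mulVec]
  rw [add_dotProduct, add_dotProduct, add_dotProduct, t1, t2, t3, t4, qf_add_vec, t5]
  have h2 : μ ⬝ᵥ ν + μ ⬝ᵥ ν = 0 := CharTwo.add_self_eq_zero _
  linear_combination h2

/-- when a built matrix is an isometry -/
theorem Q3_build_iff (hβ : βᵀ = β) (hβi : β * βi = 1) (hJK : Jc = K + Kᵀ) (hJJ : Jc * Jc = 1)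
    (hKJ : ∀ ν, qf K (Jc *ᵥ ν) = qf K ν)
    (X : Matrix a a F) (hX : X * β * Xᵀ = β) (S : Matrix c c F) (hS : S * Jc * Sᵀ = Jc)
    (P : Matrix a c F) (Y : Matrix a a F) (hY : Yᵀ = Y) :
    (∀ v, Q3 K (build β Jc βi K X S P Y *ᵥ v) = Q3 K v) ↔
      (∀ μ, qf K (S *ᵥ μ) = qf K μ) ∧ ∀ i, Y i i = 0 := by
  obtain ⟨f1, f2, f3⟩ := X'_facts β βi hβ hβi X hX
  constructor
  · intro h
    have hSO : ∀ μ, qf K (S *ᵥ μ) = qf K μ := by
      intro μ
      have h1 := h (Sum.elim 0 (Sum.elim μ 0))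
      rw [Q3_build β Jc βi K hβ hβi hJK hJJ X hX S hS, Q3_elim] at h1
      simpa [qf_zero_vec] using h1
    refine ⟨hSO, ?_⟩
    rw [← qf_symm_zero_iff Y hY]
    intro ψ
    have h1 := h (Sum.elim 0 (Sum.elim 0 (Xᵀ *ᵥ ψ)))
    rw [Q3_build β Jc βi K hβ hβi hJK hJJ X hX S hS, Q3_elim, mulVec_mulVec, f2, one_mulVec] at h1
    simp only [hSO, hKJ, zero_dotProduct, mulVec_zero, qf_zero_vec, zero_add] at h1
    rw [add_assoc, CharTwo.add_self_eq_zero, add_zero] at h1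
    exact h1
  · rintro ⟨hSO, hd⟩ v
    have hY0 := (qf_symm_zero_iff Y hY).mpr hd
    rw [← elim_eta v, Q3_build β Jc βi K hβ hβi hJK hJJ X hX S hS, Q3_elim]
    simp only [hSO, hKJ, hY0]
    rw [add_zero, add_assoc, CharTwo.add_self_eq_zero, add_zero]

end Q3

section equiv

variable {F : Type u} [Field F] [CharP F 2] {a c : Type} [Fintype a] [DecidableEq a]
  [Fintype c] [DecidableEq c]
variable (β : Matrix a a F) (Jc : Matrix c c F) (βi : Matrix a a F) (K : Matrix c c F)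

/-- matrices preserving `Q3` and commuting with `T3` -/
abbrev COset : Type u :=
  {g : Matrix (I3 a c a) (I3 a c a) F // (∀ v, Q3 K (g *ᵥ v) = Q3 K v) ∧ g * T3 β = T3 β * g}

/-- the parameter space -/
abbrev POset : Type u :=
  {X : Matrix a a F // X * β * Xᵀ = β} × {S : Matrix c c F // ∀ μ, qf K (S *ᵥ μ) = qf K μ} ×
    Matrix a c F × {Y : Matrix a a F // Yᵀ = Y ∧ ∀ i, Y i i = 0}

omit [CharP F 2] in
theorem mem_Cset_of_Q3 (hJK : Jc = K + Kᵀ) (hJJ : Jc * Jc = 1)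
    (g : Matrix (I3 a c a) (I3 a c a) F) (h : ∀ v, Q3 K (g *ᵥ v) = Q3 K v) :
    g * J3 Jc * gᵀ = J3 Jc := by
  have h1 := preserves_of_qf (K3 (a := a) K) g
    (by rw [K3_add_transpose, ← hJK]; exact J3_mul_J3 Jc hJJ) h
  rwa [K3_add_transpose, ← hJK] at h1

omit [CharP F 2] [Fintype a] [DecidableEq a] in
theorem S_mem_of_qf (hJK : Jc = K + Kᵀ) (hJJ : Jc * Jc = 1) (S : Matrix c c F)
    (h : ∀ μ, qf K (S *ᵥ μ) = qf K μ) : S * Jc * Sᵀ = Jc := by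
  have h1 := preserves_of_qf K S (by rw [← hJK]; exact hJJ) h
  rwa [← hJK] at h1

/-- first step: isometries are symplectic -/
def equivO1 (hJK : Jc = K + Kᵀ) (hJJ : Jc * Jc = 1) :
    COset β K ≃ {g : Cset β Jc // ∀ v, Q3 K (g.1 *ᵥ v) = Q3 K v} where
  toFun g := ⟨⟨g.1, mem_Cset_of_Q3 Jc K hJK hJJ g.1 g.2.1, g.2.2⟩, g.2.1⟩
  invFun g := ⟨g.1.1, g.2, g.1.2.2⟩
  left_inv _ := rfl
  right_inv _ := rfl

/-- second step: the block parametrisation -/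
noncomputable def equivO2 (hβ : βᵀ = β) (hβi : β * βi = 1) (hJK : Jc = K + Kᵀ)
    (hJJ : Jc * Jc = 1) (hKJ : ∀ ν, qf K (Jc *ᵥ ν) = qf K ν) :
    {g : Cset β Jc // ∀ v, Q3 K (g.1 *ᵥ v) = Q3 K v} ≃
      {p : Pset β Jc // (∀ μ, qf K (p.2.1.1 *ᵥ μ) = qf K μ) ∧ ∀ i, p.2.2.2.1 i i = 0} :=
  (centEquiv β Jc βi K hβ hβi hJK).subtypeEquiv (fun g => by
    have hb : build β Jc βi K (centEquiv β Jc βi K hβ hβi hJK g).1.1
        (centEquiv β Jc βi K hβ hβi hJK g).2.1.1 (centEquiv β Jc βi K hβ hβi hJK g).2.2.1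
        (centEquiv β Jc βi K hβ hβi hJK g).2.2.2.1 = g.1 :=
      congrArg Subtype.val ((centEquiv β Jc βi K hβ hβi hJK).symm_apply_apply g)
    have h1 := Q3_build_iff β Jc βi K hβ hβi hJK hJJ hKJ
      (centEquiv β Jc βi K hβ hβi hJK g).1.1 (centEquiv β Jc βi K hβ hβi hJK g).1.2
      (centEquiv β Jc βi K hβ hβi hJK g).2.1.1 (centEquiv β Jc βi K hβ hβi hJK g).2.1.2
      (centEquiv β Jc βi K hβ hβi hJK g).2.2.1
      (centEquiv β Jc βi K hβ hβi hJK g).2.2.2.1 (centEquiv β Jc βi K hβ hβi hJK g).2.2.2.2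
    rw [hb] at h1
    exact h1)

/-- third step: regrouping -/
def equivO3 (hJK : Jc = K + Kᵀ) (hJJ : Jc * Jc = 1) :
    {p : Pset β Jc // (∀ μ, qf K (p.2.1.1 *ᵥ μ) = qf K μ) ∧ ∀ i, p.2.2.2.1 i i = 0} ≃
      POset β K where
  toFun p := (p.1.1, ⟨p.1.2.1.1, p.2.1⟩, p.1.2.2.1, ⟨p.1.2.2.2.1, p.1.2.2.2.2, p.2.2⟩)
  invFun r := ⟨(r.1, ⟨r.2.1.1, S_mem_of_qf Jc K hJK hJJ r.2.1.1 r.2.1.2⟩, r.2.2.1,
    ⟨r.2.2.2.1, r.2.2.2.2.1⟩), r.2.1.2, r.2.2.2.2.2⟩
  left_inv _ := rfl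
  right_inv _ := rfl

/-- the number of isometries commuting with the involution -/
theorem card_COset (hβ : βᵀ = β) (hβi : β * βi = 1) (hJK : Jc = K + Kᵀ)
    (hJJ : Jc * Jc = 1) (hKJ : ∀ ν, qf K (Jc *ᵥ ν) = qf K ν) :
    Nat.card (COset β K) =
      Nat.card {X : Matrix a a F // X * β * Xᵀ = β} *
        (Nat.card {S : Matrix c c F // ∀ μ, qf K (S *ᵥ μ) = qf K μ} *
          (Nat.card (Matrix a c F) * Nat.card {Y : Matrix a a F // Yᵀ = Y ∧ ∀ i, Y i i = 0})) := by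
  rw [Nat.card_congr ((equivO1 β Jc K hJK hJJ).trans
    ((equivO2 β Jc βi K hβ hβi hJK hJJ hKJ).trans (equivO3 β Jc K hJK hJJ))),
    Nat.card_prod, Nat.card_prod, Nat.card_prod]

end equiv

section zerodiag

variable {F : Type u} [Field F] {a : Type} [Fintype a] [DecidableEq a]

/-- split off the diagonal of a symmetric matrix -/
def splitDiag : {Y : Matrix a a F // Yᵀ = Y} ≃
    {Y : Matrix a a F // Yᵀ = Y ∧ ∀ i, Y i i = 0} × (a → F) where
  toFun Y := (⟨Y.1 - diagonal (fun i => Y.1 i i), by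
      rw [transpose_sub, diagonal_transpose, Y.2], fun i => by
      rw [Matrix.sub_apply, diagonal_apply_eq, sub_self]⟩, fun i => Y.1 i i)
  invFun p := ⟨p.1.1 + diagonal p.2, by
    rw [transpose_add, diagonal_transpose, p.1.2.1]⟩
  left_inv Y := by
    apply Subtype.ext
    show Y.1 - diagonal (fun i => Y.1 i i) + diagonal (fun i => Y.1 i i) = Y.1
    rw [sub_add_cancel]
  right_inv p := by
    obtain ⟨⟨Y, hY, hd⟩, d⟩ := p
    have h1 : (fun i => (Y + diagonal d) i i) = d := by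
      funext i
      rw [Matrix.add_apply, diagonal_apply_eq, hd, zero_add]
    apply Prod.ext
    · apply Subtype.ext
      show Y + diagonal d - diagonal (fun i => (Y + diagonal d) i i) = Y
      rw [h1, add_sub_cancel_right]
    · exact h1

end zerodiag

end Cfsg.Agent.Helper36.InvCentO
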