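import Mathlib
import Cfsg.Agent.Lib.Helper36.InvCentO

set_option autoImplicit false
set_option linter.unusedSectionVars false

/-!
# Isometries commuting with a type `a` involution and fixing a vector of the middle block
-/

namespace Cfsg.Agent.Helper36.InvCentOFix

open Matrix Cfsg.Agent.Helper36.Blk3 Cfsg.Agent.Helper36.InvCent Cfsg.Agent.Helper36.InvCentO

universe u

section fix

variable {F : Type u} [Field F] [CharP F 2] {a c : Type} [Fintype a] [DecidableEq a]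
  [Fintype c] [DecidableEq c]
variable (β : Matrix a a F) (Jc : Matrix c c F) (βi : Matrix a a F) (K : Matrix c c F)

/-- the bundled parametrisation -/
noncomputable def centEquivO (hβ : βᵀ = β) (hβi : β * βi = 1) (hJK : Jc = K + Kᵀ)
    (hJJ : Jc * Jc = 1) (hKJ : ∀ ν, qf K (Jc *ᵥ ν) = qf K ν) : COset β K ≃ POset β K :=
  (equivO1 β Jc K hJK hJJ).trans
    ((equivO2 β Jc βi K hβ hβi hJK hJJ hKJ).trans (equivO3 β Jc K hJK hJJ))

theorem centEquivO_symm_val (hβ : βᵀ = β) (hβi : β * βi = 1) (hJK : Jc = K + Kᵀ)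
    (hJJ : Jc * Jc = 1) (hKJ : ∀ ν, qf K (Jc *ᵥ ν) = qf K ν) (p : POset β K) :
    ((centEquivO β Jc βi K hβ hβi hJK hJJ hKJ).symm p).1 =
      build β Jc βi K p.1.1 p.2.1.1 p.2.2.1 p.2.2.2.1 := rfl

theorem val_eq_build (hβ : βᵀ = β) (hβi : β * βi = 1) (hJK : Jc = K + Kᵀ)
    (hJJ : Jc * Jc = 1) (hKJ : ∀ ν, qf K (Jc *ᵥ ν) = qf K ν) (g : COset β K) :
    g.1 = build β Jc βi K (centEquivO β Jc βi K hβ hβi hJK hJJ hKJ g).1.1
      (centEquivO β Jc βi K hβ hβi hJK hJJ hKJ g).2.1.1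
      (centEquivO β Jc βi K hβ hβi hJK hJJ hKJ g).2.2.1
      (centEquivO β Jc βi K hβ hβi hJK hJJ hKJ g).2.2.2.1 := by
  rw [← centEquivO_symm_val β Jc βi K hβ hβi hJK hJJ hKJ, Equiv.symm_apply_apply]

omit [CharP F 2] in
theorem build_mulVec_mid (X : Matrix a a F) (S : Matrix c c F) (P : Matrix a c F)
    (Y : Matrix a a F) (dc : c → F) :
    build β Jc βi K X S P Y *ᵥ (Sum.elim (0 : a → F) (Sum.elim dc (0 : a → F))) =
      Sum.elim (P *ᵥ dc) (Sum.elim (S *ᵥ dc) (0 : a → F)) := by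
  unfold build
  rw [mk3_mulVec]
  simp

omit [CharP F 2] [Fintype a] [DecidableEq a] [Fintype c] [DecidableEq c] in
theorem elim3_inj {R : Type*} (x x' : a → R) (y y' : c → R) (z z' : a → R) :
    Sum.elim x (Sum.elim y z) = Sum.elim x' (Sum.elim y' z') ↔ x = x' ∧ y = y' ∧ z = z' := by
  constructor
  · intro h
    exact ⟨funext fun i => congrFun h (Sum.inl i), funext fun i => congrFun h (Sum.inr (Sum.inl i)),
      funext fun i => congrFun h (Sum.inr (Sum.inr i))⟩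
  · rintro ⟨rfl, rfl, rfl⟩
    rfl

/-- elements fixing a vector of the middle block -/
noncomputable def equivOfix1 (hβ : βᵀ = β) (hβi : β * βi = 1) (hJK : Jc = K + Kᵀ)
    (hJJ : Jc * Jc = 1) (hKJ : ∀ ν, qf K (Jc *ᵥ ν) = qf K ν) (dc : c → F) :
    {g : COset β K // g.1 *ᵥ (Sum.elim (0 : a → F) (Sum.elim dc (0 : a → F))) =
        Sum.elim (0 : a → F) (Sum.elim dc (0 : a → F))} ≃
      {p : POset β K // p.2.1.1 *ᵥ dc = dc ∧ p.2.2.1 *ᵥ dc = 0} :=
  (centEquivO β Jc βi K hβ hβi hJK hJJ hKJ).subtypeEquiv (fun g => by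
    rw [val_eq_build β Jc βi K hβ hβi hJK hJJ hKJ g, build_mulVec_mid, elim3_inj]
    constructor
    · rintro ⟨h1, h2, -⟩
      exact ⟨h2, h1⟩
    · rintro ⟨h1, h2⟩
      exact ⟨h2, h1, rfl⟩)

/-- regrouping -/
def equivOfix2 (dc : c → F) :
    {p : POset β K // p.2.1.1 *ᵥ dc = dc ∧ p.2.2.1 *ᵥ dc = 0} ≃
      {X : Matrix a a F // X * β * Xᵀ = β} ×
        {S : Matrix c c F // (∀ μ, qf K (S *ᵥ μ) = qf K μ) ∧ S *ᵥ dc = dc} ×
        {P : Matrix a c F // P *ᵥ dc = 0} × {Y : Matrix a a F // Yᵀ = Y ∧ ∀ i, Y i i = 0} where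
  toFun p := (p.1.1, ⟨p.1.2.1.1, p.1.2.1.2, p.2.1⟩, ⟨p.1.2.2.1, p.2.2⟩, p.1.2.2.2)
  invFun r := ⟨(r.1, ⟨r.2.1.1, r.2.1.2.1⟩, r.2.2.1.1, r.2.2.2), r.2.1.2.2, r.2.2.1.2⟩
  left_inv _ := rfl
  right_inv _ := rfl

/-- the number of isometries commuting with the involution and fixing a vector of the middle
block -/
theorem card_COset_fix (hβ : βᵀ = β) (hβi : β * βi = 1) (hJK : Jc = K + Kᵀ)
    (hJJ : Jc * Jc = 1) (hKJ : ∀ ν, qf K (Jc *ᵥ ν) = qf K ν) (dc : c → F) :
    Nat.card {g : COset β K // g.1 *ᵥ (Sum.elim (0 : a → F) (Sum.elim dc (0 : a → F))) =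
        Sum.elim (0 : a → F) (Sum.elim dc (0 : a → F))} =
      Nat.card {X : Matrix a a F // X * β * Xᵀ = β} *
        (Nat.card {S : Matrix c c F // (∀ μ, qf K (S *ᵥ μ) = qf K μ) ∧ S *ᵥ dc = dc} *
          (Nat.card {P : Matrix a c F // P *ᵥ dc = 0} *
            Nat.card {Y : Matrix a a F // Yᵀ = Y ∧ ∀ i, Y i i = 0})) := by
  rw [Nat.card_congr ((equivOfix1 β Jc βi K hβ hβi hJK hJJ hKJ dc).trans (equivOfix2 β K dc)),
    Nat.card_prod, Nat.card_prod, Nat.card_prod]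

end fix

section annih

variable {F : Type u} [Field F] {a c : Type} [Fintype a] [DecidableEq a] [Fintype c]
  [DecidableEq c]

/-- matrices killing a vector with a coordinate equal to one -/
def splitAnnih (dc : c → F) (i₁ : c) (h1 : dc i₁ = 1) :
    {P : Matrix a c F // P *ᵥ dc = 0} × (a → F) ≃ Matrix a c F where
  toFun p := p.1.1 + vecMulVec p.2 (Pi.single i₁ 1)
  invFun M := (⟨M - vecMulVec (M *ᵥ dc) (Pi.single i₁ 1), by
    rw [sub_mulVec, vecMulVec_mulVec, single_one_dotProduct, h1]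
    funext i
    simp⟩, M *ᵥ dc)
  left_inv p := by
    obtain ⟨⟨P, hP⟩, w⟩ := p
    have h2 : (P + vecMulVec w (Pi.single i₁ 1)) *ᵥ dc = w := by
      rw [add_mulVec, hP, vecMulVec_mulVec, single_one_dotProduct, h1]
      funext i
      simp
    apply Prod.ext
    · apply Subtype.ext
      show P + vecMulVec w (Pi.single i₁ 1) -
        vecMulVec ((P + vecMulVec w (Pi.single i₁ 1)) *ᵥ dc) (Pi.single i₁ 1) = P
      rw [h2, add_sub_cancel_right]
    · exact h2
  right_inv M := by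
    show M - vecMulVec (M *ᵥ dc) (Pi.single i₁ 1) + vecMulVec (M *ᵥ dc) (Pi.single i₁ 1) = M
    rw [sub_add_cancel]

theorem card_annih [Fintype F] (dc : c → F) (i₁ : c) (h1 : dc i₁ = 1) :
    Nat.card {P : Matrix a c F // P *ᵥ dc = 0} =
      Fintype.card F ^ (Fintype.card a * (Fintype.card c - 1)) := by
  have h := Nat.card_congr (splitAnnih (a := a) dc i₁ h1)
  rw [Nat.card_prod, Nat.card_eq_fintype_card (α := a → F), Fintype.card_fun] at h
  have h2 : Nat.card (Matrix a c F) = Fintype.card F ^ (Fintype.card a * Fintype.card c) := by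
    show Nat.card (a → c → F) = _
    rw [Nat.card_eq_fintype_card, Fintype.card_fun, Fintype.card_fun, ← pow_mul, mul_comm]
  have hc : 1 ≤ Fintype.card c := Fintype.card_pos_iff.mpr ⟨i₁⟩
  have h3 : Fintype.card a * Fintype.card c =
      Fintype.card a * (Fintype.card c - 1) + Fintype.card a := by
    obtain ⟨n, hn⟩ : ∃ n, Fintype.card c = n + 1 := ⟨Fintype.card c - 1, by omega⟩
    rw [hn]
    simp only [Nat.add_sub_cancel]
    ring
  rw [h2, h3, pow_add] at h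
  exact Nat.eq_of_mul_eq_mul_right (pow_pos Fintype.card_pos _) h

end annih

end Cfsg.Agent.Helper36.InvCentOFix
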