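import Mathlib
import Cfsg.Agent.S2168
import Cfsg.Agent.S2166
import Cfsg.Agent.S0831
import Cfsg.Agent.Lib.Helper36.OrthChar2
import Cfsg.Agent.Lib.Helper36.TotSing

set_option autoImplicit false

namespace Cfsg.Agent.Helper36.PlusOrth

open Matrix Module Cfsg.Agent.Helper36 Cfsg.Agent.Helper36.TotSing Cfsg.Agent.S2168
open Cfsg.Agent.S0831
open scoped commutatorElement

universe u

/-- the isometry group of the hyperbolic form, as a type -/
abbrev OPlus (m : ℕ) (F : Type u) [Field F] : Type u :=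
  ↥(Cfsg.isometryGroup F (Cfsg.quadFormPlus m F))

section basics

variable {F : Type u} [Field F] [Fintype F] [CharP F 2] {m : ℕ}

omit [Fintype F] [CharP F 2] in
theorem mem_O_iff (c : GL (Fin m ⊕ Fin m) F) :
    c ∈ Cfsg.isometryGroup F (Cfsg.quadFormPlus m F) ↔
      ∀ v, Cfsg.quadFormPlus m F ((c : Matrix (Fin m ⊕ Fin m) (Fin m ⊕ Fin m) F) *ᵥ v) =
        Cfsg.quadFormPlus m F v := by
  constructor
  · intro h v
    exact h v v
  · intro h u _
    exact h u

/-- the action of the isometry group on the natural module -/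
noncomputable def actHom (m : ℕ) (F : Type u) [Field F] :
    OPlus m F →* ((Fin m ⊕ Fin m → F) ≃ₗ[F] (Fin m ⊕ Fin m → F)) :=
  (glEquiv F (Fin m ⊕ Fin m)).toMonoidHom.comp (Subgroup.subtype _)

omit [Fintype F] [CharP F 2] in
theorem actHom_apply (t : OPlus m F) (v : Fin m ⊕ Fin m → F) :
    actHom m F t v = (t.1 : Matrix (Fin m ⊕ Fin m) (Fin m ⊕ Fin m) F) *ᵥ v := rfl

omit [Fintype F] [CharP F 2] in
theorem Q_act (t : OPlus m F) (v : Fin m ⊕ Fin m → F) :
    Cfsg.quadFormPlus m F (actHom m F t v) = Cfsg.quadFormPlus m F v :=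
  (mem_O_iff _).mp t.2 v

omit [Fintype F] in
theorem B_act (t : OPlus m F) (u v : Fin m ⊕ Fin m → F) :
    Bp m F (actHom m F t u) (actHom m F t v) = Bp m F u v :=
  isQuad_plus.preserves_polar (actHom m F t).toLinearMap (Q_act t) u v

omit [Fintype F] [CharP F 2] in
theorem act_mul (s t : OPlus m F) (v : Fin m ⊕ Fin m → F) :
    actHom m F (s * t) v = actHom m F s (actHom m F t v) := by
  rw [map_mul]; rfl

omit [Fintype F] [CharP F 2] in
theorem act_one (v : Fin m ⊕ Fin m → F) : actHom m F 1 v = v := by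
  rw [map_one]; rfl

omit [Fintype F] [CharP F 2] in
theorem actHom_injective : Function.Injective (actHom m F) := by
  intro s t h
  apply Subtype.ext
  exact (glEquiv F (Fin m ⊕ Fin m)).injective h

omit [Fintype F] [CharP F 2] in
theorem act_ext (s t : OPlus m F) (h : ∀ v, actHom m F s v = actHom m F t v) : s = t :=
  actHom_injective (LinearEquiv.ext h)

/-- an isometry given as a linear equivalence -/
noncomputable def mkO (E : (Fin m ⊕ Fin m → F) ≃ₗ[F] (Fin m ⊕ Fin m → F))
    (hE : ∀ v, Cfsg.quadFormPlus m F (E v) = Cfsg.quadFormPlus m F v) : OPlus m F :=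
  ⟨(glEquiv F (Fin m ⊕ Fin m)).symm E, (mem_O_iff _).mpr (fun v => by
    rw [← glEquiv_apply, MulEquiv.apply_symm_apply]; exact hE v)⟩

omit [Fintype F] [CharP F 2] in
theorem actHom_mkO (E : (Fin m ⊕ Fin m → F) ≃ₗ[F] (Fin m ⊕ Fin m → F))
    (hE : ∀ v, Cfsg.quadFormPlus m F (E v) = Cfsg.quadFormPlus m F v) :
    actHom m F (mkO E hE) = E := by
  show glEquiv F (Fin m ⊕ Fin m) ((glEquiv F (Fin m ⊕ Fin m)).symm E) = E
  exact MulEquiv.apply_symm_apply _ _

omit [Fintype F] [CharP F 2] in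
theorem rank_eq (t : OPlus m F) :
    ((t.1 : Matrix (Fin m ⊕ Fin m) (Fin m ⊕ Fin m) F) - 1).rank =
      finrank F (LinearMap.range ((actHom m F t).toLinearMap - LinearMap.id)) := by
  have : ((t.1 : Matrix (Fin m ⊕ Fin m) (Fin m ⊕ Fin m) F) - 1).mulVecLin =
      (actHom m F t).toLinearMap - LinearMap.id := by
    apply LinearMap.ext
    intro v
    simp [actHom_apply]
  rw [Matrix.rank, this]

omit [Fintype F] in
theorem Hs_eq_Bp (u v : Fin m ⊕ Fin m → F) : Cfsg.Agent.S2166.Hs m F u v = Bp m F u v := by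
  rw [Cfsg.Agent.S2166.Hs_apply, Bp_apply]
  simp only [dotProduct, Matrix.mulVec, Fintype.sum_sum_type, Matrix.J, Matrix.fromBlocks_apply₁₁,
    Matrix.fromBlocks_apply₁₂, Matrix.fromBlocks_apply₂₁, Matrix.fromBlocks_apply₂₂,
    Matrix.zero_apply, zero_mul, Finset.sum_const_zero, zero_add, add_zero, Matrix.neg_apply,
    Matrix.one_apply, ite_mul, one_mul, Finset.sum_ite_eq,
    Finset.mem_univ, if_true, CharTwo.neg_eq, Finset.sum_add_distrib]

omit [Fintype F] [CharP F 2] in
theorem mem_sp_of_preserves (A : Matrix (Fin m ⊕ Fin m) (Fin m ⊕ Fin m) F)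
    (h : ∀ u v, Cfsg.Agent.S2166.Hs m F (A *ᵥ u) (A *ᵥ v) = Cfsg.Agent.S2166.Hs m F u v) :
    A ∈ Matrix.symplecticGroup (Fin m) F := by
  rw [SymplecticGroup.mem_iff']
  apply Cfsg.Agent.S2166.matrix_ext_bilin
  intro u v
  have := h u v
  rw [Cfsg.Agent.S2166.Hs_apply, Cfsg.Agent.S2166.Hs_apply, Matrix.mulVec_mulVec,
    ← Matrix.vecMul_transpose, ← Matrix.dotProduct_mulVec, Matrix.mulVec_mulVec,
    ← Matrix.mul_assoc] at this
  exact this

omit [Fintype F] in
theorem mem_sp (t : OPlus m F) :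
    (t.1 : Matrix (Fin m ⊕ Fin m) (Fin m ⊕ Fin m) F) ∈ Matrix.symplecticGroup (Fin m) F := by
  apply mem_sp_of_preserves
  intro u v
  rw [Hs_eq_Bp, Hs_eq_Bp]
  exact B_act t u v

omit [Fintype F] [CharP F 2] in
theorem coe_mul_self (t : OPlus m F) (ht : t * t = 1) :
    (t.1 : Matrix (Fin m ⊕ Fin m) (Fin m ⊕ Fin m) F) *
      (t.1 : Matrix (Fin m ⊕ Fin m) (Fin m ⊕ Fin m) F) = 1 := by
  have h' := congrArg (fun x : OPlus m F =>
    ((x : GL (Fin m ⊕ Fin m) F) : Matrix (Fin m ⊕ Fin m) (Fin m ⊕ Fin m) F)) ht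
  simpa using h'

omit [Fintype F] [CharP F 2] in
theorem act_act_of_sq (t : OPlus m F) (ht : t * t = 1) (v : Fin m ⊕ Fin m → F) :
    actHom m F t (actHom m F t v) = v := by
  rw [← act_mul, ht, act_one]

end basics

section deltaHom

variable {F : Type u} [Field F] [Fintype F] [CharP F 2] {m : ℕ}

/-- the image of the standard maximal totally singular subspace -/
noncomputable def imgL (t : OPlus m F) : Submodule F (Fin m ⊕ Fin m → F) :=
  (stdL m F).map (actHom m F t).toLinearMap

omit [Fintype F] [CharP F 2] in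
theorem imgL_mts (t : OPlus m F) : IsMTS (Cfsg.quadFormPlus m F) m (imgL t) := by
  constructor
  · unfold imgL
    rw [LinearEquiv.finrank_map_eq]
    exact stdL_mts.1
  · rintro w ⟨v, hv, rfl⟩
    rw [LinearEquiv.coe_coe, Q_act]
    exact stdL_mts.2 v hv

/-- the codimension of `L ∩ tL` in `L` -/
noncomputable def dnat (t : OPlus m F) : ℕ :=
  m - finrank F ↥(stdL m F ⊓ imgL t)

omit [Fintype F] [CharP F 2] in
theorem imgL_mul (s t : OPlus m F) :
    imgL (s * t) = (imgL t).map (actHom m F s).toLinearMap := by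
  unfold imgL
  rw [← Submodule.map_comp]
  congr 1
  apply LinearMap.ext
  intro v
  exact act_mul s t v

omit [Fintype F] [CharP F 2] in
theorem dnat_mul (s t : OPlus m F) : Even (dnat s + dnat t + dnat (s * t)) := by
  have h := isQF_plus.parity' Bp_nondegenerate finrank_V (stdL_mts (F := F) (m := m))
    (imgL_mts s) (imgL_mts (s * t))
  have h2 : finrank F ↥(imgL s ⊓ imgL (s * t)) = finrank F ↥(stdL m F ⊓ imgL t) := by
    rw [imgL_mul]
    have : imgL s ⊓ (imgL t).map (actHom m F s).toLinearMap =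
        (stdL m F ⊓ imgL t).map (actHom m F s).toLinearMap := by
      rw [Submodule.map_inf _ (actHom m F s).injective]
      rfl
    rw [this, LinearEquiv.finrank_map_eq]
  rw [h2] at h
  exact h

/-- the Dickson-type invariant -/
noncomputable def delta (m : ℕ) (F : Type u) [Field F] : OPlus m F →* Multiplicative (ZMod 2) :=
  MonoidHom.mk' (fun t => Multiplicative.ofAdd ((dnat t : ℕ) : ZMod 2)) (by
    intro s t
    rw [← ofAdd_add]
    congr 1
    have h := dnat_mul s t
    have h2 : ((dnat s + dnat t + dnat (s * t) : ℕ) : ZMod 2) = 0 :=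
      ZMod.natCast_eq_zero_iff_even.mpr h
    push_cast at h2
    have key : ∀ x y z : ZMod 2, x + y + z = 0 → z = x + y := by decide
    exact key _ _ _ h2)

omit [Fintype F] [CharP F 2] in
theorem delta_apply (t : OPlus m F) :
    delta m F t = Multiplicative.ofAdd ((dnat t : ℕ) : ZMod 2) := rfl

omit [Fintype F] [CharP F 2] in
theorem dnat_even_of_mem (t : OPlus m F)
    (ht : t ∈ Cfsg.Omega F (Cfsg.quadFormPlus m F)) : Even (dnat t) := by
  have h1 : t ∈ (delta m F).ker := Abelianization.commutator_subset_ker (delta m F) ht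
  rw [MonoidHom.mem_ker, delta_apply] at h1
  have h2 : ((dnat t : ℕ) : ZMod 2) = 0 := by
    have := congrArg Multiplicative.toAdd h1
    simpa using this
  exact ZMod.natCast_eq_zero_iff_even.mp h2

omit [Fintype F] [CharP F 2] in
theorem dnat_one : dnat (1 : OPlus m F) = 0 := by
  unfold dnat imgL
  rw [map_one]
  have : Submodule.map (↑(1 : (Fin m ⊕ Fin m → F) ≃ₗ[F] (Fin m ⊕ Fin m → F)) :
      (Fin m ⊕ Fin m → F) →ₗ[F] (Fin m ⊕ Fin m → F)) (stdL m F) = stdL m F := by
    ext x
    simp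
  rw [this, inf_idem, stdL_mts.1, Nat.sub_self]

omit [Fintype F] [CharP F 2] in
/-- parity of `dnat` of a product -/
theorem dnat_mul_cast (s t : OPlus m F) :
    ((dnat (s * t) : ℕ) : ZMod 2) = ((dnat s : ℕ) : ZMod 2) + ((dnat t : ℕ) : ZMod 2) := by
  have h := map_mul (delta m F) s t
  rw [delta_apply, delta_apply, delta_apply, ← ofAdd_add] at h
  exact Multiplicative.ofAdd.injective h

omit [Fintype F] [CharP F 2] in
theorem dnat_conj_cast (k t : OPlus m F) :
    ((dnat (k * t * k⁻¹) : ℕ) : ZMod 2) = ((dnat t : ℕ) : ZMod 2) := by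
  have h : delta m F (k * t * k⁻¹) = delta m F t := by
    rw [map_mul, map_mul, map_inv, mul_comm (delta m F k), mul_assoc, mul_inv_cancel, mul_one]
  rw [delta_apply, delta_apply] at h
  exact Multiplicative.ofAdd.injective h

end deltaHom

section reflections

variable {F : Type u} [Field F] [Fintype F] [CharP F 2] {m : ℕ}

/-- the reflection in a non-singular vector -/
noncomputable def refl (a : Fin m ⊕ Fin m → F) (ha : Cfsg.quadFormPlus m F a ≠ 0) : OPlus m F :=
  mkO (LinearEquiv.ofInvolutive (tvMap (Bp m F) a (Cfsg.quadFormPlus m F a)⁻¹)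
      (tvMap_tvMap isQuad_plus a _))
    (fun v => by
      show Cfsg.quadFormPlus m F (tvMap (Bp m F) a (Cfsg.quadFormPlus m F a)⁻¹ v) = _
      rw [Q_tvMap isQuad_plus]
      have : (Cfsg.quadFormPlus m F a)⁻¹ * (Cfsg.quadFormPlus m F a)⁻¹ * Cfsg.quadFormPlus m F a +
          (Cfsg.quadFormPlus m F a)⁻¹ = 0 := by
        rw [mul_assoc, inv_mul_cancel₀ ha, mul_one]
        exact char_two_add_self _
      rw [this, mul_zero, add_zero])

omit [Fintype F] in
theorem act_refl (a : Fin m ⊕ Fin m → F) (ha : Cfsg.quadFormPlus m F a ≠ 0)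
    (v : Fin m ⊕ Fin m → F) :
    actHom m F (refl a ha) v = v + (Cfsg.quadFormPlus m F a)⁻¹ • (Bp m F a v • a) := by
  unfold refl
  rw [actHom_mkO]
  exact tvMap_apply _ _ _ _

omit [Fintype F] in
theorem refl_mul_self (a : Fin m ⊕ Fin m → F) (ha : Cfsg.quadFormPlus m F a ≠ 0) :
    refl a ha * refl a ha = 1 := by
  apply act_ext
  intro v
  rw [act_mul, act_one]
  unfold refl
  rw [actHom_mkO]
  exact tvMap_tvMap isQuad_plus a _ v

omit [Fintype F] [CharP F 2] in
theorem exists_B_ne (a : Fin m ⊕ Fin m → F) (ha : a ≠ 0) : ∃ v, Bp m F a v ≠ 0 := by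
  by_contra hcon
  push Not at hcon
  exact ha (Bp_nondeg a hcon)

omit [Fintype F] in
theorem dnat_refl (a : Fin m ⊕ Fin m → F) (ha : Cfsg.quadFormPlus m F a ≠ 0) :
    dnat (refl a ha) = 1 := by
  set ρ := refl a ha with hρ
  have haL : a ∉ stdL m F := fun hc => ha (stdL_mts.2 a hc)
  have hex : ∃ u ∈ stdL m F, Bp m F a u ≠ 0 := by
    by_contra hcon
    push Not at hcon
    apply haL
    apply isQF_plus.mem_of_ortho Bp_nondegenerate finrank_V stdL_mts
    intro u hu
    rw [isQF_plus.symm]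
    exact hcon u hu
  have h1 := finrank_inf_ker (Bp m F a) (stdL m F) hex
  rw [stdL_mts.1] at h1
  have hle : stdL m F ⊓ LinearMap.ker (Bp m F a) ≤ stdL m F ⊓ imgL ρ := by
    intro x hx
    refine ⟨hx.1, ?_⟩
    refine ⟨x, hx.1, ?_⟩
    rw [LinearEquiv.coe_coe, hρ, act_refl]
    have : Bp m F a x = 0 := hx.2
    rw [this, zero_smul, smul_zero, add_zero]
  have h2 := Submodule.finrank_mono hle
  have h3 : finrank F ↥(stdL m F ⊓ imgL ρ) ≤ m := IsQF.finrank_inf_le m stdL_mts.1
  have h4 : finrank F ↥(stdL m F ⊓ imgL ρ) ≠ m := by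
    intro heq
    have hLle : stdL m F ≤ imgL ρ := by
      have : stdL m F ⊓ imgL ρ = stdL m F :=
        Submodule.eq_of_le_of_finrank_eq inf_le_left (by rw [heq, stdL_mts.1])
      rw [← this]
      exact inf_le_right
    obtain ⟨u, hu, hne⟩ := hex
    obtain ⟨v, hv, hvu⟩ := hLle hu
    have hv' : v = actHom m F ρ u := by
      rw [← hvu, LinearEquiv.coe_coe, act_act_of_sq ρ (refl_mul_self a ha)]
    rw [hv', hρ, act_refl] at hv
    have h5 := (stdL m F).sub_mem hv hu
    rw [add_sub_cancel_left, smul_smul] at h5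
    have hc : (Cfsg.quadFormPlus m F a)⁻¹ * Bp m F a u ≠ 0 := mul_ne_zero (inv_ne_zero ha) hne
    have h6 := (stdL m F).smul_mem ((Cfsg.quadFormPlus m F a)⁻¹ * Bp m F a u)⁻¹ h5
    rw [smul_smul, inv_mul_cancel₀ hc, one_smul] at h6
    exact haL h6
  unfold dnat
  omega

omit [Fintype F] in
theorem rank_refl (a : Fin m ⊕ Fin m → F) (ha : Cfsg.quadFormPlus m F a ≠ 0) :
    (((refl a ha).1 : Matrix (Fin m ⊕ Fin m) (Fin m ⊕ Fin m) F) - 1).rank = 1 := by
  rw [rank_eq]
  have ha0 : a ≠ 0 := by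
    rintro rfl
    exact ha isQF_plus.zero
  obtain ⟨v₀, hv₀⟩ := exists_B_ne a ha0
  have hc : (Cfsg.quadFormPlus m F a)⁻¹ * Bp m F a v₀ ≠ 0 := mul_ne_zero (inv_ne_zero ha) hv₀
  have : LinearMap.range ((actHom m F (refl a ha)).toLinearMap - LinearMap.id) =
      Submodule.span F {a} := by
    apply le_antisymm
    · rintro w ⟨v, rfl⟩
      rw [LinearMap.sub_apply, LinearEquiv.coe_coe, act_refl, LinearMap.id_apply,
        add_sub_cancel_left, smul_smul]
      exact Submodule.smul_mem _ _ (Submodule.mem_span_singleton_self a)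
    · rw [Submodule.span_singleton_le_iff_mem]
      refine ⟨((Cfsg.quadFormPlus m F a)⁻¹ * Bp m F a v₀)⁻¹ • v₀, ?_⟩
      rw [map_smul, LinearMap.sub_apply, LinearEquiv.coe_coe, act_refl, LinearMap.id_apply,
        add_sub_cancel_left, smul_smul, smul_smul, mul_assoc, inv_mul_cancel₀ hc, one_smul]
  rw [this, finrank_span_singleton ha0]

omit [Fintype F] in
theorem nonalt_refl (a : Fin m ⊕ Fin m → F) (ha : Cfsg.quadFormPlus m F a ≠ 0) :
    ∃ v, Bp m F v (actHom m F (refl a ha) v) ≠ 0 := by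
  have ha0 : a ≠ 0 := by
    rintro rfl
    exact ha isQF_plus.zero
  obtain ⟨v₀, hv₀⟩ := exists_B_ne a ha0
  refine ⟨v₀, ?_⟩
  rw [act_refl, map_add, map_smul, map_smul, isQuad_plus.self, zero_add, smul_eq_mul, smul_eq_mul,
    isQuad_plus.symm v₀ a]
  exact mul_ne_zero (inv_ne_zero ha) (mul_ne_zero hv₀ hv₀)

end reflections

section conj

variable {F : Type u} [Field F] [Fintype F] [CharP F 2] {m : ℕ}

omit [Fintype F] [CharP F 2] in
theorem orderOf_eq_two (t : OPlus m F) (ht : t * t = 1) (ht1 : t ≠ 1) : orderOf t = 2 := by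
  apply orderOf_eq_prime
  · rw [pow_two]; exact ht
  · exact ht1

/-- the Witt-type statement: involutions of the same rank and type are conjugate in `O` -/
theorem conjO (hm : 4 ≤ m) (s t : OPlus m F) (hs : s * s = 1) (ht : t * t = 1) (hs1 : s ≠ 1)
    (ht1 : t ≠ 1)
    (hrank : ((s.1 : Matrix (Fin m ⊕ Fin m) (Fin m ⊕ Fin m) F) - 1).rank =
      ((t.1 : Matrix (Fin m ⊕ Fin m) (Fin m ⊕ Fin m) F) - 1).rank)
    (htype : (∀ v, Bp m F v (actHom m F s v) = 0) ↔ (∀ v, Bp m F v (actHom m F t v) = 0)) :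
    ∃ k : OPlus m F, k * s * k⁻¹ = t := by
  have htype' : (∀ v, Cfsg.sympForm m F v
        ((s.1 : Matrix (Fin m ⊕ Fin m) (Fin m ⊕ Fin m) F) *ᵥ v) = 0) ↔
      (∀ v, Cfsg.sympForm m F v
        ((t.1 : Matrix (Fin m ⊕ Fin m) (Fin m ⊕ Fin m) F) *ᵥ v) = 0) := by
    have e : ∀ (x : OPlus m F) (v : Fin m ⊕ Fin m → F), Cfsg.sympForm m F v
        ((x.1 : Matrix (Fin m ⊕ Fin m) (Fin m ⊕ Fin m) F) *ᵥ v) = Bp m F v (actHom m F x v) := by
      intro x v
      rw [← Cfsg.Agent.S2166.Hs_eq_sympForm, Hs_eq_Bp, actHom_apply]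
    simp only [e]
    exact htype
  obtain ⟨G, hG, hGAB⟩ := Cfsg.Agent.S2166.conj_of_data _ _ (mem_sp s) (coe_mul_self s hs)
    (mem_sp t) (coe_mul_self t ht) hrank htype'
  have hdet : IsUnit G.det := SymplecticGroup.symplectic_det hG
  have hGu : IsUnit G := (Matrix.isUnit_iff_isUnit_det G).mpr hdet
  set g : GL (Fin m ⊕ Fin m) F := hGu.unit with hg
  have hgG : (g : Matrix (Fin m ⊕ Fin m) (Fin m ⊕ Fin m) F) = G := IsUnit.unit_spec hGu
  have hconj : g * (s : GL (Fin m ⊕ Fin m) F) * g⁻¹ = (t : GL (Fin m ⊕ Fin m) F) := by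
    rw [mul_inv_eq_iff_eq_mul]
    apply Units.ext
    rw [Units.val_mul, Units.val_mul, hgG]
    exact hGAB
  have hpres : g ∈ Cfsg.preserving (Units.coeHom (Matrix (Fin m ⊕ Fin m) (Fin m ⊕ Fin m) F))
      (fun u v => Cfsg.quadFormPlus m F (u + v) - Cfsg.quadFormPlus m F u -
        Cfsg.quadFormPlus m F v) := by
    intro u v
    have hpolar : ∀ u v : Fin m ⊕ Fin m → F, Cfsg.quadFormPlus m F (u + v) -
        Cfsg.quadFormPlus m F u - Cfsg.quadFormPlus m F v = Bp m F u v := by
      intro u v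
      rw [isQuad_plus.add]
      ring
    show Cfsg.quadFormPlus m F
        ((g : Matrix (Fin m ⊕ Fin m) (Fin m ⊕ Fin m) F) *ᵥ u +
          (g : Matrix (Fin m ⊕ Fin m) (Fin m ⊕ Fin m) F) *ᵥ v) -
        Cfsg.quadFormPlus m F ((g : Matrix (Fin m ⊕ Fin m) (Fin m ⊕ Fin m) F) *ᵥ u) -
        Cfsg.quadFormPlus m F ((g : Matrix (Fin m ⊕ Fin m) (Fin m ⊕ Fin m) F) *ᵥ v) =
      Cfsg.quadFormPlus m F (u + v) - Cfsg.quadFormPlus m F u - Cfsg.quadFormPlus m F v
    rw [hpolar, hpolar, hgG, ← Hs_eq_Bp, ← Hs_eq_Bp]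
    exact Cfsg.Agent.S2166.Hs_preserved G hG u v
  have hconj' := (Cfsg.Agent.S2168.result hm s t (orderOf_eq_two s hs hs1)
    (orderOf_eq_two t ht ht1)).mpr ⟨g, hpres, hconj⟩
  obtain ⟨k, hk⟩ := isConj_iff.mp hconj'
  exact ⟨k, hk⟩

end conj

section peel

variable {F : Type u} [Field F] [Fintype F] [CharP F 2] {m : ℕ}

omit [Fintype F] in
theorem vsub_eq_add (x y : Fin m ⊕ Fin m → F) : x - y = x + y := by
  rw [sub_eq_add_neg]
  congr 1
  exact neg_eq_of_add_eq_zero_left (vec_add_self F y)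

omit [Fintype F] in
/-- peeling a reflection off a non-alternating involution -/
theorem peel (t : OPlus m F) (ht : t * t = 1) (v : Fin m ⊕ Fin m → F)
    (hv : Bp m F v (actHom m F t v) ≠ 0) :
    ∃ (a : Fin m ⊕ Fin m → F) (ha : Cfsg.quadFormPlus m F a ≠ 0),
      (refl a ha * t) * (refl a ha * t) = 1 ∧
      (((refl a ha * t).1 : Matrix (Fin m ⊕ Fin m) (Fin m ⊕ Fin m) F) - 1).rank + 1 =
        ((t.1 : Matrix (Fin m ⊕ Fin m) (Fin m ⊕ Fin m) F) - 1).rank := by
  obtain ⟨a, ha_def⟩ : ∃ a, a = actHom m F t v + v := ⟨_, rfl⟩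
  have hta : actHom m F t a = a := by
    rw [ha_def, map_add, act_act_of_sq t ht, add_comm]
  have hQa : Cfsg.quadFormPlus m F a = Bp m F v (actHom m F t v) := by
    rw [ha_def, isQuad_plus.add, Q_act, char_two_add_self, zero_add, isQuad_plus.symm]
  have ha : Cfsg.quadFormPlus m F a ≠ 0 := by
    rw [hQa]; exact hv
  have ha0 : a ≠ 0 := by
    intro h0
    rw [h0] at ha
    exact ha isQF_plus.zero
  have hBat : ∀ x, Bp m F a (actHom m F t x) = Bp m F a x := by
    intro x
    conv_lhs => rw [← hta]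
    exact B_act t a x
  refine ⟨a, ha, ?_, ?_⟩
  · have hcomm : refl a ha * t = t * refl a ha := by
      apply act_ext
      intro x
      rw [act_mul, act_mul, act_refl, act_refl, map_add, map_smul, map_smul, hta, hBat]
    calc refl a ha * t * (refl a ha * t) = refl a ha * (t * refl a ha) * t := by group
      _ = refl a ha * (refl a ha * t) * t := by rw [hcomm]
      _ = (refl a ha * refl a ha) * (t * t) := by group
      _ = 1 := by rw [refl_mul_self, ht, mul_one]
  · rw [rank_eq, rank_eq]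
    set N := (actHom m F t).toLinearMap - LinearMap.id with hN
    set N' := (actHom m F (refl a ha * t)).toLinearMap - LinearMap.id with hN'
    have hNx : ∀ x, N x = actHom m F t x - x := fun x => rfl
    have hN'x : ∀ x, N' x = N x + (Cfsg.quadFormPlus m F a)⁻¹ • (Bp m F a x • a) := by
      intro x
      show actHom m F (refl a ha * t) x - x = (actHom m F t x - x) + _
      rw [act_mul, act_refl, hBat]
      abel
    have hNv : N v = a := by
      rw [hNx, vsub_eq_add, ha_def]
    have hBav : Bp m F a v = Cfsg.quadFormPlus m F a := by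
      rw [hQa, ha_def, map_add, LinearMap.add_apply, isQuad_plus.self, add_zero, isQuad_plus.symm]
    have hker : LinearMap.ker N ⊔ Submodule.span F {v} ≤ LinearMap.ker N' := by
      apply sup_le
      · intro x hx
        rw [LinearMap.mem_ker] at hx ⊢
        have htx : actHom m F t x = x := by
          rw [hNx] at hx
          exact sub_eq_zero.mp hx
        have h1 : Bp m F (actHom m F t v) x = Bp m F v x := by
          have := B_act t v x
          rw [htx] at this
          exact this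
        have hBax : Bp m F a x = 0 := by
          rw [ha_def, map_add, LinearMap.add_apply, h1]
          exact char_two_add_self _
        rw [hN'x, hx, hBax, zero_smul, smul_zero, add_zero]
      · rw [Submodule.span_singleton_le_iff_mem, LinearMap.mem_ker, hN'x, hNv, hBav, smul_smul,
          inv_mul_cancel₀ ha, one_smul]
        exact vec_add_self F a
    have hv_notin : v ∉ LinearMap.ker N := by
      rw [LinearMap.mem_ker, hNv]
      exact ha0
    have h1 := finrank_sup_span_singleton (LinearMap.ker N) v hv_notin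
    have h2 := Submodule.finrank_mono hker
    have h3 := LinearMap.finrank_range_add_finrank_ker N
    have h4 := LinearMap.finrank_range_add_finrank_ker N'
    have hrange : LinearMap.range N ≤ LinearMap.range N' ⊔ Submodule.span F {a} := by
      rintro w ⟨x, rfl⟩
      have : N x = N' x + (Cfsg.quadFormPlus m F a)⁻¹ • (Bp m F a x • a) := by
        rw [hN'x, add_assoc, vec_add_self F, add_zero]
      rw [this]
      exact Submodule.add_mem _ (Submodule.mem_sup_left ⟨x, rfl⟩)
        (Submodule.mem_sup_right (Submodule.smul_mem _ _ (Submodule.smul_mem _ _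
          (Submodule.mem_span_singleton_self a))))
    have h5 := Submodule.finrank_mono hrange
    have h6 := Submodule.finrank_add_le_finrank_add_finrank (LinearMap.range N')
      (Submodule.span F {a})
    have h7 : finrank F (Submodule.span F {a}) = 1 := finrank_span_singleton ha0
    omega

end peel

section blockrank

variable {F : Type u} [Field F] {α β : Type} [Fintype α] [Fintype β]

/-- embedding of the first summand -/
noncomputable def inlMap (F : Type u) [Field F] (α β : Type) : (α → F) →ₗ[F] (α ⊕ β → F) where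
  toFun x := Sum.elim x 0
  map_add' x y := by
    ext (i | i) <;> simp
  map_smul' c x := by
    ext (i | i) <;> simp

omit [Fintype α] [Fintype β] in
theorem inlMap_injective : Function.Injective (inlMap F α β) := fun x y h => by
  funext i
  exact congrFun h (Sum.inl i)

theorem rank_fromBlocks_12 (S : Matrix α β F) :
    (fromBlocks (0 : Matrix α α F) S (0 : Matrix β α F) (0 : Matrix β β F)).rank = S.rank := by
  have h : LinearMap.range (fromBlocks (0 : Matrix α α F) S (0 : Matrix β α F)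
      (0 : Matrix β β F)).mulVecLin = (LinearMap.range S.mulVecLin).map (inlMap F α β) := by
    ext w
    constructor
    · rintro ⟨v, rfl⟩
      refine ⟨S *ᵥ (v ∘ Sum.inr), ⟨v ∘ Sum.inr, rfl⟩, ?_⟩
      rw [mulVecLin_apply, fromBlocks_mulVec]
      ext (i | i) <;> simp [inlMap]
    · rintro ⟨_, ⟨y, rfl⟩, rfl⟩
      refine ⟨Sum.elim 0 y, ?_⟩
      rw [mulVecLin_apply, fromBlocks_mulVec]
      ext (i | i) <;> simp [inlMap]
  rw [Matrix.rank, Matrix.rank, h]
  exact (Submodule.equivMapOfInjective _ inlMap_injective _).finrank_eq.symm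

theorem rank_fromBlocks_11 (X : Matrix α α F) :
    (fromBlocks X (0 : Matrix α β F) (0 : Matrix β α F) (0 : Matrix β β F)).rank = X.rank := by
  have h : LinearMap.range (fromBlocks X (0 : Matrix α β F) (0 : Matrix β α F)
      (0 : Matrix β β F)).mulVecLin = (LinearMap.range X.mulVecLin).map (inlMap F α β) := by
    ext w
    constructor
    · rintro ⟨v, rfl⟩
      refine ⟨X *ᵥ (v ∘ Sum.inl), ⟨v ∘ Sum.inl, rfl⟩, ?_⟩
      rw [mulVecLin_apply, fromBlocks_mulVec]
      ext (i | i) <;> simp [inlMap]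
    · rintro ⟨_, ⟨y, rfl⟩, rfl⟩
      refine ⟨Sum.elim y 0, ?_⟩
      rw [mulVecLin_apply, fromBlocks_mulVec]
      ext (i | i) <;> simp [inlMap]
  rw [Matrix.rank, Matrix.rank, h]
  exact (Submodule.equivMapOfInjective _ inlMap_injective _).finrank_eq.symm

end blockrank

section unipotent

variable {F : Type u} [Field F] [Fintype F] [CharP F 2] {m : ℕ}

omit [Fintype F] [CharP F 2] in
theorem Q_eq_dot (v : Fin m ⊕ Fin m → F) :
    Cfsg.quadFormPlus m F v = (v ∘ Sum.inl) ⬝ᵥ (v ∘ Sum.inr) := rfl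

omit [Fintype F] [CharP F 2] in
theorem Bp_eq_dot (u v : Fin m ⊕ Fin m → F) :
    Bp m F u v = (u ∘ Sum.inl) ⬝ᵥ (v ∘ Sum.inr) + (u ∘ Sum.inr) ⬝ᵥ (v ∘ Sum.inl) := by
  rw [Bp_apply]
  simp only [dotProduct, Function.comp, Finset.sum_add_distrib]

/-- matrix-built isometry -/
noncomputable def mkOM (M M' : Matrix (Fin m ⊕ Fin m) (Fin m ⊕ Fin m) F) (h1 : M * M' = 1)
    (h2 : M' * M = 1)
    (hQ : ∀ v, Cfsg.quadFormPlus m F (M *ᵥ v) = Cfsg.quadFormPlus m F v) : OPlus m F :=
  ⟨⟨M, M', h1, h2⟩, (mem_O_iff _).mpr hQ⟩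

omit [Fintype F] [CharP F 2] in
theorem act_mkOM (M M' : Matrix (Fin m ⊕ Fin m) (Fin m ⊕ Fin m) F) (h1 : M * M' = 1)
    (h2 : M' * M = 1)
    (hQ : ∀ v, Cfsg.quadFormPlus m F (M *ᵥ v) = Cfsg.quadFormPlus m F v)
    (v : Fin m ⊕ Fin m → F) : actHom m F (mkOM M M' h1 h2 hQ) v = M *ᵥ v := rfl

/-- alternating matrices -/
def IsAltM (S : Matrix (Fin m) (Fin m) F) : Prop := ∀ y : Fin m → F, y ⬝ᵥ (S *ᵥ y) = 0

omit [Fintype F] in
theorem mat_add_self (S : Matrix (Fin m) (Fin m) F) : S + S = 0 := by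
  ext i j
  exact char_two_add_self (S i j)

omit [Fintype F] in
theorem uS_sq (S : Matrix (Fin m) (Fin m) F) :
    fromBlocks (1 : Matrix (Fin m) (Fin m) F) S 0 (1 : Matrix (Fin m) (Fin m) F) *
      fromBlocks (1 : Matrix (Fin m) (Fin m) F) S 0 (1 : Matrix (Fin m) (Fin m) F) = 1 := by
  rw [fromBlocks_multiply]
  simp only [mul_one, mul_zero, add_zero, one_mul, zero_mul, zero_add]
  rw [mat_add_self, fromBlocks_one]

omit [Fintype F] [CharP F 2] in
theorem uS_Q (S : Matrix (Fin m) (Fin m) F) (hS : IsAltM S) (v : Fin m ⊕ Fin m → F) :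
    Cfsg.quadFormPlus m F (fromBlocks (1 : Matrix (Fin m) (Fin m) F) S 0 1 *ᵥ v) =
      Cfsg.quadFormPlus m F v := by
  rw [fromBlocks_mulVec, Q_eq_dot, Q_eq_dot]
  simp only [Sum.elim_comp_inl, Sum.elim_comp_inr, one_mulVec, zero_mulVec, zero_add,
    add_dotProduct]
  rw [dotProduct_comm (S *ᵥ _), hS, add_zero]

/-- the unipotent isometry attached to an alternating matrix -/
noncomputable def uS (S : Matrix (Fin m) (Fin m) F) (hS : IsAltM S) : OPlus m F :=
  mkOM (fromBlocks 1 S 0 1) (fromBlocks 1 S 0 1) (uS_sq S) (uS_sq S) (uS_Q S hS)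

omit [Fintype F] in
theorem uS_congr {S S' : Matrix (Fin m) (Fin m) F} (h : S = S') (hS : IsAltM S)
    (hS' : IsAltM S') : uS S hS = uS S' hS' := by
  subst h
  rfl

omit [Fintype F] in
theorem uS_mul (S S' : Matrix (Fin m) (Fin m) F) (hS : IsAltM S) (hS' : IsAltM S')
    (h : IsAltM (S + S')) : uS S hS * uS S' hS' = uS (S + S') h := by
  apply Subtype.ext
  apply Units.ext
  show fromBlocks (1 : Matrix (Fin m) (Fin m) F) S 0 1 * fromBlocks 1 S' 0 1 =
    fromBlocks 1 (S + S') 0 1
  rw [fromBlocks_multiply]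
  simp [add_comm]

omit [Fintype F] in
theorem uS_mul_self (S : Matrix (Fin m) (Fin m) F) (hS : IsAltM S) : uS S hS * uS S hS = 1 := by
  apply Subtype.ext
  apply Units.ext
  exact uS_sq S

omit [Fintype F] in
theorem uS_zero (h : IsAltM (0 : Matrix (Fin m) (Fin m) F)) : uS 0 h = 1 := by
  apply Subtype.ext
  apply Units.ext
  exact fromBlocks_one

omit [Fintype F] in
theorem rank_uS (S : Matrix (Fin m) (Fin m) F) (hS : IsAltM S) :
    (((uS S hS).1 : Matrix (Fin m ⊕ Fin m) (Fin m ⊕ Fin m) F) - 1).rank = S.rank := by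
  have : ((uS S hS).1 : Matrix (Fin m ⊕ Fin m) (Fin m ⊕ Fin m) F) - 1 =
      fromBlocks 0 S 0 0 := by
    show fromBlocks (1 : Matrix (Fin m) (Fin m) F) S 0 1 - 1 = fromBlocks 0 S 0 0
    rw [← fromBlocks_one, sub_eq_add_neg, fromBlocks_neg, fromBlocks_add]
    simp
  rw [this, rank_fromBlocks_12]

omit [Fintype F] in
theorem alt_uS (S : Matrix (Fin m) (Fin m) F) (hS : IsAltM S) (v : Fin m ⊕ Fin m → F) :
    Bp m F v (actHom m F (uS S hS) v) = 0 := by
  unfold uS
  rw [act_mkOM, fromBlocks_mulVec, Bp_eq_dot]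
  simp only [Sum.elim_comp_inl, Sum.elim_comp_inr, one_mulVec, zero_mulVec, zero_add,
    dotProduct_add]
  rw [hS, add_zero, dotProduct_comm]
  exact char_two_add_self _

omit [Fintype F] [CharP F 2] in
theorem lA_Q (A A' : Matrix (Fin m) (Fin m) F) (h2 : A' * A = 1) (v : Fin m ⊕ Fin m → F) :
    Cfsg.quadFormPlus m F (fromBlocks A 0 0 A'ᵀ *ᵥ v) = Cfsg.quadFormPlus m F v := by
  rw [fromBlocks_mulVec, Q_eq_dot, Q_eq_dot]
  simp only [Sum.elim_comp_inl, Sum.elim_comp_inr, zero_mulVec, zero_add, add_zero]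
  rw [dotProduct_mulVec, vecMul_transpose, mulVec_mulVec, h2, one_mulVec]

omit [Fintype F] [CharP F 2] in
theorem lA_mul (A A' : Matrix (Fin m) (Fin m) F) (h1 : A * A' = 1) :
    fromBlocks A 0 0 A'ᵀ * fromBlocks A' 0 0 Aᵀ = (1 : Matrix (Fin m ⊕ Fin m) (Fin m ⊕ Fin m) F) := by
  rw [fromBlocks_multiply]
  simp only [mul_zero, add_zero, zero_mul, zero_add]
  rw [h1, ← transpose_mul, h1, transpose_one, fromBlocks_one]

/-- the Levi isometry attached to an invertible matrix -/
noncomputable def lA (A A' : Matrix (Fin m) (Fin m) F) (h1 : A * A' = 1) (h2 : A' * A = 1) :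
    OPlus m F :=
  mkOM (fromBlocks A 0 0 A'ᵀ) (fromBlocks A' 0 0 Aᵀ) (lA_mul A A' h1) (lA_mul A' A h2)
    (lA_Q A A' h2)

omit [Fintype F] [CharP F 2] in
theorem isAlt_congr (A : Matrix (Fin m) (Fin m) F) (S : Matrix (Fin m) (Fin m) F)
    (hS : IsAltM S) : IsAltM (A * S * Aᵀ) := by
  intro y
  rw [← mulVec_mulVec, ← mulVec_mulVec, dotProduct_mulVec, ← mulVec_transpose]
  exact hS _

omit [Fintype F] in
theorem lA_conj (A A' : Matrix (Fin m) (Fin m) F) (h1 : A * A' = 1) (h2 : A' * A = 1)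
    (S : Matrix (Fin m) (Fin m) F) (hS : IsAltM S) :
    lA A A' h1 h2 * uS S hS = uS (A * S * Aᵀ) (isAlt_congr A S hS) * lA A A' h1 h2 := by
  apply Subtype.ext
  apply Units.ext
  show fromBlocks A 0 0 A'ᵀ * fromBlocks (1 : Matrix (Fin m) (Fin m) F) S 0 1 =
    fromBlocks (1 : Matrix (Fin m) (Fin m) F) (A * S * Aᵀ) 0 1 * fromBlocks A 0 0 A'ᵀ
  rw [fromBlocks_multiply, fromBlocks_multiply]
  simp only [mul_one, mul_zero, add_zero, one_mul, zero_mul, zero_add]
  rw [Matrix.mul_assoc (A * S), ← transpose_mul, h2, transpose_one, mul_one]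

omit [Fintype F] [CharP F 2] in
theorem isAlt_add (S S' : Matrix (Fin m) (Fin m) F) (hS : IsAltM S) (hS' : IsAltM S') :
    IsAltM (S + S') := by
  intro y
  rw [add_mulVec, dotProduct_add, hS, hS', add_zero]

omit [Fintype F] in
/-- the commutator of a Levi element and a unipotent element -/
theorem comm_lA_uS (A A' : Matrix (Fin m) (Fin m) F) (h1 : A * A' = 1) (h2 : A' * A = 1)
    (S : Matrix (Fin m) (Fin m) F) (hS : IsAltM S) :
    ⁅lA A A' h1 h2, uS S hS⁆ =
      uS (A * S * Aᵀ + S) (isAlt_add _ _ (isAlt_congr A S hS) hS) := by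
  rw [commutatorElement_def, lA_conj, mul_assoc (uS _ _), mul_inv_cancel, mul_one,
    inv_eq_of_mul_eq_one_right (uS_mul_self S hS), uS_mul]

omit [Fintype F] in
theorem isAlt_sym (M : Matrix (Fin m) (Fin m) F) : IsAltM (M + Mᵀ) := by
  intro y
  rw [add_mulVec, dotProduct_add, mulVec_transpose, dotProduct_comm y (y ᵥ* M), ← dotProduct_mulVec]
  exact char_two_add_self _

/-- the unipotent isometry attached to `M + Mᵀ` -/
noncomputable def uSym (M : Matrix (Fin m) (Fin m) F) : OPlus m F := uS (M + Mᵀ) (isAlt_sym M)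

end unipotent

section generation

variable {F : Type u} [Field F] [Fintype F] [CharP F 2] {m : ℕ}

omit [Fintype F] in
theorem uSym_add (p q : Matrix (Fin m) (Fin m) F) : uSym (p + q) = uSym p * uSym q := by
  unfold uSym
  rw [uS_mul _ _ _ _ (isAlt_add _ _ (isAlt_sym p) (isAlt_sym q))]
  apply uS_congr
  rw [transpose_add]
  abel

omit [Fintype F] [CharP F 2] in
theorem exists_third (hm : 3 ≤ m) (a b : Fin m) : ∃ k : Fin m, k ≠ a ∧ k ≠ b := by
  by_contra hcon
  push Not at hcon
  have hsub : (Finset.univ : Finset (Fin m)) ⊆ {a, b} := by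
    intro x _
    by_cases hx : x = a
    · simp [hx]
    · simp [hcon x hx]
  have h1 := Finset.card_le_card hsub
  have h2 : ({a, b} : Finset (Fin m)).card ≤ 2 := Finset.card_le_two
  rw [Finset.card_univ, Fintype.card_fin] at h1
  omega

omit [Fintype F] [CharP F 2] in
theorem isAlt_zero : IsAltM (0 : Matrix (Fin m) (Fin m) F) := by
  intro y
  rw [zero_mulVec, dotProduct_zero]

omit [Fintype F] in
theorem uSym_single_mem (hm : 3 ≤ m) (a b : Fin m) (c : F) :
    uSym (single a b c) ∈ Cfsg.Omega F (Cfsg.quadFormPlus m F) := by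
  by_cases hab : a = b
  · subst hab
    have : uSym (single a a c) = 1 := by
      unfold uSym
      rw [← uS_zero isAlt_zero]
      apply uS_congr
      rw [transpose_single]
      exact mat_add_self _
    rw [this]
    exact Subgroup.one_mem _
  · obtain ⟨k, hka, hkb⟩ := exists_third hm a b
    obtain ⟨E, hE⟩ : ∃ E : Matrix (Fin m) (Fin m) F, E = single b k 1 := ⟨_, rfl⟩
    have hEE : E * E = 0 := by
      rw [hE]
      exact single_mul_single_of_ne 1 b k b hkb 1
    have hA : (1 + E) * (1 + E) = 1 := by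
      rw [add_mul, mul_add, mul_add, one_mul, mul_one, one_mul, hEE, add_zero, add_assoc,
        mat_add_self, add_zero]
    have key : uSym (single a b c) = ⁅lA (1 + E) (1 + E) hA hA, uSym (single a k c)⁆ := by
      unfold uSym
      rw [comm_lA_uS]
      apply uS_congr
      rw [transpose_single, transpose_single, transpose_add, transpose_one, hE, transpose_single]
      have hXE : single b k (1 : F) * single a k c = 0 := single_mul_single_of_ne 1 b k a hka c
      have hYE : single b k (1 : F) * single k a c = single b a c := by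
        rw [single_mul_single_same, one_mul]
      have hXE' : single a k c * single k b (1 : F) = single a b c := by
        rw [single_mul_single_same, mul_one]
      have hYE' : single k a c * single k b (1 : F) = 0 :=
        single_mul_single_of_ne c k a k (Ne.symm hka) 1
      have hZE' : single b a c * single k b (1 : F) = 0 :=
        single_mul_single_of_ne c b a k (Ne.symm hka) 1
      rw [add_mul 1 (single b k (1 : F)), one_mul, mul_add (single b k (1 : F)), hXE, hYE, zero_add,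
        mul_add, mul_one, add_mul, add_mul, hXE', hYE', hZE', add_zero, add_zero]
      have h2 : ∀ P R : Matrix (Fin m) (Fin m) F, P + R + P = R := by
        intro P R
        rw [add_comm P R, add_assoc, mat_add_self, add_zero]
      rw [add_assoc (single a k c + single k a c), h2, add_comm]
    rw [key]
    exact Subgroup.commutator_mem_commutator (Subgroup.mem_top _) (Subgroup.mem_top _)

omit [Fintype F] in
/-- all the unipotent elements `uSym M` lie in the commutator subgroup -/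
theorem uSym_mem (hm : 3 ≤ m) (M : Matrix (Fin m) (Fin m) F) :
    uSym M ∈ Cfsg.Omega F (Cfsg.quadFormPlus m F) := by
  induction M using Matrix.induction_on' with
  | h_zero =>
    have : uSym (0 : Matrix (Fin m) (Fin m) F) = 1 := by
      unfold uSym
      rw [← uS_zero isAlt_zero]
      apply uS_congr
      simp
    rw [this]
    exact Subgroup.one_mem _
  | h_add p q hp hq =>
    rw [uSym_add]
    exact Subgroup.mul_mem _ hp hq
  | h_std_basis i j x => exact uSym_single_mem hm i j x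

omit [Fintype F] [CharP F 2] in
/-- alternating matrices of every even rank -/
theorem exists_alt_rank (k : ℕ) (hk : 2 * k ≤ m) :
    ∃ M : Matrix (Fin m) (Fin m) F, (M + Mᵀ).rank = 2 * k := by
  obtain ⟨r, hr⟩ : ∃ r, m = 2 * k + r := ⟨m - 2 * k, by omega⟩
  have hcard : Fintype.card ((Fin k ⊕ Fin k) ⊕ Fin r) = Fintype.card (Fin m) := by
    simp only [Fintype.card_sum, Fintype.card_fin]
    omega
  let e : (Fin k ⊕ Fin k) ⊕ Fin r ≃ Fin m := Fintype.equivOfCardEq hcard
  let M' : Matrix ((Fin k ⊕ Fin k) ⊕ Fin r) ((Fin k ⊕ Fin k) ⊕ Fin r) F :=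
    fromBlocks (fromBlocks 0 1 0 0) 0 0 0
  refine ⟨reindex e e M', ?_⟩
  have h1 : reindex e e M' + (reindex e e M')ᵀ =
      reindex e e (fromBlocks (fromBlocks (0 : Matrix (Fin k) (Fin k) F) 1 1 0) 0 0 0) := by
    rw [transpose_reindex]
    simp only [reindex_apply]
    have h3 : M' + M'ᵀ = fromBlocks (fromBlocks (0 : Matrix (Fin k) (Fin k) F) 1 1 0) 0 0 0 := by
      simp only [M', fromBlocks_transpose, fromBlocks_add, transpose_zero, transpose_one, add_zero,
        zero_add]
    rw [← h3]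
    rfl
  rw [h1, rank_reindex, rank_fromBlocks_11]
  have hJ : fromBlocks (0 : Matrix (Fin k) (Fin k) F) (1 : Matrix (Fin k) (Fin k) F)
      (1 : Matrix (Fin k) (Fin k) F) (0 : Matrix (Fin k) (Fin k) F) *
      fromBlocks (0 : Matrix (Fin k) (Fin k) F) (1 : Matrix (Fin k) (Fin k) F)
      (1 : Matrix (Fin k) (Fin k) F) (0 : Matrix (Fin k) (Fin k) F) = 1 := by
    rw [fromBlocks_multiply]
    simp [fromBlocks_one]
  have := rank_unit (⟨_, _, hJ, hJ⟩ : (Matrix (Fin k ⊕ Fin k) (Fin k ⊕ Fin k) F)ˣ)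
  rw [Units.val_mk] at this
  rw [this, Fintype.card_sum, Fintype.card_fin]
  omega

omit [Fintype F] in
theorem rank_le (t : OPlus m F) (ht : t * t = 1) :
    ((t.1 : Matrix (Fin m ⊕ Fin m) (Fin m ⊕ Fin m) F) - 1).rank ≤ m := by
  have hTT := coe_mul_self t ht
  have h0 : ((t.1 : Matrix (Fin m ⊕ Fin m) (Fin m ⊕ Fin m) F) - 1) *
      ((t.1 : Matrix (Fin m ⊕ Fin m) (Fin m ⊕ Fin m) F) - 1) = 0 := by
    rw [sub_mul, mul_sub, hTT, mul_one, one_mul]
    ext i j
    have := char_two_add_self ((1 : Matrix (Fin m ⊕ Fin m) (Fin m ⊕ Fin m) F) i j -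
      (t.1 : Matrix (Fin m ⊕ Fin m) (Fin m ⊕ Fin m) F) i j)
    simp only [Matrix.sub_apply, Matrix.zero_apply]
    linear_combination this
  have := rank_add_rank_le_card_of_mul_eq_zero h0
  rw [Fintype.card_sum, Fintype.card_fin] at this
  omega

theorem even_rank_of_alt' (t : OPlus m F) (ht : t * t = 1)
    (halt : ∀ v, Bp m F v (actHom m F t v) = 0) :
    Even ((t.1 : Matrix (Fin m ⊕ Fin m) (Fin m ⊕ Fin m) F) - 1).rank := by
  apply Cfsg.Agent.S2166.even_rank_of_alt _ (mem_sp t) (coe_mul_self t ht)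
  intro v
  rw [← Cfsg.Agent.S2166.Hs_eq_sympForm, Hs_eq_Bp, ← actHom_apply]
  exact halt v

omit [Fintype F] in
theorem refl_ne_one (a : Fin m ⊕ Fin m → F) (ha : Cfsg.quadFormPlus m F a ≠ 0) :
    refl a ha ≠ 1 := by
  intro h
  have h1 := rank_refl a ha
  rw [h] at h1
  simp at h1

/-- a product of two reflections lies in the commutator subgroup -/
theorem refl_mul_refl_mem (hm : 4 ≤ m) (a : Fin m ⊕ Fin m → F)
    (ha : Cfsg.quadFormPlus m F a ≠ 0) (b : Fin m ⊕ Fin m → F)
    (hb : Cfsg.quadFormPlus m F b ≠ 0) :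
    refl a ha * refl b hb ∈ Cfsg.Omega F (Cfsg.quadFormPlus m F) := by
  have htype : (∀ v, Bp m F v (actHom m F (refl a ha) v) = 0) ↔
      (∀ v, Bp m F v (actHom m F (refl b hb) v) = 0) := by
    constructor
    · intro h
      obtain ⟨v, hv⟩ := nonalt_refl a ha
      exact absurd (h v) hv
    · intro h
      obtain ⟨v, hv⟩ := nonalt_refl b hb
      exact absurd (h v) hv
  obtain ⟨k, hk⟩ := conjO hm (refl a ha) (refl b hb) (refl_mul_self a ha) (refl_mul_self b hb)
    (refl_ne_one a ha) (refl_ne_one b hb) (by rw [rank_refl, rank_refl]) htype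
  have key : refl a ha * refl b hb = ⁅refl a ha, k⁆ := by
    rw [commutatorElement_def, ← hk, inv_eq_of_mul_eq_one_right (refl_mul_self a ha)]
    group
  rw [key]
  exact Subgroup.commutator_mem_commutator (Subgroup.mem_top _) (Subgroup.mem_top _)

end generation

end Cfsg.Agent.Helper36.PlusOrth
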