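import Mathlib
import Cfsg.Agent.Lib.Helper36.InvCent
import Cfsg.Agent.S2593
import Cfsg.Agent.Lib.Lead.SpCard
import Cfsg.Agent.Lib.Lead.SpTvCent

set_option autoImplicit false
set_option linter.unusedSectionVars false

/-!
# Centraliser orders of involutions in `Sp_{2m}(q)`, `q` even: transport to block form
-/

namespace Cfsg.Agent.Helper36.InvCentSp

open Matrix Cfsg.Agent.Helper36.Blk3 Cfsg.Agent.Helper36.InvCent

universe u

section symm

variable {F : Type u} [Field F] [Fintype F]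

/-- the number of symmetric matrices -/
theorem card_symm (a : Type) [Fintype a] [DecidableEq a] :
    Nat.card {Y : Matrix a a F // Yᵀ = Y} =
      Fintype.card F ^ (Fintype.card a + 1).choose 2 := by
  classical
  have e : {Y : Matrix a a F // Yᵀ = Y} ≃ (Sym2 a → F) :=
    (Equiv.subtypeEquivRight (p := fun Y : Matrix a a F => Yᵀ = Y)
      (q := fun f : a → a → F => ∀ i j, f i j = f j i) (fun Y => by
      constructor
      · intro h i j
        exact congrFun (congrFun h j) i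
      · intro h
        ext i j
        exact h j i)).trans Sym2.lift
  rw [Nat.card_congr e, Nat.card_eq_fintype_card, Fintype.card_fun, Sym2.card]

end symm

section transport

variable {F : Type u} [Field F]

/-- transport of a "form-preserving and commuting" set along a reindexing -/
def reindexEquiv {N N' : Type} [Fintype N] [DecidableEq N] [Fintype N'] [DecidableEq N']
    (σ : N ≃ N') (J t : Matrix N N F) :
    {g : Matrix N N F // g * J * gᵀ = J ∧ g * t = t * g} ≃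
      {g : Matrix N' N' F // g * (reindex σ σ J) * gᵀ = reindex σ σ J ∧
        g * reindex σ σ t = reindex σ σ t * g} :=
  Equiv.subtypeEquiv (reindex σ σ) (fun g => by
    have hinj : Function.Injective (reindex σ σ : Matrix N N F → Matrix N' N' F) :=
      (reindex σ σ).injective
    have h1 : reindex σ σ g * reindex σ σ J * (reindex σ σ g)ᵀ = reindex σ σ (g * J * gᵀ) := by
      simp only [reindex_apply, transpose_submatrix, submatrix_mul_equiv]
    have h2 : reindex σ σ g * reindex σ σ t = reindex σ σ (g * t) := by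
      simp only [reindex_apply, submatrix_mul_equiv]
    have h3 : reindex σ σ t * reindex σ σ g = reindex σ σ (t * g) := by
      simp only [reindex_apply, submatrix_mul_equiv]
    rw [h1, h2, h3]
    constructor
    · rintro ⟨ha, hb⟩
      exact ⟨by rw [ha], by rw [hb]⟩
    · rintro ⟨ha, hb⟩
      exact ⟨hinj ha, hinj hb⟩)

end transport

section model

variable {F : Type u} [Field F] [CharP F 2] {m k : ℕ} {a : Type} [Fintype a] [DecidableEq a]

/-- regrouping of coordinates `(E₁ ⊕ E₂) ⊕ (F₁ ⊕ F₂) ≃ E₁ ⊕ ((E₂ ⊕ F₂) ⊕ F₁)` -/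
def rho (a b : Type) : (a ⊕ b) ⊕ (a ⊕ b) ≃ I3 a (b ⊕ b) a where
  toFun
    | Sum.inl (Sum.inl i) => Sum.inl i
    | Sum.inl (Sum.inr j) => Sum.inr (Sum.inl (Sum.inl j))
    | Sum.inr (Sum.inl i) => Sum.inr (Sum.inr i)
    | Sum.inr (Sum.inr j) => Sum.inr (Sum.inl (Sum.inr j))
  invFun
    | Sum.inl i => Sum.inl (Sum.inl i)
    | Sum.inr (Sum.inl (Sum.inl j)) => Sum.inl (Sum.inr j)
    | Sum.inr (Sum.inl (Sum.inr j)) => Sum.inr (Sum.inr j)
    | Sum.inr (Sum.inr i) => Sum.inr (Sum.inl i)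
  left_inv x := by rcases x with (i | j) | (i | j) <;> rfl
  right_inv x := by rcases x with i | (j | j) | i <;> rfl

/-- the full change of coordinates -/
def sigma (e : Fin m ≃ a ⊕ Fin k) : Fin m ⊕ Fin m ≃ I3 a (Fin k ⊕ Fin k) a :=
  (Equiv.sumCongr e e).trans (rho a (Fin k))

/-- the half-form with `K + Kᵀ = J` -/
def Kmat (k : ℕ) (F : Type u) [Field F] : Matrix (Fin k ⊕ Fin k) (Fin k ⊕ Fin k) F :=
  fromBlocks 0 0 1 0

theorem J_eq_K_add (k : ℕ) : Matrix.J (Fin k) F = Kmat k F + (Kmat k F)ᵀ := by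
  unfold Kmat Matrix.J
  rw [fromBlocks_transpose, fromBlocks_add]
  simp only [transpose_zero, transpose_one, add_zero, zero_add]
  congr 1
  ext i j
  exact CharTwo.neg_eq _

theorem reindex_J (e : Fin m ≃ a ⊕ Fin k) :
    reindex (sigma e) (sigma e) (Matrix.J (Fin m) F) = J3 (Matrix.J (Fin k) F) := by
  ext x y
  rw [reindex_apply, submatrix_apply]
  rcases x with i | (j | j) | i <;> rcases y with i' | (j' | j') | i' <;>
    simp [sigma, rho, J3, mk3, Matrix.J, Matrix.one_apply, CharTwo.neg_eq]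

/-- the symmetric matrix of the standard involution -/
def Dmat (e : Fin m ≃ a ⊕ Fin k) (β : Matrix a a F) : Matrix (Fin m) (Fin m) F :=
  reindex e.symm e.symm (fromBlocks β 0 0 0)

theorem Dmat_symm (e : Fin m ≃ a ⊕ Fin k) (β : Matrix a a F) (hβ : βᵀ = β) :
    (Dmat e β)ᵀ = Dmat e β := by
  unfold Dmat
  rw [reindex_apply, transpose_submatrix, fromBlocks_transpose, hβ]
  simp

theorem reindex_uSp (e : Fin m ≃ a ⊕ Fin k) (β : Matrix a a F) :
    reindex (sigma e) (sigma e) (fromBlocks (1 : Matrix (Fin m) (Fin m) F) (Dmat e β) 0 1) =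
      T3 β := by
  ext x y
  rw [reindex_apply, submatrix_apply]
  rcases x with i | (j | j) | i <;> rcases y with i' | (j' | j') | i' <;>
    simp [sigma, rho, T3, mk3, Dmat, Matrix.one_apply]

end model

section count

variable {F : Type u} [Field F] [Fintype F] [CharP F 2] {m k : ℕ} {a : Type} [Fintype a]
  [DecidableEq a]

/-- the centraliser of an element of the symplectic group as a set of matrices -/
def centSetEquiv (t : ↥(Matrix.symplecticGroup (Fin m) F)) :
    ↥(Subgroup.centralizer ({t} : Set ↥(Matrix.symplecticGroup (Fin m) F))) ≃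
      {g : Matrix (Fin m ⊕ Fin m) (Fin m ⊕ Fin m) F //
        g * Matrix.J (Fin m) F * gᵀ = Matrix.J (Fin m) F ∧ g * t.1 = t.1 * g} where
  toFun x := ⟨x.1.1, SymplecticGroup.mem_iff.mp x.1.2, by
    have h := Subgroup.mem_centralizer_iff.mp x.2 t rfl
    exact (congrArg Subtype.val h).symm⟩
  invFun y := ⟨⟨y.1, SymplecticGroup.mem_iff.mpr y.2.1⟩, by
    rw [Subgroup.mem_centralizer_iff]
    intro h hh
    rw [Set.mem_singleton_iff] at hh
    subst hh
    apply Subtype.ext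
    exact y.2.2.symm⟩
  left_inv x := rfl
  right_inv y := rfl

theorem card_mat (c : Type) [Fintype c] [DecidableEq c] :
    Nat.card (Matrix a c F) = Fintype.card F ^ (Fintype.card c * Fintype.card a) := by
  show Nat.card (a → c → F) = _
  rw [Nat.card_eq_fintype_card, Fintype.card_fun, Fintype.card_fun, ← pow_mul]

/-- the order of the centraliser of the standard involution -/
theorem card_centralizer_uSp (e : Fin m ≃ a ⊕ Fin k) (β βi : Matrix a a F) (hβ : βᵀ = β)
    (hβi : β * βi = 1) :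
    Nat.card ↥(Subgroup.centralizer
      ({Cfsg.Agent.S2593.uSp (Dmat e β) (Dmat_symm e β hβ)} :
        Set ↥(Matrix.symplecticGroup (Fin m) F))) =
      Nat.card {X : Matrix a a F // X * β * Xᵀ = β} *
        (Nat.card ↥(Matrix.symplecticGroup (Fin k) F) *
          (Fintype.card F ^ (Fintype.card (Fin k ⊕ Fin k) * Fintype.card a) *
            Fintype.card F ^ (Fintype.card a + 1).choose 2)) := by
  have h1 := Nat.card_congr (centSetEquiv (Cfsg.Agent.S2593.uSp (Dmat e β) (Dmat_symm e β hβ)))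
  have h2 := Nat.card_congr (reindexEquiv (sigma e) (Matrix.J (Fin m) F)
    (fromBlocks (1 : Matrix (Fin m) (Fin m) F) (Dmat e β) 0 1))
  rw [reindex_J, reindex_uSp] at h2
  have h3 := Nat.card_congr (centEquiv β (Matrix.J (Fin k) F) βi (Kmat k F) hβ hβi
    (J_eq_K_add k))
  have h4 : Nat.card {S : Matrix (Fin k ⊕ Fin k) (Fin k ⊕ Fin k) F //
      S * Matrix.J (Fin k) F * Sᵀ = Matrix.J (Fin k) F} =
      Nat.card ↥(Matrix.symplecticGroup (Fin k) F) :=
    Nat.card_congr (Equiv.subtypeEquivRight (fun S => SymplecticGroup.mem_iff.symm))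
  rw [h1]
  show Nat.card {g : Matrix (Fin m ⊕ Fin m) (Fin m ⊕ Fin m) F //
    g * Matrix.J (Fin m) F * gᵀ = Matrix.J (Fin m) F ∧
      g * fromBlocks (1 : Matrix (Fin m) (Fin m) F) (Dmat e β) 0 1 =
        fromBlocks (1 : Matrix (Fin m) (Fin m) F) (Dmat e β) 0 1 * g} = _
  rw [h2, h3, Nat.card_prod, Nat.card_prod, Nat.card_prod, h4, card_mat, card_symm]

end count

section general

theorem card_centralizer_conj {G : Type*} [Group G] (g t : G) :
    Nat.card ↥(Subgroup.centralizer ({g * t * g⁻¹} : Set G)) =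
      Nat.card ↥(Subgroup.centralizer ({t} : Set G)) := by
  apply Nat.card_congr
  refine Equiv.subtypeEquiv (MulAut.conj g⁻¹).toEquiv (fun x => ?_)
  show x ∈ Subgroup.centralizer {g * t * g⁻¹} ↔ g⁻¹ * x * g⁻¹⁻¹ ∈ Subgroup.centralizer {t}
  rw [Subgroup.mem_centralizer_singleton_iff, Subgroup.mem_centralizer_singleton_iff, inv_inv]
  constructor
  · intro h
    calc g⁻¹ * x * g * t = g⁻¹ * (x * (g * t * g⁻¹)) * g := by group
      _ = g⁻¹ * ((g * t * g⁻¹) * x) * g := by rw [h]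
      _ = t * (g⁻¹ * x * g) := by group
  · intro h
    calc x * (g * t * g⁻¹) = g * ((g⁻¹ * x * g) * t) * g⁻¹ := by group
      _ = g * (t * (g⁻¹ * x * g)) * g⁻¹ := by rw [h]
      _ = g * t * g⁻¹ * x := by group

variable {F : Type u} [Field F] [Fintype F] [CharP F 2] {m k : ℕ} {a : Type} [Fintype a]
  [DecidableEq a]

omit [Fintype F] [CharP F 2] in
theorem dot_Dmat (e : Fin m ≃ a ⊕ Fin k) (β : Matrix a a F) (u : Fin m → F) :
    u ⬝ᵥ (Dmat e β *ᵥ u) =
      (fun i => u (e.symm (Sum.inl i))) ⬝ᵥ (β *ᵥ fun i => u (e.symm (Sum.inl i))) := by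
  have h1 : Dmat e β = (fromBlocks β 0 0 0).submatrix e e := rfl
  rw [h1, submatrix_mulVec_equiv, ← comp_equiv_symm_dotProduct]
  have h2 : u ∘ e.symm = Sum.elim (fun i => u (e.symm (Sum.inl i)))
      (fun j => u (e.symm (Sum.inr j))) := by
    funext x
    rcases x with i | j <;> rfl
  rw [h2, fromBlocks_mulVec, sumElim_dotProduct_sumElim]
  simp

omit [Fintype F] [CharP F 2] in
theorem rank_Dmat (e : Fin m ≃ a ⊕ Fin k) (β βi : Matrix a a F) (hβi : β * βi = 1) :
    (Dmat e β).rank = Fintype.card a := by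
  unfold Dmat
  rw [rank_reindex, Cfsg.Agent.Helper36.PlusOrth.rank_fromBlocks_11]
  apply rank_of_isUnit
  exact IsUnit.of_mul_eq_one _ hβi

/-- the centraliser order of an involution with given rank and type -/
theorem card_centralizer_of_data (e : Fin m ≃ a ⊕ Fin k) (β βi : Matrix a a F) (hβ : βᵀ = β)
    (hβi : β * βi = 1) (t : ↥(Matrix.symplecticGroup (Fin m) F)) (ht : t ^ 2 = 1)
    (hrank : ((t : Matrix (Fin m ⊕ Fin m) (Fin m ⊕ Fin m) F) - 1).rank = Fintype.card a)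
    (htype : (∀ v : Fin m ⊕ Fin m → F, Cfsg.sympForm m F v
        ((t : Matrix (Fin m ⊕ Fin m) (Fin m ⊕ Fin m) F) *ᵥ v) = 0) ↔
      ∀ w : a → F, w ⬝ᵥ (β *ᵥ w) = 0) :
    Nat.card ↥(Subgroup.centralizer ({t} : Set ↥(Matrix.symplecticGroup (Fin m) F))) =
      Nat.card {X : Matrix a a F // X * β * Xᵀ = β} *
        (Nat.card ↥(Matrix.symplecticGroup (Fin k) F) *
          (Fintype.card F ^ (Fintype.card (Fin k ⊕ Fin k) * Fintype.card a) *
            Fintype.card F ^ (Fintype.card a + 1).choose 2)) := by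
  set t₀ := Cfsg.Agent.S2593.uSp (Dmat e β) (Dmat_symm e β hβ) with ht₀
  have htt : (t : Matrix (Fin m ⊕ Fin m) (Fin m ⊕ Fin m) F) * t.1 = 1 := by
    have := congrArg Subtype.val ht
    rwa [pow_two] at this
  have ht₀t₀ : (t₀ : Matrix (Fin m ⊕ Fin m) (Fin m ⊕ Fin m) F) * t₀.1 = 1 :=
    congrArg Subtype.val (Cfsg.Agent.S2593.uSp_sq (Dmat e β) (Dmat_symm e β hβ))
  have hr : ((t : Matrix (Fin m ⊕ Fin m) (Fin m ⊕ Fin m) F) - 1).rank =
      ((t₀ : Matrix (Fin m ⊕ Fin m) (Fin m ⊕ Fin m) F) - 1).rank := by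
    rw [hrank, ht₀, Cfsg.Agent.S2593.rank_uSp, rank_Dmat e β βi hβi]
  have hty : (∀ v : Fin m ⊕ Fin m → F, Cfsg.sympForm m F v
        ((t : Matrix (Fin m ⊕ Fin m) (Fin m ⊕ Fin m) F) *ᵥ v) = 0) ↔
      (∀ v : Fin m ⊕ Fin m → F, Cfsg.sympForm m F v
        ((t₀ : Matrix (Fin m ⊕ Fin m) (Fin m ⊕ Fin m) F) *ᵥ v) = 0) := by
    rw [htype]
    constructor
    · intro h v
      rw [ht₀, Cfsg.Agent.S2593.type_uSp, dot_Dmat]
      exact h _
    · intro h w
      have h1 := h (Sum.elim 0 (fun i => Sum.elim w 0 (e i)))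
      rw [ht₀, Cfsg.Agent.S2593.type_uSp, dot_Dmat] at h1
      simpa using h1
  obtain ⟨G₀, hG₀, hconj⟩ := Cfsg.Agent.S2166.conj_of_data t.1 t₀.1 t.2 htt t₀.2 ht₀t₀ hr hty
  have hconj' : t₀ = (⟨G₀, hG₀⟩ : ↥(Matrix.symplecticGroup (Fin m) F)) * t * ⟨G₀, hG₀⟩⁻¹ := by
    rw [eq_mul_inv_iff_mul_eq]
    apply Subtype.ext
    exact hconj.symm
  rw [← card_centralizer_conj ⟨G₀, hG₀⟩ t, ← hconj', ht₀]
  exact card_centralizer_uSp e β βi hβ hβi

end general

section forms

variable {F : Type u} [Field F] [Fintype F] [CharP F 2] {a : Type} [Fintype a] [DecidableEq a]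

theorem neg_mat {m n : Type*} (M : Matrix m n F) : -M = M := by
  ext i j
  exact CharTwo.neg_eq _

/-- a symmetric form split as an alternating part plus a rank one square: the isometries are
the isometries of the alternating part fixing the vector -/
theorem mem_O_iff_of_decomp (K : Matrix a a F) (ℓ : a → F) (X : Matrix a a F) :
    X * (K + Kᵀ + vecMulVec ℓ ℓ) * Xᵀ = K + Kᵀ + vecMulVec ℓ ℓ ↔
      X * (K + Kᵀ) * Xᵀ = K + Kᵀ ∧ X *ᵥ ℓ = ℓ := by
  have hexp : X * (K + Kᵀ + vecMulVec ℓ ℓ) * Xᵀ =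
      X * K * Xᵀ + (X * K * Xᵀ)ᵀ + vecMulVec (X *ᵥ ℓ) (X *ᵥ ℓ) := by
    rw [Matrix.mul_add, Matrix.add_mul, Matrix.mul_add, Matrix.add_mul, mul_vecMulVec,
      vecMulVec_mul, vecMul_transpose, transpose_mul, transpose_mul, transpose_transpose,
      Matrix.mul_assoc X Kᵀ]
  have hexp2 : X * (K + Kᵀ) * Xᵀ = X * K * Xᵀ + (X * K * Xᵀ)ᵀ := by
    rw [Matrix.mul_add, Matrix.add_mul, transpose_mul, transpose_mul, transpose_transpose,
      Matrix.mul_assoc X Kᵀ]
  constructor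
  · intro h
    rw [hexp] at h
    have hvec : X *ᵥ ℓ = ℓ := by
      funext i
      have h1 := congrFun (congrFun h i) i
      simp only [Matrix.add_apply, transpose_apply, vecMulVec_apply] at h1
      rw [CharTwo.add_self_eq_zero, CharTwo.add_self_eq_zero, zero_add, zero_add] at h1
      have h2 : ((X *ᵥ ℓ) i + ℓ i) * ((X *ᵥ ℓ) i + ℓ i) = 0 := by
        rw [CharTwo.add_mul_self, h1, CharTwo.add_self_eq_zero]
      have h3 := mul_self_eq_zero.mp h2
      exact CharTwo.add_eq_zero.mp h3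
    refine ⟨?_, hvec⟩
    rw [hvec] at h
    rw [hexp2]
    exact add_right_cancel h
  · rintro ⟨h1, h2⟩
    rw [hexp, h2, ← hexp2, h1]

/-- type `a`: the form `J` -/
theorem J_symm (j : ℕ) : (Matrix.J (Fin j) F)ᵀ = Matrix.J (Fin j) F := by
  rw [Matrix.J_transpose, neg_mat]

theorem J_mul_J (j : ℕ) : Matrix.J (Fin j) F * Matrix.J (Fin j) F = 1 := by
  rw [Matrix.J_squared, neg_mat]

theorem J_alt (j : ℕ) (w : Fin j ⊕ Fin j → F) : w ⬝ᵥ (Matrix.J (Fin j) F *ᵥ w) = 0 := by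
  rw [← Cfsg.Agent.S2166.Hs_apply]
  exact Cfsg.Agent.S2166.Hs_self w

/-- type `b`: the form `1 ⊕ J` -/
def betaB (j : ℕ) (F : Type u) [Field F] :
    Matrix (Unit ⊕ (Fin j ⊕ Fin j)) (Unit ⊕ (Fin j ⊕ Fin j)) F :=
  fromBlocks 1 0 0 (Matrix.J (Fin j) F)

theorem betaB_symm (j : ℕ) : (betaB j F)ᵀ = betaB j F := by
  unfold betaB
  rw [fromBlocks_transpose, J_symm]
  simp

theorem betaB_mul_self (j : ℕ) : betaB j F * betaB j F = 1 := by
  unfold betaB
  rw [fromBlocks_multiply, ← fromBlocks_one]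
  simp [J_mul_J]

theorem betaB_nonalt (j : ℕ) :
    ¬ ∀ w : Unit ⊕ (Fin j ⊕ Fin j) → F, w ⬝ᵥ (betaB j F *ᵥ w) = 0 := by
  intro h
  have h1 := h (Sum.elim 1 0)
  unfold betaB at h1
  rw [fromBlocks_mulVec, sumElim_dotProduct_sumElim] at h1
  simp at h1

theorem betaB_decomp (j : ℕ) :
    betaB j F = fromBlocks 0 0 0 (Kmat j F) + (fromBlocks 0 0 0 (Kmat j F))ᵀ +
      vecMulVec (Sum.elim (1 : Unit → F) (0 : Fin j ⊕ Fin j → F))
        (Sum.elim (1 : Unit → F) (0 : Fin j ⊕ Fin j → F)) := by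
  unfold betaB
  rw [fromBlocks_transpose, fromBlocks_add, J_eq_K_add]
  ext (i | i) (i' | i') <;> simp [vecMulVec_apply]

end forms

section formsB

variable {F : Type u} [Field F] [Fintype F] [CharP F 2]

theorem betaB_structure (j : ℕ) (X : Matrix (Unit ⊕ (Fin j ⊕ Fin j)) (Unit ⊕ (Fin j ⊕ Fin j)) F)
    (h : X * betaB j F * Xᵀ = betaB j F) :
    X = fromBlocks 1 0 0 X.toBlocks₂₂ ∧
      X.toBlocks₂₂ * Matrix.J (Fin j) F * X.toBlocks₂₂ᵀ = Matrix.J (Fin j) F := by
  rw [betaB_decomp, mem_O_iff_of_decomp] at h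
  obtain ⟨h1, h2⟩ := h
  have hA : fromBlocks (0 : Matrix Unit Unit F) (0 : Matrix Unit (Fin j ⊕ Fin j) F)
      (0 : Matrix (Fin j ⊕ Fin j) Unit F) (Kmat j F) + (fromBlocks (0 : Matrix Unit Unit F)
      (0 : Matrix Unit (Fin j ⊕ Fin j) F) (0 : Matrix (Fin j ⊕ Fin j) Unit F) (Kmat j F))ᵀ =
      fromBlocks 0 0 0 (Matrix.J (Fin j) F) := by
    rw [fromBlocks_transpose, fromBlocks_add, J_eq_K_add]
    simp
  rw [hA] at h1
  obtain ⟨x, r, c, S, rfl⟩ : ∃ (x : Matrix Unit Unit F) (r : Matrix Unit (Fin j ⊕ Fin j) F)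
      (c : Matrix (Fin j ⊕ Fin j) Unit F) (S : Matrix (Fin j ⊕ Fin j) (Fin j ⊕ Fin j) F),
      X = fromBlocks x r c S :=
    ⟨X.toBlocks₁₁, X.toBlocks₁₂, X.toBlocks₂₁, X.toBlocks₂₂, (fromBlocks_toBlocks X).symm⟩
  rw [toBlocks_fromBlocks₂₂]
  rw [fromBlocks_mulVec] at h2
  have hx : x = 1 := by
    ext u v
    have := congrFun h2 (Sum.inl u)
    simp only [Sum.elim_inl, Sum.elim_comp_inl, Sum.elim_comp_inr, mulVec_zero, add_zero,
      Pi.one_apply] at this
    rw [mulVec, dotProduct] at this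
    simp only [Finset.univ_unique, Pi.one_apply, mul_one, Finset.sum_singleton] at this
    rw [Matrix.one_apply, if_pos (Subsingleton.elim u v)]
    rw [← this]
  have hc : c = 0 := by
    ext u v
    have := congrFun h2 (Sum.inr u)
    simp only [Sum.elim_inr, Sum.elim_comp_inl, Sum.elim_comp_inr, mulVec_zero, add_zero,
      Pi.zero_apply] at this
    rw [mulVec, dotProduct] at this
    simp only [Finset.univ_unique, Pi.one_apply, mul_one, Finset.sum_singleton] at this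
    rw [Matrix.zero_apply, ← this]
  subst hx hc
  rw [fromBlocks_multiply, fromBlocks_transpose, fromBlocks_multiply] at h1
  simp only [Matrix.mul_zero, add_zero, zero_add, transpose_zero,
    transpose_one, Matrix.mul_one] at h1
  rw [fromBlocks_inj] at h1
  obtain ⟨-, h12, -, h22⟩ := h1
  have hr : r = 0 := by
    have hW : (Matrix.J (Fin j) F * S) * (Matrix.J (Fin j) F * Sᵀ) = 1 := by
      rw [Matrix.mul_assoc, ← Matrix.mul_assoc S, h22, J_mul_J]
    have hW' : (Matrix.J (Fin j) F * Sᵀ) * (Matrix.J (Fin j) F * S) = 1 :=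
      mul_eq_one_comm.mp hW
    calc r = r * ((Matrix.J (Fin j) F * Sᵀ) * (Matrix.J (Fin j) F * S)) := by
          rw [hW', Matrix.mul_one]
      _ = (r * Matrix.J (Fin j) F * Sᵀ) * (Matrix.J (Fin j) F * S) := by
          rw [← Matrix.mul_assoc, ← Matrix.mul_assoc r]
      _ = 0 := by rw [h12, Matrix.zero_mul]
  subst hr
  exact ⟨rfl, h22⟩

theorem betaB_build (j : ℕ) (S : Matrix (Fin j ⊕ Fin j) (Fin j ⊕ Fin j) F)
    (hS : S * Matrix.J (Fin j) F * Sᵀ = Matrix.J (Fin j) F) :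
    fromBlocks (1 : Matrix Unit Unit F) 0 0 S * betaB j F * (fromBlocks 1 0 0 S)ᵀ =
      betaB j F := by
  unfold betaB
  rw [fromBlocks_multiply, fromBlocks_transpose, fromBlocks_multiply]
  simp [hS]

/-- the isometry group of the form of type `b` -/
theorem card_O_betaB (j : ℕ) :
    Nat.card {X : Matrix (Unit ⊕ (Fin j ⊕ Fin j)) (Unit ⊕ (Fin j ⊕ Fin j)) F //
      X * betaB j F * Xᵀ = betaB j F} = Nat.card ↥(Matrix.symplecticGroup (Fin j) F) := by
  apply Nat.card_congr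
  exact {
    toFun := fun X => ⟨X.1.toBlocks₂₂, SymplecticGroup.mem_iff.mpr (betaB_structure j X.1 X.2).2⟩
    invFun := fun S => ⟨fromBlocks 1 0 0 S.1, betaB_build j S.1 (SymplecticGroup.mem_iff.mp S.2)⟩
    left_inv := fun X => Subtype.ext (betaB_structure j X.1 X.2).1.symm
    right_inv := fun S => Subtype.ext (toBlocks_fromBlocks₂₂ _ _ _ _) }

end formsB

section formsC

variable {F : Type u} [Field F] [Fintype F] [CharP F 2]

attribute [local instance] Cfsg.Agent.Lead.SpTvCent.spAction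

/-- the distinguished vector -/
def ellC (j : ℕ) (F : Type u) [Field F] (i₀ : Fin j) : Fin j ⊕ Fin j → F :=
  Pi.single (Sum.inl i₀) 1

/-- type `c`: the form `J + ℓ ℓᵀ` -/
def betaC (j : ℕ) (F : Type u) [Field F] (i₀ : Fin j) :
    Matrix (Fin j ⊕ Fin j) (Fin j ⊕ Fin j) F :=
  Matrix.J (Fin j) F + vecMulVec (ellC j F i₀) (ellC j F i₀)

/-- its inverse -/
def betaCi (j : ℕ) (F : Type u) [Field F] (i₀ : Fin j) :
    Matrix (Fin j ⊕ Fin j) (Fin j ⊕ Fin j) F :=
  Matrix.J (Fin j) F + vecMulVec (Matrix.J (Fin j) F *ᵥ ellC j F i₀)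
    (Matrix.J (Fin j) F *ᵥ ellC j F i₀)

omit [Fintype F] [CharP F 2] in
theorem vecMulVec_transpose {n : Type*} (u v : n → F) : (vecMulVec u v)ᵀ = vecMulVec v u := by
  ext i k
  simp [vecMulVec_apply, mul_comm]

theorem betaC_symm (j : ℕ) (i₀ : Fin j) : (betaC j F i₀)ᵀ = betaC j F i₀ := by
  unfold betaC
  rw [transpose_add, J_symm, vecMulVec_transpose]

theorem betaC_mul_inv (j : ℕ) (i₀ : Fin j) : betaC j F i₀ * betaCi j F i₀ = 1 := by
  unfold betaC betaCi
  set ℓ := ellC j F i₀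
  set J := Matrix.J (Fin j) F with hJ
  have h1 : J * vecMulVec (J *ᵥ ℓ) (J *ᵥ ℓ) = vecMulVec ℓ (J *ᵥ ℓ) := by
    rw [mul_vecMulVec, mulVec_mulVec, hJ, J_mul_J, one_mulVec]
  have h2 : vecMulVec ℓ ℓ * J = vecMulVec ℓ (J *ᵥ ℓ) := by
    rw [vecMulVec_mul]
    congr 1
    rw [← vecMul_transpose, hJ, J_symm]
  have h3 : vecMulVec ℓ ℓ * vecMulVec (J *ᵥ ℓ) (J *ᵥ ℓ) = 0 := by
    rw [vecMulVec_mul_vecMulVec, hJ, J_alt, zero_smul]
    ext i k
    simp [vecMulVec_apply]
  rw [Matrix.add_mul, Matrix.mul_add, Matrix.mul_add, h1, h2, h3, hJ, J_mul_J, add_zero,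
    add_assoc, mat_add_self, add_zero]

theorem betaC_nonalt (j : ℕ) (i₀ : Fin j) :
    ¬ ∀ w : Fin j ⊕ Fin j → F, w ⬝ᵥ (betaC j F i₀ *ᵥ w) = 0 := by
  intro h
  have h1 := h (ellC j F i₀)
  unfold betaC at h1
  rw [add_mulVec, dotProduct_add, J_alt, zero_add, vecMulVec_mulVec] at h1
  unfold ellC at h1
  simp at h1

theorem betaC_decomp (j : ℕ) (i₀ : Fin j) :
    betaC j F i₀ = Kmat j F + (Kmat j F)ᵀ + vecMulVec (ellC j F i₀) (ellC j F i₀) := by
  unfold betaC
  rw [J_eq_K_add]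

omit [Fintype F] [CharP F 2] in
theorem ellC_ne_zero (j : ℕ) (i₀ : Fin j) : ellC j F i₀ ≠ 0 := by
  intro h
  have := congrFun h (Sum.inl i₀)
  unfold ellC at this
  simp at this

theorem betaC_mem_iff (j : ℕ) (i₀ : Fin j) (X : Matrix (Fin j ⊕ Fin j) (Fin j ⊕ Fin j) F) :
    X * betaC j F i₀ * Xᵀ = betaC j F i₀ ↔
      X * Matrix.J (Fin j) F * Xᵀ = Matrix.J (Fin j) F ∧ X *ᵥ ellC j F i₀ = ellC j F i₀ := by
  rw [betaC_decomp, mem_O_iff_of_decomp, ← J_eq_K_add]

/-- the isometry group of the form of type `c` is a vector stabiliser -/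
theorem card_O_betaC (j : ℕ) (i₀ : Fin j) :
    Nat.card {X : Matrix (Fin j ⊕ Fin j) (Fin j ⊕ Fin j) F //
      X * betaC j F i₀ * Xᵀ = betaC j F i₀} *
        (Nat.card F ^ Fintype.card (Fin j ⊕ Fin j) - 1) =
      Nat.card ↥(Matrix.symplecticGroup (Fin j) F) := by
  rw [← Cfsg.Agent.Lead.SpTvCent.card_stabilizer_mul (ellC j F i₀) (ellC_ne_zero j i₀)]
  congr 1
  apply Nat.card_congr
  exact {
    toFun := fun X => ⟨⟨X.1, SymplecticGroup.mem_iff.mpr ((betaC_mem_iff j i₀ X.1).mp X.2).1⟩,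
      MulAction.mem_stabilizer_iff.mpr ((betaC_mem_iff j i₀ X.1).mp X.2).2⟩
    invFun := fun g => ⟨g.1.1, (betaC_mem_iff j i₀ g.1.1).mpr
      ⟨SymplecticGroup.mem_iff.mp g.1.2, MulAction.mem_stabilizer_iff.mp g.2⟩⟩
    left_inv := fun X => rfl
    right_inv := fun g => rfl }

end formsC

end Cfsg.Agent.Helper36.InvCentSp
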