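import Mathlib
import Cfsg.Agent.S0786
import Cfsg.Agent.Lib.Helper36.QuadInv
import Cfsg.Agent.Lib.Helper36.CDMinus

set_option autoImplicit false

/-!
# The abelianisation of a characteristic-two orthogonal group

Using the generation of `O(Q)` by reflections (`Cfsg.Agent.S0786.matrix_cd_all`) and the
conjugacy of all reflections, the class of every isometry in the abelianisation is a power of
the class `ρ` of a reflection, and `ρ * ρ = 1`.
-/

namespace Cfsg.Agent.Helper36.OmegaChar2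

open Matrix Module Cfsg.Agent.Helper36 Cfsg.Agent.Helper36.QuadInv

universe u

variable {F : Type u} [Field F] [Fintype F] [CharP F 2] {ι : Type} [Fintype ι] [DecidableEq ι]
variable {Q : (ι → F) → F} {B : (ι → F) →ₗ[F] (ι → F) →ₗ[F] F}

/-- package as a Mathlib quadratic form -/
def toQF (hQ : IsQuad Q B) : QuadraticForm F (ι → F) where
  toFun := Q
  toFun_smul := fun a x => by rw [hQ.smul]; rfl
  exists_companion' := ⟨B, hQ.add⟩

omit [Fintype F] [CharP F 2] [Fintype ι] [DecidableEq ι] in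
theorem toQF_apply (hQ : IsQuad Q B) (v : ι → F) : toQF hQ v = Q v := rfl

omit [Fintype F] [CharP F 2] [Fintype ι] [DecidableEq ι] in
theorem polar_toQF (hQ : IsQuad Q B) (u v : ι → F) :
    QuadraticMap.polar (⇑(toQF hQ)) u v = B u v := by
  unfold QuadraticMap.polar
  rw [toQF_apply, toQF_apply, toQF_apply, hQ.add]
  ring

omit [Fintype F] [Fintype ι] [DecidableEq ι] in
theorem nondeg_toQF (hQ : IsQuad Q B) (hnd : ∀ u, (∀ v, B u v = 0) → u = 0) :
    (QuadraticMap.polarBilin (toQF hQ)).Nondegenerate := by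
  have h : QuadraticMap.polarBilin (toQF hQ) = B := by
    apply LinearMap.ext
    intro u
    apply LinearMap.ext
    intro v
    rw [QuadraticMap.polarBilin_apply_apply, polar_toQF]
  rw [h]
  exact nondegenerate_of hQ hnd

omit [Fintype F] in
/-- the matrix of a reflection is the `reflectionMatrix` of the definitions -/
theorem refl_coe (hQ : IsQuad Q B) (a : ι → F) (ha : Q a ≠ 0) :
    ((refl hQ a ha).1 : Matrix ι ι F) = Cfsg.reflectionMatrix Q a := by
  apply Matrix.toLin'.injective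
  apply LinearMap.ext
  intro x
  rw [Matrix.toLin'_apply, Matrix.toLin'_apply, ← actHom_apply, act_refl]
  have h := Cfsg.Agent.Helper13.reflectionMatrix_mulVec (toQF hQ) a x
  have h' : Cfsg.reflectionMatrix Q a *ᵥ x =
      x - ((Q a)⁻¹ * QuadraticMap.polar (⇑(toQF hQ)) a x) • a := h
  rw [h', polar_toQF, vsub_eq_add, smul_smul]

omit [Fintype F] in
theorem refl_comm (hQ : IsQuad Q B) (t : OG F Q) (a : ι → F) (ha : Q a ≠ 0)
    (hta : actHom Q t a = a) : refl hQ a ha * t = t * refl hQ a ha := by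
  have hBat : ∀ x, B a (actHom Q t x) = B a x := by
    intro x
    conv_lhs => rw [← hta]
    exact B_act hQ t a x
  apply act_ext
  intro x
  rw [act_mul, act_mul, act_refl, act_refl, map_add, map_smul, map_smul, hta, hBat]

/-- all reflections have the same class in the abelianisation -/
theorem of_refl (hQ : IsQuad Q B) (hnd : ∀ u, (∀ v, B u v = 0) → u = 0)
    (hcount : Nat.card {v : ι → F // Q v = 0} * Nat.card F ≠ Nat.card (ι → F))
    (a : ι → F) (ha : Q a ≠ 0) (b : ι → F) (hb : Q b ≠ 0) :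
    (Abelianization.of (refl hQ b hb) : Abelianization (OG F Q)) =
      Abelianization.of (refl hQ a ha) := by
  obtain ⟨k, hk⟩ := exists_conj_refl hQ hnd hcount a ha b hb
  have h := congrArg (Abelianization.of : OG F Q →* Abelianization (OG F Q)) hk
  rw [map_mul, map_mul, mul_comm] at h
  exact (mul_right_cancel h).symm

omit [Fintype F] in
theorem of_refl_sq (hQ : IsQuad Q B) (a : ι → F) (ha : Q a ≠ 0) :
    (Abelianization.of (refl hQ a ha) : Abelianization (OG F Q)) *
      Abelianization.of (refl hQ a ha) = 1 := by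
  rw [← map_mul, refl_mul_self, map_one]

/-- the class of a product of reflections -/
theorem of_list (hQ : IsQuad Q B) (hnd : ∀ u, (∀ v, B u v = 0) → u = 0)
    (hcount : Nat.card {v : ι → F // Q v = 0} * Nat.card F ≠ Nat.card (ι → F))
    (a₀ : ι → F) (h₀ : Q a₀ ≠ 0) :
    ∀ (l : List (ι → F)), (∀ w ∈ l, Q w ≠ 0) → ∀ g : OG F Q,
      ((g.1 : Matrix ι ι F) = (l.map (Cfsg.reflectionMatrix Q)).prod) →
      (Abelianization.of g : Abelianization (OG F Q)) =
        (Abelianization.of (refl hQ a₀ h₀)) ^ l.length := by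
  intro l
  induction l with
  | nil =>
    intro _ g hg
    have : g = 1 := by
      apply Subtype.ext
      apply Units.ext
      rw [hg]
      simp
    rw [this, map_one, List.length_nil, pow_zero]
  | cons w l ih =>
    intro hlQ g hg
    have hw : Q w ≠ 0 := hlQ w (List.mem_cons_self ..)
    have hrr : (refl hQ w hw).1.1 * (refl hQ w hw).1.1 = (1 : Matrix ι ι F) := by
      have h' := congrArg (fun x : OG F Q => ((x : GL ι F) : Matrix ι ι F))
        (refl_mul_self hQ w hw)
      simpa using h'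
    have hg' : (((refl hQ w hw * g : OG F Q).1 : GL ι F) : Matrix ι ι F) =
        (l.map (Cfsg.reflectionMatrix Q)).prod := by
      rw [Subgroup.coe_mul, Units.val_mul, hg, List.map_cons, List.prod_cons, ← mul_assoc,
        ← refl_coe hQ w hw, hrr, one_mul]
    have h1 := ih (fun w' hw' => hlQ w' (List.mem_cons_of_mem _ hw')) _ hg'
    have h3 : g = refl hQ w hw * (refl hQ w hw * g) := by
      rw [← mul_assoc, refl_mul_self, one_mul]
    rw [h3, map_mul, h1, of_refl hQ hnd hcount a₀ h₀ w hw, List.length_cons, pow_succ']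

/-- every isometry is a product of reflections -/
def HasCD (Q : (ι → F) → F) : Prop :=
  ∀ g : OG F Q, ∃ l : List (ι → F), (∀ w ∈ l, Q w ≠ 0) ∧
    (g.1 : Matrix ι ι F) = (l.map (Cfsg.reflectionMatrix Q)).prod

theorem hasCD_of_exc (hQ : IsQuad Q B) (hnd : ∀ u, (∀ v, B u v = 0) → u = 0)
    (hexc : Fintype.card F ≠ 2 ∨ Fintype.card ι ≠ 4) : HasCD Q := fun g =>
  Cfsg.Agent.S0786.matrix_cd_all (toQF hQ) (nondeg_toQF hQ hnd) hexc
    (g.1 : Matrix ι ι F) (fun u => Q_act g u)

/-- generation by reflections from the intermediate-vector property -/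
theorem hasCD_of_mid (hQ : IsQuad Q B) (hnd : ∀ u, (∀ v, B u v = 0) → u = 0)
    (hmid : CDMinus.HasMid (toQF hQ)) : HasCD Q := by
  intro g
  obtain ⟨l, hl, hgl⟩ := CDMinus.cartan_dieudonne_char2' (toQF hQ) (CharTwo.two_eq_zero)
    (nondeg_toQF hQ hnd) hmid (Matrix.toLin' (g.1 : Matrix ι ι F)) (fun x => by
      rw [Matrix.toLin'_apply]; exact Q_act g x)
  refine ⟨l, hl, ?_⟩
  apply Matrix.toLin'.injective
  unfold Cfsg.Agent.Helper44.reflProd at hgl
  rw [hgl, Cfsg.Agent.S0792.toLin'_list_prod, List.map_map]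
  congr 1
  apply List.map_congr_left
  intro w _
  exact (Cfsg.Agent.S0792.toLin'_refl (toQF hQ) w).symm

/-- the class of any isometry is a power of the class of a reflection -/
theorem of_pow' (hQ : IsQuad Q B) (hnd : ∀ u, (∀ v, B u v = 0) → u = 0)
    (hcount : Nat.card {v : ι → F // Q v = 0} * Nat.card F ≠ Nat.card (ι → F))
    (hcd : HasCD Q)
    (a₀ : ι → F) (h₀ : Q a₀ ≠ 0) (g : OG F Q) :
    ∃ n : ℕ, (Abelianization.of g : Abelianization (OG F Q)) =
      (Abelianization.of (refl hQ a₀ h₀)) ^ n := by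
  obtain ⟨l, hl, hM⟩ := hcd g
  exact ⟨l.length, of_list hQ hnd hcount a₀ h₀ l hl g hM⟩

/-- the abelianisation has at most two elements -/
theorem of_cases' (hQ : IsQuad Q B) (hnd : ∀ u, (∀ v, B u v = 0) → u = 0)
    (hcount : Nat.card {v : ι → F // Q v = 0} * Nat.card F ≠ Nat.card (ι → F))
    (hcd : HasCD Q)
    (a₀ : ι → F) (h₀ : Q a₀ ≠ 0) (g : OG F Q) :
    (Abelianization.of g : Abelianization (OG F Q)) = 1 ∨
      (Abelianization.of g : Abelianization (OG F Q)) = Abelianization.of (refl hQ a₀ h₀) := by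
  obtain ⟨n, hn⟩ := of_pow' hQ hnd hcount hcd a₀ h₀ g
  have hrr := of_refl_sq (F := F) hQ a₀ h₀
  rcases Nat.even_or_odd' n with ⟨j, hj | hj⟩
  · left
    rw [hn, hj, two_mul, pow_add, ← mul_pow, hrr, one_pow]
  · right
    rw [hn, hj, pow_succ, two_mul, pow_add, ← mul_pow, hrr, one_pow, one_mul]

theorem of_pow (hQ : IsQuad Q B) (hnd : ∀ u, (∀ v, B u v = 0) → u = 0)
    (hcount : Nat.card {v : ι → F // Q v = 0} * Nat.card F ≠ Nat.card (ι → F))
    (hexc : Fintype.card F ≠ 2 ∨ Fintype.card ι ≠ 4)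
    (a₀ : ι → F) (h₀ : Q a₀ ≠ 0) (g : OG F Q) :
    ∃ n : ℕ, (Abelianization.of g : Abelianization (OG F Q)) =
      (Abelianization.of (refl hQ a₀ h₀)) ^ n :=
  of_pow' hQ hnd hcount (hasCD_of_exc hQ hnd hexc) a₀ h₀ g

theorem of_cases (hQ : IsQuad Q B) (hnd : ∀ u, (∀ v, B u v = 0) → u = 0)
    (hcount : Nat.card {v : ι → F // Q v = 0} * Nat.card F ≠ Nat.card (ι → F))
    (hexc : Fintype.card F ≠ 2 ∨ Fintype.card ι ≠ 4)
    (a₀ : ι → F) (h₀ : Q a₀ ≠ 0) (g : OG F Q) :
    (Abelianization.of g : Abelianization (OG F Q)) = 1 ∨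
      (Abelianization.of g : Abelianization (OG F Q)) = Abelianization.of (refl hQ a₀ h₀) :=
  of_cases' hQ hnd hcount (hasCD_of_exc hQ hnd hexc) a₀ h₀ g

omit [Fintype F] [CharP F 2] in
theorem mem_Omega_iff_of (g : OG F Q) :
    g ∈ Cfsg.Omega F Q ↔ (Abelianization.of g : Abelianization (OG F Q)) = 1 := by
  rw [← MonoidHom.mem_ker, Abelianization.ker_of]

/-- either `g` or `g * r` lies in `Ω`, for any reflection `r` -/
theorem mem_or_mul_refl_mem' (hQ : IsQuad Q B) (hnd : ∀ u, (∀ v, B u v = 0) → u = 0)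
    (hcount : Nat.card {v : ι → F // Q v = 0} * Nat.card F ≠ Nat.card (ι → F))
    (hcd : HasCD Q)
    (a : ι → F) (ha : Q a ≠ 0) (g : OG F Q) :
    g ∈ Cfsg.Omega F Q ∨ g * refl hQ a ha ∈ Cfsg.Omega F Q := by
  rcases of_cases' hQ hnd hcount hcd a ha g with h | h
  · left
    exact (mem_Omega_iff_of g).mpr h
  · right
    rw [mem_Omega_iff_of, map_mul, h, of_refl_sq]

theorem mem_or_mul_refl_mem (hQ : IsQuad Q B) (hnd : ∀ u, (∀ v, B u v = 0) → u = 0)
    (hcount : Nat.card {v : ι → F // Q v = 0} * Nat.card F ≠ Nat.card (ι → F))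
    (hexc : Fintype.card F ≠ 2 ∨ Fintype.card ι ≠ 4)
    (a : ι → F) (ha : Q a ≠ 0) (g : OG F Q) :
    g ∈ Cfsg.Omega F Q ∨ g * refl hQ a ha ∈ Cfsg.Omega F Q :=
  mem_or_mul_refl_mem' hQ hnd hcount (hasCD_of_exc hQ hnd hexc) a ha g

/-- membership in `Ω` is detected by any character that is non-trivial on a reflection -/
theorem mem_Omega_iff_delta' (hQ : IsQuad Q B) (hnd : ∀ u, (∀ v, B u v = 0) → u = 0)
    (hcount : Nat.card {v : ι → F // Q v = 0} * Nat.card F ≠ Nat.card (ι → F))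
    (hcd : HasCD Q)
    (a₀ : ι → F) (h₀ : Q a₀ ≠ 0) (δ : OG F Q →* Multiplicative (ZMod 2))
    (hδ : δ (refl hQ a₀ h₀) = Multiplicative.ofAdd 1) (g : OG F Q) :
    g ∈ Cfsg.Omega F Q ↔ δ g = 1 := by
  constructor
  · intro hmem
    have := Abelianization.commutator_subset_ker δ hmem
    exact MonoidHom.mem_ker.mp this
  · intro hg
    rcases of_cases' hQ hnd hcount hcd a₀ h₀ g with h | h
    · exact (mem_Omega_iff_of g).mpr h
    · exfalso
      have h2 : δ g = Abelianization.lift δ (Abelianization.of g) := rfl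
      rw [h2, h, Abelianization.lift_apply_of, hδ] at hg
      have := congrArg Multiplicative.toAdd hg
      simp at this

theorem mem_Omega_iff_delta (hQ : IsQuad Q B) (hnd : ∀ u, (∀ v, B u v = 0) → u = 0)
    (hcount : Nat.card {v : ι → F // Q v = 0} * Nat.card F ≠ Nat.card (ι → F))
    (hexc : Fintype.card F ≠ 2 ∨ Fintype.card ι ≠ 4)
    (a₀ : ι → F) (h₀ : Q a₀ ≠ 0) (δ : OG F Q →* Multiplicative (ZMod 2))
    (hδ : δ (refl hQ a₀ h₀) = Multiplicative.ofAdd 1) (g : OG F Q) :
    g ∈ Cfsg.Omega F Q ↔ δ g = 1 :=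
  mem_Omega_iff_delta' hQ hnd hcount (hasCD_of_exc hQ hnd hexc) a₀ h₀ δ hδ g

end Cfsg.Agent.Helper36.OmegaChar2
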