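import Mathlib
import Cfsg.Agent.Lib.Helper36.InvCentO
import Cfsg.Agent.Lib.Helper36.InvCentSp
import Cfsg.Agent.S2595
import Cfsg.Agent.S2630
import Cfsg.Agent.S0287

set_option autoImplicit false
set_option linter.unusedSectionVars false

/-!
# Centralisers of involutions of type `a` in `Ω⁺_{2m}(q)`, `q` even
-/

namespace Cfsg.Agent.Helper36.InvCentOPlus

open Matrix Module Cfsg.Agent.Helper36 Cfsg.Agent.Helper36.Blk3 Cfsg.Agent.Helper36.InvCent
  Cfsg.Agent.Helper36.InvCentSp Cfsg.Agent.Helper36.InvCentO Cfsg.Agent.Helper36.PlusOrth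
  Cfsg.Agent.Helper36.TotSing Cfsg.Agent.S2168 Cfsg.Agent.S0831

universe u

section grp

variable {G : Type*} [Group G]

theorem zmod2_eq (z w : Multiplicative (ZMod 2)) (hz : z ≠ 1) (hw : w ≠ 1) : z = w := by
  revert z w
  decide

/-- a subgroup on which a character of order two is non-trivial -/
theorem card_of_char (H : Subgroup G) (δ : G →* Multiplicative (ZMod 2))
    (r : G) (hr : r ∈ H) (hδ : δ r ≠ 1) :
    Nat.card H = 2 * Nat.card {g : G // g ∈ H ∧ δ g = 1} := by
  set φ : H →* Multiplicative (ZMod 2) := δ.comp H.subtype with hφ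
  have hsurj : Function.Surjective φ := by
    intro z
    by_cases hz : z = 1
    · exact ⟨1, by rw [map_one, hz]⟩
    · exact ⟨⟨r, hr⟩, zmod2_eq _ _ hδ hz⟩
  have h1 := Subgroup.card_mul_index φ.ker
  have h2 : φ.ker.index = 2 := by
    rw [Subgroup.index_ker, MonoidHom.range_eq_top.mpr hsurj, Subgroup.card_top,
      Nat.card_eq_fintype_card, Fintype.card_multiplicative, ZMod.card]
  have e : φ.ker ≃ {g : G // g ∈ H ∧ δ g = 1} :=
    { toFun := fun y => ⟨y.1.1, y.1.2, MonoidHom.mem_ker.mp y.2⟩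
      invFun := fun g => ⟨⟨g.1, g.2.1⟩, MonoidHom.mem_ker.mpr g.2.2⟩
      left_inv := fun _ => rfl
      right_inv := fun _ => rfl }
  rw [← Nat.card_congr e, ← h1, h2, mul_comm]

/-- a subgroup on which a character is trivial -/
theorem card_of_char_trivial (H : Subgroup G) (δ : G →* Multiplicative (ZMod 2))
    (hδ : ∀ g ∈ H, δ g = 1) :
    Nat.card H = Nat.card {g : G // g ∈ H ∧ δ g = 1} :=
  Nat.card_congr (Equiv.subtypeEquivRight (fun g => ⟨fun h => ⟨h, hδ g h⟩, fun h => h.1⟩))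

theorem card_conj_delta (δ : G →* Multiplicative (ZMod 2)) (c x : G) :
    Nat.card {g : G // g ∈ Subgroup.centralizer ({c * x * c⁻¹} : Set G) ∧ δ g = 1} =
      Nat.card {g : G // g ∈ Subgroup.centralizer ({x} : Set G) ∧ δ g = 1} := by
  apply Nat.card_congr
  refine Equiv.subtypeEquiv (MulAut.conj c⁻¹).toEquiv (fun g => ?_)
  show g ∈ Subgroup.centralizer {c * x * c⁻¹} ∧ δ g = 1 ↔
    c⁻¹ * g * c⁻¹⁻¹ ∈ Subgroup.centralizer {x} ∧ δ (c⁻¹ * g * c⁻¹⁻¹) = 1
  have hδ : δ (c⁻¹ * g * c⁻¹⁻¹) = δ g := by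
    rw [inv_inv, map_mul, map_mul, map_inv, mul_comm (δ c)⁻¹, mul_assoc,
      inv_mul_cancel, mul_one]
  rw [hδ, Subgroup.mem_centralizer_singleton_iff, Subgroup.mem_centralizer_singleton_iff, inv_inv]
  apply and_congr_left
  intro _
  constructor
  · intro h
    calc c⁻¹ * g * c * x = c⁻¹ * (g * (c * x * c⁻¹)) * c := by group
      _ = c⁻¹ * ((c * x * c⁻¹) * g) * c := by rw [h]
      _ = x * (c⁻¹ * g * c) := by group
  · intro h
    calc g * (c * x * c⁻¹) = c * ((c⁻¹ * g * c) * x) * c⁻¹ := by group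
      _ = c * (x * (c⁻¹ * g * c)) * c⁻¹ := by rw [h]
      _ = c * x * c⁻¹ * g := by group

end grp

section mat

variable {F : Type u} [Field F] [Fintype F] [CharP F 2] {m : ℕ}

omit [Fintype F] in
theorem isUnit_of_preserves (A : Matrix (Fin m ⊕ Fin m) (Fin m ⊕ Fin m) F)
    (h : ∀ v, Cfsg.quadFormPlus m F (A *ᵥ v) = Cfsg.quadFormPlus m F v) : IsUnit A := by
  have hsp : A ∈ Matrix.symplecticGroup (Fin m) F := by
    apply mem_sp_of_preserves
    intro u v
    rw [Hs_eq_Bp, Hs_eq_Bp]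
    exact isQuad_plus.preserves_polar (Matrix.mulVecLin A) (fun v => h v) u v
  exact (Matrix.isUnit_iff_isUnit_det A).mpr (SymplecticGroup.symplectic_det hsp)

/-- the orthogonal group as a set of matrices -/
noncomputable def OPlusMatEquiv : OPlus m F ≃
    {g : Matrix (Fin m ⊕ Fin m) (Fin m ⊕ Fin m) F //
      ∀ v, Cfsg.quadFormPlus m F (g *ᵥ v) = Cfsg.quadFormPlus m F v} where
  toFun t := ⟨t.1.1, (mem_O_iff _).mp t.2⟩
  invFun g := ⟨(isUnit_of_preserves g.1 g.2).unit, (mem_O_iff _).mpr (by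
    rw [IsUnit.unit_spec]; exact g.2)⟩
  left_inv t := by
    apply Subtype.ext
    apply Units.ext
    exact IsUnit.unit_spec _
  right_inv g := by
    apply Subtype.ext
    exact IsUnit.unit_spec (isUnit_of_preserves g.1 g.2)

/-- the centraliser of an isometry as a set of matrices -/
noncomputable def centMatEquiv (t₀ : OPlus m F) :
    ↥(Subgroup.centralizer ({t₀} : Set (OPlus m F))) ≃
      {g : Matrix (Fin m ⊕ Fin m) (Fin m ⊕ Fin m) F //
        (∀ v, Cfsg.quadFormPlus m F (g *ᵥ v) = Cfsg.quadFormPlus m F v) ∧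
          g * (t₀.1 : Matrix (Fin m ⊕ Fin m) (Fin m ⊕ Fin m) F) =
            (t₀.1 : Matrix (Fin m ⊕ Fin m) (Fin m ⊕ Fin m) F) * g} where
  toFun y := ⟨y.1.1.1, (mem_O_iff _).mp y.1.2, by
    have h := Subgroup.mem_centralizer_singleton_iff.mp y.2
    exact congrArg (fun z : OPlus m F =>
      ((z : GL (Fin m ⊕ Fin m) F) : Matrix (Fin m ⊕ Fin m) (Fin m ⊕ Fin m) F)) h⟩
  invFun g := ⟨OPlusMatEquiv.symm ⟨g.1, g.2.1⟩, by
    rw [Subgroup.mem_centralizer_singleton_iff]
    apply Subtype.ext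
    apply Units.ext
    show ((isUnit_of_preserves g.1 g.2.1).unit : Matrix (Fin m ⊕ Fin m) (Fin m ⊕ Fin m) F) *
        (t₀.1 : Matrix (Fin m ⊕ Fin m) (Fin m ⊕ Fin m) F) =
      (t₀.1 : Matrix (Fin m ⊕ Fin m) (Fin m ⊕ Fin m) F) *
        ((isUnit_of_preserves g.1 g.2.1).unit : Matrix (Fin m ⊕ Fin m) (Fin m ⊕ Fin m) F)
    rw [IsUnit.unit_spec]
    exact g.2.2⟩
  left_inv y := by
    apply Subtype.ext
    apply Subtype.ext
    apply Units.ext
    exact IsUnit.unit_spec _
  right_inv g := by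
    apply Subtype.ext
    exact IsUnit.unit_spec (isUnit_of_preserves g.1 g.2.1)

end mat

section transport

variable {F : Type u} [Field F]

/-- transport of an "isometric and commuting" set along a reindexing -/
def reindexEquivO {N N' : Type} [Fintype N] [DecidableEq N] [Fintype N'] [DecidableEq N']
    (σ : N ≃ N') (Q : (N → F) → F) (Q' : (N' → F) → F) (hQ : ∀ v, Q v = Q' (v ∘ σ.symm))
    (t : Matrix N N F) :
    {g : Matrix N N F // (∀ v, Q (g *ᵥ v) = Q v) ∧ g * t = t * g} ≃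
      {g : Matrix N' N' F // (∀ w, Q' (g *ᵥ w) = Q' w) ∧
        g * reindex σ σ t = reindex σ σ t * g} :=
  Equiv.subtypeEquiv (reindex σ σ) (fun g => by
    have hinj : Function.Injective (reindex σ σ : Matrix N N F → Matrix N' N' F) :=
      (reindex σ σ).injective
    have h2 : reindex σ σ g * reindex σ σ t = reindex σ σ (g * t) := by
      simp only [reindex_apply, submatrix_mul_equiv]
    have h3 : reindex σ σ t * reindex σ σ g = reindex σ σ (t * g) := by
      simp only [reindex_apply, submatrix_mul_equiv]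
    have h4 : ∀ w : N' → F, reindex σ σ g *ᵥ w = (g *ᵥ (w ∘ σ)) ∘ σ.symm := by
      intro w
      rw [reindex_apply, submatrix_mulVec_equiv, Equiv.symm_symm]
    rw [h2, h3]
    constructor
    · rintro ⟨ha, hb⟩
      refine ⟨fun w => ?_, by rw [hb]⟩
      rw [h4, ← hQ, ha, hQ]
      congr 1
      funext i
      simp
    · rintro ⟨ha, hb⟩
      refine ⟨fun v => ?_, hinj hb⟩
      have h5 := ha (v ∘ σ.symm)
      rw [h4, ← hQ] at h5
      have h6 : (v ∘ σ.symm) ∘ σ = v := by
        funext i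
        simp
      rw [h6] at h5
      rw [h5, hQ])

end transport

section model

variable {F : Type u} [Field F] [Fintype F] [CharP F 2] {m k : ℕ} {a : Type} [Fintype a]
  [DecidableEq a]

omit [Fintype F] [CharP F 2] in
theorem qf_Kmat (μ : Fin k ⊕ Fin k → F) : qf (Kmat k F) μ = Cfsg.quadFormPlus k F μ := by
  unfold qf Kmat Cfsg.quadFormPlus
  rw [fromBlocks_mulVec]
  simp [dotProduct, Fintype.sum_sum_type, mul_comm]

omit [Fintype F] in
theorem qf_Kmat_J (ν : Fin k ⊕ Fin k → F) :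
    qf (Kmat k F) (Matrix.J (Fin k) F *ᵥ ν) = qf (Kmat k F) ν := by
  rw [qf_Kmat, qf_Kmat]
  unfold Cfsg.quadFormPlus Matrix.J
  rw [fromBlocks_mulVec]
  simp only [Matrix.neg_mulVec, Matrix.one_mulVec, Matrix.zero_mulVec, zero_add, add_zero,
    Sum.elim_inl, Sum.elim_inr, Pi.neg_apply, Function.comp_apply, CharTwo.neg_eq]
  exact Finset.sum_congr rfl (fun i _ => mul_comm _ _)

omit [Fintype F] [CharP F 2] in
theorem Q_reindex (e : Fin m ≃ a ⊕ Fin k) (v : Fin m ⊕ Fin m → F) :
    Cfsg.quadFormPlus m F v = Q3 (Kmat k F) (v ∘ (sigma e).symm) := by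
  rw [← elim_eta (v ∘ (sigma e).symm), Q3_elim, qf_Kmat]
  unfold Cfsg.quadFormPlus
  rw [← Equiv.sum_comp e.symm, Fintype.sum_sum_type]
  rfl

end model

section count

variable {F : Type u} [Field F] [Fintype F] [CharP F 2] {m k : ℕ} {a : Type} [Fintype a]
  [DecidableEq a]

omit [CharP F 2] in
/-- the number of symmetric matrices with zero diagonal -/
theorem card_symm_zero_diag (a : Type) [Fintype a] [DecidableEq a] :
    Nat.card {Y : Matrix a a F // Yᵀ = Y ∧ ∀ i, Y i i = 0} =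
      Fintype.card F ^ (Fintype.card a).choose 2 := by
  have h1 := Nat.card_congr (splitDiag (F := F) (a := a))
  rw [card_symm, Nat.card_prod, Nat.card_eq_fintype_card (α := a → F), Fintype.card_fun] at h1
  have h2 : (Fintype.card a + 1).choose 2 = (Fintype.card a).choose 2 + Fintype.card a := by
    rw [Nat.choose_succ_succ (Fintype.card a) 1, Nat.choose_one_right, add_comm]
  rw [h2, pow_add] at h1
  exact (Nat.eq_of_mul_eq_mul_right (pow_pos Fintype.card_pos _) h1).symm

theorem card_OK (k : ℕ) :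
    Nat.card {S : Matrix (Fin k ⊕ Fin k) (Fin k ⊕ Fin k) F //
      ∀ μ, qf (Kmat k F) (S *ᵥ μ) = qf (Kmat k F) μ} = Nat.card (OPlus k F) := by
  rw [Nat.card_congr (OPlusMatEquiv (F := F) (m := k))]
  apply Nat.card_congr
  exact Equiv.subtypeEquivRight (fun S => by simp only [qf_Kmat])

/-- the order of the centraliser of the standard involution of type `a` -/
theorem card_centralizer_uS (e : Fin m ≃ a ⊕ Fin k) (β βi : Matrix a a F) (hβ : βᵀ = β)
    (hβi : β * βi = 1) (hD : IsAltM (Dmat e β)) :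
    Nat.card ↥(Subgroup.centralizer ({uS (Dmat e β) hD} : Set (OPlus m F))) =
      Nat.card {X : Matrix a a F // X * β * Xᵀ = β} *
        (Nat.card (OPlus k F) *
          (Fintype.card F ^ (Fintype.card (Fin k ⊕ Fin k) * Fintype.card a) *
            Fintype.card F ^ (Fintype.card a).choose 2)) := by
  have h1 := Nat.card_congr (centMatEquiv (uS (Dmat e β) hD))
  have h2 := Nat.card_congr (reindexEquivO (sigma e) (Cfsg.quadFormPlus m F) (Q3 (Kmat k F))
    (Q_reindex e) (fromBlocks (1 : Matrix (Fin m) (Fin m) F) (Dmat e β) 0 1))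
  rw [reindex_uSp] at h2
  have h3 := card_COset β (Matrix.J (Fin k) F) βi (Kmat k F) hβ hβi (J_eq_K_add k) (J_mul_J k)
    qf_Kmat_J
  rw [h1]
  show Nat.card {g : Matrix (Fin m ⊕ Fin m) (Fin m ⊕ Fin m) F //
    (∀ v, Cfsg.quadFormPlus m F (g *ᵥ v) = Cfsg.quadFormPlus m F v) ∧
      g * fromBlocks (1 : Matrix (Fin m) (Fin m) F) (Dmat e β) 0 1 =
        fromBlocks (1 : Matrix (Fin m) (Fin m) F) (Dmat e β) 0 1 * g} = _
  rw [h2, h3, card_OK, card_mat, card_symm_zero_diag]

end count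

section omega

variable {F : Type u} [Field F] [Fintype F] [CharP F 2] {m k : ℕ} {a : Type} [Fintype a]
  [DecidableEq a]

theorem mem_Omega_iff_delta (hm : 1 ≤ m) (h : Fintype.card F ≠ 2 ∨ m ≠ 2) (g : OPlus m F) :
    g ∈ Cfsg.Omega F (Cfsg.quadFormPlus m F) ↔ delta m F g = 1 := by
  rw [Cfsg.Agent.S2630.mem_Omega_iff_dnat hm h g, delta_apply]
  constructor
  · intro h1
    rw [ZMod.natCast_eq_zero_iff_even.mpr h1]
    rfl
  · intro h1
    have h2 : ((dnat g : ℕ) : ZMod 2) = 0 := by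
      have := congrArg Multiplicative.toAdd h1
      simpa using this
    exact ZMod.natCast_eq_zero_iff_even.mp h2

/-- the centraliser in `Ω` inside the centraliser -/
def omegaCentEquiv (hm : 1 ≤ m) (h : Fintype.card F ≠ 2 ∨ m ≠ 2) (x : OPlus m F) :
    {g : ↥(Cfsg.Omega F (Cfsg.quadFormPlus m F)) // (g : OPlus m F) * x = x * (g : OPlus m F)} ≃
      {g : OPlus m F // g ∈ Subgroup.centralizer ({x} : Set (OPlus m F)) ∧
        delta m F g = 1} where
  toFun g := ⟨g.1.1, Subgroup.mem_centralizer_singleton_iff.mpr g.2,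
    (mem_Omega_iff_delta hm h _).mp g.1.2⟩
  invFun g := ⟨⟨g.1, (mem_Omega_iff_delta hm h _).mpr g.2.2⟩,
    Subgroup.mem_centralizer_singleton_iff.mp g.2.1⟩
  left_inv _ := rfl
  right_inv _ := rfl

omit [Fintype F] in
theorem refl_comm (t : OPlus m F) (a₀ : Fin m ⊕ Fin m → F) (ha : Cfsg.quadFormPlus m F a₀ ≠ 0)
    (hta : actHom m F t a₀ = a₀) : refl a₀ ha * t = t * refl a₀ ha := by
  apply act_ext
  intro v
  have h1 : Bp m F a₀ (actHom m F t v) = Bp m F a₀ v := by
    conv_lhs => rw [← hta]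
    exact B_act t a₀ v
  rw [act_mul, act_mul, act_refl, act_refl, map_add, map_smul, map_smul, hta, h1]

omit [Fintype F] in
theorem act_uS (D : Matrix (Fin m) (Fin m) F) (hD : IsAltM D) (z : Fin m ⊕ Fin m → F) :
    actHom m F (uS D hD) z = Sum.elim (z ∘ Sum.inl + D *ᵥ (z ∘ Sum.inr)) (z ∘ Sum.inr) := by
  unfold uS
  rw [act_mkOM, fromBlocks_mulVec]
  simp

omit [Fintype F] [CharP F 2] in
theorem Q_pair (i₀ : Fin m) :
    Cfsg.quadFormPlus m F (Pi.single (Sum.inl i₀) 1 + Pi.single (Sum.inr i₀) 1) = 1 := by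
  unfold Cfsg.quadFormPlus
  rw [Finset.sum_eq_single i₀]
  · simp
  · intro b _ hb
    simp [hb]
  · intro hcon
    exact absurd (Finset.mem_univ _) hcon

omit [Fintype F] [CharP F 2] in
theorem Dmat_mulVec_single (e : Fin m ≃ a ⊕ Fin k) (β : Matrix a a F) (i₀ : Fin m) (j₀ : Fin k)
    (h : e i₀ = Sum.inr j₀) : Dmat e β *ᵥ Pi.single i₀ 1 = 0 := by
  funext i
  rw [mulVec_single_one]
  show Dmat e β i i₀ = 0
  unfold Dmat
  rw [reindex_apply, submatrix_apply, Equiv.symm_symm, h]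
  rcases e i with x | x <;> rfl

/-- an isometry commuting with a standard involution of maximal rank fixes the standard
maximal totally singular subspace -/
theorem dnat_of_comm (D Di : Matrix (Fin m) (Fin m) F) (hD : IsAltM D) (hDi : D * Di = 1)
    (g : OPlus m F) (hg : g * uS D hD = uS D hD * g) : dnat g = 0 := by
  have hN : ∀ z : Fin m ⊕ Fin m → F,
      actHom m F (uS D hD) z + z = Sum.elim (D *ᵥ (z ∘ Sum.inr)) 0 := by
    intro z
    rw [act_uS]
    funext i
    rcases i with i | i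
    · simp only [Pi.add_apply, Sum.elim_inl, Function.comp_apply]
      rw [add_comm (z (Sum.inl i)), add_assoc, CharTwo.add_self_eq_zero, add_zero]
    · simp only [Pi.add_apply, Sum.elim_inr, Function.comp_apply, Pi.zero_apply]
      exact CharTwo.add_self_eq_zero _
  have key : ∀ v ∈ stdL m F, actHom m F g v ∈ stdL m F := by
    intro v hv
    rw [mem_stdL] at hv
    have hv' : v = actHom m F (uS D hD) (Sum.elim (0 : Fin m → F) (Di *ᵥ (v ∘ Sum.inl))) +
        Sum.elim (0 : Fin m → F) (Di *ᵥ (v ∘ Sum.inl)) := by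
      rw [hN]
      funext i
      rcases i with i | i
      · simp only [Sum.elim_inl, Sum.elim_comp_inr, mulVec_mulVec, hDi, one_mulVec,
          Function.comp_apply]
      · simp only [Sum.elim_inr, Pi.zero_apply]
        exact hv i
    rw [hv', map_add, ← act_mul, hg, act_mul, hN, mem_stdL]
    intro j
    rfl
  have h1 : imgL g = stdL m F := by
    apply Submodule.eq_of_le_of_finrank_eq
    · rintro w ⟨v, hv, rfl⟩
      exact key v hv
    · rw [(imgL_mts g).1, stdL_mts.1]
  unfold dnat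
  rw [h1, inf_idem, stdL_mts.1, Nat.sub_self]

omit [Fintype F] [CharP F 2] in
theorem Dmat_mul_inv (e : Fin m ≃ a ⊕ Fin 0) (β βi : Matrix a a F) (hβi : β * βi = 1) :
    Dmat e β * Dmat e βi = 1 := by
  have h0 : (0 : Matrix (Fin 0) (Fin 0) F) = 1 := Subsingleton.elim _ _
  unfold Dmat
  rw [reindex_apply, reindex_apply, submatrix_mul_equiv, fromBlocks_multiply]
  simp only [Matrix.mul_zero, Matrix.zero_mul, add_zero, hβi]
  rw [h0, fromBlocks_one, submatrix_one_equiv]

/-- the order of the centraliser in `Ω` of an involution of type `a` -/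
theorem card_omega_centralizer (hm : 1 ≤ m) (h : Fintype.card F ≠ 2 ∨ m ≠ 2)
    (e : Fin m ≃ a ⊕ Fin k) (β βi : Matrix a a F) (hβ : βᵀ = β) (hβi : β * βi = 1)
    (hβalt : ∀ w : a → F, w ⬝ᵥ (β *ᵥ w) = 0) (x : OPlus m F) (hx : x * x = 1)
    (hrank : ((x.1 : Matrix (Fin m ⊕ Fin m) (Fin m ⊕ Fin m) F) - 1).rank = Fintype.card a)
    (halt : ∀ v, Bp m F v (actHom m F x v) = 0) :
    (if k = 0 then 1 else 2) *
        Nat.card {g : ↥(Cfsg.Omega F (Cfsg.quadFormPlus m F)) //
          (g : OPlus m F) * x = x * (g : OPlus m F)} =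
      Nat.card {X : Matrix a a F // X * β * Xᵀ = β} *
        (Nat.card (OPlus k F) *
          (Fintype.card F ^ (Fintype.card (Fin k ⊕ Fin k) * Fintype.card a) *
            Fintype.card F ^ (Fintype.card a).choose 2)) := by
  have hD : IsAltM (Dmat e β) := fun y => by
    rw [dot_Dmat]
    exact hβalt _
  have hconj : IsConj x (uS (Dmat e β) hD) :=
    Cfsg.Agent.S2595.conjO1 hm x (uS (Dmat e β) hD) hx (uS_mul_self _ _)
      (by rw [hrank, rank_uS, rank_Dmat e β βi hβi]) (iff_of_true halt (alt_uS _ _))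
  obtain ⟨c, hc⟩ := isConj_iff.mp hconj
  rw [Nat.card_congr (omegaCentEquiv hm h x), ← card_conj_delta (delta m F) c x, hc,
    ← card_centralizer_uS e β βi hβ hβi hD]
  by_cases hk : k = 0
  · rw [if_pos hk, one_mul]
    symm
    apply card_of_char_trivial
    intro g hg
    subst hk
    rw [delta_apply, dnat_of_comm (Dmat e β) (Dmat e βi) hD (Dmat_mul_inv e β βi hβi) g
      (Subgroup.mem_centralizer_singleton_iff.mp hg)]
    rfl
  · rw [if_neg hk]
    symm
    have hk' : 0 < k := Nat.pos_of_ne_zero hk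
    have he : e (e.symm (Sum.inr ⟨0, hk'⟩)) = Sum.inr ⟨0, hk'⟩ := e.apply_symm_apply _
    have ha : Cfsg.quadFormPlus m F (Pi.single (Sum.inl (e.symm (Sum.inr ⟨0, hk'⟩))) 1 +
        Pi.single (Sum.inr (e.symm (Sum.inr ⟨0, hk'⟩))) 1) ≠ 0 := by
      rw [Q_pair]
      exact one_ne_zero
    have hfix : actHom m F (uS (Dmat e β) hD)
        (Pi.single (Sum.inl (e.symm (Sum.inr ⟨0, hk'⟩))) 1 +
          Pi.single (Sum.inr (e.symm (Sum.inr ⟨0, hk'⟩))) 1) =
        Pi.single (Sum.inl (e.symm (Sum.inr ⟨0, hk'⟩))) 1 +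
          Pi.single (Sum.inr (e.symm (Sum.inr ⟨0, hk'⟩))) 1 := by
      rw [act_uS]
      have h1 : ((Pi.single (Sum.inl (e.symm (Sum.inr ⟨0, hk'⟩))) 1 +
          Pi.single (Sum.inr (e.symm (Sum.inr ⟨0, hk'⟩))) 1 : Fin m ⊕ Fin m → F) ∘ Sum.inr) =
          Pi.single (e.symm (Sum.inr ⟨0, hk'⟩)) 1 := by
        funext i
        simp [Pi.single_apply]
      rw [h1, Dmat_mulVec_single e β _ _ he, add_zero, ← h1]
      exact Sum.elim_comp_inl_inr _
    apply card_of_char _ _ (refl _ ha)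
    · rw [Subgroup.mem_centralizer_singleton_iff]
      exact refl_comm _ _ ha hfix
    · rw [delta_apply, dnat_refl]
      decide

end omega

end Cfsg.Agent.Helper36.InvCentOPlus
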