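import Mathlib
import Cfsg.Agent.Lib.Helper36.InvCentOPlus
import Cfsg.Agent.Lib.Helper36.InvCentOFix
import Cfsg.Agent.Lib.Helper14.WittQuad
import Cfsg.Agent.Lib.Helper43.OrthPlus
import Cfsg.Agent.Lib.Helper19.QuadCount

set_option autoImplicit false
set_option linter.unusedSectionVars false

/-!
# Centralisers of involutions of type `b` in `Ω⁺_{2m}(q)`, `q` even

An involution of odd rank is `r_d * y` with `y` of type `a` and `d` a non-singular vector fixed by
`y`; its centraliser is the stabiliser of `d` in the centraliser of `y`.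
-/

namespace Cfsg.Agent.Helper36.InvCentOPlusB

open Matrix Module Cfsg.Agent.Helper36 Cfsg.Agent.Helper36.Blk3 Cfsg.Agent.Helper36.InvCent
  Cfsg.Agent.Helper36.InvCentSp Cfsg.Agent.Helper36.InvCentO Cfsg.Agent.Helper36.PlusOrth
  Cfsg.Agent.Helper36.TotSing Cfsg.Agent.S2168 Cfsg.Agent.S0831
  Cfsg.Agent.Helper36.InvCentOPlus Cfsg.Agent.Helper36.InvCentOFix

universe u

section trans

variable {F : Type u} [Field F] [Fintype F] [CharP F 2] {n : ℕ}

omit [Fintype F] in
/-- the orthogonal group is transitive on vectors of norm one -/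
theorem exists_map_of_Q_eq (u v : Fin n ⊕ Fin n → F) (hu : Cfsg.quadFormPlus n F u = 1)
    (hv : Cfsg.quadFormPlus n F v = 1) : ∃ g : OPlus n F, actHom n F g u = v := by
  have hu0 : u ≠ 0 := by
    rintro rfl
    rw [isQuad_plus.zero] at hu
    exact zero_ne_one hu
  have hv0 : v ≠ 0 := by
    rintro rfl
    rw [isQuad_plus.zero] at hv
    exact zero_ne_one hv
  obtain ⟨i, hi⟩ : ∃ i, u i ≠ 0 := by
    by_contra hcon
    push Not at hcon
    exact hu0 (funext hcon)
  set L : (Fin n ⊕ Fin n → F) →ₗ[F] (Fin n ⊕ Fin n → F) :=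
    (LinearMap.proj i : (Fin n ⊕ Fin n → F) →ₗ[F] F).smulRight ((u i)⁻¹ • v) with hL
  have hLc : ∀ c : F, L (c • u) = c • v := by
    intro c
    rw [hL, LinearMap.smulRight_apply, LinearMap.proj_apply, Pi.smul_apply, smul_eq_mul,
      smul_smul, mul_assoc, mul_inv_cancel₀ hi, mul_one]
  set U : Submodule F (Fin n ⊕ Fin n → F) := Submodule.span F {u} with hU
  have hmem : ∀ x : U, ∃ c : F, c • u = (x : Fin n ⊕ Fin n → F) := fun x =>
    Submodule.mem_span_singleton.mp x.2
  obtain ⟨g, hg, hgx⟩ := Cfsg.Agent.Helper14.Witt.witt_aux (Cfsg.Agent.Helper43.stdPlus F n)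
    (Cfsg.Agent.Helper43.stdPlus_nondegenerate F n) _ U rfl (L.domRestrict U)
    (by
      intro x y hxy
      obtain ⟨c, hc⟩ := hmem x
      obtain ⟨c', hc'⟩ := hmem y
      apply Subtype.ext
      rw [LinearMap.domRestrict_apply, LinearMap.domRestrict_apply, ← hc, ← hc', hLc, hLc] at hxy
      rw [← hc, ← hc']
      have h1 : (c - c') • v = 0 := by rw [sub_smul, hxy, sub_self]
      rcases smul_eq_zero.mp h1 with h2 | h2
      · rw [sub_eq_zero.mp h2]
      · exact absurd h2 hv0)
    (by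
      intro x
      obtain ⟨c, hc⟩ := hmem x
      rw [LinearMap.domRestrict_apply, ← hc, hLc]
      show Cfsg.quadFormPlus n F (c • v) = Cfsg.quadFormPlus n F (c • u)
      rw [isQuad_plus.smul, isQuad_plus.smul, hu, hv])
  have hg' : ∀ w, Cfsg.quadFormPlus n F (g w) = Cfsg.quadFormPlus n F w := fun w => hg w
  refine ⟨mkO g hg', ?_⟩
  rw [actHom_mkO]
  have h1 := hgx ⟨u, Submodule.mem_span_singleton_self u⟩
  rw [LinearMap.domRestrict_apply] at h1
  have h2 := hLc 1
  rw [one_smul, one_smul] at h2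
  rw [← h2]
  exact h1

/-- the order of the stabiliser of a vector of norm one -/
theorem card_stab (d : Fin n ⊕ Fin n → F) (hd : Cfsg.quadFormPlus n F d = 1) :
    Nat.card {g : OPlus n F // actHom n F g d = d} *
        ((Fintype.card F ^ n - 1) * Fintype.card F ^ (n - 1)) = Nat.card (OPlus n F) := by
  classical
  let _ : MulAction (OPlus n F) (Fin n ⊕ Fin n → F) := MulAction.compHom _ (actHom n F)
  have hsmul : ∀ (g : OPlus n F) (v : Fin n ⊕ Fin n → F), g • v = actHom n F g v :=
    fun _ _ => rfl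
  have horb : MulAction.orbit (OPlus n F) d = {v | Cfsg.quadFormPlus n F v = 1} := by
    ext v
    constructor
    · rintro ⟨g, rfl⟩
      show Cfsg.quadFormPlus n F (actHom n F g d) = 1
      rw [Q_act, hd]
    · intro hv
      obtain ⟨g, hg⟩ := exists_map_of_Q_eq d v hd hv
      exact ⟨g, hg⟩
  have h12 : Nat.card ↥(MulAction.stabilizer (OPlus n F) d) *
      (MulAction.orbit (OPlus n F) d).ncard = Nat.card (OPlus n F) := by
    have h1 := MulAction.index_stabilizer (OPlus n F) d
    have h2 := Subgroup.card_mul_index (MulAction.stabilizer (OPlus n F) d)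
    rw [h1] at h2
    exact h2
  have h3 : ({v | Cfsg.quadFormPlus n F v = 1} : Set (Fin n ⊕ Fin n → F)).ncard =
      (Fintype.card F ^ n - 1) * Fintype.card F ^ (n - 1) := by
    rw [← Nat.card_coe_set_eq]
    have := Cfsg.Agent.Helper19.card_dot_sum (F := F) (ι := Fin n) (1 : F)
    rw [if_neg one_ne_zero, add_zero, Fintype.card_fin] at this
    exact this
  have h3' : (MulAction.orbit (OPlus n F) d).ncard =
      (Fintype.card F ^ n - 1) * Fintype.card F ^ (n - 1) := by
    rw [horb]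
    exact h3
  have h4 : Nat.card {g : OPlus n F // actHom n F g d = d} =
      Nat.card ↥(MulAction.stabilizer (OPlus n F) d) :=
    Nat.card_congr (Equiv.subtypeEquivRight (fun g => Iff.rfl))
  rw [h4]
  exact (congrArg (fun z => Nat.card ↥(MulAction.stabilizer (OPlus n F) d) * z) h3'.symm).trans
    h12

end trans

section cent

variable {F : Type u} [Field F] [Fintype F] [CharP F 2] {m : ℕ}

omit [Fintype F] in
theorem sq_inj (x y : F) (h : x * x = y * y) : x = y := by
  have h1 : (x + y) * (x + y) = 0 := by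
    rw [CharTwo.add_mul_self, h, CharTwo.add_self_eq_zero]
  exact CharTwo.add_eq_zero.mp (mul_self_eq_zero.mp h1)

omit [Fintype F] in
theorem act_refl_mul (y : OPlus m F) (d : Fin m ⊕ Fin m → F)
    (hd' : Cfsg.quadFormPlus m F d ≠ 0) (hd : Cfsg.quadFormPlus m F d = 1)
    (hyd : actHom m F y d = d) (v : Fin m ⊕ Fin m → F) :
    actHom m F (refl d hd' * y) v = actHom m F y v + Bp m F d v • d := by
  have h1 : Bp m F d (actHom m F y v) = Bp m F d v := by
    conv_lhs => rw [← hyd]
    exact B_act y d v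
  rw [act_mul, act_refl, hd, inv_one, one_smul, h1]

omit [Fintype F] in
theorem Q_refl_mul (y : OPlus m F) (hy : ∀ v, Bp m F v (actHom m F y v) = 0)
    (d : Fin m ⊕ Fin m → F) (hd' : Cfsg.quadFormPlus m F d ≠ 0)
    (hd : Cfsg.quadFormPlus m F d = 1) (hyd : actHom m F y d = d) (v : Fin m ⊕ Fin m → F) :
    Cfsg.quadFormPlus m F (actHom m F (refl d hd' * y) v + v) = Bp m F d v * Bp m F d v := by
  rw [isQuad_plus.add, Q_act, CharTwo.add_self_eq_zero, zero_add, act_refl_mul y d hd' hd hyd,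
    map_add, LinearMap.add_apply, map_smul, LinearMap.smul_apply, smul_eq_mul,
    isQuad_plus.symm (actHom m F y v) v, hy, zero_add]

omit [Fintype F] in
/-- the centraliser of `r_d y` is the stabiliser of `d` in the centraliser of `y` -/
theorem comm_refl_mul_iff (y : OPlus m F) (hy : ∀ v, Bp m F v (actHom m F y v) = 0)
    (d : Fin m ⊕ Fin m → F) (hd' : Cfsg.quadFormPlus m F d ≠ 0)
    (hd : Cfsg.quadFormPlus m F d = 1) (hyd : actHom m F y d = d) (g : OPlus m F) :
    g * (refl d hd' * y) = (refl d hd' * y) * g ↔ g * y = y * g ∧ actHom m F g d = d := by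
  have hy' : y = refl d hd' * (refl d hd' * y) := by
    rw [← mul_assoc, refl_mul_self, one_mul]
  constructor
  · intro hg
    have hgd : actHom m F g d = d := by
      have h1 : ∀ w, Bp m F d (actHom m F g w) = Bp m F d w := by
        intro w
        apply sq_inj
        rw [← Q_refl_mul y hy d hd' hd hyd, ← Q_refl_mul y hy d hd' hd hyd, ← act_mul, ← hg,
          act_mul, ← map_add, Q_act]
      have h2 : ∀ u, Bp m F (actHom m F g d + d) u = 0 := by
        intro u
        have hu : u = actHom m F g (actHom m F g⁻¹ u) := by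
          rw [← act_mul, mul_inv_cancel, act_one]
        rw [hu, map_add, LinearMap.add_apply, B_act, h1]
        exact CharTwo.add_self_eq_zero _
      have h3 := Bp_nondeg _ h2
      rw [← vsub_eq_add] at h3
      exact sub_eq_zero.mp h3
    have hcomm : refl d hd' * g = g * refl d hd' := refl_comm g d hd' hgd
    refine ⟨?_, hgd⟩
    calc g * y = g * (refl d hd' * (refl d hd' * y)) := by rw [← hy']
      _ = (g * refl d hd') * (refl d hd' * y) := by rw [mul_assoc]
      _ = refl d hd' * (g * (refl d hd' * y)) := by rw [← hcomm, mul_assoc]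
      _ = refl d hd' * ((refl d hd' * y) * g) := by rw [hg]
      _ = y * g := by rw [← mul_assoc, ← hy']
  · rintro ⟨hgy, hgd⟩
    have hcomm : refl d hd' * g = g * refl d hd' := refl_comm g d hd' hgd
    calc g * (refl d hd' * y) = (g * refl d hd') * y := by rw [mul_assoc]
      _ = refl d hd' * (g * y) := by rw [← hcomm, mul_assoc]
      _ = refl d hd' * (y * g) := by rw [hgy]
      _ = refl d hd' * y * g := by rw [mul_assoc]

omit [Fintype F] in
theorem uS_fix' (D : Matrix (Fin m) (Fin m) F) (hD : IsAltM D) (v : Fin m ⊕ Fin m → F)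
    (hv : v ∈ stdL m F) : actHom m F (uS D hD) v = v := by
  rw [mem_stdL] at hv
  have h0 : v ∘ Sum.inr = (0 : Fin m → F) := by
    funext j
    exact hv j
  rw [act_uS, h0, mulVec_zero, add_zero, ← h0]
  exact Sum.elim_comp_inl_inr v

omit [Fintype F] in
/-- the rank of `r_d * u(D)` -/
theorem rank_refl_mul_uS (D : Matrix (Fin m) (Fin m) F) (hD : IsAltM D)
    (d : Fin m ⊕ Fin m → F) (hd' : Cfsg.quadFormPlus m F d ≠ 0)
    (hyd : actHom m F (uS D hD) d = d) :
    (((refl d hd' * uS D hD).1 : Matrix (Fin m ⊕ Fin m) (Fin m ⊕ Fin m) F) - 1).rank =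
      D.rank + 1 := by
  rw [← rank_uS D hD, rank_eq, rank_eq]
  obtain ⟨y, hy⟩ : ∃ y : OPlus m F, y = uS D hD := ⟨_, rfl⟩
  rw [← hy] at hyd ⊢
  obtain ⟨N, hN⟩ : ∃ N : (Fin m ⊕ Fin m → F) →ₗ[F] (Fin m ⊕ Fin m → F),
    N = (actHom m F y).toLinearMap - LinearMap.id := ⟨_, rfl⟩
  obtain ⟨N', hN'⟩ : ∃ N' : (Fin m ⊕ Fin m → F) →ₗ[F] (Fin m ⊕ Fin m → F),
    N' = (actHom m F (refl d hd' * y)).toLinearMap - LinearMap.id := ⟨_, rfl⟩
  rw [← hN, ← hN']
  have hNx : ∀ x, N x = actHom m F y x - x := fun x => by rw [hN]; rfl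
  have hBat : ∀ x, Bp m F d (actHom m F y x) = Bp m F d x := by
    intro x
    conv_lhs => rw [← hyd]
    exact B_act y d x
  have hN'x : ∀ x, N' x = N x + (Cfsg.quadFormPlus m F d)⁻¹ • (Bp m F d x • d) := by
    intro x
    rw [hN', hNx]
    show actHom m F (refl d hd' * y) x - x = (actHom m F y x - x) + _
    rw [act_mul, act_refl, hBat]
    abel
  have hdL : d ∉ stdL m F := fun hc => hd' (stdL_mts.2 d hc)
  obtain ⟨w, hwL, hw⟩ : ∃ w ∈ stdL m F, Bp m F d w ≠ 0 := by
    by_contra hcon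
    push Not at hcon
    apply hdL
    apply isQF_plus.mem_of_ortho Bp_nondegenerate finrank_V stdL_mts
    intro u hu
    rw [isQF_plus.symm]
    exact hcon u hu
  have hNw : N w = 0 := by
    rw [hNx, hy, uS_fix' D hD w hwL, sub_self]
  have hc : (Cfsg.quadFormPlus m F d)⁻¹ * Bp m F d w ≠ 0 :=
    mul_ne_zero (inv_ne_zero hd') hw
  have hd_in : d ∈ LinearMap.range N' := by
    refine ⟨((Cfsg.quadFormPlus m F d)⁻¹ * Bp m F d w)⁻¹ • w, ?_⟩
    rw [map_smul, hN'x, hNw, zero_add, smul_smul, smul_smul, mul_assoc, inv_mul_cancel₀ hc,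
      one_smul]
  have hrangeN : LinearMap.range N ≤ stdL m F := by
    rintro z ⟨x, rfl⟩
    rw [hNx, hy, act_uS, mem_stdL]
    intro j
    simp
  have hrange : LinearMap.range N' = LinearMap.range N ⊔ Submodule.span F {d} := by
    apply le_antisymm
    · rintro z ⟨x, rfl⟩
      rw [hN'x]
      exact Submodule.add_mem _ (Submodule.mem_sup_left ⟨x, rfl⟩)
        (Submodule.mem_sup_right (Submodule.smul_mem _ _ (Submodule.smul_mem _ _
          (Submodule.mem_span_singleton_self d))))
    · apply sup_le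
      · rintro z ⟨x, rfl⟩
        have h1 : N x = N' x + (Cfsg.quadFormPlus m F d)⁻¹ • (Bp m F d x • d) := by
          rw [hN'x, add_assoc, vec_add_self F, add_zero]
        rw [h1]
        exact Submodule.add_mem _ ⟨x, rfl⟩
          (Submodule.smul_mem _ _ (Submodule.smul_mem _ _ hd_in))
      · rw [Submodule.span_singleton_le_iff_mem]
        exact hd_in
  rw [hrange, finrank_sup_span_singleton _ d (fun hc => hdL (hrangeN hc))]

end cent

section final

variable {F : Type u} [Field F] [Fintype F] [CharP F 2] {m k : ℕ} {a : Type} [Fintype a]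
  [DecidableEq a]

/-- the vector `e_i + f_i` -/
def pairVec (F : Type u) [Field F] (m : ℕ) (i : Fin m) : Fin m ⊕ Fin m → F :=
  Pi.single (Sum.inl i) 1 + Pi.single (Sum.inr i) 1

omit [Fintype F] [CharP F 2] in
theorem Q_pairVec (i : Fin m) : Cfsg.quadFormPlus m F (pairVec F m i) = 1 := Q_pair i

omit [Fintype F] [CharP F 2] in
theorem pairVec_reindex (e : Fin m ≃ a ⊕ Fin k) (j₀ : Fin k) :
    pairVec F m (e.symm (Sum.inr j₀)) ∘ (sigma e).symm =
      Sum.elim (0 : a → F) (Sum.elim (pairVec F k j₀) (0 : a → F)) := by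
  funext x
  rcases x with i | (j | j) | i <;>
    simp [pairVec, sigma, rho, Pi.single_apply]

omit [Fintype F] in
theorem uS_Dmat_fix (e : Fin m ≃ a ⊕ Fin k) (β : Matrix a a F) (hD : IsAltM (Dmat e β))
    (j₀ : Fin k) :
    actHom m F (uS (Dmat e β) hD) (pairVec F m (e.symm (Sum.inr j₀))) =
      pairVec F m (e.symm (Sum.inr j₀)) := by
  have he : e (e.symm (Sum.inr j₀)) = Sum.inr j₀ := e.apply_symm_apply _
  rw [act_uS]
  have h1 : (pairVec F m (e.symm (Sum.inr j₀)) ∘ Sum.inr) =
      Pi.single (e.symm (Sum.inr j₀)) 1 := by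
    funext i
    simp [pairVec, Pi.single_apply]
  rw [h1, Dmat_mulVec_single e β _ _ he, add_zero, ← h1]
  exact Sum.elim_comp_inl_inr _

theorem card_OK_fix (n : ℕ) (dc : Fin n ⊕ Fin n → F) :
    Nat.card {S : Matrix (Fin n ⊕ Fin n) (Fin n ⊕ Fin n) F //
      (∀ μ, qf (Kmat n F) (S *ᵥ μ) = qf (Kmat n F) μ) ∧ S *ᵥ dc = dc} =
      Nat.card {g : OPlus n F // actHom n F g dc = dc} := by
  symm
  apply Nat.card_congr
  exact ((OPlusMatEquiv (F := F) (m := n)).subtypeEquiv (fun g => Iff.rfl)).trans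
    ((Equiv.subtypeSubtypeEquivSubtypeInter _ (fun S => S *ᵥ dc = dc)).trans
      (Equiv.subtypeEquivRight (fun S => by simp only [qf_Kmat])))

/-- the order of the centraliser of the standard involution of type `b` -/
theorem card_centralizer_refl_uS (e : Fin m ≃ a ⊕ Fin (k + 1)) (β βi : Matrix a a F)
    (hβ : βᵀ = β) (hβi : β * βi = 1) (hD : IsAltM (Dmat e β))
    (hd' : Cfsg.quadFormPlus m F (pairVec F m (e.symm (Sum.inr 0))) ≠ 0) :
    Nat.card ↥(Subgroup.centralizer
      ({refl (pairVec F m (e.symm (Sum.inr 0))) hd' * uS (Dmat e β) hD} : Set (OPlus m F))) =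
      Nat.card {X : Matrix a a F // X * β * Xᵀ = β} *
        (Nat.card {g : OPlus (k + 1) F //
            actHom (k + 1) F g (pairVec F (k + 1) 0) = pairVec F (k + 1) 0} *
          (Fintype.card F ^ (Fintype.card a * (Fintype.card (Fin (k + 1) ⊕ Fin (k + 1)) - 1)) *
            Fintype.card F ^ (Fintype.card a).choose 2)) := by
  obtain ⟨d, hdef⟩ : ∃ d, d = pairVec F m (e.symm (Sum.inr 0)) := ⟨_, rfl⟩
  obtain ⟨y, hydef⟩ : ∃ y, y = uS (Dmat e β) hD := ⟨_, rfl⟩
  have hd : Cfsg.quadFormPlus m F d = 1 := by rw [hdef]; exact Q_pair _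
  have hyd : actHom m F y d = d := by rw [hdef, hydef]; exact uS_Dmat_fix e β hD 0
  have hy : ∀ v, Bp m F v (actHom m F y v) = 0 := by rw [hydef]; exact alt_uS _ hD
  have hymat : (y.1 : Matrix (Fin m ⊕ Fin m) (Fin m ⊕ Fin m) F) =
      fromBlocks 1 (Dmat e β) 0 1 := by rw [hydef]; rfl
  simp only [← hdef, ← hydef] at hd' ⊢
  have iff := comm_refl_mul_iff y hy d hd' hd hyd
  have Ea : ↥(Subgroup.centralizer ({refl d hd' * y} : Set (OPlus m F))) ≃
      {g : ↥(Subgroup.centralizer ({y} : Set (OPlus m F))) // actHom m F g.1 d = d} :=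
    { toFun := fun g => ⟨⟨g.1, Subgroup.mem_centralizer_singleton_iff.mpr
          ((iff g.1).mp (Subgroup.mem_centralizer_singleton_iff.mp g.2)).1⟩,
        ((iff g.1).mp (Subgroup.mem_centralizer_singleton_iff.mp g.2)).2⟩
      invFun := fun g => ⟨g.1.1, Subgroup.mem_centralizer_singleton_iff.mpr
        ((iff g.1.1).mpr ⟨Subgroup.mem_centralizer_singleton_iff.mp g.1.2, g.2⟩)⟩
      left_inv := fun _ => rfl
      right_inv := fun _ => rfl }
  have Eb : {g : ↥(Subgroup.centralizer ({y} : Set (OPlus m F))) // actHom m F g.1 d = d} ≃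
      {M : {g : Matrix (Fin m ⊕ Fin m) (Fin m ⊕ Fin m) F //
        (∀ v, Cfsg.quadFormPlus m F (g *ᵥ v) = Cfsg.quadFormPlus m F v) ∧
          g * (y.1 : Matrix (Fin m ⊕ Fin m) (Fin m ⊕ Fin m) F) =
            (y.1 : Matrix (Fin m ⊕ Fin m) (Fin m ⊕ Fin m) F) * g} // M.1 *ᵥ d = d} :=
    (centMatEquiv y).subtypeEquiv (fun g => Iff.rfl)
  rw [hymat] at Eb
  have Ec := (reindexEquivO (sigma e) (Cfsg.quadFormPlus m F) (Q3 (Kmat (k + 1) F))
    (Q_reindex e) (fromBlocks (1 : Matrix (Fin m) (Fin m) F) (Dmat e β) 0 1)).subtypeEquiv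
    (p := fun M => M.1 *ᵥ d = d)
    (q := fun M' => M'.1 *ᵥ (d ∘ (sigma e).symm) = d ∘ (sigma e).symm) (fun M => by
      show M.1 *ᵥ d = d ↔
        reindex (sigma e) (sigma e) M.1 *ᵥ (d ∘ (sigma e).symm) = d ∘ (sigma e).symm
      have h4 : reindex (sigma e) (sigma e) M.1 *ᵥ (d ∘ (sigma e).symm) =
          (M.1 *ᵥ d) ∘ (sigma e).symm := by
        rw [reindex_apply, submatrix_mulVec_equiv, Equiv.symm_symm]
        congr 2
        funext i
        simp
      rw [h4]
      constructor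
      · intro h
        rw [h]
      · intro h
        funext i
        have := congrFun h (sigma e i)
        simpa using this)
  have h2 := Nat.card_congr (Ea.trans (Eb.trans Ec))
  rw [reindex_uSp] at h2
  rw [h2, hdef, pairVec_reindex]
  have h3 := card_COset_fix β (Matrix.J (Fin (k + 1)) F) βi (Kmat (k + 1) F) hβ hβi
    (J_eq_K_add (k + 1)) (J_mul_J (k + 1)) qf_Kmat_J (pairVec F (k + 1) 0)
  rw [card_OK_fix, card_annih (pairVec F (k + 1) 0) (Sum.inl 0) (by simp [pairVec]),
    card_symm_zero_diag] at h3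
  exact h3

/-- the order of the centraliser in `Ω` of an involution of type `b` -/
theorem card_omega_centralizer_b (hm : 1 ≤ m) (h : Fintype.card F ≠ 2 ∨ m ≠ 2)
    (e : Fin m ≃ a ⊕ Fin (k + 1)) (β βi : Matrix a a F) (hβ : βᵀ = β) (hβi : β * βi = 1)
    (hβalt : ∀ w : a → F, w ⬝ᵥ (β *ᵥ w) = 0) (x : OPlus m F) (hx : x * x = 1)
    (hrank : ((x.1 : Matrix (Fin m ⊕ Fin m) (Fin m ⊕ Fin m) F) - 1).rank = Fintype.card a + 1)
    (hodd : ¬ Even (Fintype.card a + 1)) :
    2 * Nat.card {g : ↥(Cfsg.Omega F (Cfsg.quadFormPlus m F)) //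
          (g : OPlus m F) * x = x * (g : OPlus m F)} =
      Nat.card {X : Matrix a a F // X * β * Xᵀ = β} *
        (Nat.card {g : OPlus (k + 1) F //
            actHom (k + 1) F g (pairVec F (k + 1) 0) = pairVec F (k + 1) 0} *
          (Fintype.card F ^ (Fintype.card a * (Fintype.card (Fin (k + 1) ⊕ Fin (k + 1)) - 1)) *
            Fintype.card F ^ (Fintype.card a).choose 2)) := by
  have hD : IsAltM (Dmat e β) := fun y => by
    rw [dot_Dmat]
    exact hβalt _
  have hd' : Cfsg.quadFormPlus m F (pairVec F m (e.symm (Sum.inr 0))) ≠ 0 := by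
    rw [Q_pairVec]
    exact one_ne_zero
  have hyd := uS_Dmat_fix e β hD 0
  have hcomm : refl (pairVec F m (e.symm (Sum.inr 0))) hd' * uS (Dmat e β) hD =
      uS (Dmat e β) hD * refl (pairVec F m (e.symm (Sum.inr 0))) hd' :=
    refl_comm _ _ hd' hyd
  obtain ⟨x₀, hx₀def⟩ : ∃ x₀, x₀ = refl (pairVec F m (e.symm (Sum.inr 0))) hd' *
    uS (Dmat e β) hD := ⟨_, rfl⟩
  have hx₀ : x₀ * x₀ = 1 := by
    rw [hx₀def]
    calc refl (pairVec F m (e.symm (Sum.inr 0))) hd' * uS (Dmat e β) hD *
          (refl (pairVec F m (e.symm (Sum.inr 0))) hd' * uS (Dmat e β) hD) =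
        refl (pairVec F m (e.symm (Sum.inr 0))) hd' *
          (uS (Dmat e β) hD * refl (pairVec F m (e.symm (Sum.inr 0))) hd') *
            uS (Dmat e β) hD := by group
      _ = (refl (pairVec F m (e.symm (Sum.inr 0))) hd' *
          refl (pairVec F m (e.symm (Sum.inr 0))) hd') *
            (uS (Dmat e β) hD * uS (Dmat e β) hD) := by
          rw [← hcomm]
          group
      _ = 1 := by rw [refl_mul_self, uS_mul_self, mul_one]
  have hrank₀ : ((x₀.1 : Matrix (Fin m ⊕ Fin m) (Fin m ⊕ Fin m) F) - 1).rank =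
      Fintype.card a + 1 := by
    rw [hx₀def, rank_refl_mul_uS _ hD _ hd' hyd, rank_Dmat e β βi hβi]
  have hna : ¬ ∀ v, Bp m F v (actHom m F x v) = 0 := by
    intro halt
    apply hodd
    rw [← hrank]
    exact even_rank_of_alt' x hx halt
  have hna₀ : ¬ ∀ v, Bp m F v (actHom m F x₀ v) = 0 := by
    intro halt
    apply hodd
    rw [← hrank₀]
    exact even_rank_of_alt' x₀ hx₀ halt
  have hconj : IsConj x x₀ :=
    Cfsg.Agent.S2595.conjO1 hm x x₀ hx hx₀ (hrank.trans hrank₀.symm) (iff_of_false hna hna₀)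
  obtain ⟨c, hc⟩ := isConj_iff.mp hconj
  rw [Nat.card_congr (omegaCentEquiv hm h x), ← card_conj_delta (delta m F) c x, hc, hx₀def,
    ← card_centralizer_refl_uS e β βi hβ hβi hD hd']
  symm
  apply card_of_char _ _ (refl (pairVec F m (e.symm (Sum.inr 0))) hd')
  · rw [Subgroup.mem_centralizer_singleton_iff, ← mul_assoc, mul_assoc _ (uS (Dmat e β) hD),
      ← hcomm, mul_assoc]
  · rw [delta_apply, dnat_refl]
    decide

end final

end Cfsg.Agent.Helper36.InvCentOPlusB
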