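import Mathlib
import Cfsg.Agent.Lib.Helper36.InvCentOPlusB

set_option autoImplicit false
set_option linter.unusedSectionVars false
set_option linter.unusedSimpArgs false

/-!
# Centralisers of involutions of type `c` in `Ω⁺_{2m}(q)`, `q` even

An involution of type `c_s` is `r_{d₁} x₁` with `x₁ = r_{d₂} y` of type `b_{s-1}`.  The
centralisers of `x₀ = r_{d₁} x₁` and of `x₁` share the stabiliser of `d₁`, and the two orbits of
`d₁` are counted.
-/

namespace Cfsg.Agent.Helper36.InvCentOPlusC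

open Matrix Module Cfsg.Agent.Helper36 Cfsg.Agent.Helper36.Blk3 Cfsg.Agent.Helper36.InvCent
  Cfsg.Agent.Helper36.InvCentSp Cfsg.Agent.Helper36.InvCentO Cfsg.Agent.Helper36.PlusOrth
  Cfsg.Agent.Helper36.TotSing Cfsg.Agent.S2168 Cfsg.Agent.S0831
  Cfsg.Agent.Helper36.InvCentOPlus Cfsg.Agent.Helper36.InvCentOFix
  Cfsg.Agent.Helper36.InvCentOPlusB

universe u

section general

variable {F : Type u} [Field F] [Fintype F] [CharP F 2] {m : ℕ}

omit [Fintype F] in
/-- conjugating a reflection -/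
theorem refl_conj (g : OPlus m F) (a : Fin m ⊕ Fin m → F) (ha : Cfsg.quadFormPlus m F a ≠ 0)
    (ha' : Cfsg.quadFormPlus m F (actHom m F g a) ≠ 0) :
    g * refl a ha * g⁻¹ = refl (actHom m F g a) ha' := by
  apply act_ext
  intro v
  have h1 : Bp m F a (actHom m F g⁻¹ v) = Bp m F (actHom m F g a) v := by
    have := B_act g a (actHom m F g⁻¹ v)
    rw [← act_mul g g⁻¹, mul_inv_cancel, act_one] at this
    exact this.symm
  rw [act_mul, act_mul, act_refl, act_refl, map_add, map_smul, map_smul, ← act_mul g g⁻¹,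
    mul_inv_cancel, act_one, Q_act, h1]

omit [Fintype F] in
/-- the linear map `t - 1` -/
theorem range_sub_one_le (t : OPlus m F) (a : Fin m ⊕ Fin m → F)
    (ha : Cfsg.quadFormPlus m F a ≠ 0) (hta : actHom m F t a = a)
    (hmem : a ∈ LinearMap.range ((actHom m F t).toLinearMap - LinearMap.id)) :
    (((refl a ha * t).1 : Matrix (Fin m ⊕ Fin m) (Fin m ⊕ Fin m) F) - 1).rank ≤
      ((t.1 : Matrix (Fin m ⊕ Fin m) (Fin m ⊕ Fin m) F) - 1).rank := by
  rw [rank_eq, rank_eq]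
  apply Submodule.finrank_mono
  rintro z ⟨x, rfl⟩
  have hBat : Bp m F a (actHom m F t x) = Bp m F a x := by
    conv_lhs => rw [← hta]
    exact B_act t a x
  have h1 : ((actHom m F (refl a ha * t)).toLinearMap -
        (LinearMap.id : (Fin m ⊕ Fin m → F) →ₗ[F] (Fin m ⊕ Fin m → F))) x =
      ((actHom m F t).toLinearMap -
        (LinearMap.id : (Fin m ⊕ Fin m → F) →ₗ[F] (Fin m ⊕ Fin m → F))) x +
        (Cfsg.quadFormPlus m F a)⁻¹ • (Bp m F a x • a) := by
    show actHom m F (refl a ha * t) x - x = (actHom m F t x - x) + _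
    rw [act_mul, act_refl, hBat]
    abel
  rw [h1]
  exact Submodule.add_mem _ ⟨x, rfl⟩ (Submodule.smul_mem _ _ (Submodule.smul_mem _ _ hmem))

omit [Fintype F] in
/-- peeling a reflection off an involution, with the vector named -/
theorem peel_explicit (t : OPlus m F) (ht : t * t = 1) (v a : Fin m ⊕ Fin m → F)
    (ha_def : a = actHom m F t v + v) (ha : Cfsg.quadFormPlus m F a ≠ 0) :
    (refl a ha * t) * (refl a ha * t) = 1 ∧
      (((refl a ha * t).1 : Matrix (Fin m ⊕ Fin m) (Fin m ⊕ Fin m) F) - 1).rank + 1 =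
        ((t.1 : Matrix (Fin m ⊕ Fin m) (Fin m ⊕ Fin m) F) - 1).rank := by
  have hta : actHom m F t a = a := by
    rw [ha_def, map_add, act_act_of_sq t ht, add_comm]
  have hQa : Cfsg.quadFormPlus m F a = Bp m F v (actHom m F t v) := by
    rw [ha_def, isQuad_plus.add, Q_act, char_two_add_self, zero_add, isQuad_plus.symm]
  have ha0 : a ≠ 0 := by
    intro h0
    rw [h0] at ha
    exact ha isQF_plus.zero
  have hBat : ∀ x, Bp m F a (actHom m F t x) = Bp m F a x := by
    intro x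
    conv_lhs => rw [← hta]
    exact B_act t a x
  refine ⟨?_, ?_⟩
  · have hcomm : refl a ha * t = t * refl a ha := refl_comm t a ha hta
    calc refl a ha * t * (refl a ha * t) = refl a ha * (t * refl a ha) * t := by group
      _ = refl a ha * (refl a ha * t) * t := by rw [hcomm]
      _ = (refl a ha * refl a ha) * (t * t) := by group
      _ = 1 := by rw [refl_mul_self, ht, mul_one]
  · rw [rank_eq, rank_eq]
    set N := (actHom m F t).toLinearMap - LinearMap.id with hN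
    set N' := (actHom m F (refl a ha * t)).toLinearMap - LinearMap.id with hN'
    have hNx : ∀ x, N x = actHom m F t x - x := fun x => rfl
    have hN'x : ∀ x, N' x = N x + (Cfsg.quadFormPlus m F a)⁻¹ • (Bp m F a x • a) := by
      intro x
      show actHom m F (refl a ha * t) x - x = (actHom m F t x - x) + _
      rw [act_mul, act_refl, hBat]
      abel
    have hNv : N v = a := by
      rw [hNx, vsub_eq_add, ha_def]
    have hBav : Bp m F a v = Cfsg.quadFormPlus m F a := by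
      rw [hQa, ha_def, map_add, LinearMap.add_apply, isQuad_plus.self, add_zero, isQuad_plus.symm]
    have hker : LinearMap.ker N ⊔ Submodule.span F {v} ≤ LinearMap.ker N' := by
      apply sup_le
      · intro x hx
        rw [LinearMap.mem_ker] at hx ⊢
        have htx : actHom m F t x = x := by
          rw [hNx] at hx
          exact sub_eq_zero.mp hx
        have h1 : Bp m F (actHom m F t v) x = Bp m F v x := by
          have := B_act t v x
          rw [htx] at this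
          exact this
        have hBax : Bp m F a x = 0 := by
          rw [ha_def, map_add, LinearMap.add_apply, h1]
          exact char_two_add_self _
        rw [hN'x, hx, hBax, zero_smul, smul_zero, add_zero]
      · rw [Submodule.span_singleton_le_iff_mem, LinearMap.mem_ker, hN'x, hNv, hBav, smul_smul,
          inv_mul_cancel₀ ha, one_smul]
        exact vec_add_self F a
    have hv_notin : v ∉ LinearMap.ker N := by
      rw [LinearMap.mem_ker, hNv]
      exact ha0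
    have h1 := finrank_sup_span_singleton (LinearMap.ker N) v hv_notin
    have h2 := Submodule.finrank_mono hker
    have h3 := LinearMap.finrank_range_add_finrank_ker N
    have h4 := LinearMap.finrank_range_add_finrank_ker N'
    have hrange : LinearMap.range N ≤ LinearMap.range N' ⊔ Submodule.span F {a} := by
      rintro w ⟨x, rfl⟩
      have : N x = N' x + (Cfsg.quadFormPlus m F a)⁻¹ • (Bp m F a x • a) := by
        rw [hN'x, add_assoc, vec_add_self F, add_zero]
      rw [this]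
      exact Submodule.add_mem _ (Submodule.mem_sup_left ⟨x, rfl⟩)
        (Submodule.mem_sup_right (Submodule.smul_mem _ _ (Submodule.smul_mem _ _
          (Submodule.mem_span_singleton_self a))))
    have h5 := Submodule.finrank_mono hrange
    have h6 := Submodule.finrank_add_le_finrank_add_finrank (LinearMap.range N')
      (Submodule.span F {a})
    have h7 : finrank F (Submodule.span F {a}) = 1 := finrank_span_singleton ha0
    omega

/-- orbit–stabiliser for a subgroup of the orthogonal group acting on vectors -/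
theorem card_orbit_stab (C : Subgroup (OPlus m F)) (d : Fin m ⊕ Fin m → F) :
    Nat.card C = Nat.card {v : Fin m ⊕ Fin m → F // ∃ g ∈ C, actHom m F g d = v} *
      Nat.card {g : OPlus m F // g ∈ C ∧ actHom m F g d = d} := by
  classical
  let _ : MulAction C (Fin m ⊕ Fin m → F) :=
    MulAction.compHom _ ((actHom m F).comp C.subtype)
  have hsmul : ∀ (g : C) (v : Fin m ⊕ Fin m → F), g • v = actHom m F g.1 v := fun _ _ => rfl
  have h12 : Nat.card ↥(MulAction.stabilizer C d) * (MulAction.orbit C d).ncard = Nat.card C := by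
    have h1 := MulAction.index_stabilizer C d
    have h2 := Subgroup.card_mul_index (MulAction.stabilizer C d)
    rw [h1] at h2
    exact h2
  have horb : MulAction.orbit C d = {v | ∃ g ∈ C, actHom m F g d = v} := by
    ext v
    constructor
    · rintro ⟨g, rfl⟩
      exact ⟨g.1, g.2, rfl⟩
    · rintro ⟨g, hg, rfl⟩
      exact ⟨⟨g, hg⟩, rfl⟩
  have h3 : (MulAction.orbit C d).ncard =
      Nat.card {v : Fin m ⊕ Fin m → F // ∃ g ∈ C, actHom m F g d = v} := by
    rw [horb, ← Nat.card_coe_set_eq]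
    rfl
  have h4 : Nat.card ↥(MulAction.stabilizer C d) =
      Nat.card {g : OPlus m F // g ∈ C ∧ actHom m F g d = d} := by
    apply Nat.card_congr
    exact
      { toFun := fun g => ⟨g.1.1, g.1.2, g.2⟩
        invFun := fun g => ⟨⟨g.1, g.2.1⟩, g.2.2⟩
        left_inv := fun _ => rfl
        right_inv := fun _ => rfl }
  rw [← h12, h3, h4, mul_comm]

omit [Fintype F] in
theorem exists_sqrt (c : F) [Finite F] : ∃ r : F, r * r = c := by
  have : Fintype F := Fintype.ofFinite F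
  obtain ⟨r, hr⟩ := (frobeniusEquiv F 2).surjective c
  exact ⟨r, by rw [← hr, frobeniusEquiv_apply, frobenius_def, pow_two]⟩

/-- in a subspace whose radical contains a vector of norm one, the vectors of norm one form
one `q`-th of the subspace -/
theorem card_fiber (K : Submodule F (Fin m ⊕ Fin m → F)) (e₀ : Fin m ⊕ Fin m → F)
    (he₀ : e₀ ∈ K) (hQ : Cfsg.quadFormPlus m F e₀ = 1) (hrad : ∀ v ∈ K, Bp m F v e₀ = 0) :
    Nat.card {v : Fin m ⊕ Fin m → F // v ∈ K ∧ Cfsg.quadFormPlus m F v = 1} * Fintype.card F =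
      Fintype.card F ^ finrank F K := by
  classical
  have hsq : ∀ c : F, ∃ r : F, r * r = c := fun c => exists_sqrt c
  choose sq hsq using hsq
  have hQadd : ∀ v ∈ K, ∀ c : F, Cfsg.quadFormPlus m F (v + c • e₀) =
      Cfsg.quadFormPlus m F v + c * c := by
    intro v hv c
    rw [isQuad_plus.line, hQ, mul_one, hrad v hv, mul_zero, add_zero]
  have e : ↥K ≃ {v : Fin m ⊕ Fin m → F // v ∈ K ∧ Cfsg.quadFormPlus m F v = 1} × F :=
    { toFun := fun v => (⟨v.1 + sq (Cfsg.quadFormPlus m F v.1 + 1) • e₀,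
          K.add_mem v.2 (K.smul_mem _ he₀), by
            rw [hQadd v.1 v.2, hsq, ← add_assoc, CharTwo.add_self_eq_zero, zero_add]⟩,
        Cfsg.quadFormPlus m F v.1 + 1)
      invFun := fun p => ⟨p.1.1 + sq p.2 • e₀, K.add_mem p.1.2.1 (K.smul_mem _ he₀)⟩
      left_inv := fun v => by
        apply Subtype.ext
        have h1 : Cfsg.quadFormPlus m F (v.1 + sq (Cfsg.quadFormPlus m F v.1 + 1) • e₀) = 1 := by
          rw [hQadd v.1 v.2, hsq, ← add_assoc, CharTwo.add_self_eq_zero, zero_add]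
        show v.1 + sq (Cfsg.quadFormPlus m F v.1 + 1) • e₀ +
          sq (Cfsg.quadFormPlus m F v.1 + 1) • e₀ = v.1
        rw [add_assoc, vec_add_self F, add_zero]
      right_inv := fun p => by
        obtain ⟨⟨w, hwK, hw1⟩, c⟩ := p
        have h1 : Cfsg.quadFormPlus m F (w + sq c • e₀) + 1 = c := by
          rw [hQadd w hwK, hsq, hw1, add_comm 1 c, add_assoc, CharTwo.add_self_eq_zero, add_zero]
        apply Prod.ext
        · apply Subtype.ext
          show w + sq c • e₀ + sq (Cfsg.quadFormPlus m F (w + sq c • e₀) + 1) • e₀ = w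
          rw [h1, add_assoc, vec_add_self F, add_zero]
        · exact h1 }
  have h1 := Nat.card_congr e
  rw [Nat.card_prod, Nat.card_eq_fintype_card (α := F)] at h1
  rw [← h1, Nat.card_eq_fintype_card]
  exact Module.card_eq_pow_finrank (K := F) (V := ↥K)

end general

section lift

variable {F : Type u} [Field F] [Fintype F] [CharP F 2] {m k : ℕ} {a : Type} [Fintype a]
  [DecidableEq a]

omit [Fintype F] in
/-- an isometry in block form commuting with `T3 β` gives an isometry commuting with the standard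
involution of type `a` -/
theorem exists_lift (e : Fin m ≃ a ⊕ Fin k) (β : Matrix a a F) (hD : IsAltM (Dmat e β))
    (g' : Matrix (I3 a (Fin k ⊕ Fin k) a) (I3 a (Fin k ⊕ Fin k) a) F)
    (hQ : ∀ w, Q3 (Kmat k F) (g' *ᵥ w) = Q3 (Kmat k F) w) (hT : g' * T3 β = T3 β * g') :
    ∃ g : OPlus m F, g * uS (Dmat e β) hD = uS (Dmat e β) hD * g ∧
      ∀ v, actHom m F g v = (g' *ᵥ (v ∘ (sigma e).symm)) ∘ (sigma e) := by
  obtain ⟨M, hM⟩ : ∃ M, M = g'.submatrix (sigma e) (sigma e) := ⟨_, rfl⟩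
  have hMv : ∀ v, M *ᵥ v = (g' *ᵥ (v ∘ (sigma e).symm)) ∘ (sigma e) := by
    intro v
    rw [hM, submatrix_mulVec_equiv]
  have hMQ : ∀ v, Cfsg.quadFormPlus m F (M *ᵥ v) = Cfsg.quadFormPlus m F v := by
    intro v
    rw [hMv, Q_reindex e, Q_reindex e v]
    have h1 : ((g' *ᵥ (v ∘ (sigma e).symm)) ∘ (sigma e)) ∘ (sigma e).symm =
        g' *ᵥ (v ∘ (sigma e).symm) := by
      funext i
      simp
    rw [h1, hQ]
  have hy : fromBlocks (1 : Matrix (Fin m) (Fin m) F) (Dmat e β) 0 1 =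
      (T3 β).submatrix (sigma e) (sigma e) := by
    rw [← reindex_uSp e β]
    ext i j
    simp
  have hcomm : M * fromBlocks (1 : Matrix (Fin m) (Fin m) F) (Dmat e β) 0 1 =
      fromBlocks (1 : Matrix (Fin m) (Fin m) F) (Dmat e β) 0 1 * M := by
    rw [hy, hM, submatrix_mul_equiv, submatrix_mul_equiv, hT]
  have hval : ((OPlusMatEquiv.symm ⟨M, hMQ⟩ : OPlus m F).1 :
      Matrix (Fin m ⊕ Fin m) (Fin m ⊕ Fin m) F) = M :=
    congrArg Subtype.val (OPlusMatEquiv.apply_symm_apply ⟨M, hMQ⟩)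
  refine ⟨OPlusMatEquiv.symm ⟨M, hMQ⟩, ?_, ?_⟩
  · apply Subtype.ext
    apply Units.ext
    show ((OPlusMatEquiv.symm ⟨M, hMQ⟩ : OPlus m F).1 :
        Matrix (Fin m ⊕ Fin m) (Fin m ⊕ Fin m) F) *
        fromBlocks (1 : Matrix (Fin m) (Fin m) F) (Dmat e β) 0 1 =
      fromBlocks (1 : Matrix (Fin m) (Fin m) F) (Dmat e β) 0 1 *
        ((OPlusMatEquiv.symm ⟨M, hMQ⟩ : OPlus m F).1 :
          Matrix (Fin m ⊕ Fin m) (Fin m ⊕ Fin m) F)
    rw [hval]
    exact hcomm
  · intro v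
    rw [actHom_apply, hval, hMv]

omit [Fintype F] in
theorem pairVec_ne_zero {n : ℕ} (i : Fin n) : pairVec F n i ≠ 0 := by
  intro h0
  have := Q_pairVec (F := F) i
  rw [h0, isQuad_plus.zero] at this
  exact zero_ne_one this

omit [Fintype F] in
/-- Witt's lemma for a pair of orthogonal vectors of norm one -/
theorem exists_fix_map {n : ℕ} (μ : Fin (n + 2) ⊕ Fin (n + 2) → F)
    (hμ : Cfsg.quadFormPlus (n + 2) F μ = 1)
    (hB : Bp (n + 2) F (pairVec F (n + 2) 0) μ = 0) (hne : μ ≠ pairVec F (n + 2) 0) :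
    ∃ S : OPlus (n + 2) F, actHom (n + 2) F S (pairVec F (n + 2) 0) = pairVec F (n + 2) 0 ∧
      actHom (n + 2) F S (pairVec F (n + 2) 1) = μ := by
  obtain ⟨d₂, hd₂⟩ : ∃ d₂, d₂ = pairVec F (n + 2) 0 := ⟨_, rfl⟩
  obtain ⟨d₁, hd₁⟩ : ∃ d₁, d₁ = pairVec F (n + 2) 1 := ⟨_, rfl⟩
  rw [← hd₂] at hB hne ⊢
  rw [← hd₁]
  have h01 : (0 : Fin (n + 2)) ≠ 1 := by
    intro h
    have := congrArg Fin.val h
    simp at this
  have c11 : d₁ (Sum.inl 1) = 1 := by rw [hd₁]; simp [pairVec]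
  have c10 : d₁ (Sum.inl 0) = 0 := by rw [hd₁]; simp [pairVec, h01]
  have c21 : d₂ (Sum.inl 1) = 0 := by rw [hd₂]; simp [pairVec, h01.symm]
  have c20 : d₂ (Sum.inl 0) = 1 := by rw [hd₂]; simp [pairVec]
  have hQ1 : Cfsg.quadFormPlus (n + 2) F d₁ = 1 := by rw [hd₁]; exact Q_pairVec 1
  have hQ2 : Cfsg.quadFormPlus (n + 2) F d₂ = 1 := by rw [hd₂]; exact Q_pairVec 0
  have hB12 : Bp (n + 2) F d₁ d₂ = 0 := by
    rw [hd₁, hd₂, Bp_apply]
    apply Finset.sum_eq_zero
    intro i _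
    by_cases hi : i = 0
    · subst hi
      simp [pairVec, h01]
    · simp [pairVec, hi]
  have hd₂0 : d₂ ≠ 0 := by rw [hd₂]; exact pairVec_ne_zero 0
  set L : (Fin (n + 2) ⊕ Fin (n + 2) → F) →ₗ[F] (Fin (n + 2) ⊕ Fin (n + 2) → F) :=
    (LinearMap.proj (Sum.inl 1) : (Fin (n + 2) ⊕ Fin (n + 2) → F) →ₗ[F] F).smulRight μ +
      (LinearMap.proj (Sum.inl 0) : (Fin (n + 2) ⊕ Fin (n + 2) → F) →ₗ[F] F).smulRight d₂
    with hL
  have hLc : ∀ α γ : F, L (α • d₁ + γ • d₂) = α • μ + γ • d₂ := by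
    intro α γ
    rw [hL]
    simp only [LinearMap.add_apply, LinearMap.smulRight_apply, LinearMap.proj_apply,
      Pi.add_apply, Pi.smul_apply, smul_eq_mul, c11, c10, c21, c20, mul_one, mul_zero,
      add_zero, zero_add]
  have hQL : ∀ α γ : F, Cfsg.quadFormPlus (n + 2) F (α • μ + γ • d₂) = α * α + γ * γ := by
    intro α γ
    rw [isQuad_plus.add, isQuad_plus.smul, isQuad_plus.smul, hμ, hQ2, map_smul, map_smul,
      LinearMap.smul_apply, smul_eq_mul, smul_eq_mul, isQuad_plus.symm μ d₂, hB]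
    ring
  have hQU : ∀ α γ : F, Cfsg.quadFormPlus (n + 2) F (α • d₁ + γ • d₂) = α * α + γ * γ := by
    intro α γ
    rw [isQuad_plus.add, isQuad_plus.smul, isQuad_plus.smul, hQ1, hQ2, map_smul, map_smul,
      LinearMap.smul_apply, smul_eq_mul, smul_eq_mul, hB12]
    ring
  have hindep : ∀ α γ : F, α • μ + γ • d₂ = 0 → α = 0 ∧ γ = 0 := by
    intro α γ h0
    have hα : α = 0 := by
      by_contra hα
      have h1 : μ = (α⁻¹ * γ) • d₂ := by
        have h2 : α • μ = γ • d₂ := by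
          have := h0
          rw [← vsub_eq_add, sub_eq_zero] at this
          exact this
        calc μ = α⁻¹ • (α • μ) := by rw [smul_smul, inv_mul_cancel₀ hα, one_smul]
          _ = (α⁻¹ * γ) • d₂ := by rw [h2, smul_smul]
      have h3 : Cfsg.quadFormPlus (n + 2) F μ = (α⁻¹ * γ) * (α⁻¹ * γ) := by
        rw [h1, isQuad_plus.smul, hQ2, mul_one]
      rw [hμ] at h3
      have h4 : α⁻¹ * γ = 1 := (sq_inj _ _ (by rw [← h3, mul_one])).symm
      apply hne
      rw [h1, h4, one_smul]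
    refine ⟨hα, ?_⟩
    rw [hα, zero_smul, zero_add] at h0
    rcases smul_eq_zero.mp h0 with h5 | h5
    · exact h5
    · exact absurd h5 hd₂0
  set U : Submodule F (Fin (n + 2) ⊕ Fin (n + 2) → F) := Submodule.span F {d₁, d₂} with hU
  have hmem : ∀ x : U, ∃ α γ : F, α • d₁ + γ • d₂ = (x : Fin (n + 2) ⊕ Fin (n + 2) → F) :=
    fun x => Submodule.mem_span_pair.mp x.2
  obtain ⟨g, hg, hgx⟩ := Cfsg.Agent.Helper14.Witt.witt_aux
    (Cfsg.Agent.Helper43.stdPlus F (n + 2))
    (Cfsg.Agent.Helper43.stdPlus_nondegenerate F (n + 2)) _ U rfl (L.domRestrict U)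
    (by
      intro x y hxy
      obtain ⟨α, γ, hx⟩ := hmem x
      obtain ⟨α', γ', hy⟩ := hmem y
      apply Subtype.ext
      rw [LinearMap.domRestrict_apply, LinearMap.domRestrict_apply, ← hx, ← hy, hLc, hLc] at hxy
      have h1 : (α - α') • μ + (γ - γ') • d₂ = 0 := by
        rw [sub_smul, sub_smul]
        have : α • μ - α' • μ + (γ • d₂ - γ' • d₂) =
            (α • μ + γ • d₂) - (α' • μ + γ' • d₂) := by abel
        rw [this, hxy, sub_self]
      obtain ⟨h2, h3⟩ := hindep _ _ h1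
      rw [← hx, ← hy, sub_eq_zero.mp h2, sub_eq_zero.mp h3])
    (by
      intro x
      obtain ⟨α, γ, hx⟩ := hmem x
      rw [LinearMap.domRestrict_apply, ← hx, hLc]
      show Cfsg.quadFormPlus (n + 2) F (α • μ + γ • d₂) =
        Cfsg.quadFormPlus (n + 2) F (α • d₁ + γ • d₂)
      rw [hQL, hQU])
  have hg' : ∀ w, Cfsg.quadFormPlus (n + 2) F (g w) = Cfsg.quadFormPlus (n + 2) F w :=
    fun w => hg w
  refine ⟨mkO g hg', ?_, ?_⟩
  · rw [actHom_mkO]
    have h1 := hgx ⟨d₂, Submodule.subset_span (by simp)⟩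
    rw [LinearMap.domRestrict_apply] at h1
    have h2 := hLc 0 1
    simp only [zero_smul, one_smul, zero_add, add_zero] at h2
    exact h1.trans h2
  · rw [actHom_mkO]
    have h1 := hgx ⟨d₁, Submodule.subset_span (by simp)⟩
    rw [LinearMap.domRestrict_apply] at h1
    have h2 := hLc 1 0
    simp only [zero_smul, one_smul, zero_add, add_zero] at h2
    exact h1.trans h2

end lift

section transB

variable {F : Type u} [Field F] [Fintype F] [CharP F 2] {m k : ℕ} {a : Type} [Fintype a]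
  [DecidableEq a]

omit [Fintype F] in
theorem uS_add_mem_stdL (D : Matrix (Fin m) (Fin m) F) (hD : IsAltM D)
    (v : Fin m ⊕ Fin m → F) : actHom m F (uS D hD) v + v ∈ stdL m F := by
  rw [mem_stdL, act_uS]
  intro j
  simp only [Pi.add_apply, Sum.elim_inr, Function.comp_apply]
  exact CharTwo.add_self_eq_zero _

omit [Fintype F] in
/-- the image of `r_d u(D) - 1` contains that of `u(D) - 1` and `d` -/
theorem range_refl_mul_ge (D : Matrix (Fin m) (Fin m) F) (hD : IsAltM D)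
    (d : Fin m ⊕ Fin m → F) (hd' : Cfsg.quadFormPlus m F d ≠ 0)
    (hyd : actHom m F (uS D hD) d = d) :
    LinearMap.range ((actHom m F (uS D hD)).toLinearMap - LinearMap.id) ⊔ Submodule.span F {d} ≤
      LinearMap.range ((actHom m F (refl d hd' * uS D hD)).toLinearMap - LinearMap.id) := by
  obtain ⟨y, hy⟩ : ∃ y : OPlus m F, y = uS D hD := ⟨_, rfl⟩
  rw [← hy] at hyd ⊢
  obtain ⟨N, hN⟩ : ∃ N : (Fin m ⊕ Fin m → F) →ₗ[F] (Fin m ⊕ Fin m → F),
    N = (actHom m F y).toLinearMap - LinearMap.id := ⟨_, rfl⟩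
  obtain ⟨N', hN'⟩ : ∃ N' : (Fin m ⊕ Fin m → F) →ₗ[F] (Fin m ⊕ Fin m → F),
    N' = (actHom m F (refl d hd' * y)).toLinearMap - LinearMap.id := ⟨_, rfl⟩
  rw [← hN, ← hN']
  have hNx : ∀ x, N x = actHom m F y x - x := fun x => by rw [hN]; rfl
  have hBat : ∀ x, Bp m F d (actHom m F y x) = Bp m F d x := by
    intro x
    conv_lhs => rw [← hyd]
    exact B_act y d x
  have hN'x : ∀ x, N' x = N x + (Cfsg.quadFormPlus m F d)⁻¹ • (Bp m F d x • d) := by
    intro x
    rw [hN', hNx]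
    show actHom m F (refl d hd' * y) x - x = (actHom m F y x - x) + _
    rw [act_mul, act_refl, hBat]
    abel
  have hdL : d ∉ stdL m F := fun hc => hd' (stdL_mts.2 d hc)
  obtain ⟨w, hwL, hw⟩ : ∃ w ∈ stdL m F, Bp m F d w ≠ 0 := by
    by_contra hcon
    push Not at hcon
    apply hdL
    apply isQF_plus.mem_of_ortho Bp_nondegenerate finrank_V stdL_mts
    intro u hu
    rw [isQF_plus.symm]
    exact hcon u hu
  have hNw : N w = 0 := by
    rw [hNx, hy, uS_fix' D hD w hwL, sub_self]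
  have hc : (Cfsg.quadFormPlus m F d)⁻¹ * Bp m F d w ≠ 0 :=
    mul_ne_zero (inv_ne_zero hd') hw
  have hd_in : d ∈ LinearMap.range N' := by
    refine ⟨((Cfsg.quadFormPlus m F d)⁻¹ * Bp m F d w)⁻¹ • w, ?_⟩
    rw [map_smul, hN'x, hNw, zero_add, smul_smul, smul_smul, mul_assoc, inv_mul_cancel₀ hc,
      one_smul]
  apply sup_le
  · rintro z ⟨x, rfl⟩
    have h1 : N x = N' x + (Cfsg.quadFormPlus m F d)⁻¹ • (Bp m F d x • d) := by
      rw [hN'x, add_assoc, vec_add_self F, add_zero]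
    rw [h1]
    exact Submodule.add_mem _ ⟨x, rfl⟩
      (Submodule.smul_mem _ _ (Submodule.smul_mem _ _ hd_in))
  · rw [Submodule.span_singleton_le_iff_mem]
    exact hd_in

omit [Fintype F] in
/-- the action of the standard involution of type `a` in block coordinates -/
theorem uS_block (e : Fin m ≃ a ⊕ Fin k) (β : Matrix a a F) (hD : IsAltM (Dmat e β))
    (v : Fin m ⊕ Fin m → F) :
    actHom m F (uS (Dmat e β) hD) v = (T3 β *ᵥ (v ∘ (sigma e).symm)) ∘ (sigma e) := by
  have hy : fromBlocks (1 : Matrix (Fin m) (Fin m) F) (Dmat e β) 0 1 =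
      (T3 β).submatrix (sigma e) (sigma e) := by
    rw [← reindex_uSp e β]
    ext i j
    simp
  show fromBlocks (1 : Matrix (Fin m) (Fin m) F) (Dmat e β) 0 1 *ᵥ v = _
  rw [hy, submatrix_mulVec_equiv]

omit [Fintype F] [CharP F 2] in
theorem T3_mulVec (β : Matrix a a F) (ε : a → F) (μ : Fin k ⊕ Fin k → F) (φ : a → F) :
    T3 β *ᵥ (Sum.elim ε (Sum.elim μ φ)) = Sum.elim (ε + β *ᵥ φ) (Sum.elim μ φ) := by
  unfold T3
  rw [mk3_mulVec]
  simp

omit [Fintype F] [CharP F 2] in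
theorem comp_sigma_cancel (e : Fin m ≃ a ⊕ Fin k) (w : I3 a (Fin k ⊕ Fin k) a → F) :
    (w ∘ (sigma e)) ∘ (sigma e).symm = w := by
  funext i
  simp

omit [Fintype F] [CharP F 2] in
theorem comp_sigma_cancel' (e : Fin m ≃ a ⊕ Fin k) (v : Fin m ⊕ Fin m → F) :
    (v ∘ (sigma e).symm) ∘ (sigma e) = v := by
  funext i
  simp

/-- the centraliser of the standard involution of type `b` is transitive on the admissible
vectors -/
theorem trans_B (e : Fin m ≃ a ⊕ Fin (k + 2)) (β βi : Matrix a a F) (hβ : βᵀ = β)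
    (hβi : β * βi = 1) (hD : IsAltM (Dmat e β))
    (hd' : Cfsg.quadFormPlus m F (pairVec F m (e.symm (Sum.inr 0))) ≠ 0)
    (e' : Fin m ⊕ Fin m → F) (hQ : Cfsg.quadFormPlus m F e' = 1)
    (hfix : actHom m F (refl (pairVec F m (e.symm (Sum.inr 0))) hd' * uS (Dmat e β) hD) e' = e')
    (hnot : e' ∉ LinearMap.range ((actHom m F (refl (pairVec F m (e.symm (Sum.inr 0))) hd' *
      uS (Dmat e β) hD)).toLinearMap - LinearMap.id)) :
    ∃ g : OPlus m F,
      g * (refl (pairVec F m (e.symm (Sum.inr 0))) hd' * uS (Dmat e β) hD) =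
        (refl (pairVec F m (e.symm (Sum.inr 0))) hd' * uS (Dmat e β) hD) * g ∧
      actHom m F g (pairVec F m (e.symm (Sum.inr 1))) = e' := by
  have hβi' : βi * β = 1 := mul_eq_one_comm.mp hβi
  obtain ⟨dB, hdB⟩ : ∃ dB, dB = pairVec F m (e.symm (Sum.inr 0)) := ⟨_, rfl⟩
  have hdBQ : Cfsg.quadFormPlus m F dB = 1 := by rw [hdB]; exact Q_pairVec _
  have hyd : actHom m F (uS (Dmat e β) hD) dB = dB := by rw [hdB]; exact uS_Dmat_fix e β hD 0
  have hy := alt_uS (Dmat e β) hD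
  have hge := range_refl_mul_ge (Dmat e β) hD (pairVec F m (e.symm (Sum.inr 0))) hd'
    (uS_Dmat_fix e β hD 0)
  simp only [← hdB] at hd' hfix hnot hge ⊢
  -- `y e' = e'` and `B(d_B, e') = 0`
  have h1 := act_refl_mul (uS (Dmat e β) hD) dB hd' hdBQ hyd e'
  rw [hfix] at h1
  have hc0 : Bp m F dB e' = 0 := by
    by_contra hc
    have h2 : Bp m F dB e' • dB = actHom m F (uS (Dmat e β) hD) e' + e' := by
      have h3 : actHom m F (uS (Dmat e β) hD) e' + e' =
          actHom m F (uS (Dmat e β) hD) e' +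
            (actHom m F (uS (Dmat e β) hD) e' + Bp m F dB e' • dB) := by rw [← h1]
      rw [h3, ← add_assoc, vec_add_self F, zero_add]
    have h4 : dB ∈ stdL m F := by
      have h5 : Bp m F dB e' • dB ∈ stdL m F := by
        rw [h2]
        exact uS_add_mem_stdL _ hD e'
      have h6 := (stdL m F).smul_mem (Bp m F dB e')⁻¹ h5
      rwa [smul_smul, inv_mul_cancel₀ hc, one_smul] at h6
    exact hd' (stdL_mts.2 dB h4)
  have hye : actHom m F (uS (Dmat e β) hD) e' = e' := by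
    rw [hc0, zero_smul, add_zero] at h1
    exact h1.symm
  -- block coordinates
  obtain ⟨w, hw⟩ : ∃ w, w = e' ∘ (sigma e).symm := ⟨_, rfl⟩
  have hew : e' = w ∘ (sigma e) := by rw [hw, comp_sigma_cancel']
  obtain ⟨ε, hε⟩ : ∃ ε : a → F, ε = fun i => w (Sum.inl i) := ⟨_, rfl⟩
  obtain ⟨μ, hμ⟩ : ∃ μ : Fin (k + 2) ⊕ Fin (k + 2) → F, μ = fun j => w (Sum.inr (Sum.inl j)) :=
    ⟨_, rfl⟩
  obtain ⟨φ, hφ⟩ : ∃ φ : a → F, φ = fun i => w (Sum.inr (Sum.inr i)) := ⟨_, rfl⟩
  have hwelim : w = Sum.elim ε (Sum.elim μ φ) := by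
    rw [hε, hμ, hφ, elim_eta]
  have hφ0 : φ = 0 := by
    have h2 := hye
    rw [uS_block, ← hw, hwelim, T3_mulVec] at h2
    have h3 : Sum.elim (ε + β *ᵥ φ) (Sum.elim μ φ) = Sum.elim ε (Sum.elim μ φ) := by
      have h4 := congrArg (fun f => f ∘ (sigma e).symm) h2
      simp only [comp_sigma_cancel] at h4
      rw [h4, ← hwelim, hw]
    obtain ⟨h5, -, -⟩ := (elim3_inj _ _ _ _ _ _).mp h3
    have h6 : β *ᵥ φ = 0 := by
      have := h5
      rwa [add_eq_left] at this
    calc φ = (βi * β) *ᵥ φ := by rw [hβi', one_mulVec]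
      _ = 0 := by rw [← mulVec_mulVec, h6, mulVec_zero]
  rw [hφ0] at hwelim
  have hdBw : dB ∘ (sigma e).symm =
      Sum.elim (0 : a → F) (Sum.elim (pairVec F (k + 2) 0) (0 : a → F)) := by
    rw [hdB]
    exact pairVec_reindex e 0
  have hμQ : Cfsg.quadFormPlus (k + 2) F μ = 1 := by
    have h2 := hQ
    rw [Q_reindex e, ← hw, hwelim, Q3_elim, dotProduct_zero, zero_add, qf_Kmat] at h2
    exact h2
  have hμB : Bp (k + 2) F (pairVec F (k + 2) 0) μ = 0 := by
    have h2 := (isQuad_plus (F := F) (m := m)).add dB e'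
    rw [hc0, add_zero, hdBQ, hQ, Q_reindex e] at h2
    have h3 : (dB + e') ∘ (sigma e).symm =
        Sum.elim ε (Sum.elim (pairVec F (k + 2) 0 + μ) (0 : a → F)) := by
      have : (dB + e') ∘ (sigma e).symm = dB ∘ (sigma e).symm + e' ∘ (sigma e).symm := rfl
      rw [this, hdBw, ← hw, hwelim]
      funext i
      rcases i with i | i | i <;> simp
    rw [h3, Q3_elim, dotProduct_zero, zero_add, qf_Kmat, isQuad_plus.add, Q_pairVec, hμQ] at h2
    have h4 : Bp (k + 2) F (pairVec F (k + 2) 0) μ =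
        (1 + 1 + Bp (k + 2) F (pairVec F (k + 2) 0) μ) + (1 + 1) := by
      rw [CharTwo.add_self_eq_zero, zero_add, add_zero]
    rw [h4, h2, CharTwo.add_self_eq_zero]
  have hμne : μ ≠ pairVec F (k + 2) 0 := by
    intro hμeq
    apply hnot
    apply hge
    have h2 : e' = (Sum.elim ε (Sum.elim (0 : Fin (k + 2) ⊕ Fin (k + 2) → F) (0 : a → F))) ∘
        (sigma e) + dB := by
      have h3 : dB = (dB ∘ (sigma e).symm) ∘ (sigma e) := (comp_sigma_cancel' e dB).symm
      rw [hew, hwelim, hμeq]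
      conv_rhs => rw [h3, hdBw]
      funext i
      simp only [Pi.add_apply, Function.comp_apply]
      generalize (sigma e) i = x
      rcases x with i | i | i <;> simp
    rw [h2]
    refine Submodule.add_mem _ (Submodule.mem_sup_left ?_)
      (Submodule.mem_sup_right (Submodule.mem_span_singleton_self dB))
    refine ⟨(Sum.elim (0 : a → F) (Sum.elim (0 : Fin (k + 2) ⊕ Fin (k + 2) → F) (βi *ᵥ ε))) ∘
      (sigma e), ?_⟩
    show actHom m F (uS (Dmat e β) hD) _ - _ = _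
    rw [uS_block, comp_sigma_cancel, T3_mulVec, mulVec_mulVec, hβi, one_mulVec, zero_add]
    have h3 : Sum.elim ε (Sum.elim (0 : Fin (k + 2) ⊕ Fin (k + 2) → F) (βi *ᵥ ε)) -
        Sum.elim (0 : a → F) (Sum.elim (0 : Fin (k + 2) ⊕ Fin (k + 2) → F) (βi *ᵥ ε)) =
        Sum.elim ε (Sum.elim (0 : Fin (k + 2) ⊕ Fin (k + 2) → F) (0 : a → F)) := by
      funext i
      rcases i with i | i | i <;> simp
    rw [← h3]
    rfl
  -- the isometry of the middle block and the matrix `P`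
  obtain ⟨S, hS0, hS1⟩ := exists_fix_map μ hμQ hμB hμne
  obtain ⟨Sm, hSm⟩ : ∃ Sm : Matrix (Fin (k + 2) ⊕ Fin (k + 2)) (Fin (k + 2) ⊕ Fin (k + 2)) F,
    Sm = (S.1 : Matrix (Fin (k + 2) ⊕ Fin (k + 2)) (Fin (k + 2) ⊕ Fin (k + 2)) F) := ⟨_, rfl⟩
  have hSmv : ∀ ν, Sm *ᵥ ν = actHom (k + 2) F S ν := fun ν => by rw [hSm]; rfl
  have hSQ : ∀ ν, qf (Kmat (k + 2) F) (Sm *ᵥ ν) = qf (Kmat (k + 2) F) ν := by
    intro ν
    rw [qf_Kmat, qf_Kmat, hSmv, Q_act]
  have h01 : (0 : Fin (k + 2)) ≠ 1 := by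
    intro h
    have := congrArg Fin.val h
    simp at this
  obtain ⟨P, hP⟩ : ∃ P : Matrix a (Fin (k + 2) ⊕ Fin (k + 2)) F,
    P = vecMulVec ε (Pi.single (Sum.inl 1) 1) := ⟨_, rfl⟩
  have hP1 : P *ᵥ pairVec F (k + 2) 1 = ε := by
    rw [hP, vecMulVec_mulVec, single_one_dotProduct]
    funext i
    simp [pairVec]
  have hP0 : P *ᵥ pairVec F (k + 2) 0 = 0 := by
    rw [hP, vecMulVec_mulVec, single_one_dotProduct]
    funext i
    simp [pairVec, h01.symm]
  have hX : (1 : Matrix a a F) * β * (1 : Matrix a a F)ᵀ = β := by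
    rw [transpose_one, Matrix.one_mul, Matrix.mul_one]
  have hSJ : Sm * Matrix.J (Fin (k + 2)) F * Smᵀ = Matrix.J (Fin (k + 2)) F :=
    S_mem_of_qf (Matrix.J (Fin (k + 2)) F) (Kmat (k + 2) F) (J_eq_K_add (k + 2))
      (J_mul_J (k + 2)) Sm hSQ
  have hY : (0 : Matrix a a F)ᵀ = 0 := transpose_zero
  have hQ' := (Q3_build_iff β (Matrix.J (Fin (k + 2)) F) βi (Kmat (k + 2) F) hβ hβi
    (J_eq_K_add (k + 2)) (J_mul_J (k + 2)) qf_Kmat_J 1 hX Sm hSJ P 0 hY).mpr
    ⟨hSQ, fun i => rfl⟩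
  have hT := (build_mem β (Matrix.J (Fin (k + 2)) F) βi (Kmat (k + 2) F) hβ hβi
    (J_eq_K_add (k + 2)) 1 hX Sm hSJ P 0 hY).2
  obtain ⟨g, hgy, hgv⟩ := exists_lift e β hD _ hQ' hT
  have hgB : actHom m F g dB = dB := by
    rw [hgv, hdBw, build_mulVec_mid, hP0, hSmv, hS0, ← hdBw, comp_sigma_cancel']
  have hgA : actHom m F g (pairVec F m (e.symm (Sum.inr 1))) = e' := by
    rw [hgv, pairVec_reindex e 1, build_mulVec_mid, hP1, hSmv, hS1, ← hwelim, ← hew]
  exact ⟨g, (comm_refl_mul_iff (uS (Dmat e β) hD) hy dB hd' hdBQ hyd g).mpr ⟨hgy, hgB⟩, hgA⟩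

end transB

section conjC

variable {F : Type u} [Field F] [Fintype F] [CharP F 2] {m k : ℕ} {a : Type} [Fintype a]
  [DecidableEq a]

omit [Fintype F] in
theorem refl_congr {a₁ a₂ : Fin m ⊕ Fin m → F} (h : a₁ = a₂)
    (h₁ : Cfsg.quadFormPlus m F a₁ ≠ 0) (h₂ : Cfsg.quadFormPlus m F a₂ ≠ 0) :
    refl a₁ h₁ = refl a₂ h₂ := by
  subst h
  rfl

omit [Fintype F] in
theorem refl_mul_sq (t : OPlus m F) (ht : t * t = 1) (d : Fin m ⊕ Fin m → F)
    (hd' : Cfsg.quadFormPlus m F d ≠ 0) (htd : actHom m F t d = d) :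
    (refl d hd' * t) * (refl d hd' * t) = 1 := by
  have hcomm : refl d hd' * t = t * refl d hd' := refl_comm t d hd' htd
  calc refl d hd' * t * (refl d hd' * t) = refl d hd' * (t * refl d hd') * t := by group
    _ = refl d hd' * (refl d hd' * t) * t := by rw [hcomm]
    _ = (refl d hd' * refl d hd') * (t * t) := by group
    _ = 1 := by rw [refl_mul_self, ht, mul_one]

omit [Fintype F] in
theorem act_refl_self (d : Fin m ⊕ Fin m → F) (hd' : Cfsg.quadFormPlus m F d ≠ 0) :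
    actHom m F (refl d hd') d = d := by
  rw [act_refl, isQuad_plus.self, zero_smul, smul_zero, add_zero]

omit [Fintype F] in
/-- vectors fixed by `r_d u(D)` -/
theorem fix_refl_mul_uS (D : Matrix (Fin m) (Fin m) F) (hD : IsAltM D)
    (d : Fin m ⊕ Fin m → F) (hd' : Cfsg.quadFormPlus m F d ≠ 0)
    (hd : Cfsg.quadFormPlus m F d = 1) (hyd : actHom m F (uS D hD) d = d)
    (v : Fin m ⊕ Fin m → F) (hfix : actHom m F (refl d hd' * uS D hD) v = v) :
    actHom m F (uS D hD) v = v ∧ Bp m F d v = 0 := by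
  have h1 := act_refl_mul (uS D hD) d hd' hd hyd v
  rw [hfix] at h1
  have hc0 : Bp m F d v = 0 := by
    by_contra hc
    have h2 : Bp m F d v • d = actHom m F (uS D hD) v + v := by
      have h3 : actHom m F (uS D hD) v + v =
          actHom m F (uS D hD) v + (actHom m F (uS D hD) v + Bp m F d v • d) := by rw [← h1]
      rw [h3, ← add_assoc, vec_add_self F, zero_add]
    have h4 : d ∈ stdL m F := by
      have h5 : Bp m F d v • d ∈ stdL m F := by
        rw [h2]
        exact uS_add_mem_stdL _ hD v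
      have h6 := (stdL m F).smul_mem (Bp m F d v)⁻¹ h5
      rwa [smul_smul, inv_mul_cancel₀ hc, one_smul] at h6
    exact hd' (stdL_mts.2 d h4)
  refine ⟨?_, hc0⟩
  rw [hc0, zero_smul, add_zero] at h1
  exact h1.symm

omit [Fintype F] [CharP F 2] in
theorem Bp_pairVec_ne (i j : Fin m) (hij : i ≠ j) :
    Bp m F (pairVec F m i) (pairVec F m j) = 0 := by
  rw [Bp_apply]
  apply Finset.sum_eq_zero
  intro l _
  by_cases hl : l = i
  · subst hl
    simp [pairVec, hij]
  · simp [pairVec, hl]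

/-- every involution of rank `card a + 2` with a vector of norm one in its image is conjugate to
the standard involution of type `c`, compatibly with the vector -/
theorem conj_to_xC (hm : 1 ≤ m) (e : Fin m ≃ a ⊕ Fin (k + 2)) (β βi : Matrix a a F)
    (hβ : βᵀ = β) (hβi : β * βi = 1) (hD : IsAltM (Dmat e β))
    (hdB' : Cfsg.quadFormPlus m F (pairVec F m (e.symm (Sum.inr 0))) ≠ 0)
    (hdA' : Cfsg.quadFormPlus m F (pairVec F m (e.symm (Sum.inr 1))) ≠ 0)
    (hodd : ¬ Even (Fintype.card a + 1))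
    (t : OPlus m F) (ht : t * t = 1)
    (hr : ((t.1 : Matrix (Fin m ⊕ Fin m) (Fin m ⊕ Fin m) F) - 1).rank = Fintype.card a + 2)
    (v ev : Fin m ⊕ Fin m → F) (hev : ev = actHom m F t v + v)
    (hQ : Cfsg.quadFormPlus m F ev = 1) :
    ∃ g : OPlus m F, g * t * g⁻¹ = refl (pairVec F m (e.symm (Sum.inr 1))) hdA' *
        (refl (pairVec F m (e.symm (Sum.inr 0))) hdB' * uS (Dmat e β) hD) ∧
      actHom m F g ev = pairVec F m (e.symm (Sum.inr 1)) := by
  have hev' : Cfsg.quadFormPlus m F ev ≠ 0 := by rw [hQ]; exact one_ne_zero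
  obtain ⟨hsq, hrk⟩ := peel_explicit t ht v ev hev hev'
  obtain ⟨t₁, ht₁⟩ : ∃ t₁, t₁ = refl ev hev' * t := ⟨_, rfl⟩
  rw [← ht₁] at hsq hrk
  have hrk₁ : ((t₁.1 : Matrix (Fin m ⊕ Fin m) (Fin m ⊕ Fin m) F) - 1).rank =
      Fintype.card a + 1 := by omega
  have hydB := uS_Dmat_fix e β hD 0
  obtain ⟨x₁, hx₁⟩ : ∃ x₁, x₁ = refl (pairVec F m (e.symm (Sum.inr 0))) hdB' *
    uS (Dmat e β) hD := ⟨_, rfl⟩
  have hx₁sq : x₁ * x₁ = 1 := by
    rw [hx₁]
    exact refl_mul_sq _ (uS_mul_self _ _) _ hdB' hydB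
  have hx₁rk : ((x₁.1 : Matrix (Fin m ⊕ Fin m) (Fin m ⊕ Fin m) F) - 1).rank =
      Fintype.card a + 1 := by
    rw [hx₁, rank_refl_mul_uS _ hD _ hdB' hydB, rank_Dmat e β βi hβi]
  have hna₁ : ¬ ∀ v, Bp m F v (actHom m F t₁ v) = 0 := by
    intro halt
    apply hodd
    rw [← hrk₁]
    exact even_rank_of_alt' t₁ hsq halt
  have hna₂ : ¬ ∀ v, Bp m F v (actHom m F x₁ v) = 0 := by
    intro halt
    apply hodd
    rw [← hx₁rk]
    exact even_rank_of_alt' x₁ hx₁sq halt
  have hconj : IsConj t₁ x₁ :=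
    Cfsg.Agent.S2595.conjO1 hm t₁ x₁ hsq hx₁sq (hrk₁.trans hx₁rk.symm) (iff_of_false hna₁ hna₂)
  obtain ⟨g₁, hg₁⟩ := isConj_iff.mp hconj
  obtain ⟨e', he'⟩ : ∃ e', e' = actHom m F g₁ ev := ⟨_, rfl⟩
  have he'Q : Cfsg.quadFormPlus m F e' = 1 := by rw [he', Q_act, hQ]
  have he'Q' : Cfsg.quadFormPlus m F e' ≠ 0 := by rw [he'Q]; exact one_ne_zero
  have htev : actHom m F t ev = ev := by
    rw [hev, map_add, act_act_of_sq t ht, add_comm]
  have ht₁ev : actHom m F t₁ ev = ev := by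
    rw [ht₁, act_mul, htev, act_refl_self]
  have hx₁e' : actHom m F x₁ e' = e' := by
    rw [← hg₁, he', ← act_mul]
    have : g₁ * t₁ * g₁⁻¹ * g₁ = g₁ * t₁ := by group
    rw [this, act_mul, ht₁ev]
  have hrefl : refl e' he'Q' = g₁ * refl ev hev' * g₁⁻¹ := by
    rw [refl_conj g₁ ev hev' (by rw [← he']; exact he'Q')]
    exact refl_congr he' _ _
  have hprod : refl e' he'Q' * x₁ = g₁ * t * g₁⁻¹ := by
    rw [hrefl, ← hg₁, ht₁]
    have : g₁ * refl ev hev' * g₁⁻¹ * (g₁ * (refl ev hev' * t) * g₁⁻¹) =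
        g₁ * ((refl ev hev' * refl ev hev') * t) * g₁⁻¹ := by group
    rw [this, refl_mul_self, one_mul]
  have hnot : e' ∉ LinearMap.range ((actHom m F x₁).toLinearMap - LinearMap.id) := by
    intro hmem
    have h1 := range_sub_one_le x₁ e' he'Q' hx₁e' hmem
    rw [hprod, hx₁rk] at h1
    have h2 := (Cfsg.Agent.S2595.invariants_of_conjO t (g₁ * t * g₁⁻¹)
      (isConj_iff.mpr ⟨g₁, rfl⟩)).1
    rw [← h2, hr] at h1
    omega
  rw [hx₁] at hx₁e' hnot
  obtain ⟨g₃, hg₃c, hg₃A⟩ := trans_B e β βi hβ hβi hD hdB' e' he'Q hx₁e' hnot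
  rw [← hx₁] at hg₃c
  refine ⟨g₃⁻¹ * g₁, ?_, ?_⟩
  · have hA : actHom m F g₃⁻¹ e' = pairVec F m (e.symm (Sum.inr 1)) := by
      rw [← hg₃A, ← act_mul, inv_mul_cancel, act_one]
    have hr3 : g₃⁻¹ * refl e' he'Q' * g₃ = refl (pairVec F m (e.symm (Sum.inr 1))) hdA' := by
      have h1 := refl_conj g₃⁻¹ e' he'Q' (by rw [hA]; exact hdA')
      rw [inv_inv] at h1
      rw [h1]
      exact refl_congr hA _ _
    have hx3 : g₃⁻¹ * x₁ * g₃ = x₁ := by
      rw [mul_assoc, ← hg₃c, ← mul_assoc, inv_mul_cancel, one_mul]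
    calc g₃⁻¹ * g₁ * t * (g₃⁻¹ * g₁)⁻¹ = g₃⁻¹ * (g₁ * t * g₁⁻¹) * g₃ := by group
      _ = g₃⁻¹ * (refl e' he'Q' * x₁) * g₃ := by rw [hprod]
      _ = (g₃⁻¹ * refl e' he'Q' * g₃) * (g₃⁻¹ * x₁ * g₃) := by group
      _ = refl (pairVec F m (e.symm (Sum.inr 1))) hdA' * x₁ := by rw [hr3, hx3]
      _ = _ := by rw [hx₁]
  · rw [act_mul, ← he', ← hg₃A, ← act_mul, inv_mul_cancel, act_one]

end conjC

section countC

variable {F : Type u} [Field F] [Fintype F] [CharP F 2] {m k : ℕ} {a : Type} [Fintype a]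
  [DecidableEq a]

theorem card_diff {α : Type*} [Finite α] (P R : α → Prop) (hRP : ∀ v, R v → P v) :
    Nat.card {v // P v} = Nat.card {v // R v} + Nat.card {v // P v ∧ ¬ R v} := by
  classical
  have e : {v // P v} ≃ {v // R v} ⊕ {v // P v ∧ ¬ R v} :=
    { toFun := fun v => if h : R v.1 then Sum.inl ⟨v.1, h⟩ else Sum.inr ⟨v.1, v.2, h⟩
      invFun := Sum.elim (fun w => ⟨w.1, hRP _ w.2⟩) (fun w => ⟨w.1, w.2.1⟩)
      left_inv := fun v => by
        by_cases h : R v.1
        · simp [h]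
        · simp [h]
      right_inv := fun w => by
        rcases w with w | w
        · simp [w.2]
        · simp [w.2.2] }
  rw [Nat.card_congr e, Nat.card_sum]

omit [Fintype F] in
/-- a non-alternating involution has a vector of norm one in its image -/
theorem exists_norm_one (t : OPlus m F) [Finite F]
    (hna : ¬ ∀ v, Bp m F v (actHom m F t v) = 0) :
    ∃ v ev : Fin m ⊕ Fin m → F, ev = actHom m F t v + v ∧ Cfsg.quadFormPlus m F ev = 1 := by
  push Not at hna
  obtain ⟨v, hv⟩ := hna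
  obtain ⟨c, hc⟩ := exists_sqrt (Bp m F v (actHom m F t v))⁻¹
  refine ⟨c • v, actHom m F t (c • v) + c • v, rfl, ?_⟩
  rw [isQuad_plus.add, Q_act, char_two_add_self, zero_add, map_smul, map_smul, map_smul,
    LinearMap.smul_apply, smul_eq_mul, smul_eq_mul, isQuad_plus.symm, ← mul_assoc, hc,
    inv_mul_cancel₀ hv]

end countC

section stdC

variable {F : Type u} [Field F] [Fintype F] [CharP F 2] {m k : ℕ} {a : Type} [Fintype a]
  [DecidableEq a]

omit [Fintype F] in
theorem mem_range_refl_mul (t : OPlus m F) (d : Fin m ⊕ Fin m → F)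
    (hd' : Cfsg.quadFormPlus m F d ≠ 0) (hd : Cfsg.quadFormPlus m F d = 1)
    (u : Fin m ⊕ Fin m → F) (htu : actHom m F t u = u) (hBu : Bp m F d u = 1) :
    d ∈ LinearMap.range ((actHom m F (refl d hd' * t)).toLinearMap - LinearMap.id) := by
  refine ⟨u, ?_⟩
  show actHom m F (refl d hd' * t) u - u = d
  rw [act_mul, htu, act_refl, hd, inv_one, one_smul, hBu, one_smul, add_sub_cancel_left]

omit [Fintype F] in
/-- the auxiliary vector `f_i` -/
theorem uS_Dmat_fix_single (e : Fin m ≃ a ⊕ Fin k) (β : Matrix a a F) (hD : IsAltM (Dmat e β))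
    (j₀ : Fin k) :
    actHom m F (uS (Dmat e β) hD) (Pi.single (Sum.inr (e.symm (Sum.inr j₀))) 1) =
      Pi.single (Sum.inr (e.symm (Sum.inr j₀))) 1 := by
  have he : e (e.symm (Sum.inr j₀)) = Sum.inr j₀ := e.apply_symm_apply _
  rw [act_uS]
  have h1 : ((Pi.single (Sum.inr (e.symm (Sum.inr j₀))) 1 : Fin m ⊕ Fin m → F) ∘ Sum.inr) =
      Pi.single (e.symm (Sum.inr j₀)) 1 := by
    funext i
    simp [Pi.single_apply]
  rw [h1, Dmat_mulVec_single e β _ _ he, add_zero, ← h1]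
  exact Sum.elim_comp_inl_inr _

omit [Fintype F] [CharP F 2] in
theorem Bp_pairVec_single (i j : Fin m) :
    Bp m F (pairVec F m i) (Pi.single (Sum.inr j) 1) = if i = j then 1 else 0 := by
  rw [Bp_apply]
  by_cases hij : i = j
  · subst hij
    rw [if_pos rfl, Finset.sum_eq_single i]
    · simp [pairVec]
    · intro b _ hb
      simp [pairVec, hb]
    · intro hcon
      exact absurd (Finset.mem_univ _) hcon
  · rw [if_neg hij]
    apply Finset.sum_eq_zero
    intro l _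
    by_cases hl : l = i
    · subst hl
      simp [pairVec, hij]
    · simp [pairVec, hl]

end stdC

section finalC

variable {F : Type u} [Field F] [Fintype F] [CharP F 2] {m k : ℕ} {a : Type} [Fintype a]
  [DecidableEq a]

/-- the order of the centraliser in `Ω` of an involution of type `c` -/
theorem card_omega_centralizer_c (hm : 1 ≤ m) (h : Fintype.card F ≠ 2 ∨ m ≠ 2)
    (e : Fin m ≃ a ⊕ Fin (k + 2)) (β βi : Matrix a a F) (hβ : βᵀ = β) (hβi : β * βi = 1)
    (hβalt : ∀ w : a → F, w ⬝ᵥ (β *ᵥ w) = 0) (x : OPlus m F) (hx : x * x = 1)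
    (hrank : ((x.1 : Matrix (Fin m ⊕ Fin m) (Fin m ⊕ Fin m) F) - 1).rank = Fintype.card a + 2)
    (hna : ¬ ∀ v, Bp m F v (actHom m F x v) = 0) (hodd : ¬ Even (Fintype.card a + 1)) :
    2 * Nat.card {g : ↥(Cfsg.Omega F (Cfsg.quadFormPlus m F)) //
          (g : OPlus m F) * x = x * (g : OPlus m F)} *
        (Fintype.card F ^ (Fintype.card a + 2 * k + 2) - Fintype.card F ^ Fintype.card a) =
      Fintype.card F ^ (Fintype.card a + 1) *
        (Nat.card {X : Matrix a a F // X * β * Xᵀ = β} *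
          (Nat.card {g : OPlus (k + 2) F //
              actHom (k + 2) F g (pairVec F (k + 2) 0) = pairVec F (k + 2) 0} *
            (Fintype.card F ^ (Fintype.card a * (Fintype.card (Fin (k + 2) ⊕ Fin (k + 2)) - 1)) *
              Fintype.card F ^ (Fintype.card a).choose 2))) := by
  classical
  have hD : IsAltM (Dmat e β) := fun y => by
    rw [dot_Dmat]
    exact hβalt _
  have hdB' : Cfsg.quadFormPlus m F (pairVec F m (e.symm (Sum.inr 0))) ≠ 0 := by
    rw [Q_pairVec]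
    exact one_ne_zero
  have hdA' : Cfsg.quadFormPlus m F (pairVec F m (e.symm (Sum.inr 1))) ≠ 0 := by
    rw [Q_pairVec]
    exact one_ne_zero
  have hmk : m = Fintype.card a + (k + 2) := by
    have := Fintype.card_congr e
    simpa using this
  have h01 : e.symm (Sum.inr (0 : Fin (k + 2))) ≠ e.symm (Sum.inr (1 : Fin (k + 2))) := by
    intro hc
    have h1 := e.symm.injective hc
    have h2 : (0 : Fin (k + 2)) = 1 := Sum.inr_injective h1
    have := congrArg Fin.val h2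
    simp at this
  have hydB := uS_Dmat_fix e β hD 0
  have hydA := uS_Dmat_fix e β hD 1
  have hy := alt_uS (Dmat e β) hD
  -- the involution of type `b`
  obtain ⟨x₁, hx₁⟩ : ∃ x₁, x₁ = refl (pairVec F m (e.symm (Sum.inr 0))) hdB' *
    uS (Dmat e β) hD := ⟨_, rfl⟩
  have hx₁act : ∀ v, actHom m F x₁ v = actHom m F (uS (Dmat e β) hD) v +
      Bp m F (pairVec F m (e.symm (Sum.inr 0))) v • pairVec F m (e.symm (Sum.inr 0)) := by
    intro v
    rw [hx₁]
    exact act_refl_mul _ _ hdB' (Q_pairVec _) hydB v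
  have hx₁A : actHom m F x₁ (pairVec F m (e.symm (Sum.inr 1))) =
      pairVec F m (e.symm (Sum.inr 1)) := by
    rw [hx₁act, hydA, Bp_pairVec_ne _ _ h01, zero_smul, add_zero]
  have hx₁B : actHom m F x₁ (pairVec F m (e.symm (Sum.inr 0))) =
      pairVec F m (e.symm (Sum.inr 0)) := by
    rw [hx₁act, hydB, isQuad_plus.self, zero_smul, add_zero]
  have hx₁sq : x₁ * x₁ = 1 := by
    rw [hx₁]
    exact refl_mul_sq _ (uS_mul_self _ _) _ hdB' hydB
  have hx₁rk : ((x₁.1 : Matrix (Fin m ⊕ Fin m) (Fin m ⊕ Fin m) F) - 1).rank =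
      Fintype.card a + 1 := by
    rw [hx₁, rank_refl_mul_uS _ hD _ hdB' hydB, rank_Dmat e β βi hβi]
  -- the involution of type `c`
  obtain ⟨x₀, hx₀⟩ : ∃ x₀, x₀ = refl (pairVec F m (e.symm (Sum.inr 1))) hdA' * x₁ := ⟨_, rfl⟩
  have hx₀sq : x₀ * x₀ = 1 := by
    rw [hx₀]
    exact refl_mul_sq x₁ hx₁sq _ hdA' hx₁A
  have hx₀A : actHom m F x₀ (pairVec F m (e.symm (Sum.inr 1))) =
      pairVec F m (e.symm (Sum.inr 1)) := by
    rw [hx₀, act_mul, hx₁A, act_refl_self]
  obtain ⟨v, ev, hev, hevQ⟩ := exists_norm_one x hna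
  obtain ⟨c, hc, -⟩ := conj_to_xC hm e β βi hβ hβi hD hdB' hdA' hodd x hx hrank v ev hev hevQ
  rw [← hx₁, ← hx₀] at hc
  have hx₀rk : ((x₀.1 : Matrix (Fin m ⊕ Fin m) (Fin m ⊕ Fin m) F) - 1).rank =
      Fintype.card a + 2 := by
    rw [← (Cfsg.Agent.S2595.invariants_of_conjO x x₀ (isConj_iff.mpr ⟨c, hc⟩)).1, hrank]
  -- the centraliser in `Ω`
  have hΩ : 2 * Nat.card {g : ↥(Cfsg.Omega F (Cfsg.quadFormPlus m F)) //
      (g : OPlus m F) * x = x * (g : OPlus m F)} =
      Nat.card ↥(Subgroup.centralizer ({x₀} : Set (OPlus m F))) := by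
    rw [Nat.card_congr (omegaCentEquiv hm h x), ← card_conj_delta (delta m F) c x, hc]
    symm
    apply card_of_char _ _ (refl (pairVec F m (e.symm (Sum.inr 1))) hdA')
    · rw [Subgroup.mem_centralizer_singleton_iff, hx₀]
      conv_rhs => rw [mul_assoc, ← refl_comm x₁ _ hdA' hx₁A]
    · rw [delta_apply, dnat_refl]
      decide
  -- orbit–stabiliser for both centralisers
  have h0 := card_orbit_stab (Subgroup.centralizer ({x₀} : Set (OPlus m F)))
    (pairVec F m (e.symm (Sum.inr 1)))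
  have h1 := card_orbit_stab (Subgroup.centralizer ({x₁} : Set (OPlus m F)))
    (pairVec F m (e.symm (Sum.inr 1)))
  have hstab : Nat.card {g : OPlus m F // g ∈ Subgroup.centralizer ({x₀} : Set (OPlus m F)) ∧
        actHom m F g (pairVec F m (e.symm (Sum.inr 1))) = pairVec F m (e.symm (Sum.inr 1))} =
      Nat.card {g : OPlus m F // g ∈ Subgroup.centralizer ({x₁} : Set (OPlus m F)) ∧
        actHom m F g (pairVec F m (e.symm (Sum.inr 1))) = pairVec F m (e.symm (Sum.inr 1))} := by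
    apply Nat.card_congr
    apply Equiv.subtypeEquivRight
    intro g
    apply and_congr_left
    intro hgA
    have hcomm : refl (pairVec F m (e.symm (Sum.inr 1))) hdA' * g =
        g * refl (pairVec F m (e.symm (Sum.inr 1))) hdA' := refl_comm g _ hdA' hgA
    rw [Subgroup.mem_centralizer_singleton_iff, Subgroup.mem_centralizer_singleton_iff, hx₀]
    constructor
    · intro hg
      have h2 : refl (pairVec F m (e.symm (Sum.inr 1))) hdA' * (g * x₁) =
          refl (pairVec F m (e.symm (Sum.inr 1))) hdA' * (x₁ * g) := by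
        rw [← mul_assoc, hcomm, mul_assoc, hg, mul_assoc]
      exact mul_left_cancel h2
    · intro hg
      rw [← mul_assoc, ← hcomm, mul_assoc, hg, mul_assoc]
  -- the two nilpotent maps
  obtain ⟨N₀, hN₀⟩ : ∃ N₀ : (Fin m ⊕ Fin m → F) →ₗ[F] (Fin m ⊕ Fin m → F),
    N₀ = (actHom m F x₀).toLinearMap - LinearMap.id := ⟨_, rfl⟩
  obtain ⟨N₁, hN₁⟩ : ∃ N₁ : (Fin m ⊕ Fin m → F) →ₗ[F] (Fin m ⊕ Fin m → F),
    N₁ = (actHom m F x₁).toLinearMap - LinearMap.id := ⟨_, rfl⟩
  have hN₀x : ∀ z, N₀ z = actHom m F x₀ z - z := fun z => by rw [hN₀]; rfl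
  have hN₁x : ∀ z, N₁ z = actHom m F x₁ z - z := fun z => by rw [hN₁]; rfl
  have hrk₀ : finrank F (LinearMap.range N₀) = Fintype.card a + 2 := by
    rw [hN₀, ← rank_eq, hx₀rk]
  have hrk₁ : finrank F (LinearMap.range N₁) = Fintype.card a + 1 := by
    rw [hN₁, ← rank_eq, hx₁rk]
  have hker₁ : finrank F (LinearMap.ker N₁) = Fintype.card a + 2 * k + 3 := by
    have h2 := LinearMap.finrank_range_add_finrank_ker N₁
    rw [finrank_V, hrk₁] at h2
    omega
  have hmemker₁ : ∀ z, z ∈ LinearMap.ker N₁ ↔ actHom m F x₁ z = z := by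
    intro z
    rw [LinearMap.mem_ker, hN₁x, sub_eq_zero]
  have hrange_le : LinearMap.range N₁ ≤ LinearMap.ker N₁ := by
    rintro z ⟨u, rfl⟩
    rw [hmemker₁, hN₁x, map_sub, act_act_of_sq x₁ hx₁sq, vsub_eq_add, vsub_eq_add, add_comm]
  -- membership facts
  have hBuA : Bp m F (pairVec F m (e.symm (Sum.inr 1)))
      (Pi.single (Sum.inr (e.symm (Sum.inr 1))) 1) = 1 := by
    rw [Bp_pairVec_single, if_pos rfl]
  have hBuB : Bp m F (pairVec F m (e.symm (Sum.inr 0)))
      (Pi.single (Sum.inr (e.symm (Sum.inr 1))) 1) = 0 := by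
    rw [Bp_pairVec_single, if_neg h01]
  have hx₁uA : actHom m F x₁ (Pi.single (Sum.inr (e.symm (Sum.inr 1))) 1) =
      Pi.single (Sum.inr (e.symm (Sum.inr 1))) 1 := by
    rw [hx₁act, uS_Dmat_fix_single e β hD 1, hBuB, zero_smul, add_zero]
  have hdA_mem₀ : pairVec F m (e.symm (Sum.inr 1)) ∈ LinearMap.range N₀ := by
    rw [hN₀, hx₀]
    exact mem_range_refl_mul x₁ _ hdA' (Q_pairVec _) _ hx₁uA hBuA
  have hdB_mem₁ : pairVec F m (e.symm (Sum.inr 0)) ∈ LinearMap.range N₁ := by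
    rw [hN₁, hx₁]
    exact range_refl_mul_ge (Dmat e β) hD _ hdB' hydB
      (Submodule.mem_sup_right (Submodule.mem_span_singleton_self _))
  have hrad₁ : ∀ z ∈ LinearMap.ker N₁, Bp m F z (pairVec F m (e.symm (Sum.inr 0))) = 0 := by
    intro z hz
    rw [hmemker₁, hx₁] at hz
    rw [isQuad_plus.symm]
    exact (fix_refl_mul_uS (Dmat e β) hD _ hdB' (Q_pairVec _) hydB z hz).2
  have hrad₀ : ∀ z ∈ LinearMap.range N₀, Bp m F z (pairVec F m (e.symm (Sum.inr 1))) = 0 := by
    rintro z ⟨u, rfl⟩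
    rw [hN₀x, map_sub, LinearMap.sub_apply]
    have h2 := B_act x₀ u (pairVec F m (e.symm (Sum.inr 1)))
    rw [hx₀A] at h2
    rw [h2, sub_self]
  -- general helper: inverse action
  have hinv : ∀ (g : OPlus m F) (z : Fin m ⊕ Fin m → F), actHom m F g⁻¹ (actHom m F g z) = z := by
    intro g z
    rw [← act_mul, inv_mul_cancel, act_one]
  have hinv' : ∀ (g : OPlus m F) (z : Fin m ⊕ Fin m → F), actHom m F g (actHom m F g⁻¹ z) = z := by
    intro g z
    rw [← act_mul, mul_inv_cancel, act_one]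
  -- the orbit of `dA` under the centraliser of `x₀`
  have horb0 : ∀ v, (∃ g ∈ Subgroup.centralizer ({x₀} : Set (OPlus m F)),
      actHom m F g (pairVec F m (e.symm (Sum.inr 1))) = v) ↔
      (v ∈ LinearMap.range N₀ ∧ Cfsg.quadFormPlus m F v = 1) := by
    intro v
    constructor
    · rintro ⟨g, hg, rfl⟩
      rw [Subgroup.mem_centralizer_singleton_iff] at hg
      refine ⟨?_, ?_⟩
      · obtain ⟨u, hu⟩ := hdA_mem₀
        refine ⟨actHom m F g u, ?_⟩
        rw [← hu, hN₀x, hN₀x, map_sub, ← act_mul, ← act_mul, hg]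
      · rw [Q_act, Q_pairVec]
    · rintro ⟨⟨z, rfl⟩, hQ⟩
      obtain ⟨g, hg, hgv⟩ := conj_to_xC hm e β βi hβ hβi hD hdB' hdA' hodd x₀ hx₀sq hx₀rk z
        (N₀ z) (by rw [hN₀x, vsub_eq_add]) hQ
      rw [← hx₁, ← hx₀] at hg
      refine ⟨g⁻¹, ?_, ?_⟩
      · rw [Subgroup.mem_centralizer_singleton_iff]
        have h2 : g * x₀ = x₀ * g := by
          calc g * x₀ = g * x₀ * g⁻¹ * g := by group
            _ = x₀ * g := by rw [hg]
        calc g⁻¹ * x₀ = g⁻¹ * (x₀ * g) * g⁻¹ := by group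
          _ = g⁻¹ * (g * x₀) * g⁻¹ := by rw [h2]
          _ = x₀ * g⁻¹ := by group
      · rw [← hgv, hinv]
  have horb1 : ∀ v, (∃ g ∈ Subgroup.centralizer ({x₁} : Set (OPlus m F)),
      actHom m F g (pairVec F m (e.symm (Sum.inr 1))) = v) ↔
      ((v ∈ LinearMap.ker N₁ ∧ Cfsg.quadFormPlus m F v = 1) ∧
        ¬ (v ∈ LinearMap.range N₁ ∧ Cfsg.quadFormPlus m F v = 1)) := by
    intro v
    constructor
    · rintro ⟨g, hg, rfl⟩
      rw [Subgroup.mem_centralizer_singleton_iff] at hg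
      refine ⟨⟨?_, ?_⟩, ?_⟩
      · rw [hmemker₁, ← act_mul, ← hg, act_mul, hx₁A]
      · rw [Q_act, Q_pairVec]
      · rintro ⟨⟨w, hw⟩, -⟩
        have hmem : pairVec F m (e.symm (Sum.inr 1)) ∈ LinearMap.range N₁ := by
          refine ⟨actHom m F g⁻¹ w, ?_⟩
          have h3 : actHom m F g (N₁ (actHom m F g⁻¹ w)) =
              actHom m F g (pairVec F m (e.symm (Sum.inr 1))) := by
            rw [← hw, hN₁x, hN₁x, map_sub, ← act_mul, hg, act_mul, hinv']
          have h4 := congrArg (actHom m F g⁻¹) h3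
          rwa [hinv, hinv] at h4
        rw [hN₁] at hmem
        have h5 := range_sub_one_le x₁ _ hdA' hx₁A hmem
        rw [← hx₀, hx₀rk, hx₁rk] at h5
        omega
    · rintro ⟨⟨hker, hQ⟩, hnot⟩
      have hnr : v ∉ LinearMap.range N₁ := fun hr => hnot ⟨hr, hQ⟩
      rw [hmemker₁] at hker
      rw [hN₁] at hnr
      rw [hx₁] at hker hnr
      obtain ⟨g, hg, hgv⟩ := trans_B e β βi hβ hβi hD hdB' v hQ hker hnr
      rw [← hx₁] at hg
      exact ⟨g, Subgroup.mem_centralizer_singleton_iff.mpr hg, hgv⟩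
  -- the three counts
  have hq0 : 0 < Fintype.card F := Fintype.card_pos
  have hnE := card_fiber (LinearMap.range N₀) _ hdA_mem₀ (Q_pairVec _) hrad₀
  rw [hrk₀] at hnE
  have hnK := card_fiber (LinearMap.ker N₁) (pairVec F m (e.symm (Sum.inr 0)))
    ((hmemker₁ _).mpr hx₁B) (Q_pairVec _) hrad₁
  rw [hker₁] at hnK
  have hnE' := card_fiber (LinearMap.range N₁) _ hdB_mem₁ (Q_pairVec _)
    (fun z hz => hrad₁ z (hrange_le hz))
  rw [hrk₁] at hnE'
  have hdiff := card_diff
    (fun v : Fin m ⊕ Fin m → F => v ∈ LinearMap.ker N₁ ∧ Cfsg.quadFormPlus m F v = 1)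
    (fun v => v ∈ LinearMap.range N₁ ∧ Cfsg.quadFormPlus m F v = 1)
    (fun v hv => ⟨hrange_le hv.1, hv.2⟩)
  have hE : Nat.card {v : Fin m ⊕ Fin m → F // v ∈ LinearMap.range N₀ ∧
      Cfsg.quadFormPlus m F v = 1} = Fintype.card F ^ (Fintype.card a + 1) := by
    apply Nat.eq_of_mul_eq_mul_right hq0
    rw [hnE, ← pow_succ]
  have hK : Nat.card {v : Fin m ⊕ Fin m → F // v ∈ LinearMap.ker N₁ ∧
      Cfsg.quadFormPlus m F v = 1} = Fintype.card F ^ (Fintype.card a + 2 * k + 2) := by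
    apply Nat.eq_of_mul_eq_mul_right hq0
    rw [hnK, ← pow_succ]
  have hE' : Nat.card {v : Fin m ⊕ Fin m → F // v ∈ LinearMap.range N₁ ∧
      Cfsg.quadFormPlus m F v = 1} = Fintype.card F ^ Fintype.card a := by
    apply Nat.eq_of_mul_eq_mul_right hq0
    rw [hnE', ← pow_succ]
  rw [hK, hE'] at hdiff
  have hA : Nat.card {v : Fin m ⊕ Fin m → F //
      (v ∈ LinearMap.ker N₁ ∧ Cfsg.quadFormPlus m F v = 1) ∧
        ¬ (v ∈ LinearMap.range N₁ ∧ Cfsg.quadFormPlus m F v = 1)} =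
      Fintype.card F ^ (Fintype.card a + 2 * k + 2) - Fintype.card F ^ Fintype.card a := by
    omega
  rw [Nat.card_congr (Equiv.subtypeEquivRight horb0), hE] at h0
  rw [Nat.card_congr (Equiv.subtypeEquivRight horb1), hA] at h1
  have hC1 := card_centralizer_refl_uS (k := k + 1) e β βi hβ hβi hD hdB'
  rw [← hx₁] at hC1
  rw [hΩ, h0, hstab, ← hC1, h1]
  ring

end finalC

end Cfsg.Agent.Helper36.InvCentOPlusC
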