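import Mathlib
import Cfsg.Agent.S2166
import Cfsg.Agent.Lib.Helper36.QuadInv
import Cfsg.Agent.Lib.Helper36.PlusOrth

set_option autoImplicit false

/-!
# Conjugacy of involutions of a characteristic-two orthogonal group, generically

The quadratic form `Q` lives on `ι → F`; its polar form `B` is identified with the standard
symplectic form on `Fin n ⊕ Fin n → F` through a linear equivalence `Ee`.  Involutions of the
isometry group with the same rank and the same type are conjugate.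
-/

namespace Cfsg.Agent.Helper36.InvConj

open Matrix Module Cfsg.Agent.Helper36 Cfsg.Agent.Helper36.QuadInv

universe u

variable {F : Type u} [Field F] [Fintype F] [CharP F 2] {ι : Type} [Fintype ι] [DecidableEq ι]
variable {Q : (ι → F) → F} {B : (ι → F) →ₗ[F] (ι → F) →ₗ[F] F} {n : ℕ}

/-- transport of an automorphism along a linear equivalence -/
noncomputable def tr (Ee : (ι → F) ≃ₗ[F] (Fin n ⊕ Fin n → F)) (S : (ι → F) ≃ₗ[F] (ι → F)) :
    (Fin n ⊕ Fin n → F) ≃ₗ[F] (Fin n ⊕ Fin n → F) :=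
  Ee.symm.trans (S.trans Ee)

omit [Fintype F] [CharP F 2] [Fintype ι] [DecidableEq ι] in
theorem tr_apply (Ee : (ι → F) ≃ₗ[F] (Fin n ⊕ Fin n → F)) (S : (ι → F) ≃ₗ[F] (ι → F))
    (v : Fin n ⊕ Fin n → F) : tr Ee S v = Ee (S (Ee.symm v)) := rfl

/-- the matrix of the transported automorphism -/
noncomputable def trM (Ee : (ι → F) ≃ₗ[F] (Fin n ⊕ Fin n → F)) (S : (ι → F) ≃ₗ[F] (ι → F)) :
    Matrix (Fin n ⊕ Fin n) (Fin n ⊕ Fin n) F :=
  LinearMap.toMatrix' (tr Ee S).toLinearMap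

omit [Fintype F] [CharP F 2] [Fintype ι] [DecidableEq ι] in
theorem trM_mulVec (Ee : (ι → F) ≃ₗ[F] (Fin n ⊕ Fin n → F)) (S : (ι → F) ≃ₗ[F] (ι → F))
    (v : Fin n ⊕ Fin n → F) : trM Ee S *ᵥ v = Ee (S (Ee.symm v)) := by
  unfold trM
  rw [LinearMap.toMatrix'_mulVec]
  rfl

omit [Fintype F] in
theorem trM_mem_sp (hQ : IsQuad Q B) (Ee : (ι → F) ≃ₗ[F] (Fin n ⊕ Fin n → F))
    (hE : ∀ u v, Cfsg.Agent.S2166.Hs n F (Ee u) (Ee v) = B u v) (s : OG F Q) :
    trM Ee (actHom Q s) ∈ Matrix.symplecticGroup (Fin n) F := by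
  apply Cfsg.Agent.Helper36.PlusOrth.mem_sp_of_preserves
  intro u v
  rw [trM_mulVec, trM_mulVec, hE, B_act hQ, ← hE, LinearEquiv.apply_symm_apply,
    LinearEquiv.apply_symm_apply]

omit [Fintype F] [CharP F 2] in
theorem trM_sq (Ee : (ι → F) ≃ₗ[F] (Fin n ⊕ Fin n → F)) (s : OG F Q) (hs : s * s = 1) :
    trM Ee (actHom Q s) * trM Ee (actHom Q s) = 1 := by
  unfold trM
  rw [← LinearMap.toMatrix'_comp, ← LinearMap.toMatrix'_id]
  congr 1
  apply LinearMap.ext
  intro v
  show tr Ee (actHom Q s) (tr Ee (actHom Q s) v) = v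
  rw [tr_apply, tr_apply, LinearEquiv.symm_apply_apply, act_act_of_sq s hs,
    LinearEquiv.apply_symm_apply]

omit [Fintype F] [CharP F 2] in
theorem rank_trM (Ee : (ι → F) ≃ₗ[F] (Fin n ⊕ Fin n → F)) (s : OG F Q) :
    (trM Ee (actHom Q s) - 1).rank = ((s.1 : Matrix ι ι F) - 1).rank := by
  rw [rank_eq s]
  have h1 : (trM Ee (actHom Q s) - 1).mulVecLin =
      Ee.toLinearMap ∘ₗ (((actHom Q s).toLinearMap - LinearMap.id) ∘ₗ Ee.symm.toLinearMap) := by
    apply LinearMap.ext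
    intro v
    rw [Matrix.mulVecLin_apply, Matrix.sub_mulVec, trM_mulVec, Matrix.one_mulVec]
    simp
  rw [Matrix.rank, h1, LinearMap.range_comp, LinearEquiv.range_comp]
  exact LinearEquiv.finrank_map_eq Ee _

omit [Fintype F] [CharP F 2] in
theorem type_trM (Ee : (ι → F) ≃ₗ[F] (Fin n ⊕ Fin n → F))
    (hE : ∀ u v, Cfsg.Agent.S2166.Hs n F (Ee u) (Ee v) = B u v) (s : OG F Q) :
    (∀ v, Cfsg.sympForm n F v (trM Ee (actHom Q s) *ᵥ v) = 0) ↔
      (∀ u, B u (actHom Q s u) = 0) := by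
  constructor
  · intro h u
    have h1 := h (Ee u)
    rw [trM_mulVec, LinearEquiv.symm_apply_apply, ← Cfsg.Agent.S2166.Hs_eq_sympForm, hE] at h1
    exact h1
  · intro h v
    rw [trM_mulVec, ← Cfsg.Agent.S2166.Hs_eq_sympForm]
    have h1 := h (Ee.symm v)
    rw [← hE, LinearEquiv.apply_symm_apply] at h1
    exact h1

/-- alternating-type involutions have even rank -/
theorem even_rank_of_alt (hQ : IsQuad Q B) (Ee : (ι → F) ≃ₗ[F] (Fin n ⊕ Fin n → F))
    (hE : ∀ u v, Cfsg.Agent.S2166.Hs n F (Ee u) (Ee v) = B u v) (s : OG F Q) (hs : s * s = 1)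
    (halt : ∀ u, B u (actHom Q s u) = 0) : Even ((s.1 : Matrix ι ι F) - 1).rank := by
  rw [← rank_trM Ee s]
  exact Cfsg.Agent.S2166.even_rank_of_alt _ (trM_mem_sp hQ Ee hE s) (trM_sq Ee s hs)
    ((type_trM Ee hE s).mpr halt)

/-- involutions of the same rank and type are conjugate in the isometry group -/
theorem conj_of_invariants (hQ : IsQuad Q B) (hnd : ∀ u, (∀ v, B u v = 0) → u = 0)
    (hcount : Nat.card {v : ι → F // Q v = 0} * Nat.card F ≠ Nat.card (ι → F))
    (Ee : (ι → F) ≃ₗ[F] (Fin n ⊕ Fin n → F))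
    (hE : ∀ u v, Cfsg.Agent.S2166.Hs n F (Ee u) (Ee v) = B u v)
    (s t : OG F Q) (hs : s * s = 1) (ht : t * t = 1)
    (hrank : ((s.1 : Matrix ι ι F) - 1).rank = ((t.1 : Matrix ι ι F) - 1).rank)
    (htype : (∀ v, B v (actHom Q s v) = 0) ↔ (∀ v, B v (actHom Q t v) = 0)) : IsConj s t := by
  obtain ⟨G, hG, hGAB⟩ := Cfsg.Agent.S2166.conj_of_data _ _ (trM_mem_sp hQ Ee hE s)
    (trM_sq Ee s hs) (trM_mem_sp hQ Ee hE t) (trM_sq Ee t ht)
    (by rw [rank_trM, rank_trM, hrank])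
    ((type_trM Ee hE s).trans (htype.trans (type_trM Ee hE t).symm))
  have hdet : IsUnit G.det := SymplecticGroup.symplectic_det hG
  have hGu : IsUnit G := (Matrix.isUnit_iff_isUnit_det G).mpr hdet
  obtain ⟨gg, hgg⟩ : ∃ gg : GL (Fin n ⊕ Fin n) F, gg = hGu.unit := ⟨_, rfl⟩
  have hgG : (gg : Matrix (Fin n ⊕ Fin n) (Fin n ⊕ Fin n) F) = G := by
    rw [hgg]; exact IsUnit.unit_spec hGu
  obtain ⟨G', hG'⟩ : ∃ G' : (Fin n ⊕ Fin n → F) ≃ₗ[F] (Fin n ⊕ Fin n → F),
      G' = glEquiv F (Fin n ⊕ Fin n) gg := ⟨_, rfl⟩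
  have hG'v : ∀ v, G' v = G *ᵥ v := by
    intro v
    rw [hG', glEquiv_apply, hgG]
  obtain ⟨g, hg⟩ : ∃ g : (ι → F) ≃ₗ[F] (ι → F), g = Ee.trans (G'.trans Ee.symm) := ⟨_, rfl⟩
  have hgv : ∀ v, g v = Ee.symm (G' (Ee v)) := by
    intro v
    rw [hg]
    rfl
  have hgB : ∀ u v, B (g u) (g v) = B u v := by
    intro u v
    rw [← hE, hgv, hgv, LinearEquiv.apply_symm_apply, LinearEquiv.apply_symm_apply, hG'v, hG'v,
      Cfsg.Agent.S2166.Hs_preserved G hG, hE]
  have hrel : ∀ v, g (actHom Q s v) = actHom Q t (g v) := by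
    intro v
    have h1 : (G * trM Ee (actHom Q s)) *ᵥ (Ee v) = (trM Ee (actHom Q t) * G) *ᵥ (Ee v) := by
      rw [hGAB]
    rw [← Matrix.mulVec_mulVec, ← Matrix.mulVec_mulVec, trM_mulVec, trM_mulVec,
      LinearEquiv.symm_apply_apply, ← hG'v, ← hG'v] at h1
    rw [hgv, hgv, h1, LinearEquiv.symm_apply_apply]
  have hconjQ : ∀ v, Q (g (actHom Q s (g.symm v))) = Q v := by
    intro v
    rw [hrel, LinearEquiv.apply_symm_apply]
    exact Q_act t v
  obtain ⟨k, hk1, hk2⟩ := exists_isometry_conj hQ hnd hcount (actHom Q s) g (Q_act s)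
    (act_act_of_sq s hs) hgB hconjQ
  apply isConj_iff.mpr
  refine ⟨mkO k hk1, ?_⟩
  rw [mul_inv_eq_iff_eq_mul]
  apply act_ext
  intro v
  rw [act_mul, act_mul, actHom_mkO, hk2, hrel, LinearEquiv.apply_symm_apply]

omit [Fintype F] in
/-- multiplying an involution by a commuting reflection, in a vector outside the image of
`t - 1`, raises the rank by one -/
theorem rank_refl_mul (hQ : IsQuad Q B) (t : OG F Q) (ht : t * t = 1) (a : ι → F)
    (ha : Q a ≠ 0) (hta : actHom Q t a = a) (v₁ : ι → F) (hv₁ : actHom Q t v₁ = v₁)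
    (hne : B a v₁ ≠ 0) :
    (refl hQ a ha * t) * (refl hQ a ha * t) = 1 ∧
      (((refl hQ a ha * t).1 : Matrix ι ι F) - 1).rank = ((t.1 : Matrix ι ι F) - 1).rank + 1 ∧
      ∀ x, B x (actHom Q (refl hQ a ha * t) x) =
        B x (actHom Q t x) + (Q a)⁻¹ * (B a x * B a x) := by
  have hBat : ∀ x, B a (actHom Q t x) = B a x := by
    intro x
    conv_lhs => rw [← hta]
    exact B_act hQ t a x
  have hcomm : refl hQ a ha * t = t * refl hQ a ha := by
    apply act_ext
    intro x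
    rw [act_mul, act_mul, act_refl, act_refl, map_add, map_smul, map_smul, hta, hBat]
  have hsq : (refl hQ a ha * t) * (refl hQ a ha * t) = 1 := by
    calc refl hQ a ha * t * (refl hQ a ha * t) = refl hQ a ha * (t * refl hQ a ha) * t := by group
      _ = refl hQ a ha * (refl hQ a ha * t) * t := by rw [hcomm]
      _ = (refl hQ a ha * refl hQ a ha) * (t * t) := by group
      _ = 1 := by rw [refl_mul_self, ht, mul_one]
  have hq : ∀ x, B x (actHom Q (refl hQ a ha * t) x) =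
      B x (actHom Q t x) + (Q a)⁻¹ * (B a x * B a x) := by
    intro x
    rw [act_mul, act_refl, map_add, map_smul, map_smul, hBat, smul_eq_mul,
      smul_eq_mul, hQ.symm x a]
  refine ⟨hsq, ?_, hq⟩
  have hv : B v₁ (actHom Q (refl hQ a ha * t) v₁) ≠ 0 := by
    rw [hq, hv₁, hQ.self, zero_add]
    exact mul_ne_zero (inv_ne_zero ha) (mul_ne_zero hne hne)
  obtain ⟨ha', _, hr⟩ := peel hQ (refl hQ a ha * t) hsq v₁ hv
  have hvec : actHom Q (refl hQ a ha * t) v₁ + v₁ = ((Q a)⁻¹ * B a v₁) • a := by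
    rw [act_mul, hv₁, act_refl, add_comm, ← add_assoc, vec_add_self F, zero_add, smul_smul]
  have hc : (Q a)⁻¹ * B a v₁ ≠ 0 := mul_ne_zero (inv_ne_zero ha) hne
  have hrefl : refl hQ (actHom Q (refl hQ a ha * t) v₁ + v₁) ha' = refl hQ a ha := by
    have ha'' : Q (((Q a)⁻¹ * B a v₁) • a) ≠ 0 := by rw [← hvec]; exact ha'
    have h1 : refl hQ (actHom Q (refl hQ a ha * t) v₁ + v₁) ha' =
        refl hQ (((Q a)⁻¹ * B a v₁) • a) ha'' := by
      congr 1
    rw [h1]
    exact refl_smul hQ a ha _ hc ha''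
  rw [hrefl, ← mul_assoc, refl_mul_self, one_mul] at hr
  exact hr.symm

omit [Fintype F] in
/-- the rank of an involution is at most half the dimension -/
theorem rank_le_half (t : OG F Q) (ht : t * t = 1) :
    2 * ((t.1 : Matrix ι ι F) - 1).rank ≤ Fintype.card ι := by
  have hTT : (t.1 : Matrix ι ι F) * (t.1 : Matrix ι ι F) = 1 := by
    have h' := congrArg (fun x : OG F Q => ((x : GL ι F) : Matrix ι ι F)) ht
    simpa using h'
  have h0 : ((t.1 : Matrix ι ι F) - 1) * ((t.1 : Matrix ι ι F) - 1) = 0 := by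
    rw [sub_mul, mul_sub, hTT, mul_one, one_mul]
    ext i j
    have := char_two_add_self ((1 : Matrix ι ι F) i j - (t.1 : Matrix ι ι F) i j)
    simp only [Matrix.sub_apply, Matrix.zero_apply]
    linear_combination this
  have := rank_add_rank_le_card_of_mul_eq_zero h0
  omega

omit [Fintype F] in
/-- the image of `t - 1` is totally singular for an alternating-type involution -/
theorem range_singular (hQ : IsQuad Q B) (t : OG F Q) (halt : ∀ u, B u (actHom Q t u) = 0) :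
    ∀ u ∈ LinearMap.range ((actHom Q t).toLinearMap - LinearMap.id), Q u = 0 := by
  rintro _ ⟨y, rfl⟩
  show Q (actHom Q t y - y) = 0
  rw [vsub_eq_add, hQ.add, Q_act t y, char_two_add_self, zero_add, hQ.symm]
  exact halt y

omit [Fintype F] in
/-- conjugate elements have the same rank and type -/
theorem invariants_of_conj (hQ : IsQuad Q B) (a b : OG F Q) (hconj : IsConj a b) :
    ((a.1 : Matrix ι ι F) - 1).rank = ((b.1 : Matrix ι ι F) - 1).rank ∧
    ((∀ v, B v (actHom Q a v) = 0) ↔ (∀ v, B v (actHom Q b v) = 0)) := by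
  obtain ⟨c, hc⟩ := isConj_iff.mp hconj
  have hb : ∀ v, actHom Q b v = actHom Q c (actHom Q a (actHom Q c⁻¹ v)) := by
    intro v
    rw [← hc, act_mul, act_mul]
  have hcc : ∀ v, actHom Q c (actHom Q c⁻¹ v) = v := by
    intro v
    rw [← act_mul, mul_inv_cancel, act_one]
  have hcc' : ∀ v, actHom Q c⁻¹ (actHom Q c v) = v := by
    intro v
    rw [← act_mul, inv_mul_cancel, act_one]
  constructor
  · rw [rank_eq a, rank_eq b]
    have h1 : (actHom Q b).toLinearMap - LinearMap.id =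
        (actHom Q c).toLinearMap ∘ₗ (((actHom Q a).toLinearMap - LinearMap.id) ∘ₗ
          (actHom Q c⁻¹).toLinearMap) := by
      apply LinearMap.ext
      intro v
      simp only [LinearMap.sub_apply, LinearMap.comp_apply, LinearEquiv.coe_coe,
        LinearMap.id_apply, map_sub]
      rw [hb, hcc]
    rw [h1, LinearMap.range_comp, LinearEquiv.range_comp]
    exact (LinearEquiv.finrank_map_eq (actHom Q c) _).symm
  · constructor
    · intro h v
      rw [hb]
      have h1 := h (actHom Q c⁻¹ v)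
      rw [← B_act hQ c, hcc] at h1
      exact h1
    · intro h v
      have h1 := h (actHom Q c v)
      rw [hb, hcc', B_act hQ c] at h1
      exact h1

end Cfsg.Agent.Helper36.InvConj
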