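import Mathlib
import Cfsg.Prelude.Def_JordanBlocks

/-!
# The centraliser of a unipotent Jordan matrix in `GL`

Helper library (helper36) for S2581.
-/

set_option autoImplicit false

namespace Cfsg.Agent.Helper36.JordanCent

open Matrix

section basic

variable {F : Type*} [Field F] {t : ℕ} (d : Fin t → ℕ)

/-- the index type -/
abbrev Idx := (k : Fin t) × Fin (d k)

variable {d}

theorem idx_ext_iff (x y : Idx d) : x = y ↔ x.1 = y.1 ∧ (x.2 : ℕ) = (y.2 : ℕ) := by
  constructor
  · rintro rfl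
    exact ⟨rfl, rfl⟩
  · rcases x with ⟨k, i⟩
    rcases y with ⟨k', j⟩
    rintro ⟨h1, h2⟩
    dsimp only at h1 h2
    subst h1
    congr
    exact Fin.ext h2

/-- the nilpotent part of the Jordan matrix -/
noncomputable def Nmat {t : ℕ} (d : Fin t → ℕ) (F : Type*) [Field F] :
    Matrix (Idx d) (Idx d) F := Cfsg.jordanTypeMatrix d F - 1

theorem Nmat_apply (x y : Idx d) :
    Nmat d F x y = if x.1 = y.1 ∧ (x.2 : ℕ) = (y.2 : ℕ) + 1 then 1 else 0 := by
  rcases x with ⟨k, i⟩
  rcases y with ⟨k', j⟩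
  unfold Nmat Cfsg.jordanTypeMatrix
  rw [Matrix.sub_apply]
  by_cases hk : k = k'
  · subst hk
    rw [blockDiagonal'_apply_eq, Matrix.one_apply]
    simp only [Cfsg.jordanBlock, Matrix.of_apply, Sigma.mk.injEq, heq_eq_eq, true_and]
    by_cases hij : i = j
    · subst hij
      simp
    · have h2 : (i : ℕ) ≠ (j : ℕ) := fun h => hij (Fin.ext h)
      simp [hij, h2]
  · rw [blockDiagonal'_apply_ne _ _ _ hk, Matrix.one_apply]
    have h2 : (⟨k, i⟩ : Idx d) ≠ ⟨k', j⟩ := by
      intro h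
      exact hk (congrArg Sigma.fst h)
    simp [h2, hk]

theorem jordan_eq : Cfsg.jordanTypeMatrix d F = Nmat d F + 1 := by
  unfold Nmat
  abel

theorem comm_iff (g : Matrix (Idx d) (Idx d) F) :
    g * Cfsg.jordanTypeMatrix d F = Cfsg.jordanTypeMatrix d F * g ↔
      g * Nmat d F = Nmat d F * g := by
  rw [jordan_eq, mul_add, add_mul, mul_one, one_mul, add_left_inj]

/-- the predecessor index -/
def pred (x : Idx d) : Idx d := ⟨x.1, ⟨(x.2 : ℕ) - 1, by have := x.2.2; omega⟩⟩

theorem N_mulVec (v : Idx d → F) (x : Idx d) :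
    (Nmat d F *ᵥ v) x = if 1 ≤ (x.2 : ℕ) then v (pred x) else 0 := by
  rw [Matrix.mulVec, dotProduct]
  split_ifs with h
  · rw [Finset.sum_eq_single (pred x)]
    · rw [Nmat_apply, if_pos, one_mul]
      refine ⟨rfl, ?_⟩
      simp only [pred]
      omega
    · intro y _ hy
      rw [Nmat_apply, if_neg, zero_mul]
      rintro ⟨h1, h2⟩
      apply hy
      rw [idx_ext_iff]
      refine ⟨h1.symm, ?_⟩
      simp only [pred]
      omega
    · intro h1
      exact absurd (Finset.mem_univ _) h1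
  · apply Finset.sum_eq_zero
    intro y _
    rw [Nmat_apply, if_neg, zero_mul]
    rintro ⟨-, h2⟩
    omega

/-- the `i`-fold predecessor -/
def predN (i : ℕ) (x : Idx d) : Idx d := ⟨x.1, ⟨(x.2 : ℕ) - i, by have := x.2.2; omega⟩⟩

theorem Npow_mulVec (i : ℕ) (v : Idx d → F) (x : Idx d) :
    ((Nmat d F) ^ i *ᵥ v) x = if i ≤ (x.2 : ℕ) then v (predN i x) else 0 := by
  induction i generalizing x with
  | zero =>
    rw [pow_zero, one_mulVec, if_pos (Nat.zero_le _)]
    rfl
  | succ i ih =>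
    rw [pow_succ', ← mulVec_mulVec, N_mulVec]
    by_cases h1 : 1 ≤ (x.2 : ℕ)
    · rw [if_pos h1, ih]
      have hp : ((pred x).2 : ℕ) = (x.2 : ℕ) - 1 := rfl
      by_cases h2 : i + 1 ≤ (x.2 : ℕ)
      · rw [if_pos h2, if_pos (by rw [hp]; omega)]
        congr 1
        rw [idx_ext_iff]
        refine ⟨rfl, ?_⟩
        simp only [predN, pred]
        omega
      · rw [if_neg h2, if_neg (by rw [hp]; omega)]
    · rw [if_neg h1, if_neg (by omega)]

/-- the basis vectors, indexed without dependent types -/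
def E (k : Fin t) (i : ℕ) : Idx d → F := fun x => if x.1 = k ∧ (x.2 : ℕ) = i then 1 else 0

theorem single_eq_E (y : Idx d) : (Pi.single y 1 : Idx d → F) = E y.1 y.2 := by
  funext x
  rw [Pi.single_apply]
  unfold E
  by_cases h : x = y
  · subst h
    simp
  · rw [if_neg h, if_neg]
    rintro ⟨h1, h2⟩
    exact h ((idx_ext_iff x y).mpr ⟨h1, h2⟩)

theorem N_mulVec_E (k : Fin t) (i : ℕ) : Nmat d F *ᵥ (E k i : Idx d → F) = E k (i + 1) := by
  funext x
  rw [N_mulVec]
  unfold E
  have hp : ((pred x).2 : ℕ) = (x.2 : ℕ) - 1 := rfl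
  have hp1 : (pred x).1 = x.1 := rfl
  rw [hp, hp1]
  by_cases h1 : 1 ≤ (x.2 : ℕ)
  · rw [if_pos h1]
    by_cases h2 : x.1 = k ∧ (x.2 : ℕ) = i + 1
    · rw [if_pos h2, if_pos ⟨h2.1, by omega⟩]
    · rw [if_neg h2, if_neg]
      rintro ⟨h3, h4⟩
      exact h2 ⟨h3, by omega⟩
  · rw [if_neg h1, if_neg]
    rintro ⟨-, h4⟩
    omega

theorem Npow_mulVec_E (k : Fin t) (i : ℕ) :
    (Nmat d F) ^ i *ᵥ (E k 0 : Idx d → F) = E k i := by
  induction i with
  | zero => rw [pow_zero, one_mulVec]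
  | succ i ih => rw [pow_succ', ← mulVec_mulVec, ih, N_mulVec_E]

theorem E_eq_zero (k : Fin t) (i : ℕ) (h : d k ≤ i) : (E k i : Idx d → F) = 0 := by
  funext x
  unfold E
  rw [if_neg]
  · rfl
  rcases x with ⟨k', j⟩
  rintro ⟨h1, h2⟩
  dsimp only at h1 h2
  subst h1
  have := j.2
  omega

end basic

section comm

variable {F : Type*} [Field F] {t : ℕ} {d : Fin t → ℕ}

theorem mulVec_single_apply (M : Matrix (Idx d) (Idx d) F) (j x : Idx d) :
    (M *ᵥ Pi.single j 1) x = M x j := by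
  simp

/-- the top index of a block -/
def top (hd : ∀ k, 1 ≤ d k) (k : Fin t) : Idx d := ⟨k, ⟨0, hd k⟩⟩

theorem top_injective (hd : ∀ k, 1 ≤ d k) : Function.Injective (top hd) := by
  intro k l h
  exact congrArg Sigma.fst h

theorem E_zero (hd : ∀ k, 1 ≤ d k) (k : Fin t) :
    (E k 0 : Idx d → F) = Pi.single (top hd k) 1 := by
  rw [single_eq_E]
  rfl

theorem mem_range_top (hd : ∀ k, 1 ≤ d k) (y : Idx d) :
    y ∈ Set.range (top hd) ↔ (y.2 : ℕ) = 0 := by
  constructor
  · rintro ⟨k, rfl⟩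
    rfl
  · intro h
    refine ⟨y.1, ?_⟩
    rw [idx_ext_iff]
    exact ⟨rfl, h.symm⟩

theorem mulVec_E_zero (hd : ∀ k, 1 ≤ d k) (g : Matrix (Idx d) (Idx d) F) (k : Fin t)
    (z : Idx d) : (g *ᵥ (E k 0 : Idx d → F)) z = g z (top hd k) := by
  rw [E_zero hd, mulVec_single_apply]

theorem col_of_comm (g : Matrix (Idx d) (Idx d) F) (hg : g * Nmat d F = Nmat d F * g)
    (k : Fin t) (i : ℕ) :
    g *ᵥ (E k i : Idx d → F) = (Nmat d F) ^ i *ᵥ (g *ᵥ (E k 0 : Idx d → F)) := by
  rw [← Npow_mulVec_E, mulVec_mulVec, mulVec_mulVec]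
  have h1 : Commute g (Nmat d F ^ i) := (show Commute g (Nmat d F) from hg).pow_right _
  rw [h1.eq]

theorem entry_of_comm (hd : ∀ k, 1 ≤ d k) (g : Matrix (Idx d) (Idx d) F)
    (hg : g * Nmat d F = Nmat d F * g) (x y : Idx d) :
    g x y = if (y.2 : ℕ) ≤ (x.2 : ℕ) then g (predN y.2 x) (top hd y.1) else 0 := by
  rw [← mulVec_single_apply g y x, single_eq_E, col_of_comm g hg, Npow_mulVec]
  split_ifs with h
  · rw [mulVec_E_zero hd]
  · rfl

theorem constraint_of_comm (hd : ∀ k, 1 ≤ d k) (g : Matrix (Idx d) (Idx d) F)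
    (hg : g * Nmat d F = Nmat d F * g) (k : Fin t) (x : Idx d)
    (hx : (x.2 : ℕ) + d k < d x.1) : g x (top hd k) = 0 := by
  have h1 : (Nmat d F) ^ (d k) *ᵥ (g *ᵥ (E k 0 : Idx d → F)) = 0 := by
    rw [← col_of_comm g hg, E_eq_zero k (d k) le_rfl, mulVec_zero]
  have h2 := congrFun h1 ⟨x.1, ⟨(x.2 : ℕ) + d k, hx⟩⟩
  rw [Npow_mulVec, if_pos (by simp), Pi.zero_apply, mulVec_E_zero hd] at h2
  have h3 : predN (d k) (⟨x.1, ⟨(x.2 : ℕ) + d k, hx⟩⟩ : Idx d) = x := by
    rw [idx_ext_iff]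
    refine ⟨rfl, ?_⟩
    simp [predN]
  rw [h3] at h2
  exact h2

/-- the matrix with prescribed top columns -/
noncomputable def mkG (w : Fin t → Idx d → F) : Matrix (Idx d) (Idx d) F :=
  Matrix.of fun x y => ((Nmat d F) ^ (y.2 : ℕ) *ᵥ w y.1) x

theorem mkG_mulVec_single (w : Fin t → Idx d → F) (y : Idx d) :
    mkG w *ᵥ Pi.single y 1 = (Nmat d F) ^ (y.2 : ℕ) *ᵥ w y.1 := by
  funext x
  rw [mulVec_single_apply]
  rfl

theorem Npow_constraint (w : Fin t → Idx d → F)
    (hw : ∀ k x, (x.2 : ℕ) + d k < d x.1 → w k x = 0) (k : Fin t) :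
    (Nmat d F) ^ (d k) *ᵥ w k = 0 := by
  funext x
  rw [Npow_mulVec, Pi.zero_apply]
  split_ifs with h
  · apply hw
    have := x.2.2
    simp only [predN]
    omega
  · rfl

theorem mkG_comm (w : Fin t → Idx d → F)
    (hw : ∀ k x, (x.2 : ℕ) + d k < d x.1 → w k x = 0) :
    mkG w * Nmat d F = Nmat d F * mkG w := by
  ext x y
  rw [← mulVec_single_apply (mkG w * Nmat d F) y x, ← mulVec_single_apply (Nmat d F * mkG w) y x]
  refine congrFun ?_ x
  rw [← mulVec_mulVec, ← mulVec_mulVec, mkG_mulVec_single, single_eq_E, N_mulVec_E, mulVec_mulVec,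
    ← pow_succ']
  by_cases h : (y.2 : ℕ) + 1 < d y.1
  · have h1 : (E y.1 ((y.2 : ℕ) + 1) : Idx d → F) =
        Pi.single (⟨y.1, ⟨(y.2 : ℕ) + 1, h⟩⟩ : Idx d) 1 := by
      rw [single_eq_E]
    rw [h1, mkG_mulVec_single]
  · have h1 : (y.2 : ℕ) + 1 = d y.1 := by
      have := y.2.2
      omega
    rw [E_eq_zero _ _ (by omega), mulVec_zero, h1, Npow_constraint w hw]

/-- matrices commuting with `N` are given by their top columns -/
noncomputable def commEquiv (hd : ∀ k, 1 ≤ d k) :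
    {g : Matrix (Idx d) (Idx d) F // g * Nmat d F = Nmat d F * g} ≃
      {w : Fin t → Idx d → F // ∀ k x, (x.2 : ℕ) + d k < d x.1 → w k x = 0} where
  toFun g := ⟨fun k z => g.1 z (top hd k), fun k x hx => constraint_of_comm hd g.1 g.2 k x hx⟩
  invFun w := ⟨mkG w.1, mkG_comm w.1 w.2⟩
  left_inv g := by
    apply Subtype.ext
    ext x y
    rw [entry_of_comm hd g.1 g.2 x y]
    change ((Nmat d F) ^ (y.2 : ℕ) *ᵥ fun z => g.1 z (top hd y.1)) x = _
    rw [Npow_mulVec]
  right_inv w := by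
    apply Subtype.ext
    funext k z
    change ((Nmat d F) ^ ((top hd k).2 : ℕ) *ᵥ w.1 (top hd k).1) z = _
    have h0 : ((top hd k).2 : ℕ) = 0 := rfl
    rw [h0, pow_zero, one_mulVec]
    rfl

/-- the matrix of top entries -/
def C0 (hd : ∀ k, 1 ≤ d k) (g : Matrix (Idx d) (Idx d) F) : Matrix (Fin t) (Fin t) F :=
  Matrix.of fun l k => g (top hd l) (top hd k)

theorem C0_one (hd : ∀ k, 1 ≤ d k) : C0 hd (1 : Matrix (Idx d) (Idx d) F) = 1 := by
  ext l k
  unfold C0
  rw [Matrix.of_apply, Matrix.one_apply, Matrix.one_apply]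
  by_cases h : l = k
  · subst h
    rw [if_pos rfl, if_pos rfl]
  · rw [if_neg h, if_neg]
    intro h2
    exact h (top_injective hd h2)

theorem top_row_zero (hd : ∀ k, 1 ≤ d k) (g : Matrix (Idx d) (Idx d) F)
    (hg : g * Nmat d F = Nmat d F * g) (l : Fin t) (y : Idx d) (hy : (y.2 : ℕ) ≠ 0) :
    g (top hd l) y = 0 := by
  rw [entry_of_comm hd g hg, if_neg]
  have : ((top hd l).2 : ℕ) = 0 := rfl
  omega

theorem C0_mul (hd : ∀ k, 1 ≤ d k) (g h : Matrix (Idx d) (Idx d) F)
    (hg : g * Nmat d F = Nmat d F * g) : C0 hd (g * h) = C0 hd g * C0 hd h := by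
  ext l k
  unfold C0
  rw [Matrix.of_apply, Matrix.mul_apply, Matrix.mul_apply]
  symm
  apply Fintype.sum_of_injective (top hd) (top_injective hd)
  · intro y hy
    rw [mem_range_top] at hy
    rw [top_row_zero hd g hg l y hy, zero_mul]
  · intro m
    rfl

theorem isUnit_C0_of_isUnit (hd : ∀ k, 1 ≤ d k) (g : Matrix (Idx d) (Idx d) F)
    (hg : g * Nmat d F = Nmat d F * g) (hu : IsUnit g.det) : IsUnit (C0 hd g).det := by
  have h1 : g * g⁻¹ = 1 := Matrix.mul_nonsing_inv g hu
  have h2 := C0_mul hd g g⁻¹ hg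
  rw [h1, C0_one] at h2
  exact Matrix.isUnit_det_of_right_inverse h2.symm

theorem exists_decomp (hd : ∀ k, 1 ≤ d k) (g : Matrix (Idx d) (Idx d) F)
    (hu : IsUnit (C0 hd g).det) (v : Idx d → F) :
    ∃ a b : Idx d → F, v = g *ᵥ a + Nmat d F *ᵥ b := by
  obtain ⟨c, hc⟩ : ∃ c, c = (C0 hd g)⁻¹ *ᵥ (fun l => v (top hd l)) := ⟨_, rfl⟩
  have hc2 : C0 hd g *ᵥ c = fun l => v (top hd l) := by
    rw [hc, mulVec_mulVec, Matrix.mul_nonsing_inv _ hu, one_mulVec]
  obtain ⟨a, ha⟩ : ∃ a : Idx d → F, a = fun y => if (y.2 : ℕ) = 0 then c y.1 else 0 := ⟨_, rfl⟩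
  have htop : ∀ l, (g *ᵥ a) (top hd l) = v (top hd l) := by
    intro l
    rw [← congrFun hc2 l, Matrix.mulVec, dotProduct, Matrix.mulVec, dotProduct]
    symm
    apply Fintype.sum_of_injective (top hd) (top_injective hd)
    · intro y hy
      rw [mem_range_top] at hy
      rw [ha]
      dsimp only
      rw [if_neg hy, mul_zero]
    · intro m
      rw [ha]
      dsimp only
      have h0 : ((top hd m).2 : ℕ) = 0 := rfl
      rw [if_pos h0]
      rfl
  obtain ⟨v', hv'⟩ : ∃ v', v' = v - g *ᵥ a := ⟨_, rfl⟩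
  have hv'top : ∀ x : Idx d, (x.2 : ℕ) = 0 → v' x = 0 := by
    intro x hx
    obtain ⟨l, rfl⟩ := (mem_range_top hd x).mpr hx
    rw [hv', Pi.sub_apply, htop, sub_self]
  refine ⟨a, fun x => if h : (x.2 : ℕ) + 1 < d x.1 then v' ⟨x.1, ⟨(x.2 : ℕ) + 1, h⟩⟩ else 0, ?_⟩
  have h3 : v = g *ᵥ a + v' := by
    rw [hv']
    abel
  rw [h3]
  congr 1
  funext x
  rw [N_mulVec]
  by_cases h1 : 1 ≤ (x.2 : ℕ)
  · rw [if_pos h1]
    have hp : ((pred x).2 : ℕ) = (x.2 : ℕ) - 1 := rfl
    have hp1 : (pred x).1 = x.1 := rfl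
    have h4 : ((pred x).2 : ℕ) + 1 < d (pred x).1 := by
      have := x.2.2
      rw [hp, hp1]
      omega
    rw [dif_pos h4]
    congr 1
    rw [idx_ext_iff]
    refine ⟨rfl, ?_⟩
    dsimp only
    rw [hp]
    omega
  · rw [if_neg h1]
    exact hv'top x (by omega)

theorem exists_decomp_pow (hd : ∀ k, 1 ≤ d k) (g : Matrix (Idx d) (Idx d) F)
    (hg : g * Nmat d F = Nmat d F * g) (hu : IsUnit (C0 hd g).det) (j : ℕ) (v : Idx d → F) :
    ∃ a b : Idx d → F, v = g *ᵥ a + (Nmat d F) ^ j *ᵥ b := by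
  induction j with
  | zero => exact ⟨0, v, by rw [mulVec_zero, zero_add, pow_zero, one_mulVec]⟩
  | succ j ih =>
    obtain ⟨a, b, hab⟩ := ih
    obtain ⟨a', b', hab'⟩ := exists_decomp hd g hu b
    refine ⟨a + (Nmat d F) ^ j *ᵥ a', b', ?_⟩
    have h1 : Commute g (Nmat d F ^ j) := (show Commute g (Nmat d F) from hg).pow_right _
    rw [hab, hab', mulVec_add, mulVec_add, mulVec_mulVec, mulVec_mulVec, mulVec_mulVec, h1.eq,
      pow_succ]
    abel

theorem isUnit_of_isUnit_C0 (hd : ∀ k, 1 ≤ d k) (g : Matrix (Idx d) (Idx d) F)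
    (hg : g * Nmat d F = Nmat d F * g) (hu : IsUnit (C0 hd g).det) : IsUnit g.det := by
  rw [← Matrix.isUnit_iff_isUnit_det, ← Matrix.mulVec_surjective_iff_isUnit]
  intro v
  obtain ⟨a, b, hab⟩ := exists_decomp_pow hd g hg hu (Finset.univ.sup d) v
  refine ⟨a, ?_⟩
  have h0 : (Nmat d F) ^ (Finset.univ.sup d) *ᵥ b = 0 := by
    funext x
    rw [Npow_mulVec, if_neg, Pi.zero_apply]
    have h1 := x.2.2
    have h2 : d x.1 ≤ Finset.univ.sup d := Finset.le_sup (Finset.mem_univ x.1)
    omega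
  rw [hab, h0, add_zero]

theorem isUnit_iff_isUnit_C0 (hd : ∀ k, 1 ≤ d k) (g : Matrix (Idx d) (Idx d) F)
    (hg : g * Nmat d F = Nmat d F * g) : IsUnit g.det ↔ IsUnit (C0 hd g).det :=
  ⟨isUnit_C0_of_isUnit hd g hg, isUnit_of_isUnit_C0 hd g hg⟩

end comm

section generic

variable {F : Type*} [Field F] [Fintype F]

/-- `GL` with a predicate as a subtype of matrices -/
noncomputable def glEquivSubtype {n : Type*} [Fintype n] [DecidableEq n]
    (p : Matrix n n F → Prop) :
    {g : GL n F // p (g : Matrix n n F)} ≃ {g : Matrix n n F // p g ∧ IsUnit g.det} where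
  toFun g := ⟨g.1.1, g.2, (Matrix.isUnit_iff_isUnit_det _).mp g.1.isUnit⟩
  invFun g := ⟨((Matrix.isUnit_iff_isUnit_det _).mpr g.2.2).unit, by
    rw [IsUnit.unit_spec]
    exact g.2.1⟩
  left_inv g := by
    apply Subtype.ext
    apply Units.ext
    exact IsUnit.unit_spec _
  right_inv g := by
    apply Subtype.ext
    exact IsUnit.unit_spec ((Matrix.isUnit_iff_isUnit_det _).mpr g.2.2)

/-- the order of `GL` over an arbitrary finite index type, as matrices with unit determinant -/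
theorem card_unit_det (n : Type*) [Fintype n] [DecidableEq n] :
    Nat.card {A : Matrix n n F // IsUnit A.det} =
      ∏ j : Fin (Fintype.card n), (Fintype.card F ^ Fintype.card n - Fintype.card F ^ (j : ℕ)) := by
  rw [← Matrix.card_GL_field]
  have e : n ≃ Fin (Fintype.card n) := Fintype.equivFin n
  have e1 : {A : Matrix n n F // IsUnit A.det} ≃
      {A : Matrix (Fin (Fintype.card n)) (Fin (Fintype.card n)) F // True ∧ IsUnit A.det} :=
    (Matrix.reindex e e).subtypeEquiv (fun A => by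
      rw [Matrix.det_reindex_self, true_and])
  have e2 := glEquivSubtype (F := F) (n := Fin (Fintype.card n)) (fun _ => True)
  have e3 : {g : GL (Fin (Fintype.card n)) F // True} ≃ GL (Fin (Fintype.card n)) F :=
    Equiv.subtypeUnivEquiv (fun _ => trivial)
  exact Nat.card_congr (e1.trans (e2.symm.trans e3))

theorem sum_range_ite_le (n c : ℕ) :
    ∑ j ∈ Finset.range n, (if c ≤ j then 1 else 0) = n - c := by
  induction n with
  | zero => simp
  | succ n ih =>
    rw [Finset.sum_range_succ, ih]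
    split_ifs <;> omega

/-- the number of free positions in a pair of blocks -/
def fpos (n m : ℕ) : ℕ := if n < m then n else if m < n then m else n - 1

theorem sum_fin_cond (n m : ℕ) (hm : 1 ≤ m) :
    ∑ j : Fin n, (if n ≤ (j : ℕ) + m ∧ ¬ ((j : ℕ) = 0 ∧ m = n) then 1 else 0) = fpos n m := by
  rw [Fin.sum_univ_eq_sum_range (fun j => if n ≤ j + m ∧ ¬ (j = 0 ∧ m = n) then 1 else 0) n]
  unfold fpos
  rcases lt_trichotomy n m with h | h | h
  · rw [if_pos h]
    have h1 : ∀ j ∈ Finset.range n, (if n ≤ j + m ∧ ¬ (j = 0 ∧ m = n) then 1 else 0) =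
        (if 0 ≤ j then 1 else 0) := by
      intro j _
      rw [if_pos (Nat.zero_le j), if_pos]
      exact ⟨by omega, by omega⟩
    rw [Finset.sum_congr rfl h1, sum_range_ite_le]
    omega
  · subst h
    rw [if_neg (lt_irrefl _), if_neg (lt_irrefl _)]
    have h1 : ∀ j ∈ Finset.range n, (if n ≤ j + n ∧ ¬ (j = 0 ∧ n = n) then 1 else 0) =
        (if 1 ≤ j then 1 else 0) := by
      intro j _
      by_cases hj : 1 ≤ j
      · rw [if_pos hj, if_pos]
        exact ⟨by omega, by omega⟩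
      · rw [if_neg hj, if_neg]
        rintro ⟨-, h2⟩
        exact h2 ⟨by omega, rfl⟩
    rw [Finset.sum_congr rfl h1, sum_range_ite_le]
  · rw [if_neg (by omega), if_pos h]
    have h1 : ∀ j ∈ Finset.range n, (if n ≤ j + m ∧ ¬ (j = 0 ∧ m = n) then 1 else 0) =
        (if n - m ≤ j then 1 else 0) := by
      intro j _
      by_cases hj : n - m ≤ j
      · rw [if_pos hj, if_pos]
        exact ⟨by omega, by omega⟩
      · rw [if_neg hj, if_neg]
        rintro ⟨h2, -⟩
        omega
    rw [Finset.sum_congr rfl h1, sum_range_ite_le]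
    omega

end generic

section fiber

variable {t : ℕ} (d : Fin t → ℕ)

/-- the number of blocks of size `i` -/
def mult (i : ℕ) : ℕ := (Finset.univ.filter (fun k : Fin t => d k = i)).card

theorem sum_fiber (φ : ℕ → ℕ) :
    ∑ k : Fin t, φ (d k) = ∑ i ∈ Finset.range (Finset.univ.sup d + 1), mult d i * φ i := by
  have h : ∀ k ∈ (Finset.univ : Finset (Fin t)), d k ∈ Finset.range (Finset.univ.sup d + 1) := by
    intro k _
    rw [Finset.mem_range]
    exact Nat.lt_succ_of_le (Finset.le_sup (Finset.mem_univ k))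
  rw [← Finset.sum_fiberwise_of_maps_to' h φ]
  apply Finset.sum_congr rfl
  intro i _
  rw [Finset.sum_const, smul_eq_mul]
  rfl

theorem sum_fpos :
    ∑ k : Fin t, ∑ l : Fin t, fpos (d l) (d k) =
      2 * (∑ i ∈ Finset.range (Finset.univ.sup d + 1),
        ∑ j ∈ Finset.range (Finset.univ.sup d + 1),
          if i < j then i * mult d i * mult d j else 0) +
      ∑ i ∈ Finset.range (Finset.univ.sup d + 1), (i - 1) * mult d i ^ 2 := by
  have h1 : ∀ k : Fin t, ∑ l : Fin t, fpos (d l) (d k) =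
      ∑ j ∈ Finset.range (Finset.univ.sup d + 1), mult d j * fpos j (d k) := fun k =>
    sum_fiber d (fun n => fpos n (d k))
  rw [Finset.sum_congr rfl (fun k _ => h1 k)]
  rw [sum_fiber d (fun n => ∑ j ∈ Finset.range (Finset.univ.sup d + 1), mult d j * fpos j n)]
  have h2 : ∀ i j : ℕ, mult d i * (mult d j * fpos j i) =
      (if j < i then j * mult d j * mult d i else 0) +
        (if i < j then i * mult d i * mult d j else 0) +
          (if i = j then (i - 1) * mult d i ^ 2 else 0) := by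
    intro i j
    unfold fpos
    rcases lt_trichotomy i j with h | h | h
    · rw [if_neg (by omega), if_pos h, if_neg (by omega), if_pos h, if_neg (by omega)]
      ring
    · subst h
      rw [if_neg (lt_irrefl _), if_neg (lt_irrefl _), if_neg (lt_irrefl _), if_pos rfl]
      ring
    · rw [if_pos h, if_pos h, if_neg (by omega), if_neg (by omega)]
      ring
  have h3 : ∀ i ∈ Finset.range (Finset.univ.sup d + 1),
      mult d i * ∑ j ∈ Finset.range (Finset.univ.sup d + 1), mult d j * fpos j i =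
      ∑ j ∈ Finset.range (Finset.univ.sup d + 1),
        ((if j < i then j * mult d j * mult d i else 0) +
          (if i < j then i * mult d i * mult d j else 0) +
            (if i = j then (i - 1) * mult d i ^ 2 else 0)) := by
    intro i _
    rw [Finset.mul_sum]
    exact Finset.sum_congr rfl (fun j _ => h2 i j)
  rw [Finset.sum_congr rfl h3]
  simp only [Finset.sum_add_distrib]
  have h4 : ∑ i ∈ Finset.range (Finset.univ.sup d + 1),
      ∑ j ∈ Finset.range (Finset.univ.sup d + 1),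
        (if j < i then j * mult d j * mult d i else 0) =
      ∑ i ∈ Finset.range (Finset.univ.sup d + 1),
        ∑ j ∈ Finset.range (Finset.univ.sup d + 1),
          (if i < j then i * mult d i * mult d j else 0) := Finset.sum_comm
  have h5 : ∑ i ∈ Finset.range (Finset.univ.sup d + 1),
      ∑ j ∈ Finset.range (Finset.univ.sup d + 1),
        (if i = j then (i - 1) * mult d i ^ 2 else 0) =
      ∑ i ∈ Finset.range (Finset.univ.sup d + 1), (i - 1) * mult d i ^ 2 := by
    apply Finset.sum_congr rfl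
    intro i hi
    rw [Finset.sum_ite_eq, if_pos hi]
  rw [h4, h5]
  ring

end fiber

section count

variable {F : Type*} [Field F] {t : ℕ} {d : Fin t → ℕ}

/-- block sizes as elements of a finite type -/
def bd (d : Fin t → ℕ) (k : Fin t) : Fin (Finset.univ.sup d + 1) :=
  ⟨d k, Nat.lt_succ_of_le (Finset.le_sup (Finset.mem_univ k))⟩

theorem bd_eq_iff (k l : Fin t) : bd d k = bd d l ↔ d k = d l := by
  constructor
  · intro h
    exact congrArg Fin.val h
  · intro h
    exact Fin.ext h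

/-- the top-entries matrix of a parameter -/
def C0' (hd : ∀ k, 1 ≤ d k) (w : Fin t → Idx d → F) : Matrix (Fin t) (Fin t) F :=
  Matrix.of fun l k => w k (top hd l)

theorem C0'_blockTriangular (hd : ∀ k, 1 ≤ d k) (w : Fin t → Idx d → F)
    (hw : ∀ k x, (x.2 : ℕ) + d k < d x.1 → w k x = 0) :
    (C0' hd w).BlockTriangular (bd d) := by
  intro l k hlk
  apply hw
  have h1 : d k < d l := hlk
  have h2 : ((top hd l).2 : ℕ) = 0 := rfl
  have h3 : (top hd l).1 = l := rfl
  rw [h2, h3]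
  omega

theorem isUnit_det_iff_blocks (C : Matrix (Fin t) (Fin t) F)
    (hC : C.BlockTriangular (bd d)) :
    IsUnit C.det ↔ ∀ a, IsUnit (C.toSquareBlock (bd d) a).det := by
  rw [hC.det_fintype, isUnit_iff_ne_zero, Finset.prod_ne_zero_iff]
  constructor
  · intro h a
    exact isUnit_iff_ne_zero.mpr (h a (Finset.mem_univ a))
  · intro h a _
    exact isUnit_iff_ne_zero.mp (h a)

/-- the free positions -/
abbrev Pos (d : Fin t → ℕ) :=
  {p : Fin t × Idx d // d p.2.1 ≤ (p.2.2 : ℕ) + d p.1 ∧ ¬ ((p.2.2 : ℕ) = 0 ∧ d p.1 = d p.2.1)}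

/-- assemble a parameter from diagonal blocks and free entries -/
noncomputable def assemble
    (A : ∀ a : Fin (Finset.univ.sup d + 1), Matrix {k // bd d k = a} {k // bd d k = a} F)
    (r : Pos d → F) : Fin t → Idx d → F := fun k x =>
  if h1 : d x.1 ≤ (x.2 : ℕ) + d k then
    (if h2 : (x.2 : ℕ) = 0 ∧ d k = d x.1 then
      A (bd d k) ⟨x.1, (bd_eq_iff x.1 k).mpr h2.2.symm⟩ ⟨k, rfl⟩
    else r ⟨(k, x), h1, h2⟩)
  else 0

theorem assemble_constraint
    (A : ∀ a : Fin (Finset.univ.sup d + 1), Matrix {k // bd d k = a} {k // bd d k = a} F)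
    (r : Pos d → F) (k : Fin t) (x : Idx d) (hx : (x.2 : ℕ) + d k < d x.1) :
    assemble A r k x = 0 := by
  unfold assemble
  rw [dif_neg (by omega)]

theorem C0'_assemble_block (hd : ∀ k, 1 ≤ d k)
    (A : ∀ a : Fin (Finset.univ.sup d + 1), Matrix {k // bd d k = a} {k // bd d k = a} F)
    (r : Pos d → F) (a : Fin (Finset.univ.sup d + 1)) :
    (C0' hd (assemble A r)).toSquareBlock (bd d) a = A a := by
  ext ⟨l, hl⟩ ⟨k, hk⟩
  subst hk
  rw [Matrix.toSquareBlock_def, Matrix.of_apply]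
  show assemble A r k (top hd l) = _
  unfold assemble
  have h2 : ((top hd l).2 : ℕ) = 0 := rfl
  have h3 : (top hd l).1 = l := rfl
  have h4 : d l = d k := (bd_eq_iff l k).mp hl
  have h1 : d (top hd l).1 ≤ ((top hd l).2 : ℕ) + d k := by
    rw [h2, h3]
    omega
  have h5 : ((top hd l).2 : ℕ) = 0 ∧ d k = d (top hd l).1 := ⟨h2, by rw [h3]; exact h4.symm⟩
  rw [dif_pos h1, dif_pos h5]
  rfl

/-- parameters with invertible top matrix: diagonal blocks and free entries -/
noncomputable def parEquiv (hd : ∀ k, 1 ≤ d k) :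
    {w : {w : Fin t → Idx d → F // ∀ k x, (x.2 : ℕ) + d k < d x.1 → w k x = 0} //
        IsUnit (C0' hd w.1).det} ≃
      ((a : Fin (Finset.univ.sup d + 1)) →
        {A : Matrix {k // bd d k = a} {k // bd d k = a} F // IsUnit A.det}) × (Pos d → F) where
  toFun w := (fun a => ⟨(C0' hd w.1.1).toSquareBlock (bd d) a,
    (isUnit_det_iff_blocks _ (C0'_blockTriangular hd w.1.1 w.1.2)).mp w.2 a⟩,
    fun p => w.1.1 p.1.1 p.1.2)
  invFun Ar := ⟨⟨assemble (fun a => (Ar.1 a).1) Ar.2, assemble_constraint _ _⟩, by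
    rw [isUnit_det_iff_blocks _ (C0'_blockTriangular hd _ (assemble_constraint _ _))]
    intro a
    rw [C0'_assemble_block]
    exact (Ar.1 a).2⟩
  left_inv w := by
    apply Subtype.ext
    apply Subtype.ext
    funext k x
    show assemble (fun a => (C0' hd w.1.1).toSquareBlock (bd d) a)
      (fun p => w.1.1 p.1.1 p.1.2) k x = w.1.1 k x
    unfold assemble
    by_cases h1 : d x.1 ≤ (x.2 : ℕ) + d k
    · rw [dif_pos h1]
      by_cases h2 : (x.2 : ℕ) = 0 ∧ d k = d x.1
      · rw [dif_pos h2]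
        show w.1.1 k (top hd x.1) = w.1.1 k x
        have hx : top hd x.1 = x := by
          rw [idx_ext_iff]
          exact ⟨rfl, h2.1.symm⟩
        rw [hx]
      · rw [dif_neg h2]
    · rw [dif_neg h1]
      exact (w.1.2 k x (by omega)).symm
  right_inv Ar := by
    rcases Ar with ⟨A, r⟩
    apply Prod.ext
    · funext a
      apply Subtype.ext
      exact C0'_assemble_block hd (fun a => (A a).1) r a
    · funext p
      rcases p with ⟨⟨k, x⟩, h1, h2⟩
      show assemble (fun a => (A a).1) r k x = r ⟨(k, x), h1, h2⟩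
      unfold assemble
      rw [dif_pos h1, dif_neg h2]

variable [Fintype F]

theorem card_block (a : Fin (Finset.univ.sup d + 1)) :
    Nat.card {A : Matrix {k // bd d k = a} {k // bd d k = a} F // IsUnit A.det} =
      ∏ j : Fin (mult d a), (Fintype.card F ^ mult d a - Fintype.card F ^ (j : ℕ)) := by
  rw [card_unit_det]
  have h : Fintype.card {k // bd d k = a} = mult d a := by
    rw [Fintype.card_subtype]
    unfold mult
    congr 1
    apply Finset.filter_congr
    intro k _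
    constructor
    · intro h
      exact congrArg Fin.val h
    · intro h
      exact Fin.ext h
  rw [h]

theorem card_Pos (hd : ∀ k, 1 ≤ d k) :
    Nat.card (Pos d) = ∑ k : Fin t, ∑ l : Fin t, fpos (d l) (d k) := by
  classical
  rw [Nat.card_eq_fintype_card, Fintype.card_subtype, Finset.card_filter, Fintype.sum_prod_type]
  apply Finset.sum_congr rfl
  intro k _
  rw [Fintype.sum_sigma]
  apply Finset.sum_congr rfl
  intro l _
  exact sum_fin_cond (d l) (d k) (hd k)

/-- the order of the centraliser of the Jordan matrix -/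
theorem card_centralizer (hd : ∀ k, 1 ≤ d k) :
    Nat.card {g : GL (Idx d) F // (g : Matrix (Idx d) (Idx d) F) * Cfsg.jordanTypeMatrix d F =
        Cfsg.jordanTypeMatrix d F * (g : Matrix (Idx d) (Idx d) F)} =
      Fintype.card F ^ (2 * (∑ i ∈ Finset.range (Finset.univ.sup d + 1),
        ∑ j ∈ Finset.range (Finset.univ.sup d + 1),
          if i < j then i * mult d i * mult d j else 0) +
        ∑ i ∈ Finset.range (Finset.univ.sup d + 1), (i - 1) * mult d i ^ 2) *
      ∏ i ∈ Finset.range (Finset.univ.sup d + 1),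
        ∏ j : Fin (mult d i), (Fintype.card F ^ mult d i - Fintype.card F ^ (j : ℕ)) := by
  classical
  have e1 := glEquivSubtype (F := F) (n := Idx d)
    (fun g => g * Cfsg.jordanTypeMatrix d F = Cfsg.jordanTypeMatrix d F * g)
  have e2 : {g : Matrix (Idx d) (Idx d) F //
        g * Cfsg.jordanTypeMatrix d F = Cfsg.jordanTypeMatrix d F * g ∧ IsUnit g.det} ≃
      {g : Matrix (Idx d) (Idx d) F //
        g * Nmat d F = Nmat d F * g ∧ IsUnit (C0 hd g).det} :=
    Equiv.subtypeEquivRight (fun g => by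
      rw [comm_iff]
      constructor
      · rintro ⟨h1, h2⟩
        exact ⟨h1, (isUnit_iff_isUnit_C0 hd g h1).mp h2⟩
      · rintro ⟨h1, h2⟩
        exact ⟨h1, (isUnit_iff_isUnit_C0 hd g h1).mpr h2⟩)
  have e3 : {g : Matrix (Idx d) (Idx d) F //
        g * Nmat d F = Nmat d F * g ∧ IsUnit (C0 hd g).det} ≃
      {g : {g : Matrix (Idx d) (Idx d) F // g * Nmat d F = Nmat d F * g} //
        IsUnit (C0 hd g.1).det} :=
    (Equiv.subtypeSubtypeEquivSubtypeInter _ _).symm
  have e4 : {g : {g : Matrix (Idx d) (Idx d) F // g * Nmat d F = Nmat d F * g} //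
        IsUnit (C0 hd g.1).det} ≃
      {w : {w : Fin t → Idx d → F // ∀ k x, (x.2 : ℕ) + d k < d x.1 → w k x = 0} //
        IsUnit (C0' hd w.1).det} :=
    (commEquiv hd).subtypeEquiv (fun g => Iff.rfl)
  rw [Nat.card_congr (e1.trans (e2.trans (e3.trans (e4.trans (parEquiv hd))))), Nat.card_prod,
    Nat.card_pi, Nat.card_fun, Nat.card_eq_fintype_card (α := F), card_Pos hd, sum_fpos, mul_comm]
  congr 1
  rw [Finset.prod_congr rfl (fun a _ => card_block a)]
  exact Fin.prod_univ_eq_prod_range (fun i => ∏ j : Fin (mult d i),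
    (Fintype.card F ^ mult d i - Fintype.card F ^ (j : ℕ))) (Finset.univ.sup d + 1)

end count

end Cfsg.Agent.Helper36.JordanCent
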