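import Cfsg.Agent.Lib.Helper6.TwistCore

/-!
# Trivial core of `B ⊓ G1`: a variant of `Cfsg.Agent.Helper6.Twist.core_trivial` (the first half of
the proof is taken from there) in which the separation of the character on the fundamental roots
is a hypothesis.
-/

set_option autoImplicit false
set_option linter.unusedSectionVars false

namespace Cfsg.Agent.Helper36.Ree

open Cfsg.Lie Cfsg.Agent.Helper18 Cfsg.Agent.Helper17 Cfsg.Agent.Helper6.Chev Cfsg.Agent.S1043
open Cfsg.Agent.Helper6.Twist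
open scoped Pointwise

section Core

variable {F : Type*} [Field F] (D : ChevalleyDatum) (hD : Good D) {tbl : List ℕ}
  (hT : TorusData D tbl) {η : ℕ → ℕ → ℤ} (h : NData F D η)

include hD hT h in
/-- **the normal core of `B ⊓ G1` in `G1` is trivial** -/
theorem core_trivial_sep (hTri : TriOK D) (hNeg : NegTriOK D)
    (hcart : ∀ i < D.rank, ∀ i' < D.rank, ∀ s < D.nroots,
      D.cartan i' (D.reflectRoot i s) = D.cartan i' s - D.cartan i s * D.cartan i' (D.simple i))
    (G1 : Subgroup (GL D.Idx F))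
    (n0 : GL D.Idx F) (hn0N : n0 ∈ D.monomialSubgroup F) (hn0G : n0 ∈ G1)
    (hn0U : (D.posUnipotent F).map (MulAut.conj n0).toMonoidHom = D.negUnipotent F)
    (hsepG : ∀ (k : GL D.Idx F) (c : ℕ → F), (∀ i, c i ≠ 0) →
      (k : Matrix D.Idx D.Idx F) = torMat D c →
      (∀ g ∈ G1, g ∈ D.posUnipotent F → k * g * k⁻¹ = g) →
      ∀ j < D.rank, chi D c (D.simple j) = 1) :
    ((D.borelSubgroup F ⊓ G1).subgroupOf G1).normalCore = ⊥ := by
  have hnorm : ((D.diagonalSubgroup F).subgroupOf (D.monomialSubgroup F)).Normal :=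
    diagonal_normal_in_monomial h
  have hNH : D.monomialSubgroup F ≤ Subgroup.normalizer (D.diagonalSubgroup F : Set (GL D.Idx F)) :=
    Subgroup.le_normalizer_of_normal_subgroupOf le_sup_left
  have hB : ((D.borelSubgroup F : Subgroup (GL D.Idx F)) : Set (GL D.Idx F)) =
      (D.posUnipotent F : Set (GL D.Idx F)) * (D.diagonalSubgroup F : Set (GL D.Idx F)) :=
    Subgroup.coe_mul_of_right_le_normalizer_left _ _ (diag_le_normalizer D hT)
  -- an element all of whose `G1`-conjugates lie in `B` lies in `H`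
  have key : ∀ k : GL D.Idx F, (∀ g ∈ G1, g * k * g⁻¹ ∈ D.borelSubgroup F) →
      k ∈ D.diagonalSubgroup F := by
    intro k hk
    have hkB : k ∈ D.borelSubgroup F := by
      have := hk 1 (Subgroup.one_mem _)
      simpa using this
    have h1 : n0⁻¹ * k * n0⁻¹⁻¹ ∈ D.borelSubgroup F := hk n0⁻¹ (Subgroup.inv_mem _ hn0G)
    have h1' : n0⁻¹ * k * n0⁻¹⁻¹ ∈ ((D.borelSubgroup F : Subgroup (GL D.Idx F)) : Set (GL D.Idx F)) := h1
    rw [hB] at h1'
    obtain ⟨u, hu, h', hh', e⟩ := h1'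
    have e' : u * h' = n0⁻¹ * k * n0⁻¹⁻¹ := e
    have hv : n0 * u * n0⁻¹ ∈ D.negUnipotent F := by
      rw [← hn0U]
      exact Subgroup.mem_map.mpr ⟨u, hu, rfl⟩
    have hh'' : n0 * h' * n0⁻¹ ∈ D.diagonalSubgroup F :=
      ((Subgroup.mem_normalizer_iff.mp (hNH hn0N)) h').mp hh'
    have ek : k = (n0 * u * n0⁻¹) * (n0 * h' * n0⁻¹) := by
      have : k = n0 * (n0⁻¹ * k * n0⁻¹⁻¹) * n0⁻¹ := by group
      rw [this, ← e']
      group
    have hkVH : k ∈ D.negUnipotent F ⊔ D.diagonalSubgroup F := by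
      rw [ek]
      exact Subgroup.mul_mem _ (Subgroup.mem_sup_left hv) (Subgroup.mem_sup_right hh'')
    have := (borel_inf_neg (F := F) D hT hTri hNeg).2
    rw [← this]
    exact Subgroup.mem_inf.mpr ⟨hkB, hkVH⟩
  rw [eq_bot_iff]
  rintro ⟨k, hkG⟩ hk
  rw [Subgroup.mem_bot]
  apply Subtype.ext
  change k = 1
  have hk' : ∀ g ∈ G1, g * k * g⁻¹ ∈ D.borelSubgroup F := by
    intro g hg
    have := hk ⟨g, hg⟩
    exact (Subgroup.mem_subgroupOf.1 this).1
  have hkH : k ∈ D.diagonalSubgroup F := key k hk'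
  have hconjH : ∀ g ∈ G1, g * k * g⁻¹ ∈ D.diagonalSubgroup F := by
    intro g hg
    apply key
    intro g' hg'
    have := hk' (g' * g) (mul_mem hg' hg)
    have e : g' * g * k * (g' * g)⁻¹ = g' * (g * k * g⁻¹) * g'⁻¹ := by group
    rwa [e] at this
  obtain ⟨c, hc, hkc⟩ := mem_diag_eq_torMat D hT k hkH
  -- `k` centralises `G1 ⊓ U`
  have hcent : ∀ g ∈ G1, g ∈ D.posUnipotent F → k * g * k⁻¹ = g := by
    intro g hgG hgU
    set u := g * k * g⁻¹ * k⁻¹ with hu
    have huH : u ∈ D.diagonalSubgroup F := mul_mem (hconjH g hgG) (inv_mem hkH)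
    have huU : u ∈ D.posUnipotent F := by
      have h1 : k * g⁻¹ * k⁻¹ ∈ D.posUnipotent F :=
        ((Subgroup.mem_normalizer_iff.mp (diag_le_normalizer D hT hkH)) g⁻¹).mp (inv_mem hgU)
      have : u = g * (k * g⁻¹ * k⁻¹) := by rw [hu]; group
      rw [this]
      exact mul_mem hgU h1
    have hu1 : u = 1 :=
      (uhv_trivial D hT hTri hNeg u u⁻¹ 1 huU (inv_mem huH) (one_mem _) (mul_inv_cancel u)).1
    have : g * k * g⁻¹ = k := by
      have := hu1
      rw [hu, mul_inv_eq_one] at this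
      exact this
    calc k * g * k⁻¹ = (g * k * g⁻¹) * g * k⁻¹ := by rw [this]
      _ = g := by group
  have hchi1 : ∀ j < D.rank, chi D c (D.simple j) = 1 := hsepG k c hc hkc hcent
  have hchi : ∀ s < D.nroots, chi D c s = 1 := chi_eq_one D h hcart c hc hchi1
  apply Units.ext
  rw [hkc, Units.val_one, torMat, ← Matrix.diagonal_one]
  congr 1
  funext i
  rcases i with i | s
  · rfl
  · exact hchi s.val s.2

end Core

end Cfsg.Agent.Helper36.Ree
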