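import Cfsg.Agent.Lib.Helper36.ReeSort
import Cfsg.Prelude.Def_LieTwisted

/-!
# The small Ree groups: normal forms in `U`, and the generators of the twisted group as elements of `GL`.
-/

set_option autoImplicit false
set_option maxRecDepth 100000
set_option linter.unusedSimpArgs false
set_option linter.unusedSectionVars false

namespace Cfsg.Agent.Helper36.Ree

open Cfsg Cfsg.Lie Cfsg.Agent.S1043 Cfsg.Agent.Helper17 Cfsg.Agent.Helper18 Cfsg.Agent.Helper36.G2

local notation "X" => xU chevG2 goodG2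

section

variable {F : Type*} [Field F]

theorem nfS_congr {a a' b b' c c' d d' e e' g g' : F} (h1 : a = a') (h2 : b = b') (h3 : c = c')
    (h4 : d = d') (h5 : e = e') (h6 : g = g') :
    X 6 a * (X 7 b * (X 8 c * (X 9 d * (X 10 e * X 11 g)))) =
      X 6 a' * (X 7 b' * (X 8 c' * (X 9 d' * (X 10 e' * X 11 g')))) := by
  subst h1 h2 h3 h4 h5 h6
  rfl

/-- the coefficient function of a standard word -/
def cf (l : List F) : ℕ → F := fun r => l.getD (r - 6) 0

theorem ordWord_cf (a b c d e g : F) :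
    ordWord (cf [a, b, c, d, e, g]) 6 6 = [(6, a), (7, b), (8, c), (9, d), (10, e), (11, g)] := by
  rfl

theorem std_val (a b c d e g : F) :
    ((X 6 a * (X 7 b * (X 8 c * (X 9 d * (X 10 e * X 11 g)))) : GL chevG2.Idx F) :
      Matrix chevG2.Idx chevG2.Idx F) = chevG2.wordMat F (ordWord (cf [a, b, c, d, e, g]) 6 6) := by
  rw [ordWord_cf, ← wordGL_val chevG2 goodG2]
  simp only [wordGL_cons', wordGL_nil', mul_one]

/-- uniqueness of the standard form -/
theorem std_inj {a a' b b' c c' d d' e e' g g' : F}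
    (h : X 6 a * (X 7 b * (X 8 c * (X 9 d * (X 10 e * X 11 g)))) =
      X 6 a' * (X 7 b' * (X 8 c' * (X 9 d' * (X 10 e' * X 11 g'))))) :
    a = a' ∧ b = b' ∧ c = c' ∧ d = d' ∧ e = e' ∧ g = g' := by
  have h' := congrArg (fun x : GL chevG2.Idx F => (x : Matrix chevG2.Idx chevG2.Idx F)) h
  simp only [std_val] at h'
  have key := Uge_unique chevG2 goodG2 uProdData 6 6 (by decide) (by decide)
    (cf [a, b, c, d, e, g]) (cf [a', b', c', d', e', g']) h'
  exact ⟨key 6 (by omega) (by decide), key 7 (by omega) (by decide), key 8 (by omega) (by decide),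
    key 9 (by omega) (by decide), key 10 (by omega) (by decide), key 11 (by omega) (by decide)⟩

/-- existence of the standard form -/
theorem std_exists (g : GL chevG2.Idx F) (hg : g ∈ chevG2.posUnipotent F) :
    ∃ a b c d e k : F, g = X 6 a * (X 7 b * (X 8 c * (X 9 d * (X 10 e * X 11 k)))) := by
  rw [posUnipotent_eq_Uge chevG2 uProdData] at hg
  obtain ⟨t, ht⟩ := Uge_exists chevG2 goodG2 uProdData (fun r hr s hs h1 h2 => commOK r hr s hs h1 h2)
    6 6 (by decide) (by decide) g hg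
  refine ⟨t 6, t 7, t 8, t 9, t 10, t 11, ?_⟩
  apply Units.ext
  rw [ht]
  have : ordWord t 6 6 = [(6, t 6), (7, t 7), (8, t 8), (9, t 9), (10, t 10), (11, t 11)] := rfl
  rw [this, ← wordGL_val chevG2 goodG2]
  simp only [wordGL_cons', wordGL_nil', mul_one]

end

section

variable {F : Type*} [Field F] [CharP F 3]

/-- uniqueness of the "Ree order" form -/
theorem ree_inj {a a' b b' c c' d d' e e' g g' : F}
    (h : X 7 a * (X 6 b * (X 8 c * (X 9 d * (X 10 e * X 11 g)))) =
      X 7 a' * (X 6 b' * (X 8 c' * (X 9 d' * (X 10 e' * X 11 g'))))) :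
    a = a' ∧ b = b' ∧ c = c' ∧ d = d' ∧ e = e' ∧ g = g' := by
  rw [reeToStd, reeToStd] at h
  obtain ⟨h1, h2, h3, h4, h5, h6⟩ := std_inj h
  subst h1 h2
  refine ⟨rfl, rfl, ?_, ?_, ?_, ?_⟩
  · linear_combination h3
  · linear_combination h4
  · linear_combination h5
  · linear_combination h6

/-- existence of the "Ree order" form -/
theorem ree_exists (g : GL chevG2.Idx F) (hg : g ∈ chevG2.posUnipotent F) :
    ∃ a b c d e k : F, g = X 7 a * (X 6 b * (X 8 c * (X 9 d * (X 10 e * X 11 k)))) := by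
  obtain ⟨a, b, c, d, e, k, rfl⟩ := std_exists g hg
  refine ⟨b, a, c + b * a, d + b ^ 2 * a, e - b ^ 3 * a, k - b ^ 3 * a ^ 2, ?_⟩
  rw [reeToStd]
  apply nfS_congr <;> ring

end

/-! ### the generators of the twisted group -/

section

variable {K : Type*} [Field K]

/-- the element `x_a(t^θ) x_b(t) x_{a+b}(t^{θ+1}+u^θ) x_{2a+b}(t^{2θ+1}+v^θ) x_{3a+b}(u) x_{3a+2b}(v)`
of `GL` -/
noncomputable def reeU (f : K →+* K) (t u v : K) : GL chevG2.Idx K :=
  X 7 (f t) * (X 6 t * (X 8 (f t * t + f u) * (X 9 ((f t) ^ 2 * t + f v) * (X 10 u * X 11 v))))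

/-- its image under `x_r(c) ↦ x_{-r}(-c)` -/
noncomputable def reeV (f : K →+* K) (t u v : K) : GL chevG2.Idx K :=
  X 4 (-(f t)) * (X 5 (-t) * (X 3 (-(f t * t + f u)) * (X 2 (-((f t) ^ 2 * t + f v)) *
    (X 1 (-u) * X 0 (-v)))))

theorem reeWordU_eq (e : ℕ) (t u v : K) : reeWordU e t u v =
    [(7, t ^ e), (6, t), (8, t ^ (e + 1) + u ^ e), (9, t ^ (2 * e + 1) + v ^ e), (10, u), (11, v)] := rfl

theorem reeWordV_eq (e : ℕ) (t u v : K) : reeWordV e t u v =
    [(4, -(t ^ e)), (5, -t), (3, -(t ^ (e + 1) + u ^ e)), (2, -(t ^ (2 * e + 1) + v ^ e)), (1, -u),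
      (0, -v)] := rfl

variable (f : K →+* K) (m : ℕ) (hf : ∀ x : K, f x = x ^ 3 ^ m)

include hf

theorem reeU_val_word (t u v : K) :
    ((reeU f t u v : GL chevG2.Idx K) : Matrix chevG2.Idx chevG2.Idx K) =
      chevG2.wordMat K (reeWordU (3 ^ m) t u v) := by
  rw [reeWordU_eq, ← wordGL_val chevG2 goodG2]
  simp only [wordGL_cons', wordGL_nil', mul_one]
  rw [reeU]
  congr 1
  apply nfU_congr
  · exact hf t
  · rfl
  · rw [hf, hf, pow_succ]
  · rw [hf, hf]; ring
  · rfl
  · rfl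

theorem reeV_val_word (t u v : K) :
    ((reeV f t u v : GL chevG2.Idx K) : Matrix chevG2.Idx chevG2.Idx K) =
      chevG2.wordMat K (reeWordV (3 ^ m) t u v) := by
  rw [reeWordV_eq, ← wordGL_val chevG2 goodG2]
  simp only [wordGL_cons', wordGL_nil', mul_one]
  rw [reeV]
  congr 1
  apply nfV_congr
  · rw [hf t]
  · rfl
  · rw [hf, hf, pow_succ]
  · rw [hf, hf]; ring
  · rfl
  · rfl

theorem reeU_mem_twisted (t u v : K) : reeU f t u v ∈ twistedG2 K (3 ^ m) := by
  unfold twistedG2 ChevalleyDatum.genSubgroup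
  apply Subgroup.subset_closure
  exact ⟨reeWordU (3 ^ m) t u v, ⟨t, u, v, Or.inl rfl⟩, reeU_val_word f m hf t u v⟩

theorem reeV_mem_twisted (t u v : K) : reeV f t u v ∈ twistedG2 K (3 ^ m) := by
  unfold twistedG2 ChevalleyDatum.genSubgroup
  apply Subgroup.subset_closure
  exact ⟨reeWordV (3 ^ m) t u v, ⟨t, u, v, Or.inr rfl⟩, reeV_val_word f m hf t u v⟩

omit hf in
theorem reeU_mem_U (t u v : K) : reeU f t u v ∈ chevG2.posUnipotent K := by
  rw [reeU]
  have hX : ∀ (r : ℕ) (c : K), chevG2.IsPosRoot r → X r c ∈ chevG2.posUnipotent K := by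
    intro r c hr
    exact Subgroup.subset_closure ⟨r, c, hr, rfl⟩
  exact mul_mem (hX 7 _ (by decide)) (mul_mem (hX 6 _ (by decide)) (mul_mem (hX 8 _ (by decide))
    (mul_mem (hX 9 _ (by decide)) (mul_mem (hX 10 _ (by decide)) (hX 11 _ (by decide))))))

end

end Cfsg.Agent.Helper36.Ree
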