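import Cfsg.Agent.Lib.Helper36.ReeCore
import Cfsg.Agent.Lib.Helper36.ReeWord
import Cfsg.Agent.Lib.Helper15.Ree.Basic
import Cfsg.Agent.Lib.Helper6.ChevFactsS18
import Cfsg.Agent.Lib.Helper18.HAllSmall
import Cfsg.Agent.Lib.Helper18.SConjSmall
import Cfsg.Agent.Lib.Helper18.LinSmall
import Cfsg.Agent.Lib.Helper17.ChevTriGen
import Cfsg.Agent.Lib.Helper18.ChevNegTri

/-!
# The small Ree groups: the normal core of `B¹` is trivial.
-/

set_option autoImplicit false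
set_option maxRecDepth 100000
set_option linter.unusedSimpArgs false
set_option linter.unusedSectionVars false

namespace Cfsg.Agent.Helper36.Ree

open Cfsg Cfsg.Lie Cfsg.Agent.S1043 Cfsg.Agent.Helper17 Cfsg.Agent.Helper18 Cfsg.Agent.Helper36.G2
open Cfsg.Agent.Helper6.Chev

local notation "X" => xU chevG2 goodG2

/-- the word `x_{a+b}(1) x_{3a+b}(1) x_{-a-b}(-1) x_{-3a-b}(-1) x_{a+b}(1) x_{3a+b}(1)` -/
def n0W : List (ℕ × LP) :=
  [(8, [(1, 0, 0)]), (10, [(1, 0, 0)]), (3, [(-1, 0, 0)]), (1, [(-1, 0, 0)]), (8, [(1, 0, 0)]),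
    (10, [(1, 0, 0)])]

/-- the word `n_{a+b}(1) n_{3a+b}(1)` -/
def n0W' : List (ℕ × LP) :=
  [(8, [(1, 0, 0)]), (3, [(-1, 0, 0)]), (8, [(1, 0, 0)]), (10, [(1, 0, 0)]), (1, [(-1, 0, 0)]),
    (10, [(1, 0, 0)])]

theorem chk_n0N : wordEqCheck chevG2 n0W n0W' = true := by decide +kernel

/-- `n₀ x_r(a) = x_{-r}(-a) n₀` for all roots `r`. -/
theorem chk_n0 : ((List.range 12).all fun r =>
    wordEqCheck chevG2 (n0W ++ [(r, [(1, 1, 0)])]) ([(chevG2.neg r, [(-1, 1, 0)])] ++ n0W)) = true := by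
  decide +kernel

theorem torusG2 : TorusData chevG2 expG2 :=
  ⟨fun r hr => hAllG2_0' r (Nat.zero_le _) hr, fun i hi => hSimpleG2 i (Nat.zero_le _) hi,
    fun i hi => sConjG2 i (Nat.zero_le _) hi, fun r hr => linG2_0' r (Nat.zero_le _) hr⟩

theorem coreTableG2 :
    (∀ i < chevG2.rank, ∀ i' < chevG2.rank, ∀ s < chevG2.nroots,
      chevG2.cartan i' (chevG2.reflectRoot i s) =
        chevG2.cartan i' s - chevG2.cartan i s * chevG2.cartan i' (chevG2.simple i)) ∧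
    (∀ r < 12, chevG2.IsPosRoot r → chevG2.IsNegRoot (chevG2.neg r)) ∧
    (∀ r < 12, chevG2.IsNegRoot r → chevG2.IsPosRoot (chevG2.neg r) ∧
      chevG2.neg (chevG2.neg r) = r) ∧
    chevG2.simple 0 = 7 ∧ chevG2.simple 1 = 6 ∧ chevG2.rank = 2 := by
  decide +kernel

section

variable {K : Type*} [Field K]

theorem xg15_eq (r : ℕ) (s : K) : Cfsg.Agent.Helper15.Ree.xg r s = X r s := Units.ext rfl

/-- the representative of the longest element of the Weyl group -/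
noncomputable def n0 : GL chevG2.Idx K :=
  Cfsg.Agent.Helper15.Ree.wordG (evalWord (1 : Kˣ) (1 : Kˣ) n0W)

theorem n0_eq : (n0 : GL chevG2.Idx K) =
    X 8 1 * (X 10 1 * (X 3 (-1) * (X 1 (-1) * (X 8 1 * X 10 1)))) := by
  simp [n0, n0W, evalWord, LP.eval, LP.evalMono, Cfsg.Agent.Helper15.Ree.wordG, xg15_eq]

theorem n0_mul_X (r : ℕ) (hr : r < 12) (s : K) :
    (n0 : GL chevG2.Idx K) * X r s = X (chevG2.neg r) (-s) * n0 := by
  by_cases hs : s = 0
  · subst hs; simp [X0]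
  have hc := (List.all_eq_true.mp chk_n0) r (List.mem_range.mpr hr)
  have h := Cfsg.Agent.Helper15.Ree.wordG_eq_of_check (Units.mk0 s hs) (1 : Kˣ) _ _ hc
  rw [Cfsg.Agent.Helper15.Ree.evalWord_append, Cfsg.Agent.Helper15.Ree.evalWord_append,
    Cfsg.Agent.Helper15.Ree.wordG_append, Cfsg.Agent.Helper15.Ree.wordG_append] at h
  have ej : evalWord (Units.mk0 s hs) (1 : Kˣ) n0W = evalWord (1 : Kˣ) (1 : Kˣ) n0W := by
    simp [evalWord, n0W, LP.eval, LP.evalMono]
  have e1 : Cfsg.Agent.Helper15.Ree.wordG (evalWord (Units.mk0 s hs) (1 : Kˣ) [(r, [(1, 1, 0)])]) =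
      X r s := by
    simp [evalWord, LP.eval, LP.evalMono, Cfsg.Agent.Helper15.Ree.wordG, xg15_eq]
  have e2 : Cfsg.Agent.Helper15.Ree.wordG
      (evalWord (Units.mk0 s hs) (1 : Kˣ) [(chevG2.neg r, [(-1, 1, 0)])]) = X (chevG2.neg r) (-s) := by
    simp [evalWord, LP.eval, LP.evalMono, Cfsg.Agent.Helper15.Ree.wordG, xg15_eq]
  rw [ej, e1, e2] at h
  exact h

theorem n0_conj_X (r : ℕ) (hr : r < 12) (s : K) :
    (n0 : GL chevG2.Idx K) * X r s * n0⁻¹ = X (chevG2.neg r) (-s) := by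
  rw [n0_mul_X r hr, mul_assoc, mul_inv_cancel, mul_one]

theorem n0_mem_N : (n0 : GL chevG2.Idx K) ∈ chevG2.monomialSubgroup K := by
  have h := Cfsg.Agent.Helper15.Ree.wordG_eq_of_check (1 : Kˣ) (1 : Kˣ) _ _ chk_n0N
  have e : (n0 : GL chevG2.Idx K) =
      (X 8 1 * (X 3 (-1) * X 8 1)) * (X 10 1 * (X 1 (-1) * X 10 1)) := by
    rw [n0, h]
    simp [n0W', evalWord, LP.eval, LP.evalMono, Cfsg.Agent.Helper15.Ree.wordG, xg15_eq, mul_assoc]
  rw [e]
  have hn : ∀ (r nr : ℕ), r < chevG2.nroots → chevG2.neg r = nr →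
      X r (1 : K) * (X nr (-1) * X r 1) ∈ chevG2.monomialSubgroup K := by
    intro r nr hr hnr
    apply Subgroup.mem_sup_right
    apply Subgroup.subset_closure
    refine ⟨r, hr, ?_⟩
    simp only [Units.val_mul, xU_val, ChevalleyDatum.nMat, ChevalleyDatum.nWord,
      ChevalleyDatum.wordMat, List.map_cons, List.map_nil, List.prod_cons, List.prod_nil, mul_one,
      hnr, inv_one]
  exact mul_mem (hn 8 3 (by decide) (by decide)) (hn 10 1 (by decide) (by decide))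

theorem n0_conj_U : (chevG2.posUnipotent K).map (MulAut.conj (n0 : GL chevG2.Idx K)).toMonoidHom =
    chevG2.negUnipotent K := by
  obtain ⟨-, hpn, hnp, -⟩ := coreTableG2
  apply le_antisymm
  · rw [Subgroup.map_le_iff_le_comap]
    conv_lhs => rw [ChevalleyDatum.posUnipotent]
    rw [Subgroup.closure_le]
    rintro y ⟨s, t, hpos, hy⟩
    rw [SetLike.mem_coe, Subgroup.mem_comap]
    change n0 * y * n0⁻¹ ∈ chevG2.negUnipotent K
    have hye : y = X s t := Units.ext hy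
    rw [hye, n0_conj_X s hpos.1]
    exact Subgroup.subset_closure ⟨chevG2.neg s, -t, hpn s hpos.1 hpos, rfl⟩
  · conv_lhs => rw [ChevalleyDatum.negUnipotent]
    rw [Subgroup.closure_le]
    rintro y ⟨r, t, hneg, hy⟩
    obtain ⟨hpos, hinv⟩ := hnp r hneg.1 hneg
    rw [SetLike.mem_coe, Subgroup.mem_map]
    refine ⟨X (chevG2.neg r) (-t), Subgroup.subset_closure ⟨chevG2.neg r, -t, hpos, rfl⟩, ?_⟩
    change n0 * X (chevG2.neg r) (-t) * n0⁻¹ = y
    rw [n0_conj_X _ hpos.1, hinv, neg_neg]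
    exact (Units.ext hy).symm

end

section

variable {K : Type*} [Field K] [CharP K 3] (f : K →+* K)
  (m : ℕ) (hf : ∀ x : K, f x = x ^ 3 ^ m)

include hf

theorem n0_mem_G : (n0 : GL chevG2.Idx K) ∈ twistedG2 K (3 ^ m) := by
  have h1 := reeU_mem_twisted f m hf (0 : K) 1 0
  have h2 := reeV_mem_twisted f m hf (0 : K) 1 0
  have e1 : reeU f (0 : K) 1 0 = X 8 1 * X 10 1 := by
    rw [reeU]
    simp [X0]
  have e2 : reeV f (0 : K) 1 0 = X 3 (-1) * X 1 (-1) := by
    rw [reeV]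
    simp [X0]
  have e : (n0 : GL chevG2.Idx K) = (X 8 1 * X 10 1) * ((X 3 (-1) * X 1 (-1)) * (X 8 1 * X 10 1)) := by
    rw [n0_eq]
    simp only [mul_assoc]
  rw [e, ← e1, ← e2]
  exact mul_mem h1 (mul_mem h2 h1)

/-- **the normal core of `B¹` in `²G₂(q)` is trivial** -/
theorem core_twistedG2 :
    ((chevG2.borelSubgroup K ⊓ twistedG2 K (3 ^ m)).subgroupOf (twistedG2 K (3 ^ m))).normalCore = ⊥ := by
  obtain ⟨hcart, -, -, hs0, hs1, hrank⟩ := coreTableG2
  refine core_trivial_sep chevG2 goodG2 torusG2 (nData_G2 (F := K)) triOK_G2 negTriOK_G2 hcart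
    (twistedG2 K (3 ^ m)) n0 n0_mem_N (n0_mem_G f m hf) n0_conj_U ?_
  intro k c hc hkc hcent j hj
  -- conjugation of root elements by `k`
  have kconj : ∀ s < chevG2.nroots, ∀ t : K, k * X s t * k⁻¹ = X s (chi chevG2 c s * t) := by
    intro s hs t
    rw [mul_inv_eq_iff_eq_mul]
    apply Units.ext
    rw [Units.val_mul, Units.val_mul, xU_val, xU_val, hkc]
    exact torMat_mul_x chevG2 s (fun i hi => torusG2.addOK chevG2 i hi s hs) c hc t
  have hg := hcent _ (reeU_mem_twisted f m hf (1 : K) 0 0) (reeU_mem_U f (1 : K) 0 0)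
  rw [reeU] at hg
  have hconj : ∀ a b : GL chevG2.Idx K, k * (a * b) * k⁻¹ = (k * a * k⁻¹) * (k * b * k⁻¹) := by
    intro a b; group
  simp only [hconj, kconj _ (show (7 : ℕ) < chevG2.nroots by decide),
    kconj _ (show (6 : ℕ) < chevG2.nroots by decide),
    kconj _ (show (8 : ℕ) < chevG2.nroots by decide),
    kconj _ (show (9 : ℕ) < chevG2.nroots by decide),
    kconj _ (show (10 : ℕ) < chevG2.nroots by decide),
    kconj _ (show (11 : ℕ) < chevG2.nroots by decide)] at hg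
  obtain ⟨h7, h6, -⟩ := ree_inj hg
  rw [map_one, mul_one] at h7
  rw [mul_one] at h6
  have hj' : j < 2 := by rw [← hrank]; exact hj
  interval_cases j
  · rw [hs0]; exact h7
  · rw [hs1]; exact h6

end

end Cfsg.Agent.Helper36.Ree
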