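import Cfsg.Agent.Lib.Helper36.ReeWord
import Cfsg.Agent.Lib.Helper6.G2Char3C
import Cfsg.Agent.Lib.Helper6.ChevGraphGrp

/-!
# The small Ree groups: the automorphism `σ`; the generators of the twisted group are fixed by `σ`.
-/

set_option autoImplicit false
set_option maxRecDepth 100000
set_option linter.unusedSimpArgs false
set_option linter.unusedSectionVars false

namespace Cfsg.Agent.Helper36.Ree

open Cfsg Cfsg.Lie Cfsg.Agent.S1043 Cfsg.Agent.Helper17 Cfsg.Agent.Helper18 Cfsg.Agent.Helper36.G2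

local notation "X" => xU chevG2 goodG2

/-! ### the automorphism `σ` -/

section

open Cfsg.Agent.Helper6.G2C3 (sig isShort xG)
open Cfsg.Agent.Helper6.ChevGraph (iota iota_val xMat_map)

variable {K : Type*} [Field K] [CharP K 3]

/-- root elements in the group -/
noncomputable def xg (r : ℕ) (t : K) : ↥(chevG2.group K) := xG r t

theorem xg_val (r : ℕ) (t : K) : ((xg r t : ↥(chevG2.group K)) : GL chevG2.Idx K) = X r t := rfl

theorem iota_xg (f : K →+* K) (r : ℕ) (hr : r < 12) (t : K) :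
    iota (D := chevG2) f (xg r t) = xg r (f t) := by
  apply Subtype.ext
  apply Units.ext
  rw [iota_val]
  change (chevG2.x K r t).map f = chevG2.x K r (f t)
  simp only [ChevalleyDatum.x, dif_pos (show r < chevG2.nroots from hr)]
  exact xMat_map f ⟨r, hr⟩ t

/-- `σ`: the graph automorphism after the field endomorphism `f`. -/
noncomputable def sigmaHom (α : ↥(chevG2.group K) ≃* ↥(chevG2.group K)) (f : K →+* K) :
    ↥(chevG2.group K) →* ↥(chevG2.group K) :=
  α.toMonoidHom.comp (iota (D := chevG2) f)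

variable (α : ↥(chevG2.group K) ≃* ↥(chevG2.group K)) (f : K →+* K)
  (hα : ∀ (r : Fin chevG2.nroots) (t : K),
    α (xG r.val t) = xG (sig r.val) (if isShort r.val then t ^ 3 else t))

include hα

theorem sigma_xg (r : ℕ) (hr : r < 12) (t : K) :
    sigmaHom α f (xg r t) = xg (sig r) (if isShort r then (f t) ^ 3 else f t) := by
  change α (iota (D := chevG2) f (xg r t)) = _
  rw [iota_xg f r hr t]
  exact hα ⟨r, hr⟩ (f t)

theorem sigma_0 (t : K) : sigmaHom α f (xg 0 t) = xg 2 (f t) := by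
  rw [sigma_xg α f hα 0 (by omega) t]; rfl
theorem sigma_1 (t : K) : sigmaHom α f (xg 1 t) = xg 3 (f t) := by
  rw [sigma_xg α f hα 1 (by omega) t]; rfl
theorem sigma_2 (t : K) : sigmaHom α f (xg 2 t) = xg 0 ((f t) ^ 3) := by
  rw [sigma_xg α f hα 2 (by omega) t]; rfl
theorem sigma_3 (t : K) : sigmaHom α f (xg 3 t) = xg 1 ((f t) ^ 3) := by
  rw [sigma_xg α f hα 3 (by omega) t]; rfl
theorem sigma_4 (t : K) : sigmaHom α f (xg 4 t) = xg 5 ((f t) ^ 3) := by
  rw [sigma_xg α f hα 4 (by omega) t]; rfl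
theorem sigma_5 (t : K) : sigmaHom α f (xg 5 t) = xg 4 (f t) := by
  rw [sigma_xg α f hα 5 (by omega) t]; rfl
theorem sigma_6 (t : K) : sigmaHom α f (xg 6 t) = xg 7 (f t) := by
  rw [sigma_xg α f hα 6 (by omega) t]; rfl
theorem sigma_7 (t : K) : sigmaHom α f (xg 7 t) = xg 6 ((f t) ^ 3) := by
  rw [sigma_xg α f hα 7 (by omega) t]; rfl
theorem sigma_8 (t : K) : sigmaHom α f (xg 8 t) = xg 10 ((f t) ^ 3) := by
  rw [sigma_xg α f hα 8 (by omega) t]; rfl
theorem sigma_9 (t : K) : sigmaHom α f (xg 9 t) = xg 11 ((f t) ^ 3) := by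
  rw [sigma_xg α f hα 9 (by omega) t]; rfl
theorem sigma_10 (t : K) : sigmaHom α f (xg 10 t) = xg 8 (f t) := by
  rw [sigma_xg α f hα 10 (by omega) t]; rfl
theorem sigma_11 (t : K) : sigmaHom α f (xg 11 t) = xg 9 (f t) := by
  rw [sigma_xg α f hα 11 (by omega) t]; rfl

/-- the image under `σ` of a product in "Ree order", sorted -/
theorem sigma_ree (a b c d e g : K) :
    ((sigmaHom α f (xg 7 a * (xg 6 b * (xg 8 c * (xg 9 d * (xg 10 e * xg 11 g))))) :
      ↥(chevG2.group K)) : GL chevG2.Idx K) =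
    X 7 (f b) * (X 6 ((f a) ^ 3) * (X 8 (f b * (f a) ^ 3 + f e) * (X 9 ((f b) ^ 2 * (f a) ^ 3 + f g) *
      (X 10 (-((f b) ^ 3 * (f a) ^ 3) + (f c) ^ 3) *
        X 11 (-((f b) ^ 3 * ((f a) ^ 3) ^ 2) + (f d) ^ 3))))) := by
  simp only [map_mul, sigma_6 α f hα, sigma_7 α f hα, sigma_8 α f hα, sigma_9 α f hα,
    sigma_10 α f hα, sigma_11 α f hα, Subgroup.coe_mul, xg_val]
  rw [sortU]

/-- the image under `σ` of a product of negative root elements in "Ree order", sorted -/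
theorem sigma_reeV (a b c d e g : K) :
    ((sigmaHom α f (xg 4 a * (xg 5 b * (xg 3 c * (xg 2 d * (xg 1 e * xg 0 g))))) :
      ↥(chevG2.group K)) : GL chevG2.Idx K) =
    X 4 (f b) * (X 5 ((f a) ^ 3) * (X 3 (-(f b * (f a) ^ 3) + f e) * (X 2 ((f b) ^ 2 * (f a) ^ 3 + f g) *
      (X 1 ((f b) ^ 3 * (f a) ^ 3 + (f c) ^ 3) *
        X 0 (-((f b) ^ 3 * ((f a) ^ 3) ^ 2) + (f d) ^ 3))))) := by
  simp only [map_mul, sigma_0 α f hα, sigma_1 α f hα, sigma_2 α f hα, sigma_3 α f hα,
    sigma_4 α f hα, sigma_5 α f hα, Subgroup.coe_mul, xg_val]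
  rw [sortV]

end


/-! ### the twisted group is fixed by `σ` -/

section

open Cfsg.Agent.Helper6.G2C3 (sig isShort xG)

variable {K : Type*} [Field K] [CharP K 3]
  (α : ↥(chevG2.group K) ≃* ↥(chevG2.group K)) (f : K →+* K)
  (hα : ∀ (r : Fin chevG2.nroots) (t : K),
    α (xG r.val t) = xG (sig r.val) (if isShort r.val then t ^ 3 else t))
  (hff : ∀ x : K, (f (f x)) ^ 3 = x)

/-- the element `x_a(t^θ) x_b(t) x_{a+b}(t^{θ+1}+u^θ) x_{2a+b}(t^{2θ+1}+v^θ) x_{3a+b}(u) x_{3a+2b}(v)` -/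
noncomputable def reeG (t u v : K) : ↥(chevG2.group K) :=
  xg 7 (f t) * (xg 6 t * (xg 8 (f t * t + f u) * (xg 9 ((f t) ^ 2 * t + f v) * (xg 10 u * xg 11 v))))

/-- its image under `x_r(c) ↦ x_{-r}(-c)` -/
noncomputable def reeGV (t u v : K) : ↥(chevG2.group K) :=
  xg 4 (-(f t)) * (xg 5 (-t) * (xg 3 (-(f t * t + f u)) * (xg 2 (-((f t) ^ 2 * t + f v)) *
    (xg 1 (-u) * xg 0 (-v)))))

theorem reeG_val (t u v : K) : ((reeG f t u v : ↥(chevG2.group K)) : GL chevG2.Idx K) =
    X 7 (f t) * (X 6 t * (X 8 (f t * t + f u) * (X 9 ((f t) ^ 2 * t + f v) * (X 10 u * X 11 v)))) := rfl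

theorem reeGV_val (t u v : K) : ((reeGV f t u v : ↥(chevG2.group K)) : GL chevG2.Idx K) =
    X 4 (-(f t)) * (X 5 (-t) * (X 3 (-(f t * t + f u)) * (X 2 (-((f t) ^ 2 * t + f v)) *
      (X 1 (-u) * X 0 (-v))))) := rfl

include hα hff

theorem reeG_fixed (t u v : K) : sigmaHom α f (reeG f t u v) = reeG f t u v := by
  apply Subtype.ext
  rw [reeG, sigma_ree α f hα]
  simp only [Subgroup.coe_mul, xg_val]
  have h3 := three_eq_zero (F := K)
  apply nfU_congr
  · rfl
  · exact hff t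
  · rw [hff t]
  · rw [hff t]
  · simp only [map_add, map_mul, map_pow]
    linear_combination ((f (f t)) ^ 2 * (f t) ^ 2 * f (f u) + f (f t) * f t * (f (f u)) ^ 2) * h3 +
      hff u
  · simp only [map_add, map_mul, map_pow]
    linear_combination ((f (f t)) ^ 4 * (f t) ^ 2 * f (f v) + (f (f t)) ^ 2 * f t * (f (f v)) ^ 2) * h3 +
      hff v

theorem reeGV_fixed (t u v : K) : sigmaHom α f (reeGV f t u v) = reeGV f t u v := by
  apply Subtype.ext
  rw [reeGV, sigma_reeV α f hα]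
  simp only [Subgroup.coe_mul, xg_val]
  have h3 := three_eq_zero (F := K)
  apply nfV_congr
  · simp only [map_neg]
  · simp only [map_neg]
    linear_combination (-1 : K) * hff t
  · simp only [map_neg]
    linear_combination (-(f t)) * hff t
  · simp only [map_neg]
    linear_combination (-(f t) ^ 2) * hff t
  · simp only [map_add, map_mul, map_pow, map_neg]
    linear_combination (-((f (f t)) ^ 2 * (f t) ^ 2 * f (f u) + f (f t) * f t * (f (f u)) ^ 2)) * h3 -
      hff u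
  · simp only [map_add, map_mul, map_pow, map_neg]
    linear_combination
      (-((f (f t)) ^ 4 * (f t) ^ 2 * f (f v) + (f (f t)) ^ 2 * f t * (f (f v)) ^ 2)) * h3 -
      hff v

end

end Cfsg.Agent.Helper36.Ree
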