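import Cfsg.Agent.Lib.Helper36.ReeFix

/-!
# The small Ree groups: `U ∩ G¹`.
-/

set_option autoImplicit false
set_option maxRecDepth 100000
set_option linter.unusedSimpArgs false
set_option linter.unusedSectionVars false

namespace Cfsg.Agent.Helper36.Ree

open Cfsg Cfsg.Lie Cfsg.Agent.S1043 Cfsg.Agent.Helper17 Cfsg.Agent.Helper18 Cfsg.Agent.Helper36.G2

local notation "X" => xU chevG2 goodG2

section

open Cfsg.Agent.Helper6.G2C3 (sig isShort xG)

variable {K : Type*} [Field K] [CharP K 3]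
  (α : ↥(chevG2.group K) ≃* ↥(chevG2.group K)) (f : K →+* K)

/-- the fixed points of `σ`, as a subgroup of the general linear group -/
noncomputable def fixS : Subgroup (GL chevG2.Idx K) :=
  ((sigmaHom α f).eqLocus (MonoidHom.id _)).map (chevG2.group K).subtype

theorem mem_fixS_of (x : ↥(chevG2.group K)) (hx : sigmaHom α f x = x) :
    (x : GL chevG2.Idx K) ∈ fixS α f := ⟨x, hx, rfl⟩

theorem mem_fixS_iff (g : GL chevG2.Idx K) :
    g ∈ fixS α f ↔ ∃ x : ↥(chevG2.group K), sigmaHom α f x = x ∧ (x : GL chevG2.Idx K) = g := by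
  constructor
  · rintro ⟨x, hx, rfl⟩
    exact ⟨x, hx, rfl⟩
  · rintro ⟨x, hx, rfl⟩
    exact ⟨x, hx, rfl⟩

variable (m : ℕ) (hf : ∀ x : K, f x = x ^ 3 ^ m)

include hf

theorem reeG_val_word (t u v : K) :
    (((reeG f t u v : ↥(chevG2.group K)) : GL chevG2.Idx K) : Matrix chevG2.Idx chevG2.Idx K) =
      chevG2.wordMat K (reeWordU (3 ^ m) t u v) :=
  reeU_val_word f m hf t u v

theorem reeGV_val_word (t u v : K) :
    (((reeGV f t u v : ↥(chevG2.group K)) : GL chevG2.Idx K) : Matrix chevG2.Idx chevG2.Idx K) =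
      chevG2.wordMat K (reeWordV (3 ^ m) t u v) :=
  reeV_val_word f m hf t u v

variable (hα : ∀ (r : Fin chevG2.nroots) (t : K),
    α (xG r.val t) = xG (sig r.val) (if isShort r.val then t ^ 3 else t))
  (hff : ∀ x : K, (f (f x)) ^ 3 = x)

include hα hff

/-- **the twisted group lies in the fixed points of `σ`** -/
theorem twisted_le_fixS : twistedG2 K (3 ^ m) ≤ fixS α f := by
  unfold twistedG2 ChevalleyDatum.genSubgroup
  rw [Subgroup.closure_le]
  rintro g ⟨w, ⟨t, u, v, hw⟩, hg⟩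
  rcases hw with rfl | rfl
  · have : g = ((reeG f t u v : ↥(chevG2.group K)) : GL chevG2.Idx K) := by
      apply Units.ext
      rw [hg, reeG_val_word f m hf]
    rw [this]
    exact mem_fixS_of α f _ (reeG_fixed α f hα hff t u v)
  · have : g = ((reeGV f t u v : ↥(chevG2.group K)) : GL chevG2.Idx K) := by
      apply Units.ext
      rw [hg, reeGV_val_word f m hf]
    rw [this]
    exact mem_fixS_of α f _ (reeGV_fixed α f hα hff t u v)

theorem reeG_mem_twisted (t u v : K) :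
    ((reeG f t u v : ↥(chevG2.group K)) : GL chevG2.Idx K) ∈ twistedG2 K (3 ^ m) := by
  unfold twistedG2 ChevalleyDatum.genSubgroup
  apply Subgroup.subset_closure
  exact ⟨reeWordU (3 ^ m) t u v, ⟨t, u, v, Or.inl rfl⟩, reeG_val_word f m hf t u v⟩

theorem reeG_mem_U (t u v : K) :
    ((reeG f t u v : ↥(chevG2.group K)) : GL chevG2.Idx K) ∈ chevG2.posUnipotent K := by
  rw [reeG_val]
  have hX : ∀ (r : ℕ) (c : K), chevG2.IsPosRoot r → X r c ∈ chevG2.posUnipotent K := by
    intro r c hr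
    exact Subgroup.subset_closure ⟨r, c, hr, rfl⟩
  exact mul_mem (hX 7 _ (by decide)) (mul_mem (hX 6 _ (by decide)) (mul_mem (hX 8 _ (by decide))
    (mul_mem (hX 9 _ (by decide)) (mul_mem (hX 10 _ (by decide)) (hX 11 _ (by decide))))))

/-- **`U ∩ G¹`** -/
theorem mem_U_inf_twisted_iff (g : GL chevG2.Idx K) :
    g ∈ chevG2.posUnipotent K ⊓ twistedG2 K (3 ^ m) ↔
      ∃ t u v : K, g = ((reeG f t u v : ↥(chevG2.group K)) : GL chevG2.Idx K) := by
  constructor
  · rintro ⟨hgU, hgT⟩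
    obtain ⟨a, b, c, d, e, k, rfl⟩ := ree_exists g hgU
    obtain ⟨x, hx, hxg⟩ := (mem_fixS_iff α f _).mp (twisted_le_fixS α f m hf hα hff hgT)
    have hxe : x = xg 7 a * (xg 6 b * (xg 8 c * (xg 9 d * (xg 10 e * xg 11 k)))) := by
      apply Subtype.ext
      rw [hxg]
      rfl
    have h1 : ((sigmaHom α f x : ↥(chevG2.group K)) : GL chevG2.Idx K) = (x : GL chevG2.Idx K) := by
      rw [hx]
    rw [hxe, sigma_ree α f hα] at h1
    simp only [Subgroup.coe_mul, xg_val] at h1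
    obtain ⟨e1, e2, e3, e4, -, -⟩ := ree_inj h1
    refine ⟨b, e, k, ?_⟩
    rw [reeG_val]
    apply nfU_congr
    · exact e1.symm
    · rfl
    · rw [← e3, e2]
    · rw [← e4, e2]
    · rfl
    · rfl
  · rintro ⟨t, u, v, rfl⟩
    exact ⟨reeG_mem_U α f m hf hα hff t u v, reeG_mem_twisted α f m hf hα hff t u v⟩

omit hα hff hf in
theorem reeG_injective : Function.Injective (fun p : K × K × K =>
    ((reeG f p.1 p.2.1 p.2.2 : ↥(chevG2.group K)) : GL chevG2.Idx K)) := by
  rintro ⟨t, u, v⟩ ⟨t', u', v'⟩ h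
  simp only [reeG_val] at h
  obtain ⟨-, h2, -, -, h5, h6⟩ := ree_inj h
  rw [h2, h5, h6]

/-- **`|U ∩ G¹| = |K|³`** -/
theorem card_U_inf_twisted [Fintype K] :
    Nat.card ↥(chevG2.posUnipotent K ⊓ twistedG2 K (3 ^ m)) = Fintype.card K ^ 3 := by
  have hmem : ∀ p : K × K × K, ((reeG f p.1 p.2.1 p.2.2 : ↥(chevG2.group K)) : GL chevG2.Idx K) ∈
      chevG2.posUnipotent K ⊓ twistedG2 K (3 ^ m) := fun p =>
    (mem_U_inf_twisted_iff α f m hf hα hff _).mpr ⟨p.1, p.2.1, p.2.2, rfl⟩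
  let φ : K × K × K → ↥(chevG2.posUnipotent K ⊓ twistedG2 K (3 ^ m)) := fun p => ⟨_, hmem p⟩
  have hbij : Function.Bijective φ := by
    constructor
    · intro p q hpq
      apply reeG_injective f
      exact congrArg (fun z : ↥(chevG2.posUnipotent K ⊓ twistedG2 K (3 ^ m)) => (z : GL chevG2.Idx K)) hpq
    · rintro ⟨g, hg⟩
      obtain ⟨t, u, v, rfl⟩ := (mem_U_inf_twisted_iff α f m hf hα hff g).mp hg
      exact ⟨(t, u, v), rfl⟩
  rw [← Nat.card_congr (Equiv.ofBijective φ hbij), Nat.card_prod, Nat.card_prod,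
    Nat.card_eq_fintype_card]
  ring

end

end Cfsg.Agent.Helper36.Ree
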