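import Cfsg.Agent.Lib.Helper36.G2Rel

/-!
# Type `G₂`, characteristic three: the relations between root elements needed for the small Ree
groups (`x_b x_a` swap, commutativity of the root subgroups of height at least two).
-/

set_option autoImplicit false
set_option maxRecDepth 100000

namespace Cfsg.Agent.Helper36.Ree

open Cfsg.Lie Cfsg.Agent.S1043 Cfsg.Agent.Helper17 Cfsg.Agent.Helper18 Cfsg.Agent.Helper36.G2

/-- The root element `x_r(c)` of `G₂` as a unit. -/
local notation "X" => xU chevG2 goodG2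

theorem commTerms_4_5 :
    chevG2.commTerms 4 5 = [(3, 1, 1, 1), (2, 1, 2, 1), (1, -1, 3, 1), (0, 1, 3, 2)] := by
  decide +kernel
theorem commTerms_3_2 : chevG2.commTerms 3 2 = [(0, -3, 1, 1)] := by decide +kernel

theorem commTerms_nil : ∀ p ∈ [(10, 8), (11, 8), (10, 9), (11, 9), (11, 10), (1, 3), (0, 3), (1, 2),
    (0, 2), (0, 1)], chevG2.commTerms p.1 p.2 = [] := by decide +kernel

section

variable {F : Type*} [Field F]

theorem X0 (r : ℕ) : X r (0 : F) = 1 := Cfsg.Agent.Helper36.G2.X_zero r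

/-- Root elements whose roots have no root as sum commute. -/
theorem X_comm_nil (k s : ℕ) (h : (k, s) ∈ [(10, 8), (11, 8), (10, 9), (11, 9), (11, 10), (1, 3),
    (0, 3), (1, 2), (0, 2), (0, 1)]) (t u : F) : X k t * X s u = X s u * X k t := by
  have he := commTerms_nil (k, s) h
  have hr : k < 12 ∧ s < 12 ∧ s ≠ k ∧ s ≠ chevG2.neg k := by
    simp only [List.mem_cons, Prod.mk.injEq, List.not_mem_nil, or_false] at h
    rcases h with h | h | h | h | h | h | h | h | h | h <;> obtain ⟨rfl, rfl⟩ := h <;>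
      refine ⟨by omega, by omega, by omega, by decide +kernel⟩
  have H := conj_of_commOK (F := F) k s hr.1 hr.2.1 hr.2.2.1 hr.2.2.2 t u
  rw [ChevalleyDatum.commWord, he] at H
  simp only [List.map_nil] at H
  rw [wordGL_nil', mul_one] at H
  calc X k t * X s u = X k t * ((X k t)⁻¹ * X s u * X k t) := by rw [H]
    _ = X s u * X k t := by group

end

section

variable {F : Type*} [Field F] [CharP F 3]

theorem three_eq_zero : (3 : F) = 0 := by
  have := CharP.cast_eq_zero F 3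
  exact_mod_cast this

theorem X_comm_9_8 (t u : F) : X 9 t * X 8 u = X 8 u * X 9 t := by
  have H := conj_of_commOK (F := F) 9 8 (by omega) (by omega) (by omega) (by decide +kernel) t u
  rw [ChevalleyDatum.commWord, commTerms_9_8] at H
  simp only [List.map_cons, List.map_nil] at H
  rw [wordGL_cons', wordGL_nil', mul_one] at H
  have e : ((-3 : ℤ) : F) * (-t) ^ 1 * u ^ 1 = 0 := by
    push_cast
    linear_combination (t * u) * three_eq_zero (F := F)
  simp only [e] at H
  rw [X0, mul_one] at H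
  calc X 9 t * X 8 u = X 9 t * ((X 9 t)⁻¹ * X 8 u * X 9 t) := by rw [H]
    _ = X 8 u * X 9 t := by group

theorem X_comm_3_2 (t u : F) : X 3 t * X 2 u = X 2 u * X 3 t := by
  have H := conj_of_commOK (F := F) 3 2 (by omega) (by omega) (by omega) (by decide +kernel) t u
  rw [ChevalleyDatum.commWord, commTerms_3_2] at H
  simp only [List.map_cons, List.map_nil] at H
  rw [wordGL_cons', wordGL_nil', mul_one] at H
  have e : ((-3 : ℤ) : F) * (-t) ^ 1 * u ^ 1 = 0 := by
    push_cast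
    linear_combination (t * u) * three_eq_zero (F := F)
  simp only [e] at H
  rw [X0, mul_one] at H
  calc X 3 t * X 2 u = X 3 t * ((X 3 t)⁻¹ * X 2 u * X 3 t) := by rw [H]
    _ = X 2 u * X 3 t := by group

end

section

variable {F : Type*} [Field F]

/-- `x_b(B) x_a(A) = x_a(A) x_b(B) x_{a+b}(AB) x_{2a+b}(A²B) x_{3a+b}(-A³B) x_{3a+2b}(-A³B²)`. -/
theorem swap_6_7 (A B : F) :
    X 6 B * X 7 A = X 7 A * (X 6 B * (X 8 (A * B) * (X 9 (A ^ 2 * B) * (X 10 (-(A ^ 3 * B)) *
      X 11 (-(A ^ 3 * B ^ 2)))))) := by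
  have H := conj_of_commOK (F := F) 7 6 (by omega) (by omega) (by omega) (by decide +kernel) A B
  rw [ChevalleyDatum.commWord, commTerms_7_6] at H
  simp only [List.map_cons, List.map_nil] at H
  rw [wordGL_cons', wordGL_cons', wordGL_cons', wordGL_cons', wordGL_nil', mul_one] at H
  have e8 : ((-1 : ℤ) : F) * (-A) ^ 1 * B ^ 1 = A * B := by push_cast; ring
  have e9 : ((1 : ℤ) : F) * (-A) ^ 2 * B ^ 1 = A ^ 2 * B := by push_cast; ring
  have e10 : ((1 : ℤ) : F) * (-A) ^ 3 * B ^ 1 = -(A ^ 3 * B) := by push_cast; ring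
  have e11 : ((1 : ℤ) : F) * (-A) ^ 3 * B ^ 2 = -(A ^ 3 * B ^ 2) := by push_cast; ring
  simp only [e8, e9, e10, e11] at H
  calc X 6 B * X 7 A = X 7 A * ((X 7 A)⁻¹ * X 6 B * X 7 A) := by group
    _ = _ := by rw [H]

/-- `x_{-b}(B) x_{-a}(A) = x_{-a}(A) x_{-b}(B) x_{-a-b}(-AB) x_{-2a-b}(A²B) x_{-3a-b}(A³B)
x_{-3a-2b}(-A³B²)`. -/
theorem swap_5_4 (A B : F) :
    X 5 B * X 4 A = X 4 A * (X 5 B * (X 3 (-(A * B)) * (X 2 (A ^ 2 * B) * (X 1 (A ^ 3 * B) *
      X 0 (-(A ^ 3 * B ^ 2)))))) := by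
  have H := conj_of_commOK (F := F) 4 5 (by omega) (by omega) (by omega) (by decide +kernel) A B
  rw [ChevalleyDatum.commWord, commTerms_4_5] at H
  simp only [List.map_cons, List.map_nil] at H
  rw [wordGL_cons', wordGL_cons', wordGL_cons', wordGL_cons', wordGL_nil', mul_one] at H
  have e3 : ((1 : ℤ) : F) * (-A) ^ 1 * B ^ 1 = -(A * B) := by push_cast; ring
  have e2 : ((1 : ℤ) : F) * (-A) ^ 2 * B ^ 1 = A ^ 2 * B := by push_cast; ring
  have e1 : ((-1 : ℤ) : F) * (-A) ^ 3 * B ^ 1 = A ^ 3 * B := by push_cast; ring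
  have e0 : ((1 : ℤ) : F) * (-A) ^ 3 * B ^ 2 = -(A ^ 3 * B ^ 2) := by push_cast; ring
  simp only [e3, e2, e1, e0] at H
  calc X 5 B * X 4 A = X 4 A * ((X 4 A)⁻¹ * X 5 B * X 4 A) := by group
    _ = _ := by rw [H]

end

end Cfsg.Agent.Helper36.Ree
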