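import Cfsg.Agent.Lib.Helper36.ReeRel

/-!
# Type `G₂`, characteristic three: sorting products of positive (negative) root elements.
-/

set_option autoImplicit false
set_option maxRecDepth 100000
set_option linter.unusedSimpArgs false

namespace Cfsg.Agent.Helper36.Ree

open Cfsg.Lie Cfsg.Agent.S1043 Cfsg.Agent.Helper17 Cfsg.Agent.Helper18 Cfsg.Agent.Helper36.G2

local notation "X" => xU chevG2 goodG2

section

variable {F : Type*} [Field F]

theorem Xadd (r : ℕ) (a b : F) : X r a * X r b = X r (a + b) := xU_add' chevG2 goodG2 r a b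
theorem Xadd' (r : ℕ) (a b : F) (z : GL chevG2.Idx F) : X r a * (X r b * z) = X r (a + b) * z := by
  rw [← mul_assoc, Xadd]

theorem c10_8 (a b : F) : X 10 a * X 8 b = X 8 b * X 10 a := X_comm_nil 10 8 (by simp) a b
theorem c11_8 (a b : F) : X 11 a * X 8 b = X 8 b * X 11 a := X_comm_nil 11 8 (by simp) a b
theorem c10_9 (a b : F) : X 10 a * X 9 b = X 9 b * X 10 a := X_comm_nil 10 9 (by simp) a b
theorem c11_9 (a b : F) : X 11 a * X 9 b = X 9 b * X 11 a := X_comm_nil 11 9 (by simp) a b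
theorem c11_10 (a b : F) : X 11 a * X 10 b = X 10 b * X 11 a := X_comm_nil 11 10 (by simp) a b
theorem c10_8' (a b : F) (z : GL chevG2.Idx F) : X 10 a * (X 8 b * z) = X 8 b * (X 10 a * z) := by
  rw [← mul_assoc, c10_8, mul_assoc]
theorem c11_8' (a b : F) (z : GL chevG2.Idx F) : X 11 a * (X 8 b * z) = X 8 b * (X 11 a * z) := by
  rw [← mul_assoc, c11_8, mul_assoc]
theorem c10_9' (a b : F) (z : GL chevG2.Idx F) : X 10 a * (X 9 b * z) = X 9 b * (X 10 a * z) := by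
  rw [← mul_assoc, c10_9, mul_assoc]
theorem c11_9' (a b : F) (z : GL chevG2.Idx F) : X 11 a * (X 9 b * z) = X 9 b * (X 11 a * z) := by
  rw [← mul_assoc, c11_9, mul_assoc]
theorem c11_10' (a b : F) (z : GL chevG2.Idx F) : X 11 a * (X 10 b * z) = X 10 b * (X 11 a * z) := by
  rw [← mul_assoc, c11_10, mul_assoc]

theorem d1_3 (a b : F) : X 1 a * X 3 b = X 3 b * X 1 a := X_comm_nil 1 3 (by simp) a b
theorem d0_3 (a b : F) : X 0 a * X 3 b = X 3 b * X 0 a := X_comm_nil 0 3 (by simp) a b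
theorem d1_2 (a b : F) : X 1 a * X 2 b = X 2 b * X 1 a := X_comm_nil 1 2 (by simp) a b
theorem d0_2 (a b : F) : X 0 a * X 2 b = X 2 b * X 0 a := X_comm_nil 0 2 (by simp) a b
theorem d0_1 (a b : F) : X 0 a * X 1 b = X 1 b * X 0 a := X_comm_nil 0 1 (by simp) a b
theorem d1_3' (a b : F) (z : GL chevG2.Idx F) : X 1 a * (X 3 b * z) = X 3 b * (X 1 a * z) := by
  rw [← mul_assoc, d1_3, mul_assoc]
theorem d0_3' (a b : F) (z : GL chevG2.Idx F) : X 0 a * (X 3 b * z) = X 3 b * (X 0 a * z) := by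
  rw [← mul_assoc, d0_3, mul_assoc]
theorem d1_2' (a b : F) (z : GL chevG2.Idx F) : X 1 a * (X 2 b * z) = X 2 b * (X 1 a * z) := by
  rw [← mul_assoc, d1_2, mul_assoc]
theorem d0_2' (a b : F) (z : GL chevG2.Idx F) : X 0 a * (X 2 b * z) = X 2 b * (X 0 a * z) := by
  rw [← mul_assoc, d0_2, mul_assoc]
theorem d0_1' (a b : F) (z : GL chevG2.Idx F) : X 0 a * (X 1 b * z) = X 1 b * (X 0 a * z) := by
  rw [← mul_assoc, d0_1, mul_assoc]

theorem swap_6_7' (A B : F) (z : GL chevG2.Idx F) :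
    X 6 B * (X 7 A * z) = X 7 A * (X 6 B * (X 8 (A * B) * (X 9 (A ^ 2 * B) * (X 10 (-(A ^ 3 * B)) *
      (X 11 (-(A ^ 3 * B ^ 2)) * z))))) := by
  rw [← mul_assoc, swap_6_7]
  simp only [mul_assoc]

theorem swap_5_4' (A B : F) (z : GL chevG2.Idx F) :
    X 5 B * (X 4 A * z) = X 4 A * (X 5 B * (X 3 (-(A * B)) * (X 2 (A ^ 2 * B) * (X 1 (A ^ 3 * B) *
      (X 0 (-(A ^ 3 * B ^ 2)) * z))))) := by
  rw [← mul_assoc, swap_5_4]
  simp only [mul_assoc]

theorem nfU_congr {a a' b b' c c' d d' e e' g g' : F} (h1 : a = a') (h2 : b = b') (h3 : c = c')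
    (h4 : d = d') (h5 : e = e') (h6 : g = g') :
    X 7 a * (X 6 b * (X 8 c * (X 9 d * (X 10 e * X 11 g)))) =
      X 7 a' * (X 6 b' * (X 8 c' * (X 9 d' * (X 10 e' * X 11 g')))) := by
  subst h1 h2 h3 h4 h5 h6
  rfl

theorem nfV_congr {a a' b b' c c' d d' e e' g g' : F} (h1 : a = a') (h2 : b = b') (h3 : c = c')
    (h4 : d = d') (h5 : e = e') (h6 : g = g') :
    X 4 a * (X 5 b * (X 3 c * (X 2 d * (X 1 e * X 0 g)))) =
      X 4 a' * (X 5 b' * (X 3 c' * (X 2 d' * (X 1 e' * X 0 g')))) := by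
  subst h1 h2 h3 h4 h5 h6
  rfl

end

section

variable {F : Type*} [Field F] [CharP F 3]

theorem c9_8' (a b : F) (z : GL chevG2.Idx F) : X 9 a * (X 8 b * z) = X 8 b * (X 9 a * z) := by
  rw [← mul_assoc, X_comm_9_8, mul_assoc]
theorem d3_2 (a b : F) : X 2 a * X 3 b = X 3 b * X 2 a := (X_comm_3_2 b a).symm
theorem d3_2' (a b : F) (z : GL chevG2.Idx F) : X 2 a * (X 3 b * z) = X 3 b * (X 2 a * z) := by
  rw [← mul_assoc, d3_2, mul_assoc]

/-- Sorting the image of a product in "Ree order" under the graph automorphism. -/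
theorem sortU (t T c10 c11 c8 c9 : F) :
    X 6 t * (X 7 T * (X 10 c10 * (X 11 c11 * (X 8 c8 * X 9 c9)))) =
      X 7 T * (X 6 t * (X 8 (T * t + c8) * (X 9 (T ^ 2 * t + c9) * (X 10 (-(T ^ 3 * t) + c10) *
        X 11 (-(T ^ 3 * t ^ 2) + c11))))) := by
  rw [swap_6_7']
  simp only [c10_8, c10_8', c11_8, c11_8', c10_9, c10_9', c11_9, c11_9', c11_10, c11_10',
    X_comm_9_8, c9_8', Xadd, Xadd']

/-- From "Ree order" (`a` before `b`) to the standard order. -/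
theorem reeToStd (A B C D E G : F) :
    X 7 A * (X 6 B * (X 8 C * (X 9 D * (X 10 E * X 11 G)))) =
      X 6 B * (X 7 A * (X 8 (C - A * B) * (X 9 (D - A ^ 2 * B) * (X 10 (E + A ^ 3 * B) *
        X 11 (G + A ^ 3 * B ^ 2))))) := by
  rw [swap_6_7']
  simp only [c10_8, c10_8', c11_8, c11_8', c10_9, c10_9', c11_9, c11_9', c11_10, c11_10',
    X_comm_9_8, c9_8', Xadd, Xadd']
  apply nfU_congr <;> ring

theorem sortV (t T c1 c0 c3 c2 : F) :
    X 5 t * (X 4 T * (X 1 c1 * (X 0 c0 * (X 3 c3 * X 2 c2)))) =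
      X 4 T * (X 5 t * (X 3 (-(T * t) + c3) * (X 2 (T ^ 2 * t + c2) * (X 1 (T ^ 3 * t + c1) *
        X 0 (-(T ^ 3 * t ^ 2) + c0))))) := by
  rw [swap_5_4']
  simp only [d1_3, d1_3', d0_3, d0_3', d1_2, d1_2', d0_2, d0_2', d0_1, d0_1', d3_2, d3_2',
    Xadd, Xadd']

end

end Cfsg.Agent.Helper36.Ree
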