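import Mathlib
import Cfsg.Prelude.Def_SteinbergCover

/-!
# Perfectness of the group presented by Steinberg's relators (R1), (R2), from a certificate

Helper library (helper36).  We work in the abelianisation: the image `ab r t` of `x̄_r(t)` is
additive in `t`, and each relator (R2) gives a relation between the `ab`'s.  A certificate is a
list of steps `(r, s, two)`; a step is valid when the terms of the commutator formula for the
pair `(r, s)` are one (or two, if `two`) leading terms with coefficients `±1` followed by terms
whose roots are already known to have trivial image.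
-/

set_option autoImplicit false

namespace Cfsg.Agent.Helper36.SteinbergPerfect

open Cfsg.Lie

section

variable {K : Type*} [Field K] (D : ChevalleyDatum)

/-- the image of `x̄_r(t)` in the abelianisation -/
noncomputable def ab (r : ℕ) (t : K) : Abelianization (D.SteinbergCover K) :=
  Abelianization.of (D.scGen K r t)

theorem scGen_add (r : ℕ) (hr : r < D.nroots) (t u : K) :
    D.scGen K r t * D.scGen K r u = D.scGen K r (t + u) := by
  have h : D.stX r t * D.stX r u * (D.stX r (t + u))⁻¹ ∈ D.steinbergRelsAB K :=
    Or.inl ⟨r, t, u, hr, rfl⟩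
  have h1 := PresentedGroup.one_of_mem h
  rw [map_mul, map_mul, map_inv, mul_inv_eq_one] at h1
  exact h1

theorem ab_add (r : ℕ) (hr : r < D.nroots) (t u : K) : ab D r (t + u) = ab D r t * ab D r u := by
  unfold ab
  rw [← scGen_add D r hr, map_mul]

theorem ab_zero (r : ℕ) (hr : r < D.nroots) : ab (K := K) D r 0 = 1 := by
  have h := ab_add (K := K) D r hr 0 0
  rw [add_zero] at h
  exact (mul_eq_left (a := ab (K := K) D r 0)).mp h.symm

theorem ab_sub (r : ℕ) (hr : r < D.nroots) (t u : K) :
    ab D r (t - u) = ab D r t * (ab D r u)⁻¹ := by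
  have h := ab_add D r hr (t - u) u
  rw [sub_add_cancel] at h
  rw [h, mul_inv_cancel_right]

theorem mk_stWord (w : List (ℕ × K)) :
    PresentedGroup.mk (D.steinbergRelsAB K) (D.stWord w) = (w.map fun p => D.scGen K p.1 p.2).prod := by
  unfold ChevalleyDatum.stWord
  rw [map_list_prod, List.map_map]
  rfl

/-- the relation (R2) in the abelianisation -/
theorem ab_comm (r s : ℕ) (hr : r < D.nroots) (hs : s < D.nroots) (h1 : s ≠ r) (h2 : s ≠ D.neg r)
    (t u : K) :
    ((D.commTerms r s).map fun c =>
      ab D c.1 ((c.2.1 : K) * (-t) ^ c.2.2.1 * u ^ c.2.2.2)).prod = 1 := by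
  have h : (D.stX s u)⁻¹ * (D.stX r t)⁻¹ * D.stX s u * D.stX r t *
      (D.stWord (D.commWord K r s t u))⁻¹ ∈ D.steinbergRelsAB K :=
    Or.inr ⟨r, s, t, u, hr, hs, h1, h2, rfl⟩
  have h3 := PresentedGroup.one_of_mem h
  rw [map_mul, map_inv, mul_inv_eq_one, mk_stWord] at h3
  have h4 := congrArg (Abelianization.of) h3
  rw [map_list_prod, List.map_map] at h4
  have hab : ∀ a b : Abelianization (D.SteinbergCover K), a⁻¹ * b⁻¹ * a * b = 1 := by
    intro a b
    rw [mul_comm a⁻¹ b⁻¹, mul_assoc b⁻¹, inv_mul_cancel, mul_one, inv_mul_cancel]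
  have h5 : Abelianization.of (PresentedGroup.mk (D.steinbergRelsAB K)
      ((D.stX s u)⁻¹ * (D.stX r t)⁻¹ * D.stX s u * D.stX r t)) = 1 := by
    simp only [map_mul, map_inv]
    exact hab _ _
  rw [h5] at h4
  rw [h4]
  unfold ChevalleyDatum.commWord
  rw [List.map_map]
  rfl

end

/-! ### Certificates -/

/-- one step: returns the roots newly known to be trivial, if the step is valid -/
def stepNew (D : ChevalleyDatum) (known : List ℕ) (r s : ℕ) (two : Bool) : Option (List ℕ) :=
  if r < D.nroots ∧ s < D.nroots ∧ s ≠ r ∧ s ≠ D.neg r then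
    match D.commTerms r s, two with
    | (x, c, 1, 1) :: rest, false =>
      if (c = 1 ∨ c = -1) ∧ x < D.nroots ∧ ∀ e ∈ rest, e.1 ∈ known then some [x] else none
    | (x, c, 1, 1) :: (y, c', 2, 1) :: rest, true =>
      if (c = 1 ∨ c = -1) ∧ (c' = 1 ∨ c' = -1) ∧ x < D.nroots ∧ y < D.nroots ∧
        ∀ e ∈ rest, e.1 ∈ known then some [x, y] else none
    | _, _ => none
  else none

/-- run a certificate -/
def run (D : ChevalleyDatum) : List (ℕ × ℕ × Bool) → List ℕ → Option (List ℕ)
  | [], known => some known
  | (r, s, two) :: steps, known =>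
    match stepNew D known r s two with
    | none => none
    | some new => run D steps (new ++ known)

/-- the certificate shows all roots trivial; `needTwo` says whether two-term steps occur -/
def certOK (D : ChevalleyDatum) (steps : List (ℕ × ℕ × Bool)) : Bool :=
  match run D steps [] with
  | none => false
  | some known => (List.range D.nroots).all fun x => known.contains x

section

variable {K : Type*} [Field K] (D : ChevalleyDatum)

theorem prod_eq_one_of_known (known : List ℕ) (hk : ∀ x ∈ known, ∀ t : K, ab D x t = 1)
    (rest : List (ℕ × ℤ × ℕ × ℕ)) (hrest : ∀ e ∈ rest, e.1 ∈ known) (t u : K) :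
    (rest.map fun c => ab D c.1 ((c.2.1 : K) * (-t) ^ c.2.2.1 * u ^ c.2.2.2)).prod = 1 := by
  apply List.prod_eq_one
  intro a ha
  obtain ⟨e, he, rfl⟩ := List.mem_map.mp ha
  exact hk _ (hrest e he) _

theorem sq_pm (c : ℤ) (hc : c = 1 ∨ c = -1) : ((c : K)) * (c : K) = 1 := by
  rcases hc with rfl | rfl <;> simp

theorem step_sound (known : List ℕ)
    (hk : ∀ x ∈ known, ∀ t : K, ab D x t = 1) (r s : ℕ) (two : Bool)
    (hlam : two = true → ∃ a : K, a ≠ 0 ∧ a ≠ 1) (new : List ℕ)
    (h : stepNew D known r s two = some new) : ∀ x ∈ new, ∀ t : K, ab D x t = 1 := by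
  unfold stepNew at h
  split_ifs at h with h0
  obtain ⟨hr, hs, h1, h2⟩ := h0
  have hR := ab_comm (K := K) D r s hr hs h1 h2
  split at h
  · -- one leading term
    rename_i x c rest heq
    split_ifs at h with h3
    obtain ⟨hc, hx, hrest⟩ := h3
    simp only [Option.some.injEq] at h
    subst h
    intro y hy t
    rw [List.mem_singleton] at hy
    subst hy
    have h4 := hR (-((c : K) * t)) 1
    rw [heq, List.map_cons, List.prod_cons,
      prod_eq_one_of_known D known hk rest hrest, mul_one] at h4
    have h5 : (c : K) * (- -((c : K) * t)) ^ 1 * (1 : K) ^ 1 = t := by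
      rw [neg_neg, pow_one, pow_one, mul_one, ← mul_assoc, sq_pm c hc, one_mul]
    rw [h5] at h4
    exact h4
  · -- two leading terms
    rename_i x c y c' rest heq
    split_ifs at h with h3
    obtain ⟨hc, hc', hx, hy, hrest⟩ := h3
    simp only [Option.some.injEq] at h
    subst h
    obtain ⟨a, ha0, ha1⟩ := hlam rfl
    have hR' : ∀ t u : K, ab D x ((c : K) * (-t) * u) * ab D y ((c' : K) * t ^ 2 * u) = 1 := by
      intro t u
      have h4 := hR t u
      rw [heq, List.map_cons, List.map_cons, List.prod_cons, List.prod_cons,
        prod_eq_one_of_known D known hk rest hrest, mul_one] at h4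
      rw [pow_one, pow_one, neg_sq] at h4
      exact h4
    -- `ab y` is invariant under multiplication by `a`
    have hy1 : ∀ v : K, ab D y (a * v) = ab D y v := by
      intro v
      have e1 := hR' 1 ((c' : K) * v)
      have e2 := hR' a ((c' : K) * v / a)
      have e3 : (c : K) * (-a) * ((c' : K) * v / a) = (c : K) * (-1) * ((c' : K) * v) := by
        field_simp
      have e4 : (c' : K) * a ^ 2 * ((c' : K) * v / a) = a * v := by
        have h6 := sq_pm (K := K) c' hc'
        have h7 : (c' : K) * a ^ 2 * ((c' : K) * v / a) = ((c' : K) * (c' : K)) * (a * v) * (a / a) := by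
          ring
        rw [h7, h6, div_self ha0, one_mul, mul_one]
      have e5 : (c' : K) * (1 : K) ^ 2 * ((c' : K) * v) = v := by
        have := sq_pm (K := K) c' hc'
        linear_combination v * this
      rw [e3, e4] at e2
      rw [e5] at e1
      exact mul_left_cancel (e2.trans e1.symm)
    have hy2 : ∀ v : K, ab D y v = 1 := by
      intro v
      have e1 : v = a * (v / (a - 1)) - v / (a - 1) := by
        have : a - 1 ≠ 0 := sub_ne_zero.mpr ha1
        field_simp
      rw [e1, ab_sub D y hy, hy1, mul_inv_cancel]
    have hx2 : ∀ v : K, ab D x v = 1 := by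
      intro v
      have e1 := hR' (-((c : K) * v)) 1
      rw [hy2, mul_one] at e1
      have e2 : (c : K) * (- -((c : K) * v)) * 1 = v := by
        have := sq_pm (K := K) c hc
        linear_combination v * this
      rw [e2] at e1
      exact e1
    intro z hz t
    rcases List.mem_cons.mp hz with rfl | hz
    · exact hx2 t
    · rw [List.mem_singleton] at hz
      subst hz
      exact hy2 t
  · exact absurd h (by simp)

theorem run_sound (steps : List (ℕ × ℕ × Bool))
    (hlam : ∀ st ∈ steps, st.2.2 = true → ∃ a : K, a ≠ 0 ∧ a ≠ 1) (known known' : List ℕ)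
    (hk : ∀ x ∈ known, ∀ t : K, ab D x t = 1) (h : run D steps known = some known') :
    ∀ x ∈ known', ∀ t : K, ab D x t = 1 := by
  induction steps generalizing known with
  | nil =>
    simp only [run, Option.some.injEq] at h
    subst h
    exact hk
  | cons st steps ih =>
    obtain ⟨r, s, two⟩ := st
    simp only [run] at h
    split at h
    · exact absurd h (by simp)
    · rename_i new hnew
      apply ih (fun st hst => hlam st (List.mem_cons_of_mem _ hst)) (new ++ known) _ h
      intro x hx t
      rcases List.mem_append.mp hx with h1 | h1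
      · exact step_sound D known hk r s two (hlam (r, s, two) List.mem_cons_self) new hnew x h1 t
      · exact hk x h1 t

/-- a certificate without two-term steps does not need the field hypothesis -/
def noTwo (steps : List (ℕ × ℕ × Bool)) : Bool := steps.all fun st => !st.2.2

theorem perfect_of_ab (h : ∀ r < D.nroots, ∀ t : K, ab D r t = 1) :
    commutator (D.SteinbergCover K) = ⊤ := by
  have h1 : (Abelianization.of : D.SteinbergCover K →* _) = 1 := by
    apply PresentedGroup.ext
    intro x
    obtain ⟨⟨r, hr⟩, t⟩ := x
    have h2 := h r hr t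
    unfold ab ChevalleyDatum.scGen ChevalleyDatum.stX at h2
    rw [dif_pos hr] at h2
    exact h2
  rw [eq_top_iff]
  intro g _
  rw [← Abelianization.ker_of, MonoidHom.mem_ker, h1]
  rfl

theorem perfect_of_cert (steps : List (ℕ × ℕ × Bool))
    (hlam : ∀ st ∈ steps, st.2.2 = true → ∃ a : K, a ≠ 0 ∧ a ≠ 1)
    (h : certOK D steps = true) : commutator (D.SteinbergCover K) = ⊤ := by
  apply perfect_of_ab
  unfold certOK at h
  split at h
  · exact absurd h (by simp)
  · rename_i known hrun
    have h1 := run_sound D steps hlam [] known (fun x hx => absurd hx (List.not_mem_nil)) hrun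
    intro r hr t
    rw [List.all_eq_true] at h
    have h2 := h r (List.mem_range.mpr hr)
    exact h1 r (List.contains_iff_mem.mp h2) t

theorem perfect_of_cert_noTwo (steps : List (ℕ × ℕ × Bool)) (h2 : noTwo steps = true)
    (h : certOK D steps = true) : commutator (D.SteinbergCover K) = ⊤ := by
  apply perfect_of_cert D steps _ h
  intro st hst h3
  unfold noTwo at h2
  rw [List.all_eq_true] at h2
  have h4 := h2 st hst
  rw [h3] at h4
  exact absurd h4 (by simp)

end

end Cfsg.Agent.Helper36.SteinbergPerfect
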