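import Mathlib
import Cfsg.Agent.Lib.Helper36.SteinbergPerfect
import Cfsg.Prelude.Def_LieTypes
import Cfsg.Prelude.Def_ChevB2
import Cfsg.Prelude.Def_ChevG2
import Cfsg.Prelude.Def_ChevF4
import Cfsg.Prelude.Def_ChevD4
import Cfsg.Prelude.Def_ChevE6
import Cfsg.Prelude.Def_ChevE7
import Cfsg.Prelude.Def_ChevE8

/-!
# Certificates for the perfectness of the Steinberg covers of the seven tabulated types

Helper library (helper36).
-/

set_option autoImplicit false
set_option maxRecDepth 100000

namespace Cfsg.Agent.Helper36.SteinbergPerfectData

open Cfsg.Lie Cfsg.Agent.Helper36.SteinbergPerfect

/-- the certificate for type B2 -/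
def stepsB2 : List (ℕ × ℕ × Bool) :=
  [(1, 4, true), (1, 7, true), (2, 3, false), (2, 7, true), (5, 4, true)]

theorem certB2 : certOK chevB2 stepsB2 = true := by decide +kernel

/-- the certificate for type G2 -/
def stepsG2 : List (ℕ × ℕ × Bool) :=
  [(0, 6, false), (0, 10, false), (1, 5, false), (1, 11, false), (2, 10, true), (2, 11, true),
   (3, 6, true), (5, 11, false), (6, 10, false), (7, 6, true)]

theorem certG2 : certOK chevG2 stepsG2 = true := by decide +kernel

/-- the certificate for type F4 -/
def stepsF4 : List (ℕ × ℕ × Bool) :=
  [(0, 24, false), (0, 26, false), (0, 31, false), (0, 32, false), (0, 42, false), (0, 43, false),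
   (0, 45, false), (0, 46, false), (1, 23, false), (1, 28, false), (1, 32, false), (1, 35, false),
   (1, 37, false), (1, 43, false), (1, 45, false), (1, 47, false), (2, 37, false), (2, 38, false),
   (2, 46, false), (2, 47, false), (3, 37, false), (3, 38, false), (3, 39, false), (3, 40, false),
   (3, 41, false), (3, 42, false), (3, 43, false), (3, 45, false), (3, 46, false), (3, 47, false),
   (4, 46, false), (4, 47, false), (5, 47, false), (7, 44, false), (7, 45, false), (7, 46, false),
   (7, 47, false), (8, 46, false), (8, 47, false), (9, 47, false), (11, 47, false),
   (15, 46, false), (15, 47, false), (16, 47, false), (18, 47, false), (21, 47, false),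
   (23, 47, false), (24, 46, false)]

theorem certF4 : certOK chevF4 stepsF4 = true := by decide +kernel

/-- the certificate for type D4 -/
def stepsD4 : List (ℕ × ℕ × Bool) :=
  [(0, 14, false), (0, 15, false), (0, 16, false), (0, 17, false), (0, 19, false), (0, 20, false),
   (0, 21, false), (0, 22, false), (1, 9, false), (1, 17, false), (1, 20, false), (1, 21, false),
   (1, 23, false), (2, 22, false), (2, 23, false), (3, 22, false), (3, 23, false), (4, 23, false),
   (6, 22, false), (6, 23, false), (7, 23, false), (8, 23, false), (9, 23, false), (14, 22, false)]

theorem certD4 : certOK chevD4 stepsD4 = true := by decide +kernel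

/-- the certificate for type E6 -/
def stepsE6 : List (ℕ × ℕ × Bool) :=
  [(0, 46, false), (0, 47, false), (0, 48, false), (0, 49, false), (0, 50, false), (0, 51, false),
   (0, 52, false), (0, 53, false), (0, 54, false), (0, 55, false), (0, 61, false), (0, 62, false),
   (0, 63, false), (0, 64, false), (0, 65, false), (0, 66, false), (0, 67, false), (0, 68, false),
   (0, 69, false), (0, 70, false), (1, 25, false), (1, 53, false), (1, 54, false), (1, 55, false),
   (1, 64, false), (1, 65, false), (1, 66, false), (1, 67, false), (1, 68, false), (1, 69, false),
   (1, 71, false), (2, 55, false), (2, 66, false), (2, 67, false), (2, 68, false), (2, 70, false),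
   (2, 71, false), (3, 67, false), (3, 69, false), (3, 70, false), (3, 71, false), (4, 68, false),
   (4, 69, false), (4, 70, false), (4, 71, false), (5, 55, false), (5, 69, false), (5, 70, false),
   (5, 71, false), (6, 70, false), (6, 71, false), (7, 70, false), (7, 71, false), (8, 71, false),
   (9, 71, false), (10, 71, false), (16, 66, false), (16, 69, false), (16, 70, false),
   (16, 71, false), (17, 70, false), (17, 71, false), (18, 70, false), (18, 71, false),
   (19, 71, false), (20, 71, false), (21, 71, false), (22, 71, false), (23, 71, false),
   (24, 71, false), (25, 71, false), (46, 70, false)]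

theorem certE6 : certOK chevE6 stepsE6 = true := by decide +kernel

/-- the certificate for type E7 -/
def stepsE7 : List (ℕ × ℕ × Bool) :=
  [(0, 93, false), (0, 94, false), (0, 95, false), (0, 96, false), (0, 97, false), (0, 98, false),
   (0, 99, false), (0, 100, false), (0, 101, false), (0, 102, false), (0, 103, false),
   (0, 104, false), (0, 105, false), (0, 106, false), (0, 107, false), (0, 108, false),
   (0, 109, false), (0, 110, false), (0, 111, false), (0, 112, false), (0, 113, false),
   (0, 114, false), (0, 115, false), (0, 116, false), (0, 117, false), (0, 118, false),
   (0, 119, false), (0, 120, false), (0, 121, false), (0, 122, false), (0, 123, false),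
   (0, 124, false), (1, 32, false), (1, 109, false), (1, 110, false), (1, 111, false),
   (1, 112, false), (1, 113, false), (1, 114, false), (1, 115, false), (1, 116, false),
   (1, 117, false), (1, 118, false), (1, 119, false), (1, 120, false), (1, 121, false),
   (1, 122, false), (1, 123, false), (1, 125, false), (2, 115, false), (2, 116, false),
   (2, 117, false), (2, 118, false), (2, 119, false), (2, 120, false), (2, 121, false),
   (2, 122, false), (2, 124, false), (2, 125, false), (3, 118, false), (3, 119, false),
   (3, 120, false), (3, 121, false), (3, 123, false), (3, 124, false), (3, 125, false),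
   (4, 119, false), (4, 120, false), (4, 122, false), (4, 123, false), (4, 124, false),
   (4, 125, false), (5, 119, false), (5, 121, false), (5, 122, false), (5, 123, false),
   (5, 124, false), (5, 125, false), (6, 120, false), (6, 121, false), (6, 122, false),
   (6, 123, false), (6, 124, false), (6, 125, false), (7, 122, false), (7, 123, false),
   (7, 124, false), (7, 125, false), (8, 123, false), (8, 124, false), (8, 125, false),
   (9, 123, false), (9, 124, false), (9, 125, false), (10, 123, false), (10, 124, false),
   (10, 125, false), (11, 124, false), (11, 125, false), (12, 124, false), (12, 125, false),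
   (13, 124, false), (13, 125, false), (14, 124, false), (14, 125, false), (15, 124, false),
   (15, 125, false), (16, 124, false), (16, 125, false), (17, 125, false), (18, 125, false),
   (19, 125, false), (20, 125, false), (21, 125, false), (22, 125, false), (23, 125, false),
   (24, 125, false), (25, 125, false), (26, 125, false), (27, 125, false), (28, 125, false),
   (29, 125, false), (30, 125, false), (31, 125, false), (32, 125, false), (93, 124, false)]

theorem certE7 : certOK chevE7 stepsE7 = true := by decide +kernel

/-- the certificate for type E8 -/
def stepsE8 : List (ℕ × ℕ × Bool) :=
  [(0, 120, false), (0, 122, false), (0, 125, false), (0, 129, false), (0, 134, false),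
   (0, 140, false), (0, 146, false), (0, 151, false), (0, 155, false), (0, 158, false),
   (0, 160, false), (0, 161, false), (0, 168, false), (0, 173, false), (0, 177, false),
   (0, 180, false), (0, 182, false), (0, 183, false), (0, 187, false), (0, 190, false),
   (0, 192, false), (0, 193, false), (0, 196, false), (0, 198, false), (0, 199, false),
   (0, 201, false), (0, 202, false), (0, 203, false), (0, 206, false), (0, 208, false),
   (0, 209, false), (0, 211, false), (0, 212, false), (0, 213, false), (0, 215, false),
   (0, 216, false), (0, 217, false), (0, 218, false), (0, 220, false), (0, 221, false),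
   (0, 222, false), (0, 223, false), (0, 224, false), (0, 225, false), (0, 227, false),
   (0, 228, false), (0, 229, false), (0, 230, false), (0, 231, false), (0, 232, false),
   (0, 233, false), (0, 234, false), (0, 235, false), (0, 236, false), (0, 237, false),
   (0, 238, false), (1, 119, false), (1, 161, false), (1, 183, false), (1, 193, false),
   (1, 199, false), (1, 202, false), (1, 203, false), (1, 209, false), (1, 212, false),
   (1, 213, false), (1, 216, false), (1, 217, false), (1, 218, false), (1, 221, false),
   (1, 222, false), (1, 223, false), (1, 224, false), (1, 225, false), (1, 228, false),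
   (1, 229, false), (1, 230, false), (1, 231, false), (1, 232, false), (1, 233, false),
   (1, 234, false), (1, 235, false), (1, 236, false), (1, 237, false), (1, 239, false),
   (2, 203, false), (2, 213, false), (2, 217, false), (2, 218, false), (2, 222, false),
   (2, 223, false), (2, 224, false), (2, 225, false), (2, 229, false), (2, 230, false),
   (2, 231, false), (2, 232, false), (2, 233, false), (2, 234, false), (2, 235, false),
   (2, 236, false), (2, 238, false), (2, 239, false), (3, 218, false), (3, 223, false),
   (3, 224, false), (3, 225, false), (3, 230, false), (3, 231, false), (3, 232, false),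
   (3, 233, false), (3, 234, false), (3, 235, false), (3, 237, false), (3, 238, false),
   (3, 239, false), (4, 224, false), (4, 225, false), (4, 231, false), (4, 232, false),
   (4, 233, false), (4, 234, false), (4, 236, false), (4, 237, false), (4, 238, false),
   (4, 239, false), (5, 225, false), (5, 232, false), (5, 233, false), (5, 235, false),
   (5, 236, false), (5, 237, false), (5, 238, false), (5, 239, false), (6, 225, false),
   (6, 234, false), (6, 235, false), (6, 236, false), (6, 237, false), (6, 238, false),
   (6, 239, false), (7, 234, false), (7, 235, false), (7, 236, false), (7, 237, false),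
   (7, 238, false), (7, 239, false), (8, 235, false), (8, 236, false), (8, 237, false),
   (8, 238, false), (8, 239, false), (9, 236, false), (9, 237, false), (9, 238, false),
   (9, 239, false), (10, 237, false), (10, 238, false), (10, 239, false), (11, 238, false),
   (11, 239, false), (12, 239, false), (14, 233, false), (14, 234, false), (14, 235, false),
   (14, 236, false), (14, 237, false), (14, 238, false), (14, 239, false), (15, 235, false),
   (15, 236, false), (15, 237, false), (15, 238, false), (15, 239, false), (16, 236, false),
   (16, 237, false), (16, 238, false), (16, 239, false), (17, 237, false), (17, 238, false),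
   (17, 239, false), (18, 238, false), (18, 239, false), (19, 239, false), (21, 236, false),
   (21, 237, false), (21, 238, false), (21, 239, false), (22, 237, false), (22, 238, false),
   (22, 239, false), (23, 238, false), (23, 239, false), (24, 239, false), (26, 237, false),
   (26, 238, false), (26, 239, false), (27, 238, false), (27, 239, false), (28, 239, false),
   (30, 238, false), (30, 239, false), (31, 239, false), (33, 239, false), (36, 237, false),
   (36, 238, false), (36, 239, false), (37, 238, false), (37, 239, false), (38, 239, false),
   (40, 238, false), (40, 239, false), (41, 239, false), (43, 239, false), (46, 238, false),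
   (46, 239, false), (47, 239, false), (49, 239, false), (52, 239, false), (56, 238, false),
   (56, 239, false), (57, 239, false), (59, 239, false), (62, 239, false), (66, 239, false),
   (71, 239, false), (78, 238, false), (78, 239, false), (79, 239, false), (81, 239, false),
   (84, 239, false), (88, 239, false), (93, 239, false), (99, 239, false), (105, 239, false),
   (110, 239, false), (114, 239, false), (117, 239, false), (119, 239, false), (120, 238, false)]

theorem certE8 : certOK chevE8 stepsE8 = true := by decide +kernel

theorem noTwoF4 : noTwo stepsF4 = true := by decide +kernel

theorem noTwoD4 : noTwo stepsD4 = true := by decide +kernel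

theorem noTwoE6 : noTwo stepsE6 = true := by decide +kernel

theorem noTwoE7 : noTwo stepsE7 = true := by decide +kernel

theorem noTwoE8 : noTwo stepsE8 = true := by decide +kernel

end Cfsg.Agent.Helper36.SteinbergPerfectData
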