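import Cfsg.Agent.Lib.Helper15.Ree4.Perfect

/-!
# `²F₄`: a subgroup containing the elements `Q(c, 0)`, `c ≠ 0`, of a `B₂`-side contains all `Q(t, u)`
(piece (SZ) of helper6's plan for the 2-generation of `²F₄`)
-/

set_option autoImplicit false

namespace Cfsg.Agent.Helper36.F4ZS

open Cfsg.Lie Cfsg.Agent.Helper18 Cfsg.Agent.Helper15.Ree4

variable {K : Type*} [Field K] {e : ℕ}

/-- the same for an arbitrary side -/
theorem suz_closure_side (FD : FieldData K e) (S : Side K e)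
    (hK : ∀ a b c d : K, ∃ x : K, x ≠ a ∧ x ≠ b ∧ x ≠ c ∧ x ≠ d)
    (M : Subgroup (GL chevF4.Idx K))
    (hM : ∀ c : K, c ≠ 0 → FD.Q S c 0 ∈ M) :
    ∀ t u : K, FD.Q S t u ∈ M := by
  -- step 1: `Q(t, τ^θ t) ∈ M`
  have h1 : ∀ t τ : K, t ≠ 0 → τ ≠ 0 → τ ≠ t → FD.Q S t (τ ^ e * t) ∈ M := by
    intro t τ ht hτ hτt
    have hν : t / τ + 1 ≠ 0 := by
      intro h
      apply hτt
      have h' : t / τ = 1 := by
        rw [← FD.neg_eq 1]
        linear_combination h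
      exact ((div_eq_one_iff_eq hτ).1 h').symm
    have hk := FD.key_step S (Units.mk0 _ hν) (Units.mk0 τ hτ)
    have hmem : (FD.Q S ((Units.mk0 τ hτ : Kˣ) : K) 0)⁻¹ *
        FD.Q S (((Units.mk0 _ hν : Kˣ) : K) * ((Units.mk0 τ hτ : Kˣ) : K)) 0 ∈ M :=
      mul_mem (inv_mem (hM _ hτ)) (hM _ (mul_ne_zero hν hτ))
    rw [hk] at hmem
    simp only [Units.val_mk0] at hmem
    have e1 : τ * (t / τ + 1 + 1) = t := by
      field_simp
      linear_combination τ * FD.h2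
    have e2 : τ ^ e * τ * (t / τ + 1 + 1) = τ ^ e * t := by rw [mul_assoc, e1]
    rw [e1, e2] at hmem
    exact hmem
  -- step 2: `Z(x) ∈ M`
  have h2 : ∀ x : K, FD.Z S x ∈ M := by
    intro x
    have hse : ((x ^ e) ^ 2) ^ e = x := by
      rw [pow_right_comm]
      exact FD.sq x
    obtain ⟨τ, h0, h1', h2', h3'⟩ := hK 0 1 ((x ^ e) ^ 2) ((x ^ e) ^ 2 + 1)
    have hτ' : (x ^ e) ^ 2 + τ ≠ 0 := by
      intro h
      apply h2'
      linear_combination h - (x ^ e) ^ 2 * FD.h2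
    have hτ'1 : (x ^ e) ^ 2 + τ ≠ 1 := by
      intro h
      apply h3'
      linear_combination h - (x ^ e) ^ 2 * FD.h2
    have m1 := h1 1 τ one_ne_zero h0 h1'
    have m2 := h1 1 ((x ^ e) ^ 2 + τ) one_ne_zero hτ' hτ'1
    have hd := FD.Q_decomp S 1 (((x ^ e) ^ 2 + τ) ^ e * 1) (τ ^ e * 1)
    have hz : FD.Z S (((x ^ e) ^ 2 + τ) ^ e * 1 + τ ^ e * 1) ∈ M := by
      have e0 : FD.Z S (((x ^ e) ^ 2 + τ) ^ e * 1 + τ ^ e * 1) =
          (FD.Q S 1 (τ ^ e * 1))⁻¹ * FD.Q S 1 (((x ^ e) ^ 2 + τ) ^ e * 1) := by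
        rw [hd]
        group
      rw [e0]
      exact mul_mem (inv_mem m1) m2
    have e3 : ((x ^ e) ^ 2 + τ) ^ e * 1 + τ ^ e * 1 = x := by
      rw [mul_one, mul_one, FD.add, hse]
      linear_combination (τ ^ e) * FD.h2
    rwa [e3] at hz
  -- step 3
  intro t u
  by_cases ht : t = 0
  · subst ht
    rw [FD.Q_zero]
    exact h2 u
  · obtain ⟨τ, h0, h1', -, -⟩ := hK 0 t 0 0
    rw [FD.Q_decomp S t u (τ ^ e * t)]
    exact mul_mem (h1 t τ ht h0 h1') (h2 _)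

/-- piece (SZ): the positive `B₂`-side -/
theorem suz_closure (FD : FieldData K e)
    (hK : ∀ a b c d : K, ∃ x : K, x ≠ a ∧ x ≠ b ∧ x ≠ c ∧ x ≠ d)
    (M : Subgroup (GL chevF4.Idx K))
    (hM : ∀ c : K, c ≠ 0 → FD.Q FD.sideP c 0 ∈ M) :
    ∀ t u : K, FD.Q FD.sideP t u ∈ M :=
  suz_closure_side FD FD.sideP hK M hM

end Cfsg.Agent.Helper36.F4ZS
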