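import Mathlib
import Cfsg.Agent.Lib.Helper43.Tri.Rel
import Cfsg.Agent.Lib.Helper36.DicksonDet

/-!
# TRI (CL): `Ω` preserves and reflections swap the two classes of maximal totally singular subspaces
(piece of helper43's lemma server for S0817).
-/

set_option autoImplicit false

namespace Cfsg.Agent.Helper36.Tri

open Matrix QuadraticMap Cfsg.Agent.Helper13 Cfsg.Agent.Helper43 Cfsg.Agent.Helper5.OAut Module
open Cfsg.Agent.Helper43.Tri Cfsg.Agent.Helper43.OGam

/-- generic form of (CL): `Ω` preserves and reflections swap the two classes of maximal totally singular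
subspaces of the hyperbolic form in dimension `8`. -/
theorem sameCl_gen {F : Type*} [Field F] [Fintype F] (Y : Submodule F (Fin 4 ⊕ Fin 4 → F))
    (hY : Cfsg.Agent.Helper36.TotSing.IsMTS (⇑(stdPlus F 4)) 4 Y) :
    (∀ g ∈ Cfsg.Omega F ⇑(stdPlus F 4),
      Even (4 - finrank F ↥(Y ⊓ (Y.map (Matrix.mulVecLin ((g : GL (Fin 4 ⊕ Fin 4) F) : Matrix _ _ F)))))) ∧
    (∀ (a : Fin 4 ⊕ Fin 4 → F) (ha : stdPlus F 4 a ≠ 0),
      ¬ Even (4 - finrank F ↥(Y ⊓ (Y.map (Matrix.mulVecLin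
        (((reflIso (stdPlus F 4) ha : ↥(Cfsg.isometryGroup F ⇑(stdPlus F 4))) :
          GL (Fin 4 ⊕ Fin 4) F) : Matrix _ _ F)))))) := by
  have hQ : (polarBilin (stdPlus F 4)).Nondegenerate := stdPlus_nondegenerate F 4
  have hV : finrank F (Fin 4 ⊕ Fin 4 → F) = 2 * 4 := by
    rw [Module.finrank_fintype_fun_eq_card]
    simp
  constructor
  · intro g hg
    have h1 : Cfsg.Agent.Helper36.DicksonDet.dickson (stdPlus F 4) hQ hV hY g = 1 :=
      Abelianization.commutator_subset_ker _ hg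
    rw [Cfsg.Agent.Helper36.DicksonDet.dickson_apply] at h1
    have h2 : ((4 - finrank F ↥(Y ⊓ (Y.map (Matrix.mulVecLin ((g : GL (Fin 4 ⊕ Fin 4) F) :
        Matrix _ _ F)))) : ℕ) : ZMod 2) = 0 := by
      exact Multiplicative.ofAdd.injective h1
    exact (ZMod.natCast_eq_zero_iff_even).mp h2
  · intro a ha hev
    have h1 := Cfsg.Agent.Helper36.DicksonDet.dickson_reflIso (stdPlus F 4) hQ hV hY ha
    rw [Cfsg.Agent.Helper36.DicksonDet.dickson_apply] at h1
    have h2 : ((4 - finrank F ↥(Y ⊓ (Y.map (Matrix.mulVecLin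
        (((reflIso (stdPlus F 4) ha : ↥(Cfsg.isometryGroup F ⇑(stdPlus F 4))) :
          GL (Fin 4 ⊕ Fin 4) F) : Matrix _ _ F)))) : ℕ) : ZMod 2) = 1 :=
      Multiplicative.ofAdd.injective h1
    rw [(ZMod.natCast_eq_zero_iff_even).mpr hev] at h2
    exact zero_ne_one h2

/-- (CL) `Ω` preserves and reflections swap the two classes of maximal t.s. subspaces. -/
theorem sameCl_omega_refl {F : Type*} [Field F] [Fintype F] (Y : Submodule F (OV F)) (hY : MTS Y) :
    (∀ g ∈ Cfsg.Omega F ⇑(stdPlus F 4),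
      SameCl Y (Y.map (Matrix.mulVecLin ((g : GL (Fin 4 ⊕ Fin 4) F) : Matrix _ _ F)))) ∧
    (∀ (a : OV F) (ha : stdPlus F 4 a ≠ 0),
      ¬ SameCl Y (Y.map (Matrix.mulVecLin
        (((reflIso (stdPlus F 4) ha : O8 F) : GL (Fin 4 ⊕ Fin 4) F) : Matrix _ _ F)))) := by
  exact sameCl_gen Y hY

end Cfsg.Agent.Helper36.Tri
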