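import Mathlib
import Cfsg.Agent.Lib.Helper43.Tri.Rel
import Cfsg.Agent.Lib.Helper14.ReflGen

/-!
# TRI (GEN): `Ω⁺₈ = [O, O]` is generated by the products `r_a r_b` with `N a = N b ≠ 0`
(piece of helper43's lemma server for S0817).
-/

set_option autoImplicit false

namespace Cfsg.Agent.Helper36.Tri

open Matrix QuadraticMap Cfsg.Agent.Helper13 Cfsg.Agent.Helper43 Cfsg.Agent.Helper5.OAut Module
open Cfsg.Agent.Helper43.Tri Cfsg.Agent.Helper43.OGam
open scoped commutatorElement

/-- If a group is generated by a set whose elements commute pairwise modulo a normal subgroup `K`, then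
its commutator subgroup lies in `K`. -/
theorem commutator_le_of_closure {G : Type*} [Group G] (S : Set G) (hS : Subgroup.closure S = ⊤)
    (K : Subgroup G) [hK : K.Normal] (h : ∀ a ∈ S, ∀ b ∈ S, ⁅a, b⁆ ∈ K) : commutator G ≤ K := by
  have hcomm : ∀ x ∈ (QuotientGroup.mk' K) '' S, ∀ y ∈ (QuotientGroup.mk' K) '' S, x * y = y * x := by
    rintro x ⟨a, ha, rfl⟩ y ⟨b, hb, rfl⟩
    have h1 : (QuotientGroup.mk' K) ⁅a, b⁆ = 1 := (QuotientGroup.eq_one_iff _).mpr (h a ha b hb)
    rw [map_commutatorElement, commutatorElement_eq_one_iff_mul_comm] at h1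
    exact h1
  have htop : Subgroup.closure ((QuotientGroup.mk' K) '' S) = ⊤ := by
    rw [← MonoidHom.map_closure, hS, ← MonoidHom.range_eq_map, MonoidHom.range_eq_top]
    exact QuotientGroup.mk'_surjective K
  have hall : ∀ x y : G ⧸ K, x * y = y * x := by
    intro x y
    have hx : x ∈ Subgroup.closure ((QuotientGroup.mk' K) '' S) := by rw [htop]; trivial
    have hy : y ∈ Subgroup.closure ((QuotientGroup.mk' K) '' S) := by rw [htop]; trivial
    have := (Subgroup.isMulCommutative_closure hcomm).is_comm.comm ⟨x, hx⟩ ⟨y, hy⟩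
    exact Subtype.ext_iff.mp this
  rw [commutator_def, Subgroup.commutator_le]
  intro x _ y _
  rw [← QuotientGroup.eq_one_iff, ← QuotientGroup.mk'_apply, map_commutatorElement,
    commutatorElement_eq_one_iff_mul_comm]
  exact hall _ _

section gen

variable {F : Type*} [Field F] {ι : Type} [Fintype ι] [DecidableEq ι] (Q : QuadraticForm F (ι → F))

/-- the products of two reflections in vectors of equal norm -/
def RR : Set ↥(Cfsg.isometryGroup F ⇑Q) :=
  {g | ∃ (a b : ι → F) (ha : Q a ≠ 0) (hb : Q b ≠ 0), Q b = Q a ∧ g = reflIso Q ha * reflIso Q hb}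

theorem conj_refl_mem_RR {z : ι → F} (hz : Q z ≠ 0) (g : ↥(Cfsg.isometryGroup F ⇑Q)) (hg : g ∈ RR Q) :
    reflIso Q hz * g * reflIso Q hz ∈ RR Q := by
  obtain ⟨a, b, ha, hb, hab, rfl⟩ := hg
  refine ⟨reflLin Q z a, reflLin Q z b, by rw [Q_reflLin Q hz]; exact ha,
    by rw [Q_reflLin Q hz]; exact hb, by rw [Q_reflLin Q hz, Q_reflLin Q hz]; exact hab, ?_⟩
  rw [← reflIso_conj Q hz ha, ← reflIso_conj Q hz hb]
  have h1 := reflIso_mul_self Q hz
  calc reflIso Q hz * (reflIso Q ha * reflIso Q hb) * reflIso Q hz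
      = reflIso Q hz * reflIso Q ha * 1 * reflIso Q hb * reflIso Q hz := by group
    _ = reflIso Q hz * reflIso Q ha * (reflIso Q hz * reflIso Q hz) * reflIso Q hb * reflIso Q hz := by
        rw [h1]
    _ = _ := by group

theorem conj_refl_mem_closure {z : ι → F} (hz : Q z ≠ 0) (g : ↥(Cfsg.isometryGroup F ⇑Q))
    (hg : g ∈ Subgroup.closure (RR Q)) :
    reflIso Q hz * g * reflIso Q hz ∈ Subgroup.closure (RR Q) := by
  have h1 := reflIso_mul_self Q hz
  induction hg using Subgroup.closure_induction with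
  | mem x hx => exact Subgroup.subset_closure (conj_refl_mem_RR Q hz x hx)
  | one => rw [mul_one, h1]; exact one_mem _
  | mul x y _ _ ihx ihy =>
    have : reflIso Q hz * (x * y) * reflIso Q hz =
        (reflIso Q hz * x * reflIso Q hz) * (reflIso Q hz * y * reflIso Q hz) := by
      calc reflIso Q hz * (x * y) * reflIso Q hz = reflIso Q hz * x * 1 * y * reflIso Q hz := by group
        _ = reflIso Q hz * x * (reflIso Q hz * reflIso Q hz) * y * reflIso Q hz := by rw [h1]
        _ = _ := by group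
    rw [this]
    exact mul_mem ihx ihy
  | inv x _ ih =>
    have : reflIso Q hz * x⁻¹ * reflIso Q hz = (reflIso Q hz * x * reflIso Q hz)⁻¹ := by
      rw [_root_.mul_inv_rev, _root_.mul_inv_rev, reflIso_inv, mul_assoc]
    rw [this]
    exact inv_mem ih

theorem omega_le_closure_gen [Fintype F] (hQ : (polarBilin Q).Nondegenerate)
    (hF : (∃ s : F, s ≠ 0 ∧ s ≠ 1) ∨ Fintype.card ι ≠ 4) :
    Cfsg.Omega F ⇑Q ≤ Subgroup.closure (RR Q) := by
  have hgen := Cfsg.Agent.Helper14.ReflGen.isometryGroup_closure_refl Q hQ hF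
  have hS : ∀ g ∈ {g : ↥(Cfsg.isometryGroup F ⇑Q) | ∃ v : ι → F, Q v ≠ 0 ∧
      ((g : GL ι F) : Matrix ι ι F) = Cfsg.reflectionMatrix ⇑Q v},
      ∃ (v : ι → F) (hv : Q v ≠ 0), g = reflIso Q hv := by
    rintro g ⟨v, hv, hgv⟩
    exact ⟨v, hv, isoGroup_ext Q (by rw [hgv, reflIso_coe])⟩
  -- normality
  have hN : (Subgroup.closure (RR Q)).Normal := by
    rw [← Subgroup.normalizer_eq_top_iff, eq_top_iff, ← hgen, Subgroup.closure_le]
    intro s hs
    obtain ⟨z, hz, rfl⟩ := hS s hs
    rw [SetLike.mem_coe, Subgroup.mem_normalizer_iff]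
    intro n
    rw [reflIso_inv]
    constructor
    · exact conj_refl_mem_closure Q hz n
    · intro h
      have h1 := reflIso_mul_self Q hz
      have := conj_refl_mem_closure Q hz _ h
      have e : reflIso Q hz * (reflIso Q hz * n * reflIso Q hz) * reflIso Q hz = n := by
        calc reflIso Q hz * (reflIso Q hz * n * reflIso Q hz) * reflIso Q hz
            = (reflIso Q hz * reflIso Q hz) * n * (reflIso Q hz * reflIso Q hz) := by group
          _ = n := by rw [h1, one_mul, mul_one]
      rw [e] at this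
      exact this
  apply commutator_le_of_closure _ hgen
  intro a ha b hb
  obtain ⟨z, hz, rfl⟩ := hS a ha
  obtain ⟨w, hw, rfl⟩ := hS b hb
  apply Subgroup.subset_closure
  refine ⟨reflLin Q z w, w, by rw [Q_reflLin Q hz]; exact hw, hw, (Q_reflLin Q hz w).symm, ?_⟩
  rw [commutatorElement_def, reflIso_inv, reflIso_inv, ← reflIso_conj Q hz hw]

end gen

section E

variable {F : Type*} [Field F]

/-- (GEN) `Ω = [O,O]` is generated by products `r_a r_b` with `N a = N b ≠ 0`. -/
theorem omega_le_closure [Fintype F] :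
    Cfsg.Omega F ⇑(stdPlus F 4) ≤ Subgroup.closure {g : O8 F | ∃ (a b : OV F)
      (ha : stdPlus F 4 a ≠ 0) (hb : stdPlus F 4 b ≠ 0), stdPlus F 4 b = stdPlus F 4 a ∧
      g = reflIso (stdPlus F 4) ha * reflIso (stdPlus F 4) hb} := by
  exact omega_le_closure_gen (stdPlus F 4) (stdPlus_nondegenerate F 4) (Or.inr (by simp))

end E

end Cfsg.Agent.Helper36.Tri
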